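import Mathlib
import Cfsg.Prelude.Def_LocalEven

set_option autoImplicit false

namespace Cfsg.Agent.Helper46

open Cfsg

section basic

variable {G : Type*} [Group G] {p : ℕ}

theorem isPGroup_subgroup_iff {H : Subgroup G} :
    IsPGroup p H ↔ ∀ x ∈ H, ∃ k : ℕ, x ^ p ^ k = 1 := by
  constructor
  · intro h x hx
    obtain ⟨k, hk⟩ := h ⟨x, hx⟩
    exact ⟨k, by simpa using congrArg Subtype.val hk⟩
  · rintro h ⟨x, hx⟩
    obtain ⟨k, hk⟩ := h x hx
    exact ⟨k, Subtype.ext (by simpa using hk)⟩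

theorem le_pCore {N : Subgroup G} (hN : N.Normal) (h : IsPGroup p N) : N ≤ pCore p G :=
  le_sSup ⟨hN, h⟩

theorem pCore_le_sylow (P : Sylow p G) : pCore p G ≤ (P : Subgroup G) := by
  apply sSup_le
  rintro N ⟨hN, hp⟩
  have := hN
  exact hp.le_sylow_of_normal P

theorem isPGroup_pCore : IsPGroup p (pCore p G) := by
  have P : Sylow p G := Classical.arbitrary _
  exact P.isPGroup'.to_le (pCore_le_sylow P)

theorem pCore_pow_eq_one {x : G} (hx : x ∈ pCore p G) : ∃ k : ℕ, x ^ p ^ k = 1 :=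
  isPGroup_subgroup_iff.mp isPGroup_pCore x hx

/-- If `O_p(L/N) = 1`, then a normal subgroup `D` whose elements have `p`-power order modulo `N`
lies in `N`. -/
theorem le_of_pCore_quotient_eq_bot {N : Subgroup G} [N.Normal]
    (h : pCore p (G ⧸ N) = ⊥) {D : Subgroup G} (hD : D.Normal)
    (hpow : ∀ d ∈ D, ∃ k : ℕ, d ^ p ^ k ∈ N) : D ≤ N := by
  have hmap : D.map (QuotientGroup.mk' N) ≤ pCore p (G ⧸ N) := by
    apply le_pCore
    · exact hD.map _ (QuotientGroup.mk'_surjective N)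
    · rw [isPGroup_subgroup_iff]
      rintro y ⟨d, hd, rfl⟩
      obtain ⟨k, hk⟩ := hpow d hd
      refine ⟨k, ?_⟩
      rw [QuotientGroup.mk'_apply, ← QuotientGroup.mk_pow]
      exact (QuotientGroup.eq_one_iff _).mpr hk
  rw [h] at hmap
  intro d hd
  have : QuotientGroup.mk' N d ∈ (⊥ : Subgroup (G ⧸ N)) := hmap ⟨d, hd, rfl⟩
  rw [Subgroup.mem_bot, QuotientGroup.mk'_apply] at this
  exact (QuotientGroup.eq_one_iff _).mp this

theorem pCore_quotient_eq_bot_of {N : Subgroup G} [N.Normal]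
    (h : ∀ D : Subgroup G, D.Normal → (∀ d ∈ D, ∃ k : ℕ, d ^ p ^ k ∈ N) → D ≤ N) :
    pCore p (G ⧸ N) = ⊥ := by
  rw [eq_bot_iff]
  apply sSup_le
  rintro M ⟨hM, hp⟩
  have hD : (M.comap (QuotientGroup.mk' N)) ≤ N := by
    apply h _ (hM.comap _)
    intro d hd
    rw [Subgroup.mem_comap] at hd
    obtain ⟨k, hk⟩ := isPGroup_subgroup_iff.mp hp _ hd
    refine ⟨k, ?_⟩
    rw [QuotientGroup.mk'_apply, ← QuotientGroup.mk_pow] at hk
    exact (QuotientGroup.eq_one_iff _).mp hk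
  intro m hm
  obtain ⟨d, rfl⟩ := QuotientGroup.mk'_surjective N m
  have : d ∈ N := hD (by rwa [Subgroup.mem_comap])
  rw [Subgroup.mem_bot, QuotientGroup.mk'_apply]
  exact (QuotientGroup.eq_one_iff _).mpr this

end basic

section omegaZ

variable {G : Type*} [Group G] {p : ℕ}

/-- `Ω₁(Z(O_p(G)))` as a subgroup of `G`. -/
def omegaZCore (p : ℕ) (G : Type*) [Group G] : Subgroup G where
  carrier := {x | x ∈ pCore p G ∧ x ∈ Subgroup.centralizer (pCore p G : Set G) ∧ x ^ p = 1}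
  one_mem' := ⟨one_mem _, one_mem _, one_pow _⟩
  mul_mem' := by
    rintro a b ⟨ha1, ha2, ha3⟩ ⟨hb1, hb2, hb3⟩
    refine ⟨mul_mem ha1 hb1, mul_mem ha2 hb2, ?_⟩
    have hc : Commute a b := (Subgroup.mem_centralizer_iff.mp hb2 a ha1)
    rw [hc.mul_pow, ha3, hb3, one_mul]
  inv_mem' := by
    rintro a ⟨ha1, ha2, ha3⟩
    exact ⟨inv_mem ha1, inv_mem ha2, by rw [inv_pow, ha3, inv_one]⟩

theorem mem_omegaZCore {x : G} : x ∈ omegaZCore p G ↔
    x ∈ pCore p G ∧ x ∈ Subgroup.centralizer (pCore p G : Set G) ∧ x ^ p = 1 := Iff.rfl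

theorem omegaZCore_commute {a b : G} (ha : a ∈ omegaZCore p G) (hb : b ∈ omegaZCore p G) :
    a * b = b * a :=
  Subgroup.mem_centralizer_iff.mp hb.2.1 a ha.1

instance omegaZCore_normal : (omegaZCore p G).Normal where
  conj_mem := by
    rintro x ⟨h1, h2, h3⟩ g
    refine ⟨(pCore_normal p G).conj_mem x h1 g, ?_, ?_⟩
    · exact (Subgroup.normal_centralizer (H := pCore p G)).conj_mem x h2 g
    · rw [conj_pow, h3, mul_one, mul_inv_cancel]

theorem isElementaryAbelian_of_le_omegaZCore {V : Subgroup G} (hV : V ≤ omegaZCore p G) :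
    IsElementaryAbelian p V := by
  refine ⟨?_, fun a ha => (hV ha).2.2⟩
  rw [← Subgroup.le_centralizer_iff_isMulCommutative]
  intro a ha
  rw [Subgroup.mem_centralizer_iff]
  intro b hb
  exact omegaZCore_commute (hV hb) (hV ha)

theorem pCore_le_centralizer_of_reduced {V : Subgroup G} (hV : IsPReducedNormal p V) :
    pCore p G ≤ Subgroup.centralizer (V : Set G) := by
  obtain ⟨hVn, _, hCn, hO⟩ := hV
  exact le_of_pCore_quotient_eq_bot hO (pCore_normal p G) (fun d hd => by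
    obtain ⟨k, hk⟩ := pCore_pow_eq_one hd
    exact ⟨k, hk ▸ one_mem _⟩)

theorem le_omegaZCore_of_reduced
    (hchar : Subgroup.centralizer (pCore p G : Set G) ≤ pCore p G)
    {V : Subgroup G} (hV : IsPReducedNormal p V) : V ≤ omegaZCore p G := by
  have h1 : V ≤ Subgroup.centralizer (pCore p G : Set G) :=
    Subgroup.le_centralizer_iff.mp (pCore_le_centralizer_of_reduced hV)
  intro x hx
  exact ⟨hchar (h1 hx), h1 hx, hV.2.1.2 x hx⟩

end omegaZ

end Cfsg.Agent.Helper46
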