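import Mathlib
import Cfsg.Prelude.Def_LieRecognition
import Cfsg.Agent.Lib.Helper87.LinPoly
import Cfsg.Agent.Lib.Helper1.Hig.Defs

/-!
# HIG piece (D4) `case_exp4` for helper1's lemma server (rows S1138 / S5214)

Here only the core `case_exp4_core` is proved: it takes the conclusion of piece (C)
`mono_components` for `R = Set.range Φ.f` as a hypothesis `HR`.  The lemma `hr_of` derives `HR`
from the exact statements of (C) and (D2c).

Proof (counting-free variant of the header of `tools/hig_sigs_helper1.lean.txt`):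
`κ y y' := e (⁅y,y'⁆ ^ 2)` is biadditive, symmetric, vanishes on `M`, and is non-zero somewhere.
Decomposing into monomial components there are monomial `y` (`f y = g x^(2^b)`) and
`y'` (`f y' = g' x^(2^b')`) with `x₀ := κ y y' ≠ 0`.  For a monomial `w` the values `κ w ·` are
fixed points of `f w`, and `f y` has at most one non-zero fixed point.  Write `g' = h₁ + h₂` with
`h₁, h₂ ∉ {0, g'}` and take `w₁, w₂` with `f wᵢ = hᵢ x^(2^b')`: `κ y wᵢ = x₀` would give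
`hᵢ = g'`, so `κ y wᵢ = 0`; but `y' ∈ w₁ w₂ M`, so `x₀ = κ y w₁ + κ y w₂ = 0`.
-/

set_option autoImplicit false

namespace Cfsg.Agent.Helper46.Hig

open Cfsg.Agent.Helper1.Hig Cfsg.Agent.Helper87
open scoped commutatorElement

section basics

variable {P : Type*} [Group P] {S : SuzNF P} {C : Cfg S} {F : Type*} [Field F]

/-- the form `κ y y' = e (⁅y,y'⁆²)` -/
def kap (Φ : FMap S C F) (y y' : P) : F := Φ.e (⁅y, y'⁆ * ⁅y, y'⁆)

theorem h46_e_one (Φ : FMap S C F) : Φ.e 1 = 0 := by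
  have h := Φ.e_mul 1 (Subgroup.one_mem _) 1 (Subgroup.one_mem _)
  rw [mul_one] at h
  exact add_eq_left.mp h.symm

theorem h46_sq_center (S : SuzNF P) {z : P} (hz : z ∈ Subgroup.center P) : z * z = 1 :=
  (S.sq_one_iff z).mpr hz

theorem h46_comm_center (C : Cfg S) {μ : P} (hμ : μ ∈ C.M) (y : P) :
    ⁅y, μ⁆ ∈ Subgroup.center P := by
  rw [← commutatorElement_inv]
  exact Subgroup.inv_mem _ (C.comm_mem μ hμ y)

theorem h46_kap_right_M (Φ : FMap S C F) {μ : P} (hμ : μ ∈ C.M) (y : P) : kap Φ y μ = 0 := by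
  unfold kap
  rw [h46_sq_center S (h46_comm_center C hμ y), h46_e_one]

theorem h46_kap_left_M (Φ : FMap S C F) {μ : P} (hμ : μ ∈ C.M) (y : P) : kap Φ μ y = 0 := by
  unfold kap
  rw [h46_sq_center S (C.comm_mem μ hμ y), h46_e_one]

theorem h46_M_comm (C : Cfg S) {a b : P} (ha : a ∈ C.M) (hb : b ∈ C.M) : a * b = b * a :=
  (Subgroup.mem_centralizer_iff.mp (C.le_cent ha) b hb).symm

theorem h46_kap_symm (Φ : FMap S C F) (hcM : ∀ a b : P, ⁅a, b⁆ ∈ C.M) (y y' : P) :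
    kap Φ y y' = kap Φ y' y := by
  unfold kap
  have hz : ⁅y', y⁆ * ⁅y', y⁆ ∈ Subgroup.center P := C.sq_mem _ (hcM y' y)
  have h1 : ⁅y, y'⁆ * ⁅y, y'⁆ = (⁅y', y⁆ * ⁅y', y⁆)⁻¹ := by
    rw [mul_inv_rev, commutatorElement_inv]
  have h2 : (⁅y', y⁆ * ⁅y', y⁆)⁻¹ = ⁅y', y⁆ * ⁅y', y⁆ :=
    (mul_eq_one_iff_eq_inv.mp (h46_sq_center S hz)).symm
  rw [h1, h2]

theorem h46_kap_mul_right (Φ : FMap S C F) (hcM : ∀ a b : P, ⁅a, b⁆ ∈ C.M) (y a b : P) :
    kap Φ y (a * b) = kap Φ y a + kap Φ y b := by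
  unfold kap
  have hid : ⁅y, a * b⁆ = ⁅y, a⁆ * (⁅a, ⁅y, b⁆⁆ * ⁅y, b⁆) := by
    simp only [commutatorElement_def]; group
  have hm' : ⁅y, a⁆ ∈ C.M := hcM y a
  have hm'' : ⁅y, b⁆ ∈ C.M := hcM y b
  have hζ : ⁅a, ⁅y, b⁆⁆ ∈ Subgroup.center P := h46_comm_center C hm'' a
  have hζM : ⁅a, ⁅y, b⁆⁆ ∈ C.M := C.center_le hζ
  have c1 : Commute ⁅y, a⁆ ⁅a, ⁅y, b⁆⁆ := h46_M_comm C hm' hζM
  have c2 : Commute ⁅y, a⁆ ⁅y, b⁆ := h46_M_comm C hm' hm''
  have c3 : Commute ⁅a, ⁅y, b⁆⁆ ⁅y, b⁆ := h46_M_comm C hζM hm''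
  have e1 : (⁅y, a⁆ * (⁅a, ⁅y, b⁆⁆ * ⁅y, b⁆)) ^ 2 = ⁅y, a⁆ ^ 2 * (⁅a, ⁅y, b⁆⁆ ^ 2 * ⁅y, b⁆ ^ 2) := by
    rw [(c1.mul_right c2).mul_pow, c3.mul_pow]
  have e2 : ⁅a, ⁅y, b⁆⁆ ^ 2 = 1 := by rw [pow_two]; exact h46_sq_center S hζ
  rw [hid, ← pow_two, e1, e2, one_mul, pow_two, pow_two]
  exact Φ.e_mul _ (C.sq_mem _ hm') _ (C.sq_mem _ hm'')

theorem h46_kap_mul_left (Φ : FMap S C F) (hcM : ∀ a b : P, ⁅a, b⁆ ∈ C.M) (a b y : P) :
    kap Φ (a * b) y = kap Φ a y + kap Φ b y := by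
  rw [h46_kap_symm Φ hcM (a * b) y, h46_kap_mul_right Φ hcM, h46_kap_symm Φ hcM y a,
    h46_kap_symm Φ hcM y b]

/-- (Step 2) a monomial element outside `M` has its square in the centre -/
theorem h46_sq_mem_center (Φ : FMap S C F)
    (hcent : ∀ c ∈ Subgroup.centralizer (C.M : Set P), c ∈ C.M) (y : P) (b : ℕ) (g : F)
    (hg : g ≠ 0) (hf : ∀ x, Φ.f y x = g * x ^ (2 ^ b)) : y * y ∈ Subgroup.center P := by
  have hm : y * y ∈ C.M := hcent _ (C.sq_mem_cent y)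
  have h1 := Φ.f_spec y (y * y) hm
  have h2 : ⁅y * y, y⁆ = 1 := by simp only [commutatorElement_def]; group
  rw [h2, h46_e_one, hf] at h1
  have h3 : Φ.e (y * y * (y * y)) = 0 := by
    rcases mul_eq_zero.mp h1 with h | h
    · exact absurd h hg
    · exact pow_eq_zero_iff (by positivity) |>.mp h
  have h4 : y * y * (y * y) = 1 := Φ.e_inj _ (C.sq_mem _ hm) h3
  exact (S.sq_one_iff _).mp h4

/-- (Step 3) the values of `κ y ·` are fixed points of `f y` when `y²` is central -/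
theorem h46_fix (Φ : FMap S C F) (hcM : ∀ a b : P, ⁅a, b⁆ ∈ C.M) (y : P)
    (hy : y * y ∈ Subgroup.center P) (y' : P) : Φ.f y (kap Φ y y') = kap Φ y y' := by
  unfold kap
  rw [Φ.f_spec y _ (hcM y y')]
  congr 1
  have hc : y' * (y * y) = y * y * y' := Subgroup.mem_center_iff.mp hy y'
  have h1 : y * ⁅y, y'⁆ * y⁻¹ = (y * y * y') * y⁻¹ * y'⁻¹ * y⁻¹ := by
    simp only [commutatorElement_def]; group
  rw [← hc] at h1
  have h2 : y' * (y * y) * y⁻¹ * y'⁻¹ * y⁻¹ = ⁅y, y'⁆⁻¹ := by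
    simp only [commutatorElement_def]; group
  rw [h2] at h1
  have h3 : ⁅⁅y, y'⁆, y⁆ = ⁅y, y'⁆ * (y * ⁅y, y'⁆ * y⁻¹)⁻¹ := by
    simp only [commutatorElement_def]; group
  rw [h3, h1, inv_inv]

end basics

section field

variable {F : Type*} [Field F] [Fintype F]

/-- (Step 4) `g x^(2^b) = x` has at most one non-zero solution when `gcd(2^b-1, 2^n-1) = 1` -/
theorem h46_fix_unique {n : ℕ} (hq : Fintype.card F = 2 ^ n) (b : ℕ) (g : F)
    (hcop : Nat.Coprime (2 ^ b - 1) (2 ^ n - 1)) (x x' : F) (hx : x ≠ 0) (hx' : x' ≠ 0)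
    (h : g * x ^ (2 ^ b) = x) (h' : g * x' ^ (2 ^ b) = x') : x = x' := by
  have hg : g ≠ 0 := by
    rintro rfl
    rw [zero_mul] at h
    exact hx h.symm
  have hr0 : x / x' ≠ 0 := div_ne_zero hx hx'
  have h1 : (x / x') ^ (2 ^ b) = x / x' := by
    rw [div_pow]
    have e1 : x ^ (2 ^ b) = x / g := by rw [eq_div_iff hg, mul_comm]; exact h
    have e2 : x' ^ (2 ^ b) = x' / g := by rw [eq_div_iff hg, mul_comm]; exact h'
    rw [e1, e2]
    field_simp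
  have hpos : 0 < 2 ^ b := by positivity
  have h2 : (x / x') ^ (2 ^ b - 1) = 1 := by
    have e : (x / x') ^ (2 ^ b - 1) * (x / x') = 1 * (x / x') := by
      rw [← pow_succ, Nat.sub_add_cancel hpos, h1, one_mul]
    exact mul_right_cancel₀ hr0 e
  have h3 : (x / x') ^ (2 ^ n - 1) = 1 := by
    rw [← hq]
    exact FiniteField.pow_card_sub_one_eq_one _ hr0
  have h4 : orderOf (x / x') ∣ Nat.gcd (2 ^ b - 1) (2 ^ n - 1) :=
    Nat.dvd_gcd (orderOf_dvd_of_pow_eq_one h2) (orderOf_dvd_of_pow_eq_one h3)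
  rw [hcop.gcd_eq_one, Nat.dvd_one, orderOf_eq_one_iff] at h4
  exact (div_eq_one_iff_eq hx').mp h4

omit [Fintype F] in
/-- splitting off one coefficient of a linearised polynomial -/
theorem h46_L_update (n : ℕ) (c : ℕ → F) (k : ℕ) (hk : k < n) (x : F) :
    LinPoly.L n c x = LinPoly.L n (Function.update c k 0) x + c k * x ^ (2 ^ k) := by
  classical
  unfold LinPoly.L
  rw [← Finset.add_sum_erase _ _ (Finset.mem_range.mpr hk),
    ← Finset.add_sum_erase (Finset.range n) (fun i => Function.update c k 0 i * x ^ 2 ^ i)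
      (Finset.mem_range.mpr hk)]
  have h1 : ∀ i ∈ (Finset.range n).erase k,
      Function.update c k 0 i * x ^ 2 ^ i = c i * x ^ 2 ^ i := by
    intro i hi
    rw [Function.update_of_ne (Finset.ne_of_mem_erase hi)]
  rw [Finset.sum_congr rfl h1]
  simp only [Function.update_self, zero_mul, zero_add]
  rw [add_comm]

end field

section main

variable {P : Type*} [Group P] {S : SuzNF P} {C : Cfg S} {F : Type*} [Field F] [Fintype F]
  [CharP F 2]

/-- the hypothesis extracted from pieces (C) + (D2c) -/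
def HRange (Φ : FMap S C F) : Prop :=
  ∀ c : ℕ → F, (fun x => LinPoly.L S.n c x) ∈ Set.range Φ.f → ∀ b : ℕ, b < S.n → c b ≠ 0 →
    b ≠ 0 ∧ Nat.Coprime (2 ^ b - 1) (2 ^ S.n - 1) ∧
      ∀ g : F, (fun x => g * x ^ (2 ^ b)) ∈ Set.range Φ.f

/-- monomial elements -/
def Mono (Φ : FMap S C F) (y : P) : Prop :=
  ∃ (b : ℕ) (g : F), g ≠ 0 ∧ (∀ x, Φ.f y x = g * x ^ (2 ^ b)) ∧
    Nat.Coprime (2 ^ b - 1) (2 ^ S.n - 1) ∧ ∀ h : F, ∃ w : P, ∀ x, Φ.f w x = h * x ^ (2 ^ b)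

/-- (Step 6) if `κ · v` vanishes on monomial elements it vanishes identically -/
theorem h46_kap_zero_of_mono (hq : Fintype.card F = 2 ^ S.n) (Φ : FMap S C F)
    (hcent : ∀ c ∈ Subgroup.centralizer (C.M : Set P), c ∈ C.M) (HR : HRange Φ) (v : P)
    (hv : ∀ y, Mono Φ y → kap Φ y v = 0) : ∀ y, kap Φ y v = 0 := by
  have hcM : ∀ a b : P, ⁅a, b⁆ ∈ C.M := fun a b => hcent _ (C.comm_mem_cent a b)
  have key : ∀ k : ℕ, ∀ (y : P) (c : ℕ → F), (∀ x, Φ.f y x = LinPoly.L S.n c x) →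
      (∀ i, k ≤ i → i < S.n → c i = 0) → kap Φ y v = 0 := by
    intro k
    induction k with
    | zero =>
      intro y c hyc hc
      have h0 : ∀ x, Φ.f y x = 0 := by
        intro x
        rw [hyc x]
        unfold LinPoly.L
        refine Finset.sum_eq_zero fun i hi => ?_
        rw [hc i (Nat.zero_le i) (Finset.mem_range.mp hi), zero_mul]
      exact h46_kap_left_M Φ (hcent _ ((Φ.f_eq_zero y).mp h0)) v
    | succ k ih =>
      intro y c hyc hc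
      by_cases hk : k < S.n
      · by_cases hck : c k = 0
        · refine ih y c hyc fun i hi hin => ?_
          rcases Nat.eq_or_lt_of_le hi with h | h
          · rw [← h]; exact hck
          · exact hc i h hin
        · obtain ⟨_, hcop, hall⟩ := HR c ⟨y, funext hyc⟩ k hk hck
          obtain ⟨y₁, hy₁⟩ := hall (c k)
          have hy₁' : ∀ x, Φ.f y₁ x = c k * x ^ (2 ^ k) := fun x => congrFun hy₁ x
          have hmono : Mono Φ y₁ :=
            ⟨k, c k, hck, hy₁', hcop, fun h => by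
              obtain ⟨w, hw⟩ := hall h
              exact ⟨w, fun x => congrFun hw x⟩⟩
          have h2 : ∀ x, Φ.f (y * y₁) x = LinPoly.L S.n (Function.update c k 0) x := by
            intro x
            rw [Φ.f_mul, hyc x, hy₁' x, h46_L_update S.n c k hk x, add_assoc,
              CharTwo.add_self_eq_zero, add_zero]
          have h3 : kap Φ (y * y₁) v = 0 := by
            refine ih (y * y₁) _ h2 fun i hi hin => ?_
            rcases Nat.eq_or_lt_of_le hi with h | h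
            · rw [← h, Function.update_self]
            · rw [Function.update_of_ne (by omega)]
              exact hc i h hin
          rw [h46_kap_mul_left Φ hcM, hv y₁ hmono, add_zero] at h3
          exact h3
      · exact ih y c hyc fun i hi hin => absurd (lt_of_le_of_lt hi hin) hk
  intro y
  obtain ⟨c, hc⟩ := LinPoly.L_exists hq (Φ.f y) (Φ.f_add y)
  exact key S.n y c hc fun i hi hin => absurd hin (not_lt.mpr hi)

/-- the core of (D4), with the output of (C)+(D2c) as hypothesis `HR` -/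
theorem case_exp4_core (S : SuzNF P) (C : Cfg S) (hq : Fintype.card F = 2 ^ S.n) (Φ : FMap S C F)
    (h4 : ∀ c ∈ Subgroup.centralizer (C.M : Set P), c ^ 4 = 1)
    (hna : ∃ a b : P, ⁅a, b⁆ ∉ Subgroup.center P) (HR : HRange Φ) : False := by
  have hcent : ∀ c ∈ Subgroup.centralizer (C.M : Set P), c ∈ C.M :=
    fun c hc => C.mem_of_pow_four c hc (h4 c hc)
  have hcM : ∀ a b : P, ⁅a, b⁆ ∈ C.M := fun a b => hcent _ (C.comm_mem_cent a b)
  obtain ⟨a, a', haa⟩ := hna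
  have hκ : kap Φ a a' ≠ 0 := by
    intro h0
    have h1 : ⁅a, a'⁆ * ⁅a, a'⁆ = 1 := Φ.e_inj _ (C.sq_mem _ (hcM a a')) h0
    exact haa ((S.sq_one_iff _).mp h1)
  -- monomial `y`
  obtain ⟨y, hymono, hy⟩ : ∃ y, Mono Φ y ∧ kap Φ y a' ≠ 0 := by
    by_contra hcon
    push Not at hcon
    exact hκ (h46_kap_zero_of_mono hq Φ hcent HR a' hcon a)
  -- monomial `y'`
  obtain ⟨y', hy'mono, hyy'⟩ : ∃ y', Mono Φ y' ∧ kap Φ y' y ≠ 0 := by
    by_contra hcon
    push Not at hcon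
    have := h46_kap_zero_of_mono hq Φ hcent HR y hcon a'
    rw [h46_kap_symm Φ hcM] at this
    exact hy this
  obtain ⟨b, g, hg, hfy, hcop, -⟩ := hymono
  obtain ⟨b', g', hg', hfy', -, hall'⟩ := hy'mono
  have hx0 : kap Φ y y' ≠ 0 := by rw [h46_kap_symm Φ hcM]; exact hyy'
  have hy2 : y * y ∈ Subgroup.center P := h46_sq_mem_center Φ hcent y b g hg hfy
  have hy'2 : y' * y' ∈ Subgroup.center P := h46_sq_mem_center Φ hcent y' b' g' hg' hfy'
  have hfix_y : ∀ w, g * (kap Φ y w) ^ (2 ^ b) = kap Φ y w := fun w => by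
    rw [← hfy]; exact h46_fix Φ hcM y hy2 w
  have hfix_y' : g' * (kap Φ y y') ^ (2 ^ b') = kap Φ y y' := by
    rw [← hfy', h46_kap_symm Φ hcM y y']; exact h46_fix Φ hcM y' hy'2 y
  -- every monomial `w` of type `b'` with coefficient `h ∉ {0, g'}` is `κ`-orthogonal to `y`
  have horth : ∀ (w : P) (h : F), h ≠ 0 → h ≠ g' → (∀ x, Φ.f w x = h * x ^ (2 ^ b')) →
      kap Φ y w = 0 := by
    intro w h hh hhg hfw
    by_contra hne
    have heq : kap Φ y w = kap Φ y y' :=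
      h46_fix_unique hq b g hcop _ _ hne hx0 (hfix_y w) (hfix_y y')
    have hw2 : w * w ∈ Subgroup.center P := h46_sq_mem_center Φ hcent w b' h hh hfw
    have hfix_w : h * (kap Φ y y') ^ (2 ^ b') = kap Φ y y' := by
      rw [← heq, ← hfw, h46_kap_symm Φ hcM y w]; exact h46_fix Φ hcM w hw2 y
    have hsub : (h - g') * (kap Φ y y') ^ (2 ^ b') = 0 := by
      rw [sub_mul, hfix_w, hfix_y', sub_self]
    rcases mul_eq_zero.mp hsub with h1 | h1
    · exact hhg (sub_eq_zero.mp h1)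
    · exact hx0 (pow_eq_zero_iff (by positivity) |>.mp h1)
  -- choose `h₁ ∉ {0, g'}`
  have hlam0 : Φ.lam ≠ 0 := by
    intro h0
    have h1 := Φ.order_lam
    rw [h0, orderOf_eq_zero_iff.mpr (by
      intro hfin
      obtain ⟨k, hk, hk'⟩ := hfin.exists_pow_eq_one
      rw [zero_pow (by omega)] at hk'
      exact zero_ne_one hk')] at h1
    have : 2 ^ 2 ≤ 2 ^ S.n := Nat.pow_le_pow_right (by norm_num) S.hn
    omega
  have hlam1 : Φ.lam ≠ 1 := by
    intro h0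
    have h1 := Φ.order_lam
    rw [h0, orderOf_one] at h1
    have : 2 ^ 2 ≤ 2 ^ S.n := Nat.pow_le_pow_right (by norm_num) S.hn
    omega
  obtain ⟨h₁, h₁0, h₁g⟩ : ∃ h₁ : F, h₁ ≠ 0 ∧ h₁ ≠ g' := by
    by_cases hg1 : g' = 1
    · exact ⟨Φ.lam, hlam0, by rw [hg1]; exact hlam1⟩
    · exact ⟨1, one_ne_zero, fun h => hg1 h.symm⟩
  have h₂0 : g' + h₁ ≠ 0 := by
    intro h
    apply h₁g
    have := CharTwo.add_eq_zero.mp h
    exact this.symm
  have h₂g : g' + h₁ ≠ g' := by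
    intro h
    exact h₁0 (add_eq_left.mp h)
  obtain ⟨w₁, hw₁⟩ := hall' h₁
  obtain ⟨w₂, hw₂⟩ := hall' (g' + h₁)
  have ho1 := horth w₁ h₁ h₁0 h₁g hw₁
  have ho2 := horth w₂ (g' + h₁) h₂0 h₂g hw₂
  -- `w₁ w₂ y' ∈ M`
  have hμ : w₁ * w₂ * y' ∈ C.M := by
    apply hcent
    rw [← Φ.f_eq_zero]
    intro x
    rw [Φ.f_mul, Φ.f_mul, hw₁, hw₂, hfy']
    have : h₁ * x ^ 2 ^ b' + (g' + h₁) * x ^ 2 ^ b' + g' * x ^ 2 ^ b' =
        (g' + g') * x ^ 2 ^ b' + (h₁ + h₁) * x ^ 2 ^ b' := by ring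
    rw [this, CharTwo.add_self_eq_zero, CharTwo.add_self_eq_zero, zero_mul, add_zero]
  have hfin := h46_kap_right_M Φ hμ y
  rw [h46_kap_mul_right Φ hcM, h46_kap_mul_right Φ hcM, ho1, ho2, zero_add, zero_add] at hfin
  exact hx0 hfin

omit [Fintype F] [CharP F 2] in
/-- `HRange` from the exact statements of pieces (C) `mono_components` and (D2c) `fmap_fpf` -/
theorem hr_of (Φ : FMap S C F)
    (HC : ∀ R : Set (F → F), (fun _ => (0 : F)) ∈ R →
      (∀ f ∈ R, ∀ g ∈ R, (fun x => f x + g x) ∈ R) →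
      (∀ f ∈ R, (fun x => Φ.lam * f (Φ.lam⁻¹ * x)) ∈ R) →
      (∀ f ∈ R, ∀ i : ℕ, 0 < i → i < 2 ^ S.n - 1 →
        (∀ x, Φ.lam ^ i * f ((Φ.lam ^ i)⁻¹ * x) = f x) → ∀ x, f x = 0) →
      ∀ c : ℕ → F, (fun x => LinPoly.L S.n c x) ∈ R → ∀ b : ℕ, b < S.n → c b ≠ 0 →
        b ≠ 0 ∧ Nat.Coprime (2 ^ b - 1) (2 ^ S.n - 1) ∧ ∀ g : F, (fun x => g * x ^ (2 ^ b)) ∈ R)
    (HF : ∀ (y : P) (i : ℕ), 0 < i → i < 2 ^ S.n - 1 →
      (∀ x, Φ.lam ^ i * Φ.f y ((Φ.lam ^ i)⁻¹ * x) = Φ.f y x) → ∀ x, Φ.f y x = 0) :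
    HRange Φ := by
  have hf1 : ∀ x, Φ.f 1 x = 0 := by
    intro x
    have h := Φ.f_mul 1 1 x
    rw [mul_one] at h
    exact add_eq_left.mp h.symm
  refine HC (Set.range Φ.f) ⟨1, funext hf1⟩ ?_ ?_ ?_
  · rintro _ ⟨y, rfl⟩ _ ⟨y', rfl⟩
    exact ⟨y * y', funext fun x => Φ.f_mul y y' x⟩
  · rintro _ ⟨y, rfl⟩
    exact ⟨S.ξ y, funext fun x => Φ.f_ξ y x⟩
  · rintro _ ⟨y, rfl⟩ i hi hi' h
    exact HF y i hi hi' h

/-- (D4) with the statements of (C) and (D2c) as hypotheses -/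
theorem case_exp4_of (S : SuzNF P) (C : Cfg S) (hq : Fintype.card F = 2 ^ S.n) (Φ : FMap S C F)
    (h4 : ∀ c ∈ Subgroup.centralizer (C.M : Set P), c ^ 4 = 1)
    (hna : ∃ a b : P, ⁅a, b⁆ ∉ Subgroup.center P)
    (HC : ∀ R : Set (F → F), (fun _ => (0 : F)) ∈ R →
      (∀ f ∈ R, ∀ g ∈ R, (fun x => f x + g x) ∈ R) →
      (∀ f ∈ R, (fun x => Φ.lam * f (Φ.lam⁻¹ * x)) ∈ R) →
      (∀ f ∈ R, ∀ i : ℕ, 0 < i → i < 2 ^ S.n - 1 →
        (∀ x, Φ.lam ^ i * f ((Φ.lam ^ i)⁻¹ * x) = f x) → ∀ x, f x = 0) →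
      ∀ c : ℕ → F, (fun x => LinPoly.L S.n c x) ∈ R → ∀ b : ℕ, b < S.n → c b ≠ 0 →
        b ≠ 0 ∧ Nat.Coprime (2 ^ b - 1) (2 ^ S.n - 1) ∧ ∀ g : F, (fun x => g * x ^ (2 ^ b)) ∈ R)
    (HF : ∀ (y : P) (i : ℕ), 0 < i → i < 2 ^ S.n - 1 →
      (∀ x, Φ.lam ^ i * Φ.f y ((Φ.lam ^ i)⁻¹ * x) = Φ.f y x) → ∀ x, Φ.f y x = 0) : False :=
  case_exp4_core S C hq Φ h4 hna (hr_of Φ HC HF)

end main

end Cfsg.Agent.Helper46.Hig
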