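import Mathlib
import Cfsg.Prelude.Def_LieRecognition
import Cfsg.Agent.Lib.Helper87.LinPoly
import Cfsg.Agent.Lib.Helper1.Hig.Defs
import Cfsg.Agent.Lib.Helper98.HigC
import Cfsg.Agent.Lib.Helper88.HigD2c
import Cfsg.Agent.Lib.Helper46.HigD4Core

/-!
# HIG piece (D4) `case_exp4` for helper1's lemma server (rows S1138 / S5214): verbatim wrapper

The proof is in `Cfsg.Agent.Lib.Helper46.HigD4Core` (`case_exp4_of`); here the hypotheses
(C) `mono_components` (helper98) and (D2c) `fmap_fpf` (helper88) are discharged.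
-/

set_option autoImplicit false

namespace Cfsg.Agent.Helper46.Hig

open Cfsg.Agent.Helper1.Hig Cfsg.Agent.Helper87
open scoped commutatorElement

/-- (D4) see the header. -/
theorem case_exp4 {P : Type*} [Group P] (S : SuzNF P) (C : Cfg S) {F : Type*} [Field F] [Fintype F]
    [CharP F 2] (hq : Fintype.card F = 2 ^ S.n) (Φ : FMap S C F)
    (h4 : ∀ c ∈ Subgroup.centralizer (C.M : Set P), c ^ 4 = 1)
    (hna : ∃ a b : P, ⁅a, b⁆ ∉ Subgroup.center P) : False :=
  case_exp4_of S C hq Φ h4 hna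
    (fun R h0 hadd hT hfpf c hc b hb hcb =>
      Cfsg.Agent.Helper98.Hig.mono_components S.hn hq Φ.lam Φ.order_lam R h0 hadd hT hfpf c hc b
        hb hcb)
    (fun y i hi hi' h => Cfsg.Agent.Helper88.Hig.fmap_fpf S C Φ y i hi hi' h)

end Cfsg.Agent.Helper46.Hig
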