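import Mathlib
import Cfsg.Prelude.Def_Amalgam
import Cfsg.Agent.Lib.Helper46.PCore
import Cfsg.Agent.Lib.Helper45.CosetGraph

set_option autoImplicit false

namespace Cfsg.Agent.Helper46

open Cfsg

variable {X : Type*} [Group X] {p : ℕ}

/-- If `E ≤ D` have the same `p`-part of the order, then `O_p(D) ≤ E`. -/
theorem pCoreOf_le_of_factorization [Fact p.Prime] {D E : Subgroup X} [Finite D] (hED : E ≤ D)
    (hfac : (Nat.card E).factorization p = (Nat.card D).factorization p) : pCoreOf p D ≤ E := by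
  haveI : Finite E := Finite.of_injective (Subgroup.inclusion hED) (Subgroup.inclusion_injective hED)
  obtain ⟨R⟩ : Nonempty (Sylow p E) := inferInstance
  set R₀ : Subgroup X := (R : Subgroup E).map E.subtype with hR₀
  have hR₀E : R₀ ≤ E := Subgroup.map_subtype_le _
  have hR₀D : R₀ ≤ D := hR₀E.trans hED
  have hcard0 : Nat.card R₀ = Nat.card (R : Subgroup E) :=
    Subgroup.card_map_of_injective Subtype.coe_injective
  have hcard1 : Nat.card (R₀.subgroupOf D) = Nat.card R₀ :=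
    Nat.card_congr (Subgroup.subgroupOfEquivOfLe hR₀D).toEquiv
  have hcard : Nat.card (R₀.subgroupOf D) = p ^ (Nat.card D).factorization p := by
    rw [hcard1, hcard0, R.card_eq_multiplicity, hfac]
  have hle := pCore_le_sylow (Sylow.ofCard (R₀.subgroupOf D) hcard)
  rw [Sylow.coe_ofCard] at hle
  rintro q ⟨q0, hq0, rfl⟩
  exact hR₀E (hle hq0)

theorem pCoreOf_map_conj_le [Fact p.Prime] (A B : Subgroup X) [Finite A]
    (hfac : (Nat.card ↥(A ⊓ B)).factorization p = (Nat.card A).factorization p) (x : X) :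
    pCoreOf p (A.map (MulAut.conj x).toMonoidHom) ≤ B.map (MulAut.conj x).toMonoidHom := by
  have hinj : Function.Injective (MulAut.conj x).toMonoidHom := (MulAut.conj x).injective
  have h1 : (A ⊓ B).map (MulAut.conj x).toMonoidHom ≤ A.map (MulAut.conj x).toMonoidHom :=
    Subgroup.map_mono inf_le_left
  have h2 : (A ⊓ B).map (MulAut.conj x).toMonoidHom ≤ B.map (MulAut.conj x).toMonoidHom :=
    Subgroup.map_mono inf_le_right
  haveI : Finite (A.map (MulAut.conj x).toMonoidHom) :=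
    Finite.of_equiv A (Subgroup.equivMapOfInjective A _ hinj).toEquiv
  refine le_trans (pCoreOf_le_of_factorization h1 ?_) h2
  rw [Subgroup.card_map_of_injective hinj, Subgroup.card_map_of_injective hinj, hfac]

theorem factorization_eq_of_charP [Fact p.Prime] {M₁ M₂ : Subgroup X}
    (h : IsCharPAmalgamPair p M₁ M₂) :
    (Nat.card ↥(M₁ ⊓ M₂)).factorization p = (Nat.card M₁).factorization p ∧
    (Nat.card ↥(M₁ ⊓ M₂)).factorization p = (Nat.card M₂).factorization p := by
  obtain ⟨_, hf1, hf2, _, _, hS, _, _⟩ := h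
  haveI := hf1
  haveI := hf2
  haveI : Finite ↥(M₁ ⊓ M₂) :=
    Finite.of_injective (Subgroup.inclusion (inf_le_left : M₁ ⊓ M₂ ≤ M₁))
      (Subgroup.inclusion_injective _)
  obtain ⟨S⟩ : Nonempty (Sylow p ↥(M₁ ⊓ M₂)) := inferInstance
  obtain ⟨P₁⟩ : Nonempty (Sylow p M₁) := inferInstance
  obtain ⟨P₂⟩ : Nonempty (Sylow p M₂) := inferInstance
  obtain ⟨h1, h2⟩ := hS S P₁ P₂
  rw [S.card_eq_multiplicity, P₁.card_eq_multiplicity] at h1
  rw [S.card_eq_multiplicity, P₂.card_eq_multiplicity] at h2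
  exact ⟨Nat.pow_right_injective (Fact.out : p.Prime).two_le h1,
    Nat.pow_right_injective (Fact.out : p.Prime).two_le h2⟩

/-- `Q_δ ≤ G_μ` for adjacent vertices `δ`, `μ`. -/
theorem vertexQ_le_stabilizer_of_adj [Fact p.Prime] {M₁ M₂ : Subgroup X}
    (h : IsCharPAmalgamPair p M₁ M₂) {δ μ : CosetVertex M₁ M₂}
    (hadj : (cosetGraph M₁ M₂).Adj δ μ) : vertexQ p δ ≤ MulAction.stabilizer X μ := by
  obtain ⟨hfac1, hfac2⟩ := factorization_eq_of_charP h
  haveI : Finite M₁ := h.2.1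
  haveI : Finite M₂ := h.2.2.1
  rw [Cfsg.Agent.Helper45.adj_iff] at hadj
  obtain ⟨x, ⟨rfl, rfl⟩ | ⟨rfl, rfl⟩⟩ := hadj
  · unfold vertexQ
    rw [Cfsg.Agent.Helper45.stab_inl, Cfsg.Agent.Helper45.stab_inr]
    exact pCoreOf_map_conj_le M₁ M₂ hfac1 x
  · unfold vertexQ
    rw [Cfsg.Agent.Helper45.stab_inl, Cfsg.Agent.Helper45.stab_inr]
    apply pCoreOf_map_conj_le M₂ M₁ _ x
    rw [inf_comm]; exact hfac2

theorem vertexQ_le_neighbourKernel [Fact p.Prime] {M₁ M₂ : Subgroup X}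
    (h : IsCharPAmalgamPair p M₁ M₂) (δ : CosetVertex M₁ M₂) :
    vertexQ p δ ≤ neighbourKernel δ := by
  unfold neighbourKernel
  refine le_inf (Subgroup.map_subtype_le _) (le_iInf₂ fun μ hμ => ?_)
  exact vertexQ_le_stabilizer_of_adj h ((SimpleGraph.mem_neighborSet _ _ _).mp hμ)

end Cfsg.Agent.Helper46
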