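import Mathlib
import Cfsg.Prelude.Def_LocalEven
import Cfsg.Agent.Lib.Helper46.PCore

set_option autoImplicit false

namespace Cfsg.Agent.Helper46

open Cfsg

variable {G : Type*} [Group G] {p : ℕ}

theorem not_dvd_relIndex_normal [Finite G] [Fact p.Prime] (T : Sylow p G) (N : Subgroup G)
    [hN : N.Normal] : ¬ p ∣ (T : Subgroup G).relIndex N := by
  obtain ⟨P₀⟩ : Nonempty (Sylow p N) := inferInstance
  obtain ⟨Q, hQ⟩ := P₀.exists_comap_subtype_eq
  obtain ⟨g, hg⟩ := MulAction.exists_smul_eq G Q T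
  have h1 : (T : Subgroup G) = (Q : Subgroup G).map (MulAut.conj g).toMonoidHom := by
    rw [← hg]; rfl
  have h2 : N.map (MulAut.conj g).toMonoidHom = N := Subgroup.Normal.map_conj_eq N g
  have h3 : ((Q : Subgroup G).map (MulAut.conj g).toMonoidHom).relIndex
      (N.map (MulAut.conj g).toMonoidHom) = (Q : Subgroup G).relIndex N :=
    Subgroup.relIndex_map_map_of_injective _ _ (MulAut.conj g).injective
  rw [h2] at h3
  rw [h1, h3]
  have : (Q : Subgroup G).relIndex N = (P₀ : Subgroup N).index := by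
    rw [← hQ]; rfl
  rw [this]; exact P₀.not_dvd_index

/-- The intersection of a Sylow `p`-subgroup with a normal subgroup is a Sylow `p`-subgroup of the
normal subgroup. -/
theorem exists_sylow_subgroupOf_normal [Finite G] [Fact p.Prime] (T : Sylow p G) (N : Subgroup G)
    [N.Normal] : ∃ P : Sylow p N, (P : Subgroup N) = (T : Subgroup G).subgroupOf N := by
  have hp : IsPGroup p ((T : Subgroup G).subgroupOf N) := T.isPGroup'.comap_subtype
  exact ⟨hp.toSylow (not_dvd_relIndex_normal T N), rfl⟩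

/-- If `D` is normal and a `p`-group modulo the normal subgroup `N`, then `D ⊆ N T` for every
Sylow `p`-subgroup `T`. -/
theorem exists_mul_of_pow_mem [Finite G] [Fact p.Prime] {N D : Subgroup G} [N.Normal]
    (hD : D.Normal) (hpow : ∀ d ∈ D, ∃ k : ℕ, d ^ p ^ k ∈ N) (T : Sylow p G) :
    ∀ d ∈ D, ∃ c ∈ N, ∃ t ∈ (T : Subgroup G), d = c * t := by
  have hmapN : (D.map (QuotientGroup.mk' N)).Normal :=
    hD.map _ (QuotientGroup.mk'_surjective N)
  have hmapP : IsPGroup p (D.map (QuotientGroup.mk' N)) := by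
    rw [isPGroup_subgroup_iff]
    rintro y ⟨d, hd, rfl⟩
    obtain ⟨k, hk⟩ := hpow d hd
    refine ⟨k, ?_⟩
    rw [QuotientGroup.mk'_apply, ← QuotientGroup.mk_pow]
    exact (QuotientGroup.eq_one_iff _).mpr hk
  have hle := hmapP.le_sylow_of_normal (T.mapSurjective (QuotientGroup.mk'_surjective N))
  intro d hd
  have hmem : QuotientGroup.mk' N d ∈ (T : Subgroup G).map (QuotientGroup.mk' N) :=
    hle ⟨d, hd, rfl⟩
  obtain ⟨t, ht, hteq⟩ := hmem
  refine ⟨d * t⁻¹, ?_, t, ht, by group⟩
  rw [← QuotientGroup.eq_one_iff, QuotientGroup.mk_mul, QuotientGroup.mk_inv]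
  rw [QuotientGroup.mk'_apply, QuotientGroup.mk'_apply] at hteq
  rw [hteq, mul_inv_cancel]

end Cfsg.Agent.Helper46
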