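import Mathlib
import Cfsg.Prelude.Def_LocalEven
import Cfsg.Agent.Lib.Helper46.PCore
import Cfsg.Agent.Lib.Helper46.SylowLemmas

set_option autoImplicit false

namespace Cfsg.Agent.Helper46

open Cfsg

variable {G : Type*} [Group G] {p : ℕ}

theorem omegaOne_le (H : Subgroup G) : omegaOne p H ≤ H :=
  (Subgroup.closure_le H).mpr (fun _ hx => hx.1)

theorem le_omegaOne {V H : Subgroup G} (hVH : V ≤ H) (hV : ∀ v ∈ V, v ^ p = 1) :
    V ≤ omegaOne p H :=
  fun v hv => Subgroup.subset_closure ⟨hVH hv, hV v hv⟩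

theorem omegaOne_pow_eq_one_of_comm {H : Subgroup G}
    (hH : ∀ a ∈ H, ∀ b ∈ H, a * b = b * a) : ∀ x ∈ omegaOne p H, x ^ p = 1 := by
  intro x hx
  have key : ∀ y ∈ omegaOne p H, y ∈ H ∧ y ^ p = 1 := by
    intro y hy
    induction hy using Subgroup.closure_induction with
    | mem z hz => exact hz
    | one => exact ⟨one_mem _, one_pow _⟩
    | mul a b _ _ iha ihb =>
      refine ⟨mul_mem iha.1 ihb.1, ?_⟩
      have hc : Commute a b := hH a iha.1 b ihb.1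
      rw [hc.mul_pow, iha.2, ihb.2, one_mul]
    | inv a _ iha => exact ⟨inv_mem iha.1, by rw [inv_pow, iha.2, inv_one]⟩
  exact (key x hx).2

theorem conj_mem_omegaOne {H : Subgroup G} {g : G} (hg : ∀ x ∈ H, g * x * g⁻¹ ∈ H) :
    ∀ x ∈ omegaOne p H, g * x * g⁻¹ ∈ omegaOne p H := by
  intro x hx
  induction hx using Subgroup.closure_induction with
  | mem z hz =>
    refine Subgroup.subset_closure ⟨hg z hz.1, ?_⟩
    rw [conj_pow, hz.2, mul_one, mul_inv_cancel]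
  | one => simp
  | mul a b _ _ iha ihb =>
    have : g * (a * b) * g⁻¹ = (g * a * g⁻¹) * (g * b * g⁻¹) := by group
    rw [this]; exact mul_mem iha ihb
  | inv a _ iha =>
    have : g * a⁻¹ * g⁻¹ = (g * a * g⁻¹)⁻¹ := by group
    rw [this]; exact inv_mem iha

/-- If `M C = G` with `C` normal and `M` normalizes `Q`, then `Q C` is normal. -/
theorem sup_normal_of_conj_mem {C M Q : Subgroup G} [hC : C.Normal] (hMC : M ⊔ C = ⊤)
    (hQ : ∀ a ∈ M, ∀ q ∈ Q, a * q * a⁻¹ ∈ Q) : (Q ⊔ C).Normal := by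
  constructor
  intro x hx g
  have hg : g ∈ M ⊔ C := hMC ▸ Subgroup.mem_top g
  rw [← SetLike.mem_coe, Subgroup.mul_normal] at hg
  obtain ⟨a, ha, c, hc, rfl⟩ := Set.mem_mul.mp hg
  have h1 : ∀ y ∈ Q ⊔ C, a * y * a⁻¹ ∈ Q ⊔ C := by
    have hle : Q ⊔ C ≤ (Q ⊔ C).comap (MulAut.conj a).toMonoidHom := by
      apply sup_le
      · intro q hq
        exact Subgroup.mem_sup_left (hQ a ha q hq)
      · intro c hc
        exact Subgroup.mem_sup_right (hC.conj_mem c hc a)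
    intro y hy; exact hle hy
  have h2 : c * x * c⁻¹ ∈ Q ⊔ C :=
    (Q ⊔ C).mul_mem ((Q ⊔ C).mul_mem (Subgroup.mem_sup_right hc) hx)
      ((Q ⊔ C).inv_mem (Subgroup.mem_sup_right hc))
  have h3 := h1 _ h2
  have h4 : a * c * x * (a * c)⁻¹ = a * (c * x * c⁻¹) * a⁻¹ := by group
  rw [h4]; exact h3

/-- Elementwise factorization for `M ⊔ C = ⊤` with `C` normal. -/
theorem exists_mul_of_sup_eq_top {C M : Subgroup G} [hC : C.Normal] (hMC : M ⊔ C = ⊤) (g : G) :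
    ∃ a ∈ M, ∃ c ∈ C, g = a * c := by
  have hg : g ∈ M ⊔ C := hMC ▸ Subgroup.mem_top g
  rw [← SetLike.mem_coe, Subgroup.mul_normal] at hg
  obtain ⟨a, ha, c, hc, rfl⟩ := Set.mem_mul.mp hg
  exact ⟨a, ha, c, hc, rfl⟩

/-- If `O_p(G/C) = 1`, `M C = G`, `M` normalizes `Q` and `Q` is a `p`-group modulo `C`,
then `Q ≤ C`. -/
theorem le_of_reduced_of_sup {C M Q : Subgroup G} [hC : C.Normal]
    (hO : pCore p (G ⧸ C) = ⊥) (hMC : M ⊔ C = ⊤)
    (hQ : ∀ a ∈ M, ∀ q ∈ Q, a * q * a⁻¹ ∈ Q) (hpow : ∀ q ∈ Q, ∃ k : ℕ, q ^ p ^ k ∈ C) :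
    Q ≤ C := by
  have hn : (Q ⊔ C).Normal := sup_normal_of_conj_mem hMC hQ
  have : Q ⊔ C ≤ C := by
    apply le_of_pCore_quotient_eq_bot hO hn
    intro d hd
    rw [← SetLike.mem_coe, Subgroup.mul_normal] at hd
    obtain ⟨q, hq, c, hc, rfl⟩ := Set.mem_mul.mp hd
    obtain ⟨k, hk⟩ := hpow q hq
    refine ⟨k, ?_⟩
    rw [← QuotientGroup.eq_one_iff, QuotientGroup.mk_pow, QuotientGroup.mk_mul,
      (QuotientGroup.eq_one_iff c).mpr hc, mul_one, ← QuotientGroup.mk_pow]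
    exact (QuotientGroup.eq_one_iff _).mpr hk
  exact le_sup_left.trans this

theorem frattini_inf [Finite G] [Fact p.Prime] (T : Sylow p G) (C : Subgroup G) [C.Normal] :
    Subgroup.normalizer (((T : Subgroup G) ⊓ C : Subgroup G) : Set G) ⊔ C = ⊤ := by
  obtain ⟨P, hP⟩ := exists_sylow_subgroupOf_normal T C
  have := Sylow.normalizer_sup_eq_top P
  rw [hP, Subgroup.subgroupOf_map_subtype] at this
  exact this

end Cfsg.Agent.Helper46
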