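import Mathlib
import Cfsg.Prelude.Def_EvenType
import Cfsg.Agent.Lib.Helper46.PCore
import Cfsg.Agent.Lib.Helper46.SylowLemmas

set_option autoImplicit false

namespace Cfsg.Agent.Helper46

open Cfsg

variable {H : Type*} [Group H] {p : ℕ}

theorem mem_map_conj {A : Subgroup H} {g x : H} :
    x ∈ A.map (MulAut.conj g).toMonoidHom ↔ g⁻¹ * x * g ∈ A := by
  rw [Subgroup.mem_map_equiv, MulAut.conj_symm_apply]

theorem map_conj_ne_bot {A : Subgroup H} (g : H) (hA : A ≠ ⊥) :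
    A.map (MulAut.conj g).toMonoidHom ≠ ⊥ := by
  intro h
  apply hA
  rw [eq_bot_iff] at h ⊢
  intro a ha
  have : g * a * g⁻¹ ∈ A.map (MulAut.conj g).toMonoidHom := by
    rw [mem_map_conj]
    have : g⁻¹ * (g * a * g⁻¹) * g = a := by group
    rw [this]; exact ha
  have h2 := h this
  rw [Subgroup.mem_bot] at h2 ⊢
  have : a = g⁻¹ * (g * a * g⁻¹) * g := by group
  rw [this, h2]; group

/-- A nontrivial finite `p`-group has `p`-rank at least one. -/
theorem not_pRankLE_zero_iff [Finite H] [Fact p.Prime] {Q : Subgroup H} (hQ : IsPGroup p Q) :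
    ¬ PRankLE p 0 ↥Q ↔ Q ≠ ⊥ := by
  constructor
  · intro h hbot
    apply h
    intro A _ _
    have h1 : Nat.card A ≤ Nat.card Q := Subgroup.card_le_card_group A
    have h2 : Nat.card Q = 1 := Subgroup.card_eq_one.mpr hbot
    simpa [h2] using h1
  · intro hne h
    have hdvd : p ∣ Nat.card Q := by
      rcases hQ.card_eq_or_dvd with h1 | h1
      · exact absurd (Subgroup.card_eq_one.mp h1) hne
      · exact h1
    obtain ⟨y, hy⟩ := exists_prime_orderOf_dvd_card' p hdvd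
    have hA := h (Subgroup.zpowers y) inferInstance (by
      intro a ha
      obtain ⟨k, rfl⟩ := Subgroup.mem_zpowers_iff.mp ha
      rw [← zpow_natCast, ← zpow_mul, mul_comm, zpow_mul, zpow_natCast, ← hy, pow_orderOf_eq_one,
        one_zpow])
    rw [Nat.card_zpowers, hy, pow_zero] at hA
    exact absurd hA (by have := (Fact.out : p.Prime).two_le; omega)

theorem kGeneratedCore_one_le_iff [Finite H] [Fact p.Prime] {P M : Subgroup H}
    (hP : IsPGroup p P) :
    kGeneratedCore p 1 P ≤ M ↔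
      ∀ Q : Subgroup H, Q ≤ P → Q ≠ ⊥ → Subgroup.normalizer (Q : Set H) ≤ M := by
  unfold kGeneratedCore
  rw [iSup_le_iff]
  constructor
  · intro h Q hQP hQ
    exact h ⟨Q, hQP, (not_pRankLE_zero_iff (hP.to_le hQP)).mpr hQ⟩
  · rintro h ⟨Q, hQP, hQ⟩
    exact h Q hQP ((not_pRankLE_zero_iff (hP.to_le hQP)).mp hQ)

/-- The normalizer property: normalizers of nontrivial `p`-subgroups of `M` lie in `M`. -/
def NormProp (p : ℕ) (M : Subgroup H) : Prop :=
  ∀ A : Subgroup H, A ≤ M → IsPGroup p A → A ≠ ⊥ → Subgroup.normalizer (A : Set H) ≤ M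

theorem normalizer_map_conj (A : Subgroup H) (g : H) :
    Subgroup.normalizer ((A.map (MulAut.conj g).toMonoidHom : Subgroup H) : Set H) =
      (Subgroup.normalizer (A : Set H)).map (MulAut.conj g).toMonoidHom :=
  (Subgroup.map_equiv_normalizer_eq A (MulAut.conj g)).symm

/-- Sylow conjugacy inside a subgroup `M` containing a Sylow `p`-subgroup `P` of the whole
group. -/
theorem exists_conj_le_sylow_of_le [Finite H] [Fact p.Prime] {M : Subgroup H} (P : Sylow p H)
    (hPM : (P : Subgroup H) ≤ M) {A : Subgroup H} (hAM : A ≤ M) (hA : IsPGroup p A) :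
    ∃ m ∈ M, ∀ a ∈ A, m * a * m⁻¹ ∈ (P : Subgroup H) := by
  have hA' : IsPGroup p (A.subgroupOf M) := hA.comap_subtype
  obtain ⟨R, hR⟩ := hA'.exists_le_sylow
  obtain ⟨m, hm⟩ := MulAction.exists_smul_eq M R (P.subtype hPM)
  have h1 : ((P.subtype hPM : Sylow p M) : Subgroup M) =
      (R : Subgroup M).map (MulAut.conj m).toMonoidHom := by
    rw [← hm]; rfl
  refine ⟨m, m.2, fun a ha => ?_⟩
  have h2 : (⟨a, hAM ha⟩ : M) ∈ (R : Subgroup M) := hR ha
  have h3 : m * ⟨a, hAM ha⟩ * m⁻¹ ∈ (R : Subgroup M).map (MulAut.conj m).toMonoidHom :=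
    ⟨_, h2, rfl⟩
  rw [← h1] at h3
  exact h3

theorem normalizer_le_of_conj {M A : Subgroup H} {m : H} (hm : m ∈ M)
    (h : Subgroup.normalizer ((A.map (MulAut.conj m).toMonoidHom : Subgroup H) : Set H) ≤ M) :
    Subgroup.normalizer (A : Set H) ≤ M := by
  intro g hg
  rw [normalizer_map_conj] at h
  have h1 : m * g * m⁻¹ ∈ M := h ⟨g, hg, rfl⟩
  have h2 := M.mul_mem (M.mul_mem (M.inv_mem hm) h1) hm
  have h3 : m⁻¹ * (m * g * m⁻¹) * m = g := by group
  rwa [h3] at h2

theorem map_conj_le_of_forall {A B : Subgroup H} {m : H} (h : ∀ a ∈ A, m * a * m⁻¹ ∈ B) :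
    A.map (MulAut.conj m).toMonoidHom ≤ B := by
  rintro x ⟨a, ha, rfl⟩
  exact h a ha

/-- (D) ⇒ (N) -/
theorem normProp_of_spe [Finite H] [Fact p.Prime] {M : Subgroup H}
    (h : IsStronglyPEmbedded p M) : NormProp p M := by
  obtain ⟨hdvd, hM, P, hP⟩ := h
  rw [kGeneratedCore_one_le_iff P.isPGroup'] at hP
  have hPne : (P : Subgroup H) ≠ ⊥ := P.ne_bot_of_dvd_card hdvd
  have hPM : (P : Subgroup H) ≤ M := Subgroup.le_normalizer.trans (hP P le_rfl hPne)
  intro A hAM hA hAne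
  obtain ⟨m, hm, hmA⟩ := exists_conj_le_sylow_of_le P hPM hAM hA
  apply normalizer_le_of_conj hm
  exact hP _ (map_conj_le_of_forall hmA) (map_conj_ne_bot m hAne)

theorem center_sylow_ne_bot [Finite H] [Fact p.Prime] (P : Sylow p H)
    (hP : (P : Subgroup H) ≠ ⊥) :
    (P : Subgroup H) ⊓ Subgroup.centralizer ((P : Subgroup H) : Set H) ≠ ⊥ := by
  have hnt : Nontrivial (P : Subgroup H) := (Subgroup.nontrivial_iff_ne_bot _).mpr hP
  have := P.isPGroup'.center_nontrivial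
  obtain ⟨z, hz⟩ := exists_ne (1 : Subgroup.center (P : Subgroup H))
  intro hbot
  apply hz
  have hzmem : ((z : (P : Subgroup H)) : H) ∈
      (P : Subgroup H) ⊓ Subgroup.centralizer ((P : Subgroup H) : Set H) := by
    refine Subgroup.mem_inf.mpr ⟨(z : (P : Subgroup H)).2, ?_⟩
    rw [Subgroup.mem_centralizer_iff]
    intro x hx
    have := Subgroup.mem_center_iff.mp z.2 ⟨x, hx⟩
    exact congrArg Subtype.val this
  rw [hbot, Subgroup.mem_bot] at hzmem
  apply Subtype.ext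
  apply Subtype.ext
  simpa using hzmem

theorem sylow_le_normalizer_center (P : Subgroup H) :
    P ≤ Subgroup.normalizer ((P ⊓ Subgroup.centralizer (P : Set H) : Subgroup H) : Set H) := by
  rw [Subgroup.le_normalizer_iff]
  intro x hx z hz
  have hzc := Subgroup.mem_centralizer_iff.mp (Subgroup.mem_inf.mp hz).2 x hx
  have : x * z * x⁻¹ = z := by rw [hzc]; group
  rw [this]; exact hz

theorem exists_sylow_le_of_normProp [Finite H] [Fact p.Prime] {M : Subgroup H}
    (hpM : p ∣ Nat.card M) (h : NormProp p M) : ∃ P : Sylow p H, (P : Subgroup H) ≤ M := by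
  obtain ⟨P₀⟩ : Nonempty (Sylow p M) := inferInstance
  have hP₀ne : (P₀ : Subgroup M) ≠ ⊥ := P₀.ne_bot_of_dvd_card hpM
  set P₁ := (P₀ : Subgroup M).map M.subtype with hP₁
  have hP₁M : P₁ ≤ M := Subgroup.map_subtype_le _
  have hP₁p : IsPGroup p P₁ := P₀.isPGroup'.map _
  have hP₁ne : P₁ ≠ ⊥ := by
    intro hb; apply hP₀ne
    exact (Subgroup.map_eq_bot_iff_of_injective _ Subtype.coe_injective).mp hb
  obtain ⟨P, hPP⟩ := hP₁p.exists_le_sylow
  refine ⟨P, ?_⟩
  have hPne : (P : Subgroup H) ≠ ⊥ := fun hb => hP₁ne (le_bot_iff.mp (hb ▸ hPP))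
  set Z := (P : Subgroup H) ⊓ Subgroup.centralizer ((P : Subgroup H) : Set H) with hZ
  have hZne : Z ≠ ⊥ := center_sylow_ne_bot P hPne
  have hZN : Z ≤ Subgroup.normalizer (P₁ : Set H) :=
    (inf_le_right.trans (Subgroup.centralizer_le (SetLike.coe_subset_coe.mpr hPP))).trans
      (Subgroup.centralizer_le_normalizer _)
  have hZM : Z ≤ M := hZN.trans (h P₁ hP₁M hP₁p hP₁ne)
  have hZp : IsPGroup p Z := P.isPGroup'.to_le inf_le_left
  exact (sylow_le_normalizer_center (P : Subgroup H)).trans (h Z hZM hZp hZne)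

/-- (N) ⇒ (D) -/
theorem spe_of_normProp [Finite H] [Fact p.Prime] {M : Subgroup H} (hM : M ≠ ⊤)
    (hpM : p ∣ Nat.card M) (h : NormProp p M) : IsStronglyPEmbedded p M := by
  have hdvd : p ∣ Nat.card H := hpM.trans (Subgroup.card_subgroup_dvd_card M)
  obtain ⟨P, hP⟩ := exists_sylow_le_of_normProp hpM h
  refine ⟨hdvd, hM, P, ?_⟩
  rw [kGeneratedCore_one_le_iff P.isPGroup']
  intro Q hQP hQ
  exact h Q (hQP.trans hP) (P.isPGroup'.to_le hQP) hQ

/-- Fusion control: if `U` and `gUg⁻¹` are nontrivial `p`-subgroups of `M`, then `g ∈ M`. -/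
theorem mem_of_map_conj_le_of_normProp [Finite H] [Fact p.Prime] {M : Subgroup H}
    (h : NormProp p M) (P : Sylow p H) (hPM : (P : Subgroup H) ≤ M)
    {U : Subgroup H} (hUM : U ≤ M) (hUp : IsPGroup p U) (hUne : U ≠ ⊥) {g : H}
    (hg : U.map (MulAut.conj g).toMonoidHom ≤ M) : g ∈ M := by
  have hPne : (P : Subgroup H) ≠ ⊥ := by
    obtain ⟨m, _, hm⟩ := exists_conj_le_sylow_of_le P hPM hUM hUp
    intro hb
    have := map_conj_le_of_forall hm
    rw [hb, le_bot_iff] at this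
    exact map_conj_ne_bot m hUne this
  obtain ⟨m₁, hm₁, h₁⟩ := exists_conj_le_sylow_of_le P hPM hUM hUp
  obtain ⟨m₂, hm₂, h₂⟩ := exists_conj_le_sylow_of_le P hPM hg (hUp.map _)
  set k := m₂ * g * m₁⁻¹ with hk
  suffices hkM : k ∈ M by
    have h3 := M.mul_mem (M.mul_mem (M.inv_mem hm₂) hkM) hm₁
    have h4 : m₂⁻¹ * k * m₁ = g := by rw [hk]; group
    rwa [h4] at h3
  set U₁ := U.map (MulAut.conj m₁).toMonoidHom with hU₁
  have hU₁P : U₁ ≤ P := map_conj_le_of_forall h₁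
  have hU₁ne : U₁ ≠ ⊥ := map_conj_ne_bot m₁ hUne
  set U₂ := U₁.map (MulAut.conj k).toMonoidHom with hU₂
  have hU₂P : U₂ ≤ P := by
    rintro x ⟨a, ⟨u, hu, rfl⟩, rfl⟩
    have := h₂ (g * u * g⁻¹) ⟨u, hu, rfl⟩
    have h5 : (MulAut.conj k).toMonoidHom ((MulAut.conj m₁).toMonoidHom u) =
        m₂ * (g * u * g⁻¹) * m₂⁻¹ := by
      simp only [MulEquiv.toMonoidHom_eq_coe, MonoidHom.coe_coe, MulAut.conj_apply, hk]
      group
    rw [h5]; exact this
  have hU₂ne : U₂ ≠ ⊥ := map_conj_ne_bot k hU₁ne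
  set Z := (P : Subgroup H) ⊓ Subgroup.centralizer ((P : Subgroup H) : Set H) with hZ
  have hZne : Z ≠ ⊥ := center_sylow_ne_bot P hPne
  have hZp : IsPGroup p Z := P.isPGroup'.to_le inf_le_left
  set Z' := Z.map (MulAut.conj k).toMonoidHom with hZ'
  have hZ'ne : Z' ≠ ⊥ := map_conj_ne_bot k hZne
  have hZ'p : IsPGroup p Z' := hZp.map _
  have hZ'C : Z' ≤ Subgroup.centralizer (U₂ : Set H) := by
    rintro z' ⟨z, hz, rfl⟩
    rw [Subgroup.mem_centralizer_iff]
    rintro a' ⟨a, ha, rfl⟩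
    have hc : a * z = z * a :=
      Subgroup.mem_centralizer_iff.mp (Subgroup.mem_inf.mp hz).2 a (hU₁P ha)
    simp only [MulEquiv.toMonoidHom_eq_coe, MonoidHom.coe_coe, MulAut.conj_apply]
    calc k * a * k⁻¹ * (k * z * k⁻¹) = k * (a * z) * k⁻¹ := by group
      _ = k * (z * a) * k⁻¹ := by rw [hc]
      _ = k * z * k⁻¹ * (k * a * k⁻¹) := by group
  have hZ'M : Z' ≤ M := (hZ'C.trans (Subgroup.centralizer_le_normalizer _)).trans
    (h U₂ (hU₂P.trans hPM) (P.isPGroup'.to_le hU₂P) hU₂ne)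
  have hNZ' := h Z' hZ'M hZ'p hZ'ne
  have hP'M : (P : Subgroup H).map (MulAut.conj k).toMonoidHom ≤ M := by
    refine le_trans ?_ hNZ'
    rw [hZ', normalizer_map_conj]
    exact Subgroup.map_mono (sylow_le_normalizer_center (P : Subgroup H))
  obtain ⟨m₃, hm₃, h₃⟩ := exists_conj_le_sylow_of_le P hPM hP'M (P.isPGroup'.map _)
  have hnorm : m₃ * k ∈ Subgroup.normalizer ((P : Subgroup H) : Set H) := by
    apply Subgroup.mem_normalizer_fintype
    intro x hx
    have := h₃ (k * x * k⁻¹) ⟨x, hx, rfl⟩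
    have h6 : m₃ * k * x * (m₃ * k)⁻¹ = m₃ * (k * x * k⁻¹) * m₃⁻¹ := by group
    rw [h6]; exact this
  have h7 : m₃ * k ∈ M := h (P : Subgroup H) hPM P.isPGroup' hPne hnorm
  have h8 := M.mul_mem (M.inv_mem hm₃) h7
  have h9 : m₃⁻¹ * (m₃ * k) = k := by group
  rwa [h9] at h8

/-- (N) ⇒ (C) -/
theorem coprime_inf_conj_of_normProp [Finite H] [Fact p.Prime] {M : Subgroup H}
    (hpM : p ∣ Nat.card M) (h : NormProp p M) :
    ∀ g : H, g ∉ M → ¬ p ∣ Nat.card ↥(M ⊓ M.map (MulAut.conj g).toMonoidHom) := by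
  obtain ⟨P, hPM⟩ := exists_sylow_le_of_normProp hpM h
  intro g hg hdvd
  apply hg
  obtain ⟨x, hx⟩ := exists_prime_orderOf_dvd_card' p hdvd
  have hxM : (x : H) ∈ M := (Subgroup.mem_inf.mp x.2).1
  have hxg : g⁻¹ * (x : H) * g ∈ M := mem_map_conj.mp (Subgroup.mem_inf.mp x.2).2
  have hxo : orderOf (x : H) = p := by rw [Subgroup.orderOf_coe]; exact hx
  set u := g⁻¹ * (x : H) * g with hu
  have huo : orderOf u = p := by
    have h1 := orderOf_injective (MulAut.conj g⁻¹).toMonoidHom (MulAut.conj g⁻¹).injective (x : H)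
    have h2 : (MulAut.conj g⁻¹).toMonoidHom (x : H) = u := by
      simp only [MulEquiv.toMonoidHom_eq_coe, MonoidHom.coe_coe, MulAut.conj_apply, hu, inv_inv]
    rw [h2] at h1
    rw [h1, hxo]
  set U := Subgroup.zpowers u with hU
  have hUM : U ≤ M := (Subgroup.zpowers_le).mpr hxg
  have hUcard : Nat.card U = p := by rw [Nat.card_zpowers, huo]
  have hUp : IsPGroup p U := IsPGroup.of_card (n := 1) (by rw [hUcard, pow_one])
  have hUne : U ≠ ⊥ := by
    intro hb
    have := Subgroup.card_eq_one.mpr hb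
    rw [hUcard] at this
    exact (Fact.out : p.Prime).ne_one this
  apply mem_of_map_conj_le_of_normProp h P hPM hUM hUp hUne
  rw [hU, MonoidHom.map_zpowers, Subgroup.zpowers_le]
  have : (MulAut.conj g).toMonoidHom u = (x : H) := by
    simp only [MulEquiv.toMonoidHom_eq_coe, MonoidHom.coe_coe, MulAut.conj_apply, hu]
    group
  rw [this]; exact hxM

/-- (C) ⇒ (N) -/
theorem normProp_of_coprime_inf_conj [Finite H] [Fact p.Prime] {M : Subgroup H}
    (h : ∀ g : H, g ∉ M → ¬ p ∣ Nat.card ↥(M ⊓ M.map (MulAut.conj g).toMonoidHom)) :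
    NormProp p M := by
  intro A hAM hA hAne g hg
  by_contra hgM
  apply h g hgM
  have hA2 : A ≤ M ⊓ M.map (MulAut.conj g).toMonoidHom := by
    refine le_inf hAM ?_
    intro a ha
    rw [mem_map_conj]
    have := (Subgroup.mem_normalizer_iff.mp (Subgroup.inv_mem _ hg) a).mp ha
    rw [inv_inv] at this
    exact hAM this
  have hdvd : p ∣ Nat.card A := by
    rcases hA.card_eq_or_dvd with h1 | h1
    · exact absurd (Subgroup.card_eq_one.mp h1) hAne
    · exact h1
  exact hdvd.trans (Subgroup.card_dvd_of_le hA2)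

theorem map_conj_map_conj_inv (Q : Subgroup H) (g : H) :
    (Q.map (MulAut.conj g⁻¹).toMonoidHom).map (MulAut.conj g).toMonoidHom = Q := by
  ext x
  rw [mem_map_conj, mem_map_conj]
  have : g⁻¹⁻¹ * (g⁻¹ * x * g) * g⁻¹ = x := by group
  rw [this]

/-- (D) ⇔ (K) -/
theorem spe_iff_exists_conj_le [Finite H] [Fact p.Prime] (T : Sylow p H) {M : Subgroup H}
    (hM : M ≠ ⊤) (hdvd : p ∣ Nat.card H) :
    IsStronglyPEmbedded p M ↔ ∃ g : H,
      (⨆ A : {A : Subgroup H // A ≤ (T : Subgroup H) ∧ A ≠ ⊥},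
        Subgroup.normalizer ((A : Subgroup H) : Set H)).map (MulAut.conj g).toMonoidHom ≤ M := by
  constructor
  · rintro ⟨_, _, P, hP⟩
    rw [kGeneratedCore_one_le_iff P.isPGroup'] at hP
    obtain ⟨g, hg⟩ := MulAction.exists_smul_eq H T P
    have h1 : (P : Subgroup H) = (T : Subgroup H).map (MulAut.conj g).toMonoidHom := by
      rw [← hg]; rfl
    refine ⟨g, ?_⟩
    rw [Subgroup.map_le_iff_le_comap, iSup_le_iff]
    rintro ⟨A, hAT, hAne⟩
    rw [← Subgroup.map_le_iff_le_comap, ← normalizer_map_conj]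
    apply hP
    · rw [h1]; exact Subgroup.map_mono hAT
    · exact map_conj_ne_bot g hAne
  · rintro ⟨g, hg⟩
    rw [Subgroup.map_le_iff_le_comap, iSup_le_iff] at hg
    refine ⟨hdvd, hM, g • T, ?_⟩
    have h1 : ((g • T : Sylow p H) : Subgroup H) =
        (T : Subgroup H).map (MulAut.conj g).toMonoidHom := rfl
    rw [kGeneratedCore_one_le_iff (g • T).isPGroup']
    intro Q hQP hQne
    set A := Q.map (MulAut.conj g⁻¹).toMonoidHom with hA
    have hAQ : A.map (MulAut.conj g).toMonoidHom = Q := map_conj_map_conj_inv Q g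
    have hAT : A ≤ (T : Subgroup H) := by
      intro a ha
      rw [hA, mem_map_conj] at ha
      have := hQP ha
      rw [h1, mem_map_conj] at this
      have h2 : g⁻¹ * (g⁻¹⁻¹ * a * g⁻¹) * g = a := by group
      rwa [h2] at this
    have hAne : A ≠ ⊥ := map_conj_ne_bot g⁻¹ hQne
    have := hg ⟨A, hAT, hAne⟩
    rw [← Subgroup.map_le_iff_le_comap, ← normalizer_map_conj] at this
    simp only at this
    rwa [hAQ] at this

end Cfsg.Agent.Helper46
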