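import Mathlib
import Cfsg.Prelude.Def_Amalgam
import Cfsg.Agent.Lib.Helper46.PCore
import Cfsg.Agent.Lib.Helper46.Omega
import Cfsg.Agent.Lib.Helper46.SPE
import Cfsg.Agent.Lib.Helper46.Amalgam
import Cfsg.Agent.Lib.Helper45.CosetGraph

set_option autoImplicit false

namespace Cfsg.Agent.Helper46

open Cfsg

section transport

variable {A B : Type*} [Group A] [Group B] {p : ℕ}

theorem pCore_map_le_of_mulEquiv (e : A ≃* B) : (pCore p A).map e.toMonoidHom ≤ pCore p B :=
  le_pCore ((pCore_normal p A).map _ e.surjective) (isPGroup_pCore.map _)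

theorem pCore_map_mulEquiv (e : A ≃* B) : (pCore p A).map e.toMonoidHom = pCore p B := by
  apply le_antisymm (pCore_map_le_of_mulEquiv e)
  intro b hb
  have h1 := pCore_map_le_of_mulEquiv (p := p) e.symm
  have h2 : e.symm b ∈ pCore p A := h1 ⟨b, hb, rfl⟩
  exact ⟨e.symm b, h2, by simp⟩

end transport

variable {X : Type*} [Group X] {p : ℕ}

theorem pCoreOf_map_of_injective {Y : Type*} [Group Y] (D : Subgroup X) (f : X →* Y)
    (hf : Function.Injective f) : pCoreOf p (D.map f) = (pCoreOf p D).map f := by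
  unfold pCoreOf
  rw [← pCore_map_mulEquiv (D.equivMapOfInjective f hf), Subgroup.map_map, Subgroup.map_map]
  congr 1

theorem pCoreOf_le (D : Subgroup X) : pCoreOf p D ≤ D := Subgroup.map_subtype_le _

/-- Characteristic `p` in ambient form. -/
def CharPIn (p : ℕ) (D : Subgroup X) : Prop :=
  ∀ y ∈ D, (∀ q ∈ pCoreOf p D, q * y = y * q) → y ∈ pCoreOf p D

theorem charPIn_of_centralizer_le {D : Subgroup X}
    (h : Subgroup.centralizer (pCore p D : Set D) ≤ pCore p D) : CharPIn p D := by
  intro y hy hc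
  have : (⟨y, hy⟩ : D) ∈ Subgroup.centralizer (pCore p D : Set D) := by
    rw [Subgroup.mem_centralizer_iff]
    intro q0 hq0
    apply Subtype.ext
    exact hc q0 ⟨q0, hq0, rfl⟩
  exact ⟨⟨y, hy⟩, h this, rfl⟩

theorem charPIn_map_conj {D : Subgroup X} (h : CharPIn p D) (x : X) :
    CharPIn p (D.map (MulAut.conj x).toMonoidHom) := by
  intro y hy hc
  rw [pCoreOf_map_of_injective D _ (MulAut.conj x).injective] at hc ⊢
  rw [mem_map_conj] at hy ⊢
  apply h _ hy
  intro q hq
  have h1 := hc (x * q * x⁻¹) ⟨q, hq, rfl⟩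
  calc q * (x⁻¹ * y * x) = x⁻¹ * ((x * q * x⁻¹) * y) * x := by group
    _ = x⁻¹ * (y * (x * q * x⁻¹)) * x := by rw [h1]
    _ = x⁻¹ * y * x * q := by group

theorem charPIn_stabilizer {M₁ M₂ : Subgroup X} (h : IsCharPAmalgamPair p M₁ M₂)
    (δ : CosetVertex M₁ M₂) : CharPIn p (MulAction.stabilizer X δ) := by
  obtain ⟨_, _, _, _, _, _, hc1, hc2⟩ := h
  rcases δ with q | q
  · induction q using QuotientGroup.induction_on with
    | H x =>
      rw [Cfsg.Agent.Helper45.stab_inl]
      exact charPIn_map_conj (charPIn_of_centralizer_le hc1) x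
  · induction q using QuotientGroup.induction_on with
    | H x =>
      rw [Cfsg.Agent.Helper45.stab_inr]
      exact charPIn_map_conj (charPIn_of_centralizer_le hc2) x

theorem finite_stabilizer {M₁ M₂ : Subgroup X} (h : IsCharPAmalgamPair p M₁ M₂)
    (δ : CosetVertex M₁ M₂) : Finite (MulAction.stabilizer X δ) := by
  obtain ⟨_, hf1, hf2, _⟩ := h
  rcases δ with q | q
  · induction q using QuotientGroup.induction_on with
    | H x =>
      rw [Cfsg.Agent.Helper45.stab_inl]
      exact Finite.of_equiv M₁ (Subgroup.equivMapOfInjective M₁ _ (MulAut.conj x).injective).toEquiv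
  · induction q using QuotientGroup.induction_on with
    | H x =>
      rw [Cfsg.Agent.Helper45.stab_inr]
      exact Finite.of_equiv M₂ (Subgroup.equivMapOfInjective M₂ _ (MulAut.conj x).injective).toEquiv

/-- In a subgroup of characteristic `p`, `Z_D ≤ O_p(D)`. -/
theorem sylowCenterClosure_le_pCoreOf {D : Subgroup X} (h : CharPIn p D) :
    sylowCenterClosure p D ≤ pCoreOf p D := by
  unfold sylowCenterClosure
  apply iSup_le
  intro S
  refine (omegaOne_le _).trans ?_
  intro z hz
  obtain ⟨hz1, hz2⟩ := Subgroup.mem_inf.mp hz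
  have hzD : z ∈ D := Subgroup.map_subtype_le _ hz1
  apply h z hzD
  intro q hq
  have hqS : q ∈ (S : Subgroup D).map D.subtype := by
    obtain ⟨q0, hq0, rfl⟩ := hq
    exact ⟨q0, pCore_le_sylow S hq0, rfl⟩
  exact Subgroup.mem_centralizer_iff.mp hz2 q hqS

theorem map_conj_omegaOne_le {H H' : Subgroup X} {g : X} (hg : ∀ x ∈ H, g * x * g⁻¹ ∈ H') :
    ∀ x ∈ omegaOne p H, g * x * g⁻¹ ∈ omegaOne p H' := by
  intro x hx
  induction hx using Subgroup.closure_induction with
  | mem z hz =>
    refine Subgroup.subset_closure ⟨hg z hz.1, ?_⟩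
    rw [conj_pow, hz.2, mul_one, mul_inv_cancel]
  | one => simp
  | mul a b _ _ iha ihb =>
    have : g * (a * b) * g⁻¹ = (g * a * g⁻¹) * (g * b * g⁻¹) := by group
    rw [this]; exact mul_mem iha ihb
  | inv a _ iha =>
    have : g * a⁻¹ * g⁻¹ = (g * a * g⁻¹)⁻¹ := by group
    rw [this]; exact inv_mem iha

/-- `Z_D` is normalized by `D`. -/
theorem conj_mem_sylowCenterClosure {D : Subgroup X} {g : X} (hg : g ∈ D) :
    ∀ z ∈ sylowCenterClosure p D, g * z * g⁻¹ ∈ sylowCenterClosure p D := by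
  intro z hz
  have hle : sylowCenterClosure p D ≤
      (sylowCenterClosure p D).comap (MulAut.conj g).toMonoidHom := by
    unfold sylowCenterClosure
    apply iSup_le
    intro S
    intro w hw
    rw [Subgroup.mem_comap]
    set S₂ : Sylow p D := (⟨g, hg⟩ : D) • S with hS₂
    have hS₂coe : (S₂ : Subgroup D) = (S : Subgroup D).map (MulAut.conj (⟨g, hg⟩ : D)).toMonoidHom :=
      rfl
    have hmem : ∀ s ∈ (S : Subgroup D).map D.subtype,
        g * s * g⁻¹ ∈ (S₂ : Subgroup D).map D.subtype := by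
      rintro s ⟨s0, hs0, rfl⟩
      refine ⟨⟨g, hg⟩ * s0 * ⟨g, hg⟩⁻¹, ?_, rfl⟩
      rw [hS₂coe]
      exact ⟨s0, hs0, rfl⟩
    have hmem' : ∀ s ∈ (S₂ : Subgroup D).map D.subtype,
        g⁻¹ * s * g ∈ (S : Subgroup D).map D.subtype := by
      rintro s ⟨s0, hs0, rfl⟩
      rw [hS₂coe] at hs0
      obtain ⟨t0, ht0, rfl⟩ := hs0
      refine ⟨t0, ht0, ?_⟩
      simp only [MulEquiv.toMonoidHom_eq_coe, MonoidHom.coe_coe, MulAut.conj_apply,
        Subgroup.subtype_apply, Subgroup.coe_mul, Subgroup.coe_inv]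
      group
    have key := map_conj_omegaOne_le (p := p) (g := g)
      (H := (S : Subgroup D).map D.subtype ⊓
        Subgroup.centralizer (((S : Subgroup D).map D.subtype : Subgroup X) : Set X))
      (H' := (S₂ : Subgroup D).map D.subtype ⊓
        Subgroup.centralizer (((S₂ : Subgroup D).map D.subtype : Subgroup X) : Set X)) (by
        intro x hx
        obtain ⟨hx1, hx2⟩ := Subgroup.mem_inf.mp hx
        refine Subgroup.mem_inf.mpr ⟨hmem x hx1, ?_⟩
        rw [Subgroup.mem_centralizer_iff]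
        intro s hs
        have h1 := Subgroup.mem_centralizer_iff.mp hx2 _ (hmem' s hs)
        calc s * (g * x * g⁻¹) = g * ((g⁻¹ * s * g) * x) * g⁻¹ := by group
          _ = g * (x * (g⁻¹ * s * g)) * g⁻¹ := by rw [h1]
          _ = g * x * g⁻¹ * s := by group) w hw
    exact le_iSup (fun S : Sylow p D => omegaOne p ((S : Subgroup D).map D.subtype ⊓
        Subgroup.centralizer (((S : Subgroup D).map D.subtype : Subgroup X) : Set X))) S₂ key
  exact hle hz

theorem exists_adj_dist_eq {V : Type*} (G : SimpleGraph V) {u v : V} {n : ℕ}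
    (h : G.dist u v = n + 1) : ∃ w, G.Adj u w ∧ G.dist w v = n := by
  obtain ⟨p, hp⟩ := G.exists_walk_of_dist_ne_zero (by omega : G.dist u v ≠ 0)
  cases p with
  | nil => rw [SimpleGraph.dist_self] at h; omega
  | cons hadj q =>
    refine ⟨_, hadj, ?_⟩
    rw [SimpleGraph.Walk.length_cons] at hp
    have h1 := SimpleGraph.dist_le q
    have hr : G.Reachable _ v := ⟨q⟩
    obtain ⟨q', hq'⟩ := hr.exists_walk_length_eq_dist
    have h2 := SimpleGraph.dist_le (SimpleGraph.Walk.cons hadj q')
    rw [SimpleGraph.Walk.length_cons, hq'] at h2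
    omega

end Cfsg.Agent.Helper46
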