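import Mathlib
import Cfsg.Agent.Lib.Helper14.SPIDefs

set_option autoImplicit false

/-!
SPI lemma server (helper14, S5961), piece (IRR) `exists_cyclic_of_prime`, by helper46.
The cyclic submodule `Y = {g(x) u}` is `F[X] ⧸ (μ)` with `μ` a prime factor of the `r`-th
cyclotomic polynomial over `F`, whose degree is the order of `q` mod `r`
(`Polynomial.natDegree_of_dvd_cyclotomic_of_irreducible`).
-/

namespace Cfsg.Agent.Helper46.SPI

open Module Polynomial Cfsg.Agent.Helper14.SPI

/-- an `x`-invariant subspace is invariant under every `g(x)` -/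
theorem h46_pow_mem {F V : Type*} [Field F] [AddCommGroup V] [Module F V]
    (x : V →ₗ[F] V) (Z : Submodule F V) (hZx : Z.map x ≤ Z) (n : ℕ) {v : V} (hv : v ∈ Z) :
    (x ^ n) v ∈ Z := by
  induction n with
  | zero => simpa using hv
  | succ n ih =>
    rw [pow_succ', Module.End.mul_apply]
    exact hZx (Submodule.mem_map_of_mem ih)

/-- an `x`-invariant subspace is invariant under every `g(x)` -/
theorem h46_aeval_mem {F V : Type*} [Field F] [AddCommGroup V] [Module F V]
    (x : V →ₗ[F] V) (Z : Submodule F V) (hZx : Z.map x ≤ Z) (g : F[X]) {v : V} (hv : v ∈ Z) :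
    aeval x g v ∈ Z := by
  induction g using Polynomial.induction_on' with
  | add p q hp hq =>
    rw [map_add, LinearMap.add_apply]
    exact Z.add_mem hp hq
  | monomial n a =>
    rw [← C_mul_X_pow_eq_monomial, map_mul, aeval_C, map_pow, aeval_X, Module.End.mul_apply,
      Module.algebraMap_end_apply]
    exact Z.smul_mem a (h46_pow_mem x Z hZx n hv)

/-- (IRR) -/
theorem exists_cyclic_of_prime {F V : Type*} [Field F] [Fintype F] [AddCommGroup V] [Module F V]
    [FiniteDimensional F V] (x : V →ₗ[F] V) (r : ℕ) [Fact r.Prime]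
    (hrq : ¬ r ∣ Fintype.card F) (hxr : x ^ r = 1)
    (Z : Submodule F V) (hZx : Z.map x ≤ Z) (hfpf : ∀ v ∈ Z, x v = v → v = 0)
    (hprime : ∀ g : F[X], (∀ z ∈ Z, aeval x g z = 0) ∨ (∀ z ∈ Z, aeval x g z = 0 → z = 0))
    (u : V) (hu : u ∈ Z) (hu0 : u ≠ 0) :
    ∃ Y : Submodule F V, Y ≤ Z ∧ u ∈ Y ∧ Y.map x ≤ Y ∧
      finrank F Y = orderOf ((Fintype.card F : ℕ) : ZMod r) := by
  classical
  have hrp : r.Prime := Fact.out
  -- the evaluation map
  let φ : F[X] →ₗ[F] V :=
    { toFun := fun g => aeval x g u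
      map_add' := fun a b => by simp
      map_smul' := fun c a => by simp }
  have hφ : ∀ g, φ g = aeval x g u := fun g => rfl
  -- the annihilator ideal
  let I : Ideal F[X] :=
    { carrier := {g | aeval x g u = 0}
      add_mem' := fun {a b} ha hb => by
        simp only [Set.mem_setOf_eq] at ha hb ⊢
        simp [ha, hb]
      zero_mem' := by simp
      smul_mem' := fun c g hg => by
        simp only [Set.mem_setOf_eq] at hg ⊢
        simp [hg] }
  have hI : ∀ g, g ∈ I ↔ aeval x g u = 0 := fun g => Iff.rfl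
  have hIprime : I.IsPrime := by
    rw [Ideal.isPrime_iff]
    refine ⟨?_, ?_⟩
    · intro h
      have h1 : (1 : F[X]) ∈ I := h ▸ Submodule.mem_top
      rw [hI] at h1
      simp at h1
      exact hu0 h1
    · intro a b hab
      rw [hI, map_mul, Module.End.mul_apply] at hab
      rcases hprime a with h0 | hinj
      · left; exact (hI a).2 (h0 u hu)
      · right; exact (hI b).2 (hinj _ (h46_aeval_mem x Z hZx b hu) hab)
  -- the generator
  set μ : F[X] := Submodule.IsPrincipal.generator I with hμdef
  have hspan : Ideal.span {μ} = I := Ideal.span_singleton_generator I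
  have hmem : ∀ g, g ∈ I ↔ μ ∣ g := fun g => Submodule.IsPrincipal.mem_iff_generator_dvd I
  have hXr : (X ^ r - 1 : F[X]) ∈ I := by
    rw [hI]; simp [hxr]
  have hXr0 : (X ^ r - 1 : F[X]) ≠ 0 := by
    have := (monic_X_pow_sub_C (1 : F) hrp.ne_zero).ne_zero
    simpa using this
  have hμ0 : μ ≠ 0 := by
    intro h0
    have := (hmem _).1 hXr
    rw [h0, zero_dvd_iff] at this
    exact hXr0 this
  have hμprime : Prime μ := by
    rw [← Ideal.span_singleton_prime hμ0, hspan]; exact hIprime
  have hdvd : μ ∣ cyclotomic r F := by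
    have h1 : μ ∣ cyclotomic r F * (X - 1) := by
      rw [cyclotomic_prime_mul_X_sub_one]; exact (hmem _).1 hXr
    rcases hμprime.dvd_or_dvd h1 with h | h
    · exact h
    · exfalso
      have h2 := (hI _).1 ((hmem _).2 h)
      simp only [map_sub, aeval_X, map_one, LinearMap.sub_apply, Module.End.one_apply] at h2
      exact hu0 (hfpf u hu (sub_eq_zero.1 h2))
  -- the degree of μ
  obtain ⟨n, hp, hcard⟩ := FiniteField.card F (ringChar F)
  haveI : Fact (ringChar F).Prime := ⟨hp⟩
  have hcop : (ringChar F).Coprime r := by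
    rw [Nat.coprime_primes hp hrp]
    intro h
    apply hrq
    rw [hcard, ← h]
    exact dvd_pow_self _ n.ne_zero
  have hdeg : μ.natDegree = orderOf ((Fintype.card F : ℕ) : ZMod r) := by
    rw [natDegree_of_dvd_cyclotomic_of_irreducible hcard hcop hdvd hμprime.irreducible,
      ← orderOf_units, ZMod.coe_unitOfCoprime, hcard]
  -- the submodule
  refine ⟨LinearMap.range φ, ?_, ?_, ?_, ?_⟩
  · rintro _ ⟨g, rfl⟩
    exact h46_aeval_mem x Z hZx g hu
  · exact ⟨1, by simp [hφ]⟩
  · rintro _ ⟨_, ⟨g, rfl⟩, rfl⟩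
    refine ⟨X * g, ?_⟩
    simp [hφ]
  · have hker : LinearMap.ker φ = (Ideal.span {μ}).restrictScalars F := by
      ext g
      rw [LinearMap.mem_ker, Submodule.restrictScalars_mem, hspan]
      exact Iff.rfl
    rw [← (LinearMap.quotKerEquivRange φ).finrank_eq,
      (Submodule.quotEquivOfEq _ _ hker).finrank_eq,
      (Submodule.Quotient.restrictScalarsEquiv F (Ideal.span {μ})).finrank_eq,
      finrank_quotient_span_eq_natDegree, hdeg]

end Cfsg.Agent.Helper46.SPI
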