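import Mathlib
import Cfsg.Prelude.Def_LocalEven

set_option autoImplicit false

namespace Cfsg.Agent.Helper46

open Cfsg

section sl2

variable {F : Type*} [Field F]

theorem sl2_det (g : Matrix.SpecialLinearGroup (Fin 2) F) :
    (g : Matrix (Fin 2) (Fin 2) F) 0 0 * (g : Matrix (Fin 2) (Fin 2) F) 1 1 - (g : Matrix (Fin 2) (Fin 2) F) 0 1 * (g : Matrix (Fin 2) (Fin 2) F) 1 0 = 1 := by
  have := g.2
  rwa [Matrix.det_fin_two] at this

/-- The upper unitriangular subgroup of `SL₂(F)`. -/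
def upperU (F : Type*) [Field F] : Subgroup (Matrix.SpecialLinearGroup (Fin 2) F) where
  carrier := {g | (g : Matrix (Fin 2) (Fin 2) F) 1 0 = 0 ∧ (g : Matrix (Fin 2) (Fin 2) F) 0 0 = 1}
  one_mem' := by simp
  mul_mem' := by
    rintro a b ⟨ha1, ha2⟩ ⟨hb1, hb2⟩
    simp [Matrix.SpecialLinearGroup.coe_mul, Matrix.mul_apply, Fin.sum_univ_two, ha1, ha2, hb1, hb2]
  inv_mem' := by
    rintro a ⟨ha1, ha2⟩
    have hd := sl2_det a
    rw [ha1, ha2] at hd
    simp only [mul_zero, sub_zero, one_mul] at hd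
    simp [Matrix.SpecialLinearGroup.coe_inv, Matrix.adjugate_fin_two, ha1, hd]

theorem mem_upperU {g : Matrix.SpecialLinearGroup (Fin 2) F} :
    g ∈ upperU F ↔ (g : Matrix (Fin 2) (Fin 2) F) 1 0 = 0 ∧ (g : Matrix (Fin 2) (Fin 2) F) 0 0 = 1 := Iff.rfl

theorem upperU_one_one {g : Matrix.SpecialLinearGroup (Fin 2) F} (hg : g ∈ upperU F) : (g : Matrix (Fin 2) (Fin 2) F) 1 1 = 1 := by
  have hd := sl2_det g
  rw [hg.1, hg.2] at hd
  simpa using hd

/-- The Borel subgroup (upper triangular matrices) of `SL₂(F)`. -/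
def borelB (F : Type*) [Field F] : Subgroup (Matrix.SpecialLinearGroup (Fin 2) F) where
  carrier := {g | (g : Matrix (Fin 2) (Fin 2) F) 1 0 = 0}
  one_mem' := by simp
  mul_mem' := by
    intro a b ha hb
    simp only [Set.mem_ofPred_eq] at ha hb ⊢
    simp [Matrix.SpecialLinearGroup.coe_mul, Matrix.mul_apply, Fin.sum_univ_two, ha, hb]
  inv_mem' := by
    intro a ha
    simp only [Set.mem_ofPred_eq] at ha ⊢
    simp [Matrix.SpecialLinearGroup.coe_inv, Matrix.adjugate_fin_two, ha]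

theorem smul_apply_zero (g : Matrix.SpecialLinearGroup (Fin 2) F) (v : Fin 2 → F) :
    (g • v) 0 = (g : Matrix (Fin 2) (Fin 2) F) 0 0 * v 0 + (g : Matrix (Fin 2) (Fin 2) F) 0 1 * v 1 := by
  have h : g • v = Matrix.mulVec (g : Matrix (Fin 2) (Fin 2) F) v := rfl
  rw [h, Matrix.mulVec, dotProduct, Fin.sum_univ_two]

theorem smul_apply_one (g : Matrix.SpecialLinearGroup (Fin 2) F) (v : Fin 2 → F) :
    (g • v) 1 = (g : Matrix (Fin 2) (Fin 2) F) 1 0 * v 0 + (g : Matrix (Fin 2) (Fin 2) F) 1 1 * v 1 := by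
  have h : g • v = Matrix.mulVec (g : Matrix (Fin 2) (Fin 2) F) v := rfl
  rw [h, Matrix.mulVec, dotProduct, Fin.sum_univ_two]

/-- the unipotent element with upper right entry `b` -/
def unip (b : F) : Matrix.SpecialLinearGroup (Fin 2) F :=
  ⟨!![1, b; 0, 1], by simp [Matrix.det_fin_two]⟩

theorem unip_mem (b : F) : unip b ∈ upperU F := by
  rw [mem_upperU]; simp [unip]

theorem unip_zero_one (b : F) : ((unip b : Matrix.SpecialLinearGroup (Fin 2) F) : Matrix (Fin 2) (Fin 2) F) 0 1 = b := by simp [unip]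

/-- the diagonal element `diag(a, a⁻¹)` -/
def diagD (a : F) (ha : a ≠ 0) : Matrix.SpecialLinearGroup (Fin 2) F :=
  ⟨!![a, 0; 0, a⁻¹], by simp [Matrix.det_fin_two, ha]⟩

theorem diagD_mem (a : F) (ha : a ≠ 0) : diagD a ha ∈ borelB F := by
  change ((diagD a ha : Matrix.SpecialLinearGroup (Fin 2) F) : Matrix (Fin 2) (Fin 2) F) 1 0 = 0
  simp [diagD]

/-- Completing a nonzero vector to a matrix of determinant one. -/
theorem exists_sl2_col {v : Fin 2 → F} (hv : v ≠ 0) :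
    ∃ h : Matrix.SpecialLinearGroup (Fin 2) F, (h : Matrix (Fin 2) (Fin 2) F) 0 0 = v 0 ∧ (h : Matrix (Fin 2) (Fin 2) F) 1 0 = v 1 := by
  by_cases h0 : v 0 = 0
  · have h1 : v 1 ≠ 0 := by
      intro h1
      apply hv
      ext i
      fin_cases i <;> simp [h0, h1]
    refine ⟨⟨!![0, -(v 1)⁻¹; v 1, 0], by simp [Matrix.det_fin_two, h1]⟩, ?_, ?_⟩ <;> simp [h0]
  · refine ⟨⟨!![v 0, 0; v 1, (v 0)⁻¹], by simp [Matrix.det_fin_two, h0]⟩, ?_, ?_⟩ <;> simp

theorem upperU_pow_eq_one {p : ℕ} [CharP F p] {g : Matrix.SpecialLinearGroup (Fin 2) F}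
    (hg : g ∈ upperU F) : g ^ p = 1 := by
  have key : ∀ k : ℕ, ((g ^ k : Matrix.SpecialLinearGroup (Fin 2) F) : Matrix (Fin 2) (Fin 2) F) 1 0 = 0 ∧ ((g ^ k : Matrix.SpecialLinearGroup (Fin 2) F) : Matrix (Fin 2) (Fin 2) F) 0 0 = 1 ∧ ((g ^ k : Matrix.SpecialLinearGroup (Fin 2) F) : Matrix (Fin 2) (Fin 2) F) 1 1 = 1 ∧
      ((g ^ k : Matrix.SpecialLinearGroup (Fin 2) F) : Matrix (Fin 2) (Fin 2) F) 0 1 = k * (g : Matrix (Fin 2) (Fin 2) F) 0 1 := by
    intro k
    induction k with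
    | zero => simp
    | succ k ih =>
      obtain ⟨i1, i2, i3, i4⟩ := ih
      have h11 := upperU_one_one hg
      rw [pow_succ]
      simp only [Matrix.SpecialLinearGroup.coe_mul, Matrix.mul_apply, Fin.sum_univ_two, i1, i2, i3, i4,
        hg.1, hg.2, h11]
      refine ⟨by ring, by ring, by ring, ?_⟩
      push_cast
      ring
  obtain ⟨k1, k2, k3, k4⟩ := key p
  apply Subtype.ext
  ext i j
  fin_cases i <;> fin_cases j
  · simpa using k2
  · simp only [Fin.zero_eta, Fin.mk_one, Fin.isValue]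
    rw [k4, CharP.cast_eq_zero, zero_mul]
    simp
  · simpa using k1
  · simpa using k3

theorem upperU_smul_zero {g : Matrix.SpecialLinearGroup (Fin 2) F} (hg : g ∈ upperU F)
    (w : Fin 2 → F) : (g • w) 0 = w 0 + (g : Matrix (Fin 2) (Fin 2) F) 0 1 * w 1 := by
  rw [smul_apply_zero, hg.2, one_mul]

theorem upperU_smul_one {g : Matrix.SpecialLinearGroup (Fin 2) F} (hg : g ∈ upperU F)
    (w : Fin 2 → F) : (g • w) 1 = w 1 := by
  rw [smul_apply_one, hg.1, upperU_one_one hg, zero_mul, zero_add, one_mul]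

theorem upperU_smul_eq_iff {g : Matrix.SpecialLinearGroup (Fin 2) F} (hg : g ∈ upperU F)
    (w : Fin 2 → F) : g • w = w ↔ (g : Matrix (Fin 2) (Fin 2) F) 0 1 * w 1 = 0 := by
  constructor
  · intro h
    have h0 := congrFun h 0
    rw [upperU_smul_zero hg] at h0
    exact add_eq_left.mp h0
  · intro h
    funext i
    fin_cases i
    · change (g • w) 0 = w 0
      rw [upperU_smul_zero hg, h, add_zero]
    · exact upperU_smul_one hg w

theorem upperU_eq_one_of_zero {g : Matrix.SpecialLinearGroup (Fin 2) F} (hg : g ∈ upperU F)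
    (h : (g : Matrix (Fin 2) (Fin 2) F) 0 1 = 0) : g = 1 := by
  apply Subtype.ext
  ext i j
  fin_cases i <;> fin_cases j
  · simpa using hg.2
  · simpa using h
  · simpa using hg.1
  · simpa using upperU_one_one hg

theorem exists_conj_mem_upperU_of_fixed {b : Fin 2 → F}
    (hb0 : b ≠ 0) :
    ∃ h : Matrix.SpecialLinearGroup (Fin 2) F, (h : Matrix (Fin 2) (Fin 2) F) 0 0 = b 0 ∧
      (h : Matrix (Fin 2) (Fin 2) F) 1 0 = b 1 ∧ ∀ g' : Matrix.SpecialLinearGroup (Fin 2) F, g' • b = b →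
        h⁻¹ * g' * h ∈ upperU F := by
  obtain ⟨h, hh0, hh1⟩ := exists_sl2_col (v := b) hb0
  refine ⟨h, hh0, hh1, fun g hgb => ?_⟩
  set e₀ : Fin 2 → F := ![1, 0] with he₀
  have hhe : h • e₀ = b := by
    funext i
    fin_cases i
    · change (h • e₀) 0 = b 0
      rw [smul_apply_zero, hh0]; simp [he₀]
    · change (h • e₀) 1 = b 1
      rw [smul_apply_one, hh1]; simp [he₀]
  have hM : (h⁻¹ * g * h) • e₀ = e₀ := by
    rw [mul_smul, mul_smul, hhe, hgb, ← hhe, inv_smul_smul]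
  rw [mem_upperU]
  have h1 := congrFun hM 1
  have h2 := congrFun hM 0
  rw [smul_apply_one] at h1
  rw [smul_apply_zero] at h2
  simp only [he₀, Matrix.cons_val_zero, Matrix.cons_val_one, mul_one, mul_zero, add_zero] at h1 h2
  exact ⟨h1, h2⟩

theorem exists_conj_le_upperU [Fintype F] {p : ℕ} [Fact p.Prime] [CharP F p]
    (P : Subgroup (Matrix.SpecialLinearGroup (Fin 2) F)) (hP : IsPGroup p P) :
    ∃ h : Matrix.SpecialLinearGroup (Fin 2) F, ∀ g ∈ P, h⁻¹ * g * h ∈ upperU F := by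
  have hdvd : p ∣ Nat.card (Fin 2 → F) := by
    obtain ⟨n, -, hn⟩ := FiniteField.card F p
    rw [Nat.card_eq_fintype_card, Fintype.card_fun, hn, Fintype.card_fin]
    exact Dvd.dvd.pow (dvd_pow_self p n.ne_zero) (by norm_num)
  have h0 : (0 : Fin 2 → F) ∈ MulAction.fixedPoints P (Fin 2 → F) := by
    intro g
    exact smul_zero _
  obtain ⟨b, hb, hb0⟩ := hP.exists_fixed_point_of_prime_dvd_card_of_fixed_point (Fin 2 → F) hdvd h0
  obtain ⟨h, -, -, hh⟩ := exists_conj_mem_upperU_of_fixed (Ne.symm hb0)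
  exact ⟨h, fun g hg => hh g (hb ⟨g, hg⟩)⟩

theorem borel_conj_mem {B u : Matrix.SpecialLinearGroup (Fin 2) F} (hB : B ∈ borelB F)
    (hu : u ∈ upperU F) : B * u * B⁻¹ ∈ upperU F := by
  have hB' : (B : Matrix (Fin 2) (Fin 2) F) 1 0 = 0 := hB
  have hd := sl2_det B
  rw [hB'] at hd
  simp only [mul_zero, sub_zero] at hd
  rw [mem_upperU]
  simp only [Matrix.SpecialLinearGroup.coe_mul, Matrix.SpecialLinearGroup.coe_inv,
    Matrix.adjugate_fin_two, Matrix.mul_apply, Fin.sum_univ_two, hB', hu.1, hu.2, upperU_one_one hu]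
  constructor
  · simp
  · simp [hd]

theorem diagD_smul_zero (a : F) (ha : a ≠ 0) (w : Fin 2 → F) : (diagD a ha • w) 0 = a * w 0 := by
  rw [smul_apply_zero]; simp [diagD]

theorem diagD_smul_one (a : F) (ha : a ≠ 0) (w : Fin 2 → F) : (diagD a ha • w) 1 = a⁻¹ * w 1 := by
  rw [smul_apply_one]; simp [diagD]

theorem inv_smul_apply_one (g : Matrix.SpecialLinearGroup (Fin 2) F) (w : Fin 2 → F) :
    (g⁻¹ • w) 1 = (g : Matrix (Fin 2) (Fin 2) F) 0 0 * w 1 - (g : Matrix (Fin 2) (Fin 2) F) 1 0 * w 0 := by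
  rw [smul_apply_one]
  simp only [Matrix.SpecialLinearGroup.coe_inv, Matrix.adjugate_fin_two]
  simp
  ring

end sl2

end Cfsg.Agent.Helper46
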