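import Mathlib
import Cfsg.Agent.Lib.Helper93.U20

/-!
# U2 project (S2335), pieces G6a-e: core versions

The group-level statements about `aEl` / `lEl`, with the matrix-level facts
(pieces B2, G1a-c, G2a-b, G3, G4) taken as hypotheses.
-/

set_option autoImplicit false

namespace Cfsg.Agent.Helper46.U2

open Matrix Cfsg.Agent.Helper13 Cfsg.Agent.Helper93.U2

section GRP

variable {F : Type*} [Field F] [Fintype F] {q : ℕ} (hF : Fintype.card F = q ^ 2)

/-- G6a, core -/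
theorem h46_aEl_val_of {n m : ℕ} (fr : Frame hF n m) (ε : F) (a : ↥(hermSub hF m))
    (hdet : (aMat hF fr ε a.1).det = 1)
    (hiso : ∀ u v, Cfsg.hermForm n F q (aMat hF fr ε a.1 *ᵥ u) (aMat hF fr ε a.1 *ᵥ v) =
      Cfsg.hermForm n F q u v) :
    (((aEl hF fr ε a : ↥(Cfsg.SU n F q)) : Matrix.SpecialLinearGroup (Fin n) F) :
      Matrix (Fin n) (Fin n) F) = aMat hF fr ε a.1 := by
  unfold aEl
  exact suOf_val _ hdet hiso

/-- G6b, core -/
theorem h46_lEl_val_of {n m : ℕ} (fr : Frame hF n m) (E : Matrix (Fin m) (Fin m) F)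
    (hdet : (lMat hF fr E).det = 1)
    (hiso : ∀ u v, Cfsg.hermForm n F q (lMat hF fr E *ᵥ u) (lMat hF fr E *ᵥ v) =
      Cfsg.hermForm n F q u v) :
    (((lEl hF fr E : ↥(Cfsg.SU n F q)) : Matrix.SpecialLinearGroup (Fin n) F) :
      Matrix (Fin n) (Fin n) F) = lMat hF fr E := by
  unfold lEl
  exact suOf_val _ hdet hiso

omit [Fintype F] in
/-- equality in `SU` from equality of matrices -/
theorem h46_SU_ext {n : ℕ} {g h : ↥(Cfsg.SU n F q)}
    (e : ((g : Matrix.SpecialLinearGroup (Fin n) F) : Matrix (Fin n) (Fin n) F) =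
      ((h : Matrix.SpecialLinearGroup (Fin n) F) : Matrix (Fin n) (Fin n) F)) : g = h :=
  Subtype.ext (Subtype.ext e)

omit [Fintype F] in
theorem h46_SU_mul_val {n : ℕ} (g h : ↥(Cfsg.SU n F q)) :
    (((g * h : ↥(Cfsg.SU n F q)) : Matrix.SpecialLinearGroup (Fin n) F) :
      Matrix (Fin n) (Fin n) F) =
    ((g : Matrix.SpecialLinearGroup (Fin n) F) : Matrix (Fin n) (Fin n) F) *
      ((h : Matrix.SpecialLinearGroup (Fin n) F) : Matrix (Fin n) (Fin n) F) := by
  rw [Subgroup.coe_mul, Matrix.SpecialLinearGroup.coe_mul]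

/-- G6c, core -/
theorem h46_aEl_add_of {n m : ℕ} (fr : Frame hF n m) (ε : F)
    (hval : ∀ a : ↥(hermSub hF m),
      (((aEl hF fr ε a : ↥(Cfsg.SU n F q)) : Matrix.SpecialLinearGroup (Fin n) F) :
        Matrix (Fin n) (Fin n) F) = aMat hF fr ε a.1)
    (hadd : ∀ H K : Matrix (Fin m) (Fin m) F,
      aMat hF fr ε (H + K) = aMat hF fr ε H * aMat hF fr ε K)
    (a b : ↥(hermSub hF m)) :
    aEl hF fr ε (a + b) = (aEl hF fr ε a * aEl hF fr ε b : ↥(Cfsg.SU n F q)) := by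
  apply h46_SU_ext
  rw [h46_SU_mul_val, hval, hval, hval, AddSubgroup.coe_add, hadd]

/-- G6d, core -/
theorem h46_aEl_injective_of {n m : ℕ} (fr : Frame hF n m) (ε : F)
    (hval : ∀ a : ↥(hermSub hF m),
      (((aEl hF fr ε a : ↥(Cfsg.SU n F q)) : Matrix.SpecialLinearGroup (Fin n) F) :
        Matrix (Fin n) (Fin n) F) = aMat hF fr ε a.1)
    (hinj : ∀ H K : Matrix (Fin m) (Fin m) F, aMat hF fr ε H = aMat hF fr ε K → H = K) :
    Function.Injective (aEl hF fr ε : ↥(hermSub hF m) → ↥(Cfsg.SU n F q)) := by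
  intro a b hab
  apply Subtype.ext
  apply hinj
  rw [← hval a, ← hval b, hab]

/-- G6e, core -/
theorem h46_lEl_conj_of {n m : ℕ} (fr : Frame hF n m) (ε : F)
    (E : Matrix (Fin m) (Fin m) F)
    (hval : ∀ a : ↥(hermSub hF m),
      (((aEl hF fr ε a : ↥(Cfsg.SU n F q)) : Matrix.SpecialLinearGroup (Fin n) F) :
        Matrix (Fin n) (Fin n) F) = aMat hF fr ε a.1)
    (hlval : (((lEl hF fr E : ↥(Cfsg.SU n F q)) : Matrix.SpecialLinearGroup (Fin n) F) :
      Matrix (Fin n) (Fin n) F) = lMat hF fr E)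
    (hcomm : ∀ H : Matrix (Fin m) (Fin m) F, lMat hF fr E * aMat hF fr ε H =
      aMat hF fr ε ((1 + E) * H * cT hF (1 + E)) * lMat hF fr E)
    (a : ↥(hermSub hF m)) :
    (lEl hF fr E * aEl hF fr ε a * (lEl hF fr E)⁻¹ : ↥(Cfsg.SU n F q)) =
      aEl hF fr ε (congH hF (1 + E) a) := by
  rw [mul_inv_eq_iff_eq_mul]
  apply h46_SU_ext
  rw [h46_SU_mul_val, h46_SU_mul_val, hval, hval, hlval, congH_val, hcomm]

end GRP

end Cfsg.Agent.Helper46.U2
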