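import Mathlib
import Cfsg.Prelude.Def_LocalEven
import Cfsg.Agent.Lib.Helper11.ZJ9

/-!
# General lemmas for fusion inductions

* `fusion_frattini`: for `H ⊴ X` and a Sylow `p`-subgroup `R`, every fusion `A → R` by `h` factors as
  `h = n m` with `m ∈ H`, `m A m⁻¹ ⊆ R` and `n ∈ N_X(R ∩ H)`.
* `commute_of_stabilizes_chain`: a `p'`-element stabilizing the chain `B ≥ Q ≥ 1` of a `p`-group centralizes `B`.
-/

set_option autoImplicit false

namespace Cfsg.Agent.Helper46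

open Cfsg
open scoped Pointwise

section fusind

variable {X : Type*} [Group X]

/-- conjugation by `h` maps the closure of `A` into `R` as soon as it maps `A` into `R` -/
theorem conj_closure_mem {R : Subgroup X} {A : Set X} {h : X} (hAh : ∀ a ∈ A, h * a * h⁻¹ ∈ R) :
    ∀ u ∈ Subgroup.closure A, h * u * h⁻¹ ∈ R := by
  intro u hu
  have h1 : (Subgroup.closure A).map (MulAut.conj h).toMonoidHom ≤ R := by
    rw [MonoidHom.map_closure, Subgroup.closure_le]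
    rintro _ ⟨a, ha, rfl⟩
    exact hAh a ha
  exact h1 ⟨u, hu, rfl⟩

/-- A `p'`-element stabilizing the chain `B ≥ Q ≥ 1` of the `p`-group `B` centralizes `B`. -/
theorem commute_of_stabilizes_chain {p : ℕ} [Fact p.Prime] {y : X} {B Q : Subgroup X} (hB : IsPGroup p B)
    (hQB : Q ≤ B) (hy : (orderOf y).Coprime p) (hyQ : ∀ z ∈ Q, y * z = z * y)
    (hyB : ∀ b ∈ B, y * b * y⁻¹ * b⁻¹ ∈ Q) : ∀ b ∈ B, y * b = b * y := by
  intro b hb
  set z := y * b * y⁻¹ * b⁻¹ with hz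
  have hzQ : z ∈ Q := hyB b hb
  have hyb : y * b * y⁻¹ = z * b := by rw [hz]; group
  have hzn : ∀ n : ℕ, y ^ n * z = z * y ^ n := by
    intro n
    induction n with
    | zero => simp
    | succ n ih => rw [pow_succ, mul_assoc, hyQ z hzQ, ← mul_assoc, ih, mul_assoc]
  have hpow : ∀ n : ℕ, y ^ n * b * (y ^ n)⁻¹ = z ^ n * b := by
    intro n
    induction n with
    | zero => simp
    | succ n ih =>
      have e1 : y ^ (n + 1) * b * (y ^ (n + 1))⁻¹ = y ^ n * (y * b * y⁻¹) * (y ^ n)⁻¹ := by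
        rw [pow_succ]; group
      rw [e1, hyb]
      have e2 : y ^ n * (z * b) * (y ^ n)⁻¹ = (y ^ n * z) * (b * (y ^ n)⁻¹) := by group
      rw [e2, hzn n]
      have e3 : z * y ^ n * (b * (y ^ n)⁻¹) = z * (y ^ n * b * (y ^ n)⁻¹) := by group
      rw [e3, ih, pow_succ]
      have e4 : ∀ k : ℕ, z * (z ^ k * b) = z ^ k * z * b := by
        intro k
        rw [← mul_assoc, ← pow_succ', pow_succ]
      exact e4 n
  have h1 := hpow (orderOf y)
  rw [pow_orderOf_eq_one, one_mul, inv_one, mul_one] at h1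
  have hz1 : z ^ orderOf y = 1 := by
    have : z ^ orderOf y * b = 1 * b := by rw [one_mul]; exact h1.symm
    exact mul_right_cancel this
  obtain ⟨k, hk⟩ := (hB.to_le hQB) ⟨z, hzQ⟩
  have hk' : z ^ p ^ k = 1 := by simpa using congrArg Subtype.val hk
  have hco : (orderOf y).Coprime (p ^ k) := Nat.Coprime.pow_right k hy
  have hzo : orderOf z ∣ Nat.gcd (orderOf y) (p ^ k) :=
    Nat.dvd_gcd (orderOf_dvd_of_pow_eq_one hz1) (orderOf_dvd_of_pow_eq_one hk')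
  rw [hco, Nat.dvd_one, orderOf_eq_one_iff] at hzo
  rw [hzo, one_mul] at hyb
  calc y * b = (y * b * y⁻¹) * y := by group
    _ = b * y := by rw [hyb]

variable [Finite X] {p : ℕ} [Fact p.Prime]

/-- Frattini factorization of fusion: for `H ⊴ X`, every fusion `A → R` by `h` factors as `h = n m` with
`m ∈ H`, `m A m⁻¹ ⊆ R` and `n ∈ N_X(R ∩ H)`. -/
theorem fusion_frattini (R : Sylow p X) (H : Subgroup X) [hH : H.Normal] (A : Set X)
    (hA : A ⊆ (R : Subgroup X)) (h : X) (hAh : ∀ a ∈ A, h * a * h⁻¹ ∈ (R : Subgroup X)) :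
    ∃ m ∈ H, ∃ n ∈ Subgroup.normalizer ((((R : Subgroup X) ⊓ H : Subgroup X)) : Set X),
      h = n * m ∧ ∀ a ∈ A, m * a * m⁻¹ ∈ (R : Subgroup X) := by
  set R₁ : Subgroup X := (R : Subgroup X) ⊓ H with hR₁
  set N₁ : Subgroup X := Subgroup.normalizer (R₁ : Set X) with hN₁
  have hRN : (R : Subgroup X) ≤ N₁ := by
    intro r hr
    rw [hN₁, Subgroup.mem_normalizer_iff]
    intro x
    constructor
    · rintro ⟨hx1, hx2⟩
      exact ⟨Subgroup.mul_mem _ (Subgroup.mul_mem _ hr hx1) (Subgroup.inv_mem _ hr), hH.conj_mem x hx2 r⟩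
    · rintro ⟨hx1, hx2⟩
      have e : x = r⁻¹ * (r * x * r⁻¹) * r⁻¹⁻¹ := by group
      rw [e]
      exact ⟨Subgroup.mul_mem _ (Subgroup.mul_mem _ (Subgroup.inv_mem _ hr) hx1)
        (Subgroup.inv_mem _ (Subgroup.inv_mem _ hr)), hH.conj_mem _ hx2 r⁻¹⟩
  have hfr : N₁ ⊔ H = ⊤ := Cfsg.Agent.Helper11.ZJ.frattini_inf R H
  have hh : h ∈ ((N₁ : Set X) * (H : Set X)) := by
    rw [← Subgroup.mul_normal N₁ H, hfr]
    trivial
  obtain ⟨n₀, hn₀, h₀, hh₀, rfl⟩ := hh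
  have hn₀' : n₀ ∈ N₁ := hn₀
  have hh₀' : h₀ ∈ H := hh₀
  set U : Subgroup X := Subgroup.closure A with hU
  have hUR : U ≤ (R : Subgroup X) := (Subgroup.closure_le _).mpr hA
  have hUh : ∀ u ∈ U, (n₀ * h₀) * u * (n₀ * h₀)⁻¹ ∈ (R : Subgroup X) := conj_closure_mem hAh
  set V : Subgroup X := U.map (MulAut.conj h₀).toMonoidHom with hV
  have hVp : IsPGroup p V := (R.isPGroup'.to_le hUR).map _
  set H₂ : Subgroup X := H ⊓ N₁ with hH₂
  have hVY : V ≤ H₂ ⊔ (R : Subgroup X) := by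
    rintro _ ⟨u, hu, rfl⟩
    have hv : h₀ * u * h₀⁻¹ ∈ N₁ := by
      have e : h₀ * u * h₀⁻¹ = n₀⁻¹ * ((n₀ * h₀) * u * (n₀ * h₀)⁻¹) * n₀ := by group
      rw [e]
      exact Subgroup.mul_mem _ (Subgroup.mul_mem _ (Subgroup.inv_mem _ hn₀') (hRN (hUh u hu))) hn₀'
    have hw : h₀ * u * h₀⁻¹ * u⁻¹ ∈ H₂ := by
      refine ⟨?_, Subgroup.mul_mem _ hv (Subgroup.inv_mem _ (hRN (hUR hu)))⟩
      have := hH.conj_mem _ (Subgroup.inv_mem _ hh₀') u
      have e : h₀ * u * h₀⁻¹ * u⁻¹ = h₀ * (u * h₀⁻¹ * u⁻¹) := by group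
      rw [e]
      exact Subgroup.mul_mem _ hh₀' this
    have e : (MulAut.conj h₀).toMonoidHom u = (h₀ * u * h₀⁻¹ * u⁻¹) * u := by
      simp [MulAut.conj_apply]
    rw [e]
    exact Subgroup.mul_mem _ (Subgroup.mem_sup_left hw) (Subgroup.mem_sup_right (hUR hu))
  obtain ⟨y, hy, hVy⟩ := Cfsg.Agent.Helper11.ZJ.exists_smul_le R (H₂ ⊔ (R : Subgroup X)) V le_sup_right hVp hVY
  have hRH₂ : (R : Subgroup X) ≤ Subgroup.normalizer (H₂ : Set X) := by
    intro r hr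
    rw [Subgroup.mem_normalizer_iff]
    intro x
    have hrN : r ∈ N₁ := hRN hr
    constructor
    · rintro ⟨hx1, hx2⟩
      exact ⟨hH.conj_mem x hx1 r, Subgroup.mul_mem _ (Subgroup.mul_mem _ hrN hx2) (Subgroup.inv_mem _ hrN)⟩
    · rintro ⟨hx1, hx2⟩
      have e : x = r⁻¹ * (r * x * r⁻¹) * r⁻¹⁻¹ := by group
      rw [e]
      exact ⟨hH.conj_mem _ hx1 r⁻¹, Subgroup.mul_mem _ (Subgroup.mul_mem _ (Subgroup.inv_mem _ hrN) hx2)
        (Subgroup.inv_mem _ (Subgroup.inv_mem _ hrN))⟩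
  have hy' : y ∈ ((H₂ : Set X) * ((R : Subgroup X) : Set X)) := by
    rw [← Subgroup.coe_mul_of_right_le_normalizer_left H₂ (R : Subgroup X) hRH₂]
    exact hy
  obtain ⟨k, hk, r, hr, rfl⟩ := hy'
  have hk' : k ∈ H₂ := hk
  have hr' : r ∈ (R : Subgroup X) := hr
  refine ⟨k⁻¹ * h₀, Subgroup.mul_mem _ (Subgroup.inv_mem _ hk'.1) hh₀', n₀ * k,
    Subgroup.mul_mem _ hn₀' hk'.2, by group, ?_⟩
  intro a ha
  have hav : h₀ * a * h₀⁻¹ ∈ V := ⟨a, Subgroup.subset_closure ha, by simp [MulAut.conj_apply]⟩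
  obtain ⟨r', hr'R, hr'e⟩ := hVy hav
  have e1 : h₀ * a * h₀⁻¹ = (k * r) * r' * (k * r)⁻¹ := by
    rw [← hr'e]; simp [MulAut.conj_apply]; group
  have e2 : k⁻¹ * h₀ * a * (k⁻¹ * h₀)⁻¹ = k⁻¹ * (h₀ * a * h₀⁻¹) * k := by group
  rw [e2, e1]
  have e3 : k⁻¹ * (k * r * r' * (k * r)⁻¹) * k = r * r' * r⁻¹ := by group
  rw [e3]
  exact Subgroup.mul_mem _ (Subgroup.mul_mem _ hr' hr'R) (Subgroup.inv_mem _ hr')

end fusind

end Cfsg.Agent.Helper46
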