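import Mathlib
import Cfsg.Prelude.Def_LocalEven
import Cfsg.Agent.Lib.Helper46.FusInd1

/-!
# Fusion modulo a normal `p`-subgroup `Q` when `X = R C_X(Q)`

If `X = R C_X(Q)` (`R` a Sylow `p`-subgroup, `Q ⊴ X` a `p`-subgroup), `Q ≤ B ≤ R` with `N_R(B)` a Sylow
`p`-subgroup of `N_X(B)`, and `x ∈ N_X(B)` acts trivially on `B/Q`, then `x ∈ C_X(B) N_R(B)`.
-/

set_option autoImplicit false

namespace Cfsg.Agent.Helper46

open Cfsg

section fusind2

variable {X : Type*} [Group X] [Finite X] {p : ℕ} [Fact p.Prime]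

/-- the `p'`-part of an element: a power of `d` of order prime to `p`, of the form `d ^ p ^ k` -/
theorem exists_pow_coprime (d : X) : ∃ k : ℕ, (orderOf (d ^ p ^ k)).Coprime p := by
  have hp : p.Prime := Fact.out
  have hn : orderOf d ≠ 0 := (orderOf_pos d).ne'
  refine ⟨(orderOf d).factorization p, ?_⟩
  rw [orderOf_pow]
  have h1 : Nat.gcd (orderOf d) (p ^ (orderOf d).factorization p) = p ^ (orderOf d).factorization p :=
    Nat.gcd_eq_right (Nat.ordProj_dvd _ _)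
  rw [h1]
  exact (Nat.coprime_ordCompl hp hn).symm

omit [Finite X] [Fact p.Prime] in
/-- if `X = R C_X(Q)` then every `p'`-element of `X` centralizes `Q` -/
theorem mem_centralizer_of_coprime (R : Sylow p X) (Q : Subgroup X) [hQ : Q.Normal]
    (hXC : ∀ x : X, ∃ r ∈ (R : Subgroup X), ∃ c ∈ Subgroup.centralizer (Q : Set X), x = r * c)
    (y : X) (hy : (orderOf y).Coprime p) : y ∈ Subgroup.centralizer (Q : Set X) := by
  obtain ⟨r, hr, c, hc, rfl⟩ := hXC y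
  set φ := QuotientGroup.mk' (Subgroup.centralizer (Q : Set X)) with hφ
  have hφc : φ c = 1 := by
    rw [hφ, QuotientGroup.mk'_apply, QuotientGroup.eq_one_iff]; exact hc
  have hφy : φ (r * c) = φ r := by rw [map_mul, hφc, mul_one]
  obtain ⟨k, hk⟩ := R.isPGroup' ⟨r, hr⟩
  have hk' : r ^ p ^ k = 1 := by simpa using congrArg Subtype.val hk
  have h1 : φ (r * c) ^ p ^ k = 1 := by rw [hφy, ← map_pow, hk', map_one]
  have h2 : orderOf (φ (r * c)) ∣ orderOf (r * c) := orderOf_map_dvd _ _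
  have h3 : orderOf (φ (r * c)) ∣ p ^ k := orderOf_dvd_of_pow_eq_one h1
  have hco : (orderOf (r * c)).Coprime (p ^ k) := Nat.Coprime.pow_right k hy
  have h4 : orderOf (φ (r * c)) ∣ Nat.gcd (orderOf (r * c)) (p ^ k) := Nat.dvd_gcd h2 h3
  rw [hco, Nat.dvd_one, orderOf_eq_one_iff] at h4
  rw [hφ, QuotientGroup.mk'_apply, QuotientGroup.eq_one_iff] at h4
  exact h4

/-- the subgroup of `N_X(B)` acting trivially on `B/Q` -/
def trivQuotSub (B Q : Subgroup X) [hQ : Q.Normal] : Subgroup X where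
  carrier := {y | y ∈ Subgroup.normalizer (B : Set X) ∧ ∀ b ∈ B, y * b * y⁻¹ * b⁻¹ ∈ Q}
  one_mem' := ⟨Subgroup.one_mem _, fun b _ => by simp⟩
  mul_mem' := by
    rintro y₁ y₂ ⟨h1, h1'⟩ ⟨h2, h2'⟩
    refine ⟨Subgroup.mul_mem _ h1 h2, fun b hb => ?_⟩
    have e : y₁ * y₂ * b * (y₁ * y₂)⁻¹ * b⁻¹ =
        (y₁ * (y₂ * b * y₂⁻¹ * b⁻¹) * y₁⁻¹) * (y₁ * b * y₁⁻¹ * b⁻¹) := by group
    rw [e]
    exact Subgroup.mul_mem _ (hQ.conj_mem _ (h2' b hb) y₁) (h1' b hb)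
  inv_mem' := by
    rintro y ⟨h1, h1'⟩
    refine ⟨Subgroup.inv_mem _ h1, fun b hb => ?_⟩
    have hb' : y⁻¹ * b * y⁻¹⁻¹ ∈ B := (Subgroup.mem_normalizer_iff.mp (Subgroup.inv_mem _ h1) b).mp hb
    have h2 := h1' _ hb'
    have e : y⁻¹ * b * y⁻¹⁻¹ * b⁻¹ = (y * (y⁻¹ * b * y⁻¹⁻¹) * y⁻¹ * (y⁻¹ * b * y⁻¹⁻¹)⁻¹)⁻¹ := by group
    rw [e]
    exact Subgroup.inv_mem _ h2

omit [Finite X] in
theorem mem_trivQuotSub {B Q : Subgroup X} [hQ : Q.Normal] {y : X} :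
    y ∈ trivQuotSub B Q ↔ y ∈ Subgroup.normalizer (B : Set X) ∧ ∀ b ∈ B, y * b * y⁻¹ * b⁻¹ ∈ Q := Iff.rfl

theorem exists_mul_of_quotient_trivial (R : Sylow p X) (Q : Subgroup X) [hQ : Q.Normal]
    (hXC : ∀ x : X, ∃ r ∈ (R : Subgroup X), ∃ c ∈ Subgroup.centralizer (Q : Set X), x = r * c)
    (B : Subgroup X) (hQB : Q ≤ B) (hBR : B ≤ (R : Subgroup X))
    (hfn : ¬ p ∣ ((R : Subgroup X) ⊓ Subgroup.normalizer (B : Set X)).relIndex
      (Subgroup.normalizer (B : Set X)))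
    (x : X) (hxB : x ∈ Subgroup.normalizer (B : Set X)) (hx : ∀ b ∈ B, x * b * x⁻¹ * b⁻¹ ∈ Q) :
    ∃ c ∈ Subgroup.centralizer (B : Set X), ∃ s ∈ (R : Subgroup X) ⊓ Subgroup.normalizer (B : Set X),
      x = c * s := by
  have hBp : IsPGroup p B := R.isPGroup'.to_le hBR
  -- p'-elements of the subgroup centralize `B`
  have hK : ∀ y ∈ trivQuotSub B Q, (orderOf y).Coprime p → y ∈ Subgroup.centralizer (B : Set X) := by
    intro y hy hco
    have hyQ := mem_centralizer_of_coprime R Q hXC y hco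
    have h1 := commute_of_stabilizes_chain hBp hQB hco
      (fun z hz => (Subgroup.mem_centralizer_iff.mp hyQ z hz).symm) hy.2
    rw [Subgroup.mem_centralizer_iff]
    intro b hb
    exact (h1 b hb).symm
  set M : Subgroup X := Subgroup.normalizer (B : Set X) with hM
  set C' : Subgroup ↥M := (Subgroup.centralizer (B : Set X)).subgroupOf M with hC'
  set D' : Subgroup ↥M := (trivQuotSub B Q).subgroupOf M with hD'
  have hD'n : D'.Normal := by
    refine ⟨fun y hy g => ?_⟩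
    have hy' : (y : X) ∈ trivQuotSub B Q := hy
    show ((g * y * g⁻¹ : ↥M) : X) ∈ trivQuotSub B Q
    have e0 : ((g * y * g⁻¹ : ↥M) : X) = (g : X) * (y : X) * (g : X)⁻¹ := by simp
    rw [e0]
    refine ⟨Subgroup.mul_mem _ (Subgroup.mul_mem _ g.2 hy'.1) (Subgroup.inv_mem _ g.2), fun b hb => ?_⟩
    have hb' : (g : X)⁻¹ * b * (g : X)⁻¹⁻¹ ∈ B :=
      (Subgroup.mem_normalizer_iff.mp (Subgroup.inv_mem _ g.2) b).mp hb
    have h2 := hy'.2 _ hb'
    have e : (g : X) * (y : X) * (g : X)⁻¹ * b * ((g : X) * (y : X) * (g : X)⁻¹)⁻¹ * b⁻¹ =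
        (g : X) * ((y : X) * ((g : X)⁻¹ * b * (g : X)⁻¹⁻¹) * (y : X)⁻¹ * ((g : X)⁻¹ * b * (g : X)⁻¹⁻¹)⁻¹) *
          (g : X)⁻¹ := by group
    rw [e]
    exact hQ.conj_mem _ h2 _
  have hpow : ∀ d ∈ D', ∃ k : ℕ, d ^ p ^ k ∈ C' := by
    intro d hd
    have hd' : (d : X) ∈ trivQuotSub B Q := hd
    obtain ⟨k, hk⟩ := exists_pow_coprime (p := p) (d : X)
    refine ⟨k, ?_⟩
    show ((d ^ p ^ k : ↥M) : X) ∈ Subgroup.centralizer (B : Set X)
    rw [Subgroup.coe_pow]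
    exact hK _ (Subgroup.pow_mem _ hd' _) hk
  have hRp : IsPGroup p (((R : Subgroup X) ⊓ M).subgroupOf M) :=
    (R.isPGroup'.to_le inf_le_left).comap_subtype
  have hidx : ¬ p ∣ (((R : Subgroup X) ⊓ M).subgroupOf M).index := hfn
  set T : Sylow p ↥M := hRp.toSylow hidx with hT
  have hTcoe : (T : Subgroup ↥M) = ((R : Subgroup X) ⊓ M).subgroupOf M := IsPGroup.toSylow_coe hRp hidx
  have hxD : (⟨x, hxB⟩ : ↥M) ∈ D' := ⟨hxB, hx⟩
  obtain ⟨c, hc, t, ht, hd⟩ := Cfsg.Agent.Helper11.ZJ.exists_mul_of_pow_mem (N := C') hD'n hpow T _ hxD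
  rw [hTcoe] at ht
  refine ⟨(c : X), hc, (t : X), ht, ?_⟩
  have := congrArg Subtype.val hd
  simpa using this

end fusind2

end Cfsg.Agent.Helper46
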