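import Mathlib
import Cfsg.Prelude.Def_LocalEven
import Cfsg.Agent.Lib.Helper11.ZJ14
import Cfsg.Agent.Lib.Helper46.FusInd2

/-!
# Control of strong fusion by `N(W(D))`: abstract local-to-global steps

`LocalControl 𝒢 Y` says that in the group `Y`, for every Sylow `p`-subgroup `R` and every strongly closed `D ≤ R`,
the normalizer of `W(D)` controls strong fusion in `R`.
-/

set_option autoImplicit false
set_option linter.unusedSectionVars false

namespace Cfsg.Agent.Helper46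

open Cfsg Cfsg.Agent.Helper11.ZJ

universe u

variable {p : ℕ} [Fact p.Prime] (𝒢 : GoodSys.{u} p)

/-- In the group `Y`: for every Sylow `p`-subgroup `R` and every strongly closed `D ≤ R`, the subgroup
`N_Y(W(D))` controls strong fusion in `R`. -/
def LocalControl (Y : Type u) [Group Y] : Prop :=
  ∀ (R : Sylow p Y) (D : Subgroup Y), IsStronglyClosed D (R : Subgroup Y) →
    ∀ (A : Set Y) (h : Y), A ⊆ (R : Subgroup Y) → (∀ a ∈ A, h * a * h⁻¹ ∈ (R : Subgroup Y)) →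
      ∃ x ∈ Subgroup.normalizer ((W (𝒢.Good Y) D : Subgroup Y) : Set Y), ∀ a ∈ A, x * a * x⁻¹ = h * a * h⁻¹

variable {X : Type u} [Group X] [Finite X]

/-- `W` of a subgroup of `Y ≤ X`, computed in `Y`, maps to `W` computed in `X`. -/
theorem W_subgroupOf_map (Y D : Subgroup X) (hDY : D ≤ Y) :
    (W (𝒢.Good ↥Y) (D.subgroupOf Y)).map Y.subtype = W (𝒢.Good X) D := by
  have hker : Y.subtype.ker ⊓ D.subgroupOf Y = ⊥ := by
    rw [Subgroup.ker_subtype, bot_inf_eq]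
  have hWmap := W_map_of_injOn (𝒢.ax ↥Y) Y.subtype (D.subgroupOf Y) hker
    (Good' := 𝒢.Good X)
    (fun Y' _ hY' => 𝒢.push _ Y' hY') (fun Y' _ hY' => 𝒢.pull _ _ hker Y' hY')
  have hmapD : (D.subgroupOf Y).map Y.subtype = D := by
    rw [Subgroup.subgroupOf_map_subtype]
    exact inf_eq_left.mpr hDY
  rw [hmapD] at hWmap
  exact hWmap.symm

/-- Control inside a subgroup `Y ≥ R` gives control in `X` for fusion by elements of `Y`. -/
theorem control_of_subgroup (R : Sylow p X) (D : Subgroup X) (hD : IsStronglyClosed D (R : Subgroup X))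
    (Y : Subgroup X) (hRY : (R : Subgroup X) ≤ Y) (hY : LocalControl 𝒢 ↥Y)
    (A : Set X) (m : X) (hm : m ∈ Y) (hA : A ⊆ (R : Subgroup X))
    (hAm : ∀ a ∈ A, m * a * m⁻¹ ∈ (R : Subgroup X)) :
    ∃ y ∈ Subgroup.normalizer ((W (𝒢.Good X) D : Subgroup X) : Set X), ∀ a ∈ A, y * a * y⁻¹ = m * a * m⁻¹ := by
  set RY : Sylow p ↥Y := R.subtype hRY with hRYdef
  have hRYcoe : (RY : Subgroup ↥Y) = (R : Subgroup X).subgroupOf Y := Sylow.coe_subtype _ _
  have hDY : IsStronglyClosed (D.subgroupOf Y) (RY : Subgroup ↥Y) := by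
    rw [hRYcoe]
    refine ⟨fun x hx => ?_, fun x hx g hg => ?_⟩
    · rw [Subgroup.mem_subgroupOf] at hx ⊢
      exact hD.1 hx
    · rw [Subgroup.mem_subgroupOf] at hx hg ⊢
      have h1 : ((g * x * g⁻¹ : ↥Y) : X) = (g : X) * (x : X) * (g : X)⁻¹ := by simp
      rw [h1] at hg ⊢
      exact hD.2 _ hx _ hg
  have hA' : {a : ↥Y | (a : X) ∈ A} ⊆ ((RY : Subgroup ↥Y) : Set ↥Y) := by
    intro a ha
    rw [hRYcoe]
    exact Subgroup.mem_subgroupOf.mpr (hA ha)
  have hAm' : ∀ a ∈ {a : ↥Y | (a : X) ∈ A},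
      (⟨m, hm⟩ : ↥Y) * a * (⟨m, hm⟩ : ↥Y)⁻¹ ∈ (RY : Subgroup ↥Y) := by
    intro a ha
    rw [hRYcoe, Subgroup.mem_subgroupOf]
    have h1 : (((⟨m, hm⟩ : ↥Y) * a * (⟨m, hm⟩ : ↥Y)⁻¹ : ↥Y) : X) = m * (a : X) * m⁻¹ := by simp
    rw [h1]
    exact hAm _ ha
  obtain ⟨x, hx, hxa⟩ := hY RY (D.subgroupOf Y) hDY _ (⟨m, hm⟩ : ↥Y) hA' hAm'
  refine ⟨(x : X), ?_, ?_⟩
  · rw [← W_subgroupOf_map 𝒢 Y D (hD.1.trans hRY)]
    exact Subgroup.le_normalizer_map Y.subtype ⟨x, hx, rfl⟩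
  · intro a ha
    have haY : a ∈ Y := hRY (hA ha)
    have h1 := hxa ⟨a, haY⟩ ha
    have h2 := congrArg (fun y : ↥Y => (y : X)) h1
    simpa using h2

/-- Local control in the normalizer of a fully normalized subgroup, from `LocalControl` of that normalizer. -/
theorem controlsStrongFusionIn_normalizer_of_local (S : Sylow p X) (D : Subgroup X)
    (hD : IsStronglyClosed D (S : Subgroup X)) (hDne : D ≠ ⊥)
    (T : Subgroup X) (hTS : T ≤ (S : Subgroup X))
    (hloc : LocalControl 𝒢 ↥(Subgroup.normalizer (T : Set X)))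
    (hsyl : ¬ p ∣ ((S : Subgroup X) ⊓ Subgroup.normalizer (T : Set X)).relIndex
      (Subgroup.normalizer (T : Set X))) :
    ControlsStrongFusionIn p (scFunctor (𝒢.Good X) D) (Subgroup.normalizer (T : Set X)) := by
  set M : Subgroup X := Subgroup.normalizer (T : Set X) with hM
  set RG : Subgroup X := (S : Subgroup X) ⊓ M with hRG
  have hRGp : IsPGroup p RG := S.isPGroup'.to_le inf_le_left
  refine ⟨RG, inf_le_right, hRGp, hsyl, ?_⟩
  intro A h hhM hA hAh
  have hRXp : IsPGroup p (RG.subgroupOf M) := hRGp.comap_subtype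
  have hidx : ¬ p ∣ (RG.subgroupOf M).index := hsyl
  set R : Sylow p ↥M := hRXp.toSylow hidx with hR
  have hRcoe : (R : Subgroup ↥M) = RG.subgroupOf M := IsPGroup.toSylow_coe hRXp hidx
  have hDX : IsStronglyClosed ((D ⊓ RG).subgroupOf M) (R : Subgroup ↥M) := by
    rw [hRcoe]
    refine ⟨fun x hx => ?_, fun x hx g hg => ?_⟩
    · rw [Subgroup.mem_subgroupOf] at hx ⊢
      exact hx.2
    · rw [Subgroup.mem_subgroupOf] at hx hg ⊢
      have h1 : ((g * x * g⁻¹ : ↥M) : X) = (g : X) * (x : X) * (g : X)⁻¹ := by simp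
      rw [h1] at hg ⊢
      exact ⟨hD.2 _ hx.1 _ hg.1, hg⟩
  have hA' : {a : ↥M | (a : X) ∈ A} ⊆ ((R : Subgroup ↥M) : Set ↥M) := by
    intro a ha
    rw [hRcoe]
    exact Subgroup.mem_subgroupOf.mpr (hA ha)
  have hAh' : ∀ a ∈ {a : ↥M | (a : X) ∈ A},
      (⟨h, hhM⟩ : ↥M) * a * (⟨h, hhM⟩ : ↥M)⁻¹ ∈ (R : Subgroup ↥M) := by
    intro a ha
    rw [hRcoe, Subgroup.mem_subgroupOf]
    have h1 : (((⟨h, hhM⟩ : ↥M) * a * (⟨h, hhM⟩ : ↥M)⁻¹ : ↥M) : X) = h * (a : X) * h⁻¹ := by simp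
    rw [h1]
    exact hAh ⟨(a : X), ha, rfl⟩
  obtain ⟨x, hx, hxa⟩ := hloc R _ hDX _ (⟨h, hhM⟩ : ↥M) hA' hAh'
  have hWmap := W_subgroupOf_map 𝒢 M (D ⊓ RG) (inf_le_right.trans inf_le_right)
  have hgen : Dgen D RG = D ⊓ RG := Dgen_eq_inf hD inf_le_left
  have hne : Dgen D RG ≠ ⊥ := by
    rw [hgen]; exact sc_inf_normalizer_ne_bot hD hDne T hTS
  refine ⟨(x : X), ⟨x.2, ?_⟩, ?_⟩
  · rw [scFunctor_of_ne hne, hgen, ← hWmap]
    exact Subgroup.le_normalizer_map M.subtype ⟨x, hx, rfl⟩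
  · intro a ha
    have haM : a ∈ M := (hA ha).2
    have h1 := hxa ⟨a, haM⟩ ha
    have h2 := congrArg (fun y : ↥M => (y : X)) h1
    simpa using h2

/-- If all normalizers of nontrivial fully normalized subgroups of `P` have `LocalControl`, then `N_X(W(D))` controls
strong fusion in `P`. -/
theorem control_of_locals (P : Sylow p X) (D : Subgroup X)
    (hD : IsStronglyClosed D (P : Subgroup X))
    (hloc : ∀ T : Subgroup X, T ≤ (P : Subgroup X) → T ≠ ⊥ →
      ¬ p ∣ ((P : Subgroup X) ⊓ Subgroup.normalizer (T : Set X)).relIndex (Subgroup.normalizer (T : Set X)) →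
      LocalControl 𝒢 ↥(Subgroup.normalizer (T : Set X)))
    (A : Set X) (h : X) (hA : A ⊆ (P : Subgroup X)) (hAh : ∀ a ∈ A, h * a * h⁻¹ ∈ (P : Subgroup X)) :
    ∃ x ∈ Subgroup.normalizer ((W (𝒢.Good X) D : Subgroup X) : Set X), ∀ a ∈ A, x * a * x⁻¹ = h * a * h⁻¹ := by
  by_cases hDne : D = ⊥
  · refine ⟨h, ?_, fun a _ => rfl⟩
    have hW : W (𝒢.Good X) D = ⊥ := by
      rw [eq_bot_iff, ← hDne]; exact W_le (𝒢.ax X) D
    rw [hW, Subgroup.mem_normalizer_iff]
    intro y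
    rw [Subgroup.mem_bot, Subgroup.mem_bot]
    constructor
    · intro hy; rw [hy]; group
    · intro hy
      have : y = h⁻¹ * (h * y * h⁻¹) * h := by group
      rw [this, hy]; group
  · have hW := isConjugacyFunctor_scFunctor (p := p) (𝒢.ax X) (𝒢.ne_bot X) D
    have hloc' : ∀ T : Subgroup X, T ≠ ⊥ → IsWellPlaced p (scFunctor (𝒢.Good X) D) (P : Subgroup X) T →
        ControlsStrongFusionIn p (scFunctor (𝒢.Good X) D) (Subgroup.normalizer (T : Set X)) := by
      intro T hTne hwp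
      have h0 := hwp.2 0
      rw [Cfsg.Agent.Helper33.functorTower_zero] at h0
      exact controlsStrongFusionIn_normalizer_of_local 𝒢 P D hD hDne T hwp.1 (hloc T hwp.1 hTne h0) h0
    have htop := Cfsg.Agent.S1961.result P _ hW hloc'
    have hall := (Cfsg.Agent.S1967.result P _ hW).mp htop
    have hT : Subgroup.closure A ≤ (P : Subgroup X) := (Subgroup.closure_le _).mpr hA
    have hTg : (Subgroup.closure A).map (MulAut.conj h).toMonoidHom ≤ (P : Subgroup X) := by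
      rw [MonoidHom.map_closure, Subgroup.closure_le]
      rintro _ ⟨a, ha, rfl⟩
      exact hAh a ha
    obtain ⟨n, hn, c, hc', rfl⟩ := hall _ h hT hTg
    have hgen : Dgen D (P : Subgroup X) = D := by
      rw [Dgen_eq_inf hD le_rfl]; exact inf_eq_left.mpr hD.1
    rw [scFunctor_of_ne (by rw [hgen]; exact hDne), hgen] at hn
    refine ⟨n, hn, fun a ha => ?_⟩
    have h1 := (Subgroup.mem_centralizer_iff.mp hc') a (Subgroup.subset_closure ha)
    have e1 : n * c * a * (n * c)⁻¹ = n * (c * a * c⁻¹) * n⁻¹ := by group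
    rw [e1, ← h1]
    group

end Cfsg.Agent.Helper46
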