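import Mathlib
import Cfsg.Prelude.Def_LocalEven
import Cfsg.Agent.Lib.Helper46.FusInd3

/-!
# Lifting control of strong fusion through a normal `p'`-subgroup
-/

set_option autoImplicit false
set_option linter.unusedSectionVars false

namespace Cfsg.Agent.Helper46

open Cfsg Cfsg.Agent.Helper11.ZJ Cfsg.Agent.Helper54

universe u

variable {p : ℕ} [Fact p.Prime] (𝒢 : GoodSys.{u} p)

variable {X : Type u} [Group X] [Finite X]

/-- `K` a normal `p'`-subgroup, `V ≤ N` a `p`-subgroup, `g` conjugating `V` into `N` and acting trivially on `V`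
modulo `K`: the action of `g` on `V` is induced by an element of `N ∩ K`. -/
theorem exists_conj_agree_mod (K : Subgroup X) [hKn : K.Normal] (hK : (Nat.card K).Coprime p)
    (N V : Subgroup X) (hV : IsPGroup p V) (hVN : V ≤ N) (g : X)
    (hg : ∀ v ∈ V, g * v * g⁻¹ ∈ N) (hgK : ∀ v ∈ V, g * v * g⁻¹ * v⁻¹ ∈ K) :
    ∃ c ∈ N ⊓ K, ∀ v ∈ V, c * v * c⁻¹ = g * v * g⁻¹ := by
  have hVK : V ≤ Subgroup.normalizer (K : Set X) := by
    rw [Subgroup.normalizer_eq_top_iff.mpr hKn]; exact le_top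
  have hV' : IsPGroup p (V.map (MulAut.conj g).toMonoidHom) := hV.map _
  have hle : V.map (MulAut.conj g).toMonoidHom ≤ K ⊔ V := by
    rintro _ ⟨v, hv, rfl⟩
    have e1 : (MulAut.conj g).toMonoidHom v = (g * v * g⁻¹ * v⁻¹) * v := by
      simp [MulAut.conj_apply]
    rw [e1]
    exact Subgroup.mul_mem _ (Subgroup.mem_sup_left (hgK v hv)) (Subgroup.mem_sup_right hv)
  obtain ⟨c, hc, hcle⟩ := exists_le_map_conj K V _ hK hV hV' hVK hle
  have hinf : K ⊓ V = ⊥ := inf_eq_bot_of_isPGroup_of_coprime K V hK hV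
  have hcv : ∀ v ∈ V, c * v * c⁻¹ = g * v * g⁻¹ := by
    intro v hv
    obtain ⟨v', hv', hv'e⟩ := hcle ⟨v, hv, rfl⟩
    have e1 : c * v' * c⁻¹ = g * v * g⁻¹ := by simpa [MulAut.conj_apply] using hv'e
    -- `v' = v` since both are congruent modulo `K`
    have h1 : v' * v⁻¹ ∈ K := by
      have h2 : (c * v' * c⁻¹ * v'⁻¹)⁻¹ * (g * v * g⁻¹ * v⁻¹) ∈ K := by
        apply Subgroup.mul_mem _ (Subgroup.inv_mem _ _) (hgK v hv)
        have : c * v' * c⁻¹ * v'⁻¹ = c * (v' * c⁻¹ * v'⁻¹) := by group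
        rw [this]
        exact Subgroup.mul_mem _ hc (hKn.conj_mem _ (Subgroup.inv_mem _ hc) v')
      have e2 : (c * v' * c⁻¹ * v'⁻¹)⁻¹ * (g * v * g⁻¹ * v⁻¹) = v' * v⁻¹ := by
        rw [← e1]; group
      rwa [e2] at h2
    have h3 : v' * v⁻¹ ∈ K ⊓ V := ⟨h1, Subgroup.mul_mem _ hv' (Subgroup.inv_mem _ hv)⟩
    rw [hinf, Subgroup.mem_bot] at h3
    have h4 : v' = v := by
      calc v' = (v' * v⁻¹) * v := by group
        _ = v := by rw [h3, one_mul]
    rw [← e1, h4]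
  obtain ⟨c', hc', hc'v⟩ := exists_conj_agree K hK N V hV hVN c hc (fun v hv => by rw [hcv v hv]; exact hg v hv)
  exact ⟨c', hc', fun v hv => by rw [hc'v v hv, hcv v hv]⟩

/-- Lifting `LocalControl` through a normal `p'`-subgroup. -/
theorem control_of_pPrimeQuotient (K : Subgroup X) [hKn : K.Normal] (hK : (Nat.card K).Coprime p)
    (hq : LocalControl 𝒢 (X ⧸ K)) (R : Sylow p X) (D : Subgroup X)
    (hD : IsStronglyClosed D (R : Subgroup X)) (A : Set X) (h : X)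
    (hA : A ⊆ (R : Subgroup X)) (hAh : ∀ a ∈ A, h * a * h⁻¹ ∈ (R : Subgroup X)) :
    ∃ x ∈ Subgroup.normalizer ((W (𝒢.Good X) D : Subgroup X) : Set X), ∀ a ∈ A, x * a * x⁻¹ = h * a * h⁻¹ := by
  set π := QuotientGroup.mk' K with hπ
  have hsurj := QuotientGroup.mk'_surjective K
  have hDq := sc_quotient K hK R D hD
  rw [← Sylow.coe_mapSurjective hsurj R] at hDq
  have hRcoe : ((R.mapSurjective hsurj : Sylow p (X ⧸ K)) : Subgroup (X ⧸ K)) = (R : Subgroup X).map π :=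
    Sylow.coe_mapSurjective hsurj R
  have hA' : π '' A ⊆ (((R.mapSurjective hsurj : Sylow p (X ⧸ K)) : Subgroup (X ⧸ K)) : Set (X ⧸ K)) := by
    rintro _ ⟨a, ha, rfl⟩
    rw [hRcoe]
    exact Subgroup.mem_map_of_mem _ (hA ha)
  have hAh' : ∀ a' ∈ π '' A, π h * a' * (π h)⁻¹ ∈ ((R.mapSurjective hsurj : Sylow p (X ⧸ K)) : Subgroup (X ⧸ K)) := by
    rintro _ ⟨a, ha, rfl⟩
    rw [hRcoe]
    refine ⟨h * a * h⁻¹, hAh a ha, ?_⟩
    simp only [map_mul, map_inv]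
  obtain ⟨x', hx', hx'a⟩ := hq (R.mapSurjective hsurj) (D.map π) hDq (π '' A) (π h) hA' hAh'
  -- `W` of the image
  have hDp : IsPGroup p D := R.isPGroup'.to_le hD.1
  have hinf : π.ker ⊓ D = ⊥ := by
    rw [hπ, QuotientGroup.ker_mk']
    exact inf_eq_bot_of_isPGroup_of_coprime _ _ hK hDp
  have hWmap := W_map_of_injOn (𝒢.ax X) π D hinf
    (Good' := 𝒢.Good (X ⧸ K))
    (fun Y _ hY => 𝒢.push _ Y hY) (fun Y' _ hY' => 𝒢.pull _ D hinf Y' hY')
  rw [hWmap] at hx'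
  obtain ⟨x₀, rfl⟩ := hsurj x'
  have hZp : IsPGroup p (W (𝒢.Good X) D) := hDp.to_le (W_le (𝒢.ax X) _)
  have hx₀ : ∀ t ∈ W (𝒢.Good X) D, x₀ * t * x₀⁻¹ ∈ W (𝒢.Good X) D ⊔ K := by
    intro t ht
    have h2 : π x₀ * π t * (π x₀)⁻¹ ∈ (W (𝒢.Good X) D).map π :=
      (Subgroup.mem_normalizer_iff.mp hx' _).mp (Subgroup.mem_map_of_mem _ ht)
    obtain ⟨t', ht', h3⟩ := h2
    have h4 : t'⁻¹ * (x₀ * t * x₀⁻¹) ∈ K := by
      rw [← QuotientGroup.eq_one_iff]
      show π (t'⁻¹ * (x₀ * t * x₀⁻¹)) = 1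
      rw [map_mul, map_inv, h3, map_mul, map_mul, map_inv]
      group
    have h5 : x₀ * t * x₀⁻¹ = t' * (t'⁻¹ * (x₀ * t * x₀⁻¹)) := by group
    rw [h5]
    exact Subgroup.mul_mem _ (Subgroup.mem_sup_left ht') (Subgroup.mem_sup_right h4)
  obtain ⟨k, hk, hn⟩ := exists_mul_mem_normalizer K hK _ hZp x₀ hx₀
  set n := x₀ * k with hndef
  set N := Subgroup.normalizer ((W (𝒢.Good X) D : Subgroup X) : Set X) with hN
  have hRN : (R : Subgroup X) ≤ N := (sc_le_normalizer hD).trans (normalizer_le_normalizer_W (𝒢.ax X) D)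
  have hπk : π k = 1 := by
    rw [hπ, QuotientGroup.mk'_apply, QuotientGroup.eq_one_iff]; exact hk
  have hπn : π n = π x₀ := by rw [hndef, map_mul, hπk, mul_one]
  set U := Subgroup.closure A with hU
  have hUR : U ≤ (R : Subgroup X) := (Subgroup.closure_le _).mpr hA
  have hUh : ∀ u ∈ U, h * u * h⁻¹ ∈ (R : Subgroup X) := conj_closure_mem hAh
  -- agreement modulo `K` on the closure
  have hmod : ∀ u ∈ U, π (n * u * n⁻¹) = π (h * u * h⁻¹) := by
    intro u hu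
    induction hu using Subgroup.closure_induction with
    | mem a ha =>
      have := hx'a (π a) ⟨a, ha, rfl⟩
      simp only [map_mul, map_inv, hπn]
      exact this
    | one => simp
    | mul a b _ _ iha ihb =>
      have e1 : n * (a * b) * n⁻¹ = (n * a * n⁻¹) * (n * b * n⁻¹) := by group
      have e2 : h * (a * b) * h⁻¹ = (h * a * h⁻¹) * (h * b * h⁻¹) := by group
      rw [e1, e2, map_mul π (n * a * n⁻¹) (n * b * n⁻¹), map_mul π (h * a * h⁻¹) (h * b * h⁻¹), iha, ihb]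
    | inv a _ iha =>
      have e1 : n * a⁻¹ * n⁻¹ = (n * a * n⁻¹)⁻¹ := by group
      have e2 : h * a⁻¹ * h⁻¹ = (h * a * h⁻¹)⁻¹ := by group
      rw [e1, e2, map_inv, map_inv, iha]
  set V := U.map (MulAut.conj n).toMonoidHom with hV
  have hVp : IsPGroup p V := (R.isPGroup'.to_le hUR).map _
  have hVN : V ≤ N := by
    rintro _ ⟨u, hu, rfl⟩
    have e : (MulAut.conj n).toMonoidHom u = n * u * n⁻¹ := by simp [MulAut.conj_apply]
    rw [e]
    exact Subgroup.mul_mem _ (Subgroup.mul_mem _ hn (hRN (hUR hu))) (Subgroup.inv_mem _ hn)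
  set g := h * n⁻¹ with hgdef
  have hgV : ∀ v ∈ V, g * v * g⁻¹ ∈ N := by
    rintro _ ⟨u, hu, rfl⟩
    have e : g * (MulAut.conj n).toMonoidHom u * g⁻¹ = h * u * h⁻¹ := by
      simp [MulAut.conj_apply, hgdef]; group
    rw [e]
    exact hRN (hUh u hu)
  have hgK : ∀ v ∈ V, g * v * g⁻¹ * v⁻¹ ∈ K := by
    rintro _ ⟨u, hu, rfl⟩
    have e : g * (MulAut.conj n).toMonoidHom u * g⁻¹ * ((MulAut.conj n).toMonoidHom u)⁻¹ =
        (h * u * h⁻¹) * (n * u * n⁻¹)⁻¹ := by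
      simp [MulAut.conj_apply, hgdef]; group
    rw [e, ← QuotientGroup.eq_one_iff, ← QuotientGroup.mk'_apply, ← hπ, map_mul, map_inv, hmod u hu,
      mul_inv_cancel]
  obtain ⟨c, hc, hcv⟩ := exists_conj_agree_mod K hK N V hVp hVN g hgV hgK
  refine ⟨c * n, Subgroup.mul_mem _ hc.1 hn, ?_⟩
  intro a ha
  have hav : n * a * n⁻¹ ∈ V := ⟨a, Subgroup.subset_closure ha, by simp [MulAut.conj_apply]⟩
  have h1 := hcv _ hav
  have e1 : c * n * a * (c * n)⁻¹ = c * (n * a * n⁻¹) * c⁻¹ := by group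
  rw [e1, h1, hgdef]
  group

end Cfsg.Agent.Helper46
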