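import Mathlib
import Cfsg.Prelude.Def_LocalEven
import Cfsg.Agent.Lib.Helper46.FusInd4
import Cfsg.Agent.Lib.Helper33.PComp

/-!
# If `O_{p'}(X) = 1` and `R ∩ O_p(X) C_X(O_p(X))` is normal in `X`, then `X` has characteristic `p`
-/

set_option autoImplicit false
set_option linter.unusedSectionVars false

namespace Cfsg.Agent.Helper46

open Cfsg

variable {p : ℕ} [Fact p.Prime] {X : Type*} [Group X] [Finite X]

theorem le_pPrimeCore {N : Subgroup X} (hN : N.Normal) (h : (Nat.card N).Coprime p) : N ≤ pPrimeCore p X :=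
  le_sSup ⟨hN, h⟩

theorem centralizer_le_pCore_of_normalizer_eq_top (R : Sylow p X) (hK : pPrimeCore p X = ⊥)
    (hN : Subgroup.normalizer ((((R : Subgroup X) ⊓
      (pCore p X ⊔ Subgroup.centralizer (pCore p X : Set X)) : Subgroup X)) : Set X) = ⊤) :
    Subgroup.centralizer (pCore p X : Set X) ≤ pCore p X := by
  set Q := pCore p X with hQ
  have hQn : Q.Normal := Cfsg.Agent.Helper11.ZJ.pCore_normal' p X
  set C := Subgroup.centralizer (Q : Set X) with hC
  have hCn : C.Normal := inferInstance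
  have hQCn : (Q ⊔ C).Normal := inferInstance
  set R₁ := (R : Subgroup X) ⊓ (Q ⊔ C) with hR₁
  have hR₁n : R₁.Normal := Subgroup.normalizer_eq_top_iff.mp hN
  have hR₁Q : R₁ ≤ Q := Cfsg.Agent.Helper11.ZJ.le_pCore' hR₁n (R.isPGroup'.to_le inf_le_left)
  -- Step A: every `p`-subgroup of `C` lies in `Q`
  have hA : ∀ P : Subgroup X, IsPGroup p P → P ≤ C → P ≤ Q := by
    intro P hP hPC x hx
    obtain ⟨S', hS'⟩ := hP.exists_le_sylow
    obtain ⟨g, rfl⟩ := MulAction.exists_smul_eq X R S'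
    have h1 : ((g • R : Sylow p X) : Subgroup X) = (R : Subgroup X).map (MulAut.conj g).toMonoidHom := rfl
    have h2 := hS' hx
    rw [h1] at h2
    obtain ⟨r, hr, hre⟩ := h2
    have hre' : g * r * g⁻¹ = x := by simpa [MulAut.conj_apply] using hre
    have hrQC : r ∈ Q ⊔ C := by
      have e : r = g⁻¹ * x * g⁻¹⁻¹ := by rw [← hre']; group
      rw [e]
      exact hQCn.conj_mem _ (Subgroup.mem_sup_right (hPC hx)) _
    have hrR₁ : r ∈ R₁ := ⟨hr, hrQC⟩
    rw [← hre']
    exact hR₁Q (hR₁n.conj_mem _ hrR₁ g)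
  -- Step B: a Sylow subgroup of `C` is central
  obtain ⟨PC⟩ : Nonempty (Sylow p ↥C) := inferInstance
  have hPCQ : ∀ y ∈ (PC : Subgroup ↥C), (y : X) ∈ Q := by
    intro y hy
    have h1 : IsPGroup p ((PC : Subgroup ↥C).map C.subtype) := PC.isPGroup'.map _
    have h2 : (PC : Subgroup ↥C).map C.subtype ≤ C := by
      rintro _ ⟨z, -, rfl⟩
      exact z.2
    exact hA _ h1 h2 ⟨y, hy, rfl⟩
  have hcentral : (PC : Subgroup ↥C) ≤ Subgroup.center ↥C := by
    intro y hy
    rw [Subgroup.mem_center_iff]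
    intro c
    apply Subtype.ext
    have := Subgroup.mem_centralizer_iff.mp c.2 (y : X) (hPCQ y hy)
    simpa using this.symm
  obtain ⟨H, hHn, hHc, hHcop, hHall⟩ := Cfsg.Agent.Helper33.exists_normal_pcomplement_of_central_sylow PC hcentral
  -- Step C: the complement is a normal `p'`-subgroup of `X`
  have hH'n : (H.map C.subtype).Normal := by
    refine ⟨fun k hk x => ?_⟩
    obtain ⟨k', hk', rfl⟩ := hk
    have hmem : x * (C.subtype k') * x⁻¹ ∈ C := hCn.conj_mem _ k'.2 x
    refine ⟨⟨_, hmem⟩, hHall _ ?_, rfl⟩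
    rw [Subgroup.orderOf_mk, Cfsg.Agent.Helper33.orderOf_conj_eq]
    have h1 : orderOf (C.subtype k') = orderOf (⟨k', hk'⟩ : H) := by
      rw [Subgroup.coe_subtype, Subgroup.orderOf_coe]
      exact (Subgroup.orderOf_mk k' hk').symm
    rw [h1]
    exact Nat.Coprime.coprime_dvd_left (orderOf_dvd_natCard _) hHcop
  have hH'c : (Nat.card (H.map C.subtype)).Coprime p := by
    rw [Subgroup.card_map_of_injective (Subgroup.subtype_injective _)]
    exact hHcop
  have hH'bot : H.map C.subtype = ⊥ := by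
    rw [eq_bot_iff, ← hK]
    exact le_pPrimeCore hH'n hH'c
  have hHbot : H = ⊥ := by
    rw [eq_bot_iff]
    intro y hy
    have : C.subtype y ∈ H.map C.subtype := ⟨y, hy, rfl⟩
    rw [hH'bot, Subgroup.mem_bot] at this
    rw [Subgroup.mem_bot]
    exact Subtype.ext this
  rw [hHbot] at hHc
  have hPCtop : (PC : Subgroup ↥C) = ⊤ := Subgroup.isComplement'_bot_left.mp hHc
  intro c hc
  have : (⟨c, hc⟩ : ↥C) ∈ (PC : Subgroup ↥C) := by rw [hPCtop]; trivial
  exact hPCQ _ this

end Cfsg.Agent.Helper46
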