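import Mathlib
import Cfsg.Prelude.Def_LocalEven
import Cfsg.Agent.Lib.Helper46.FusInd5
import Cfsg.Agent.S1964
import Cfsg.Agent.S1966

/-!
# The case `X = R C_X(O_p(X))` of the fusion induction
-/

set_option autoImplicit false
set_option linter.unusedSectionVars false

namespace Cfsg.Agent.Helper46

open Cfsg Cfsg.Agent.Helper11.ZJ Cfsg.Agent.Helper54
open scoped Pointwise

universe u

section family

variable {X : Type*} [Group X]

/-- Consuming a conjugation family: if every single step is controlled by `Nw`, so is every fusion. -/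
theorem control_of_conjugationFamily {𝓕 : Set (Subgroup X)} {S Nw : Subgroup X}
    (hfam : IsConjugationFamily 𝓕 S)
    (hstep : ∀ T ∈ 𝓕, ∀ x ∈ Subgroup.normalizer (T : Set X), ∃ w ∈ Nw, ∀ b ∈ T, w * b * w⁻¹ = x⁻¹ * b * x)
    (A : Set X) (g : X) (hA : A ⊆ S) (hAg : ∀ a ∈ A, g⁻¹ * a * g ∈ S) :
    ∃ w ∈ Nw, ∀ a ∈ A, w * a * w⁻¹ = g⁻¹ * a * g := by
  by_cases hne : A.Nonempty
  · obtain ⟨n, T, x, hprod, hT, hx, h0, hst⟩ := hfam.2 A g hne hA (by
      rintro _ ⟨a, ha, rfl⟩
      exact hAg a ha)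
    have hP : ∀ k (hk : k < n), ((List.ofFn x).take (k + 1)).prod =
        ((List.ofFn x).take k).prod * x ⟨k, hk⟩ := by
      intro k hk
      rw [List.take_add_one, List.prod_append]
      congr 1
      have : (List.ofFn x)[k]? = some (x ⟨k, hk⟩) := by
        simp [hk]
      rw [this]
      simp
    have hmem : ∀ k (hk : k < n), ∀ a ∈ A,
        (((List.ofFn x).take k).prod)⁻¹ * a * ((List.ofFn x).take k).prod ∈ T ⟨k, hk⟩ := by
      intro k hk a ha
      cases k with
      | zero =>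
        simp only [List.take_zero, List.prod_nil, inv_one, one_mul, mul_one]
        exact h0 hk ha
      | succ j =>
        exact hst ⟨j, by omega⟩ hk ⟨a, ha, rfl⟩
    have key : ∀ k, k ≤ n → ∃ w ∈ Nw, ∀ a ∈ A,
        w * a * w⁻¹ = (((List.ofFn x).take k).prod)⁻¹ * a * ((List.ofFn x).take k).prod := by
      intro k
      induction k with
      | zero =>
        intro _
        exact ⟨1, Nw.one_mem, fun a _ => by simp⟩
      | succ k ih =>
        intro hk
        have hk' : k < n := hk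
        obtain ⟨w, hw, hwa⟩ := ih hk'.le
        obtain ⟨w', hw', hw'b⟩ := hstep (T ⟨k, hk'⟩) (hT _) (x ⟨k, hk'⟩) (hx _)
        refine ⟨w' * w, Nw.mul_mem hw' hw, fun a ha => ?_⟩
        have h1 := hw'b _ (hmem k hk' a ha)
        rw [hP k hk']
        have e1 : w' * w * a * (w' * w)⁻¹ = w' * (w * a * w⁻¹) * w'⁻¹ := by group
        rw [e1, hwa a ha, h1]
        group
    obtain ⟨w, hw, hwa⟩ := key n le_rfl
    refine ⟨w, hw, fun a ha => ?_⟩
    have hfull : (List.ofFn x).take n = List.ofFn x := by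
      apply List.take_of_length_le
      simp
    rw [hwa a ha, hfull, hprod]
  · refine ⟨1, Nw.one_mem, fun a ha => ?_⟩
    exact absurd ⟨a, ha⟩ hne

end family

variable {p : ℕ} [Fact p.Prime] (𝒢 : GoodSys.{u} p)

variable {X : Type u} [Group X] [Finite X]

/-- Strong closure passes to the quotient by a normal `p`-subgroup contained in `R`. -/
theorem sc_quotient_p (Q : Subgroup X) [hQn : Q.Normal] (R D : Subgroup X) (hQR : Q ≤ R)
    (hD : IsStronglyClosed D R) :
    IsStronglyClosed (D.map (QuotientGroup.mk' Q)) (R.map (QuotientGroup.mk' Q)) := by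
  refine ⟨Subgroup.map_mono hD.1, ?_⟩
  rintro _ ⟨d, hd, rfl⟩ g' hg'
  obtain ⟨g, rfl⟩ := QuotientGroup.mk'_surjective Q g'
  obtain ⟨r, hr, hre⟩ := hg'
  have h1 : r⁻¹ * (g * d * g⁻¹) ∈ Q := by
    rw [← QuotientGroup.eq_one_iff, ← QuotientGroup.mk'_apply, map_mul, map_inv, hre]
    simp only [map_mul, map_inv]
    group
  have h2 : g * d * g⁻¹ ∈ R := by
    have e : g * d * g⁻¹ = r * (r⁻¹ * (g * d * g⁻¹)) := by group
    rw [e]
    exact R.mul_mem hr (hQR h1)
  refine ⟨g * d * g⁻¹, hD.2 d hd g h2, ?_⟩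
  simp only [map_mul, map_inv]

/-- membership in the normalizer of a preimage under the quotient map -/
theorem mem_normalizer_comap_mk (Q : Subgroup X) [hQn : Q.Normal] (V : Subgroup (X ⧸ Q)) (x : X) :
    x ∈ Subgroup.normalizer ((V.comap (QuotientGroup.mk' Q) : Subgroup X) : Set X) ↔
      QuotientGroup.mk' Q x ∈ Subgroup.normalizer (V : Set (X ⧸ Q)) := by
  rw [Subgroup.mem_normalizer_iff, Subgroup.mem_normalizer_iff]
  constructor
  · intro h y'
    obtain ⟨y, rfl⟩ := QuotientGroup.mk'_surjective Q y'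
    have := h y
    simp only [Subgroup.mem_comap, map_mul, map_inv] at this
    exact this
  · intro h y
    simp only [Subgroup.mem_comap, map_mul, map_inv]
    exact h _

theorem control_of_RC_eq_top (Q : Subgroup X) [hQn : Q.Normal] (hQ : Q = pCore p X)
    (R : Sylow p X) (D : Subgroup X) (hD : IsStronglyClosed D (R : Subgroup X))
    (hRC : (R : Subgroup X) ⊔ Subgroup.centralizer (Q : Set X) = ⊤)
    (hquot : LocalControl 𝒢 (X ⧸ Q))
    (hsub : ∀ Y : Subgroup X, (R : Subgroup X) ≤ Y → Y ≠ ⊤ → LocalControl 𝒢 ↥Y)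
    (A : Set X) (h : X) (hA : A ⊆ (R : Subgroup X)) (hAh : ∀ a ∈ A, h * a * h⁻¹ ∈ (R : Subgroup X)) :
    ∃ x ∈ Subgroup.normalizer ((W (𝒢.Good X) D : Subgroup X) : Set X), ∀ a ∈ A, x * a * x⁻¹ = h * a * h⁻¹ := by
  have hQR : Q ≤ (R : Subgroup X) := by rw [hQ]; exact pCore_le_sylow' R
  have hQp : IsPGroup p Q := R.isPGroup'.to_le hQR
  by_cases hDQ : D ≤ Q
  · -- `D` is normal in `X`
    refine ⟨h, ?_, fun a _ => rfl⟩
    apply normalizer_le_normalizer_W (𝒢.ax X) D
    apply Subgroup.mem_normalizer_fintype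
    intro d hd
    exact hD.2 d hd h (hQR (hQn.conj_mem d (hDQ hd) h))
  · set π := QuotientGroup.mk' Q with hπ
    have hsurj := QuotientGroup.mk'_surjective Q
    have hRcoe : ((R.mapSurjective hsurj : Sylow p (X ⧸ Q)) : Subgroup (X ⧸ Q)) = (R : Subgroup X).map π :=
      Sylow.coe_mapSurjective hsurj R
    have hDq : IsStronglyClosed (D.map π) ((R.mapSurjective hsurj : Sylow p (X ⧸ Q)) : Subgroup (X ⧸ Q)) := by
      rw [hRcoe]
      exact sc_quotient_p Q _ D hQR hD
    have hDqne : D.map π ≠ ⊥ := by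
      intro h0
      apply hDQ
      intro d hd
      have : π d ∈ D.map π := Subgroup.mem_map_of_mem _ hd
      rw [h0, Subgroup.mem_bot, hπ, QuotientGroup.mk'_apply, QuotientGroup.eq_one_iff] at this
      exact this
    have hDqp : IsPGroup p (D.map π) := (R.isPGroup'.to_le hD.1).map _
    set V := W (𝒢.Good (X ⧸ Q)) (D.map π) with hV
    have hVne : V ≠ ⊥ := 𝒢.ne_bot _ _ hDqp hDqne
    have hVD : V ≤ D.map π := W_le (𝒢.ax _) _
    set T := V.comap π with hT
    have hRbarN : ((R.mapSurjective hsurj : Sylow p (X ⧸ Q)) : Subgroup (X ⧸ Q)) ≤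
        Subgroup.normalizer (V : Set (X ⧸ Q)) :=
      (sc_le_normalizer hDq).trans (normalizer_le_normalizer_W (𝒢.ax _) _)
    have hRT : (R : Subgroup X) ≤ Subgroup.normalizer (T : Set X) := by
      intro r hr
      rw [hT, mem_normalizer_comap_mk]
      apply hRbarN
      rw [hRcoe]
      exact Subgroup.mem_map_of_mem _ hr
    have hTR : T ≤ (R : Subgroup X) := by
      intro t ht
      have h1 : π t ∈ D.map π := hVD ht
      obtain ⟨d, hd, hde⟩ := h1
      have h2 : d⁻¹ * t ∈ Q := by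
        rw [← QuotientGroup.eq_one_iff, ← QuotientGroup.mk'_apply, map_mul, map_inv]
        rw [← hπ, hde]
        group
      have e : t = d * (d⁻¹ * t) := by group
      rw [e]
      exact Subgroup.mul_mem _ (hD.1 hd) (hQR h2)
    have hTne : Subgroup.normalizer (T : Set X) ≠ ⊤ := by
      intro htop
      have hTn : T.Normal := Subgroup.normalizer_eq_top_iff.mp htop
      have hTQ : T ≤ Q := by
        rw [hQ]
        exact le_pCore' hTn (R.isPGroup'.to_le hTR)
      apply hVne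
      rw [eq_bot_iff]
      intro v hv
      obtain ⟨t, rfl⟩ := hsurj v
      have htT : t ∈ T := hv
      have := hTQ htT
      rw [Subgroup.mem_bot, QuotientGroup.mk'_apply, QuotientGroup.eq_one_iff]
      exact this
    set Y := Subgroup.normalizer (T : Set X) with hY
    have hYloc : LocalControl 𝒢 ↥Y := hsub Y hRT hTne
    have hXC : ∀ x : X, ∃ r ∈ (R : Subgroup X), ∃ c ∈ Subgroup.centralizer (Q : Set X), x = r * c := by
      intro x
      have hx : x ∈ (((R : Subgroup X) ⊔ Subgroup.centralizer (Q : Set X) : Subgroup X) : Set X) := by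
        rw [hRC]; trivial
      rw [Subgroup.mul_normal] at hx
      obtain ⟨r, hr, c, hc, rfl⟩ := hx
      exact ⟨r, hr, c, hc, rfl⟩
    -- the conjugation family
    have hW' := isConjugacyFunctor_scFunctor (p := p) (𝒢.ax X) (𝒢.ne_bot X) D
    have hfam := Cfsg.Agent.S1966.result R _ (Cfsg.Agent.S1964.result R _ hW')
    -- the step
    have hstep : ∀ B ∈ {T' : Subgroup X | T' ∈ {T' : Subgroup X |
        IsWellPlaced p (scFunctor (𝒢.Good X) D) (R : Subgroup X) T'} ∧ pCore p X ≤ T'},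
        ∀ x ∈ Subgroup.normalizer (B : Set X),
        ∃ w ∈ Subgroup.normalizer ((W (𝒢.Good X) D : Subgroup X) : Set X),
          ∀ b ∈ B, w * b * w⁻¹ = x⁻¹ * b * x := by
      rintro B ⟨hwp, hQB⟩ x hx
      rw [← hQ] at hQB
      have hBR : B ≤ (R : Subgroup X) := hwp.1
      have hfn := hwp.2 0
      rw [Cfsg.Agent.Helper33.functorTower_zero] at hfn
      have hx' : x⁻¹ ∈ Subgroup.normalizer (B : Set X) := Subgroup.inv_mem _ hx
      have hconjB : ∀ b ∈ B, x⁻¹ * b * x⁻¹⁻¹ ∈ B := fun b hb =>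
        (Subgroup.mem_normalizer_iff.mp hx' b).mp hb
      -- control in the quotient
      have hA' : π '' (B : Set X) ⊆
          (((R.mapSurjective hsurj : Sylow p (X ⧸ Q)) : Subgroup (X ⧸ Q)) : Set (X ⧸ Q)) := by
        rintro _ ⟨b, hb, rfl⟩
        rw [hRcoe]
        exact Subgroup.mem_map_of_mem _ (hBR hb)
      have hAh' : ∀ a' ∈ π '' (B : Set X), π x⁻¹ * a' * (π x⁻¹)⁻¹ ∈
          ((R.mapSurjective hsurj : Sylow p (X ⧸ Q)) : Subgroup (X ⧸ Q)) := by
        rintro _ ⟨b, hb, rfl⟩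
        rw [hRcoe]
        refine ⟨x⁻¹ * b * x⁻¹⁻¹, hBR (hconjB b hb), ?_⟩
        simp only [map_mul, map_inv]
      obtain ⟨n', hn', hn'a⟩ := hquot (R.mapSurjective hsurj) (D.map π) hDq (π '' (B : Set X)) (π x⁻¹) hA' hAh'
      obtain ⟨n₀, rfl⟩ := hsurj n'
      have hn₀Y : n₀ ∈ Y := by
        rw [hY, hT, mem_normalizer_comap_mk]
        exact hn'
      set y := n₀⁻¹ * x⁻¹ with hy
      have hyQ : ∀ b ∈ B, y * b * y⁻¹ * b⁻¹ ∈ Q := by
        intro b hb
        have h1 := hn'a (π b) ⟨b, hb, rfl⟩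
        rw [← QuotientGroup.eq_one_iff, ← QuotientGroup.mk'_apply, ← hπ]
        have e : y * b * y⁻¹ * b⁻¹ = n₀⁻¹ * (x⁻¹ * b * x⁻¹⁻¹) * n₀ * b⁻¹ := by rw [hy]; group
        rw [e]
        simp only [map_mul, map_inv]
        have h2 : π x⁻¹ * π b * (π x⁻¹)⁻¹ = π n₀ * π b * (π n₀)⁻¹ := h1.symm
        simp only [map_inv] at h2
        rw [h2]
        group
      have hyB : y ∈ Subgroup.normalizer (B : Set X) := by
        apply Subgroup.mem_normalizer_fintype
        intro b hb
        have e : y * b * y⁻¹ = (y * b * y⁻¹ * b⁻¹) * b := by group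
        rw [e]
        exact B.mul_mem (hQB (hyQ b hb)) hb
      obtain ⟨c, hc, s, hs, hycs⟩ := exists_mul_of_quotient_trivial R Q hXC B hQB hBR hfn y hyB hyQ
      -- `x⁻¹ = n₀ c s`
      have hx'eq : x⁻¹ = n₀ * (c * s) := by rw [← hycs, hy]; group
      set m := n₀ * s with hm
      have hmY : m ∈ Y := Subgroup.mul_mem _ hn₀Y (hRT hs.1)
      have hmb : ∀ b ∈ B, m * b * m⁻¹ = x⁻¹ * b * x := by
        intro b hb
        have hsb : s * b * s⁻¹ ∈ B := (Subgroup.mem_normalizer_iff.mp hs.2 b).mp hb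
        have hcb := Subgroup.mem_centralizer_iff.mp hc _ hsb
        have e1 : x⁻¹ * b * x = x⁻¹ * b * x⁻¹⁻¹ := by rw [inv_inv]
        rw [e1, hx'eq, hm]
        have e2 : n₀ * (c * s) * b * (n₀ * (c * s))⁻¹ = n₀ * (c * (s * b * s⁻¹) * c⁻¹) * n₀⁻¹ := by group
        rw [e2, ← hcb]
        group
      obtain ⟨w, hw, hwb⟩ := control_of_subgroup 𝒢 R D hD Y hRT hYloc (B : Set X) m hmY hBR (by
        intro b hb
        rw [hmb b hb]
        have := hconjB b hb
        rw [inv_inv] at this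
        exact hBR this)
      exact ⟨w, hw, fun b hb => by rw [hwb b hb, hmb b hb]⟩
    obtain ⟨w, hw, hwa⟩ := control_of_conjugationFamily hfam hstep A h⁻¹ hA (by
      intro a ha
      rw [inv_inv]
      exact hAh a ha)
    refine ⟨w, hw, fun a ha => ?_⟩
    rw [hwa a ha, inv_inv]

end Cfsg.Agent.Helper46
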