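import Mathlib
import Cfsg.Prelude.Def_LocalEven

set_option autoImplicit false

namespace Cfsg.Agent.Helper46

open Cfsg

universe u v w

theorem involves_of_surjective {H : Type u} [Group H] {G : Type v} [Group G] (K : Subgroup G) (f : K →* H)
    (hf : Function.Surjective f) : Cfsg.Involves H G := by
  have hR : (f.ker.map K.subtype).subgroupOf K = f.ker :=
    Subgroup.comap_map_eq_self_of_injective K.subtype_injective _
  have hN : ((f.ker.map K.subtype).subgroupOf K).Normal := by
    rw [hR]; infer_instance
  refine ⟨K, f.ker.map K.subtype, hN, ⟨?_⟩⟩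
  exact (QuotientGroup.quotientMulEquivOfEq hR).trans (QuotientGroup.quotientKerEquivOfSurjective f hf)

theorem exists_surjective_of_involves {H : Type u} [Group H] {G : Type v} [Group G] (h : Cfsg.Involves H G) :
    ∃ (K : Subgroup G) (f : K →* H), Function.Surjective f := by
  obtain ⟨K, R, hN, ⟨e⟩⟩ := h
  refine ⟨K, e.toMonoidHom.comp (QuotientGroup.mk' (R.subgroupOf K)), ?_⟩
  intro y
  obtain ⟨q, hq⟩ := QuotientGroup.mk'_surjective (R.subgroupOf K) (e.symm y)
  refine ⟨q, ?_⟩
  change e (QuotientGroup.mk' _ q) = y
  rw [hq, MulEquiv.apply_symm_apply]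

theorem involves_iff_exists_surjective {H : Type u} [Group H] {G : Type v} [Group G] :
    Cfsg.Involves H G ↔ ∃ (K : Subgroup G) (f : K →* H), Function.Surjective f :=
  ⟨exists_surjective_of_involves, fun ⟨K, f, hf⟩ => involves_of_surjective K f hf⟩

/-- a subgroup of a homomorphic image of a subgroup is involved -/
theorem involves_of_surjective_subgroup {H : Type u} [Group H] {G : Type v} [Group G] {Q : Type w} [Group Q]
    (K : Subgroup G) (f : K →* Q) (hf : Function.Surjective f) (D : Subgroup Q) (e : D ≃* H) :
    Cfsg.Involves H G := by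
  let K' : Subgroup G := (D.comap f).map K.subtype
  let i : ↥(D.comap f) ≃* ↥K' := (D.comap f).equivMapOfInjective K.subtype K.subtype_injective
  let g : ↥K' →* H := (e.toMonoidHom.comp (f.subgroupComap D)).comp i.symm.toMonoidHom
  refine involves_of_surjective K' g ?_
  intro y
  obtain ⟨z, hz⟩ := MonoidHom.subgroupComap_surjective_of_surjective f D hf (e.symm y)
  refine ⟨i z, ?_⟩
  change e (f.subgroupComap D (i.symm (i z))) = y
  rw [MulEquiv.symm_apply_apply, hz, MulEquiv.apply_symm_apply]

end Cfsg.Agent.Helper46
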