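import Mathlib
import Cfsg.Prelude.Def_LocalEven
import Cfsg.Agent.Lib.Helper46.Involves

set_option autoImplicit false

namespace Cfsg.Agent.Helper46

open Cfsg

universe u v w

/-- a homomorphic image of a subgroup of a homomorphic image of a subgroup is involved -/
theorem involves_of_surjective_of_surjective {H : Type u} [Group H] {G : Type v} [Group G]
    {Q : Type w} [Group Q] (K : Subgroup G) (f : K →* Q) (hf : Function.Surjective f)
    (D : Subgroup Q) (g : D →* H) (hg : Function.Surjective g) : Cfsg.Involves H G := by
  let K' : Subgroup G := (D.comap f).map K.subtype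
  let i : ↥(D.comap f) ≃* ↥K' := (D.comap f).equivMapOfInjective K.subtype K.subtype_injective
  let g' : ↥K' →* H := (g.comp (f.subgroupComap D)).comp i.symm.toMonoidHom
  refine involves_of_surjective K' g' ?_
  intro y
  obtain ⟨d, hd⟩ := hg y
  obtain ⟨z, hz⟩ := MonoidHom.subgroupComap_surjective_of_surjective f D hf d
  refine ⟨i z, ?_⟩
  change g (f.subgroupComap D (i.symm (i z))) = y
  rw [MulEquiv.symm_apply_apply, hz, hd]

/-- involvement is transitive -/
theorem involves_trans {H : Type u} [Group H] {Q : Type w} [Group Q] {G : Type v} [Group G]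
    (h1 : Cfsg.Involves H Q) (h2 : Cfsg.Involves Q G) : Cfsg.Involves H G := by
  obtain ⟨K, f, hf⟩ := exists_surjective_of_involves h2
  obtain ⟨D, g, hg⟩ := exists_surjective_of_involves h1
  exact involves_of_surjective_of_surjective K f hf D g hg

theorem involves_of_mulEquiv {H : Type u} [Group H] {H' : Type w} [Group H'] {G : Type v} [Group G]
    (e : H ≃* H') (h : Cfsg.Involves H G) : Cfsg.Involves H' G := by
  obtain ⟨K, f, hf⟩ := exists_surjective_of_involves h
  exact involves_of_surjective K (e.toMonoidHom.comp f) (e.surjective.comp hf)

/-- a quotient (homomorphic image) of `G` is involved in `G` -/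
theorem involves_of_surjective_top {Q : Type w} [Group Q] {G : Type v} [Group G]
    (f : G →* Q) (hf : Function.Surjective f) : Cfsg.Involves Q G := by
  refine involves_of_surjective ⊤ (f.comp (⊤ : Subgroup G).subtype) ?_
  intro q
  obtain ⟨g, hg⟩ := hf q
  exact ⟨⟨g, Subgroup.mem_top g⟩, hg⟩

/-- a subgroup of `G` is involved in `G` -/
theorem involves_subgroup_self {G : Type v} [Group G] (K : Subgroup G) : Cfsg.Involves ↥K G :=
  involves_of_surjective K (MonoidHom.id ↥K) Function.surjective_id

theorem involves_of_involves_subgroup {H : Type u} [Group H] {G : Type v} [Group G] (K : Subgroup G)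
    (h : Cfsg.Involves H ↥K) : Cfsg.Involves H G :=
  involves_trans h (involves_subgroup_self K)

theorem involves_of_involves_quotient {H : Type u} [Group H] {Q : Type w} [Group Q] {G : Type v}
    [Group G] (f : G →* Q) (hf : Function.Surjective f) (h : Cfsg.Involves H Q) :
    Cfsg.Involves H G :=
  involves_trans h (involves_of_surjective_top f hf)

theorem involves_of_injective {H : Type u} [Group H] {G : Type v} [Group G] {G' : Type w} [Group G']
    (f : G →* G') (hf : Function.Injective f) (h : Cfsg.Involves H G) : Cfsg.Involves H G' := by
  have h1 : Cfsg.Involves G G' :=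
    involves_of_surjective f.range (MonoidHom.ofInjective hf).symm.toMonoidHom
      (MonoidHom.ofInjective hf).symm.surjective
  exact involves_trans h h1

end Cfsg.Agent.Helper46
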