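import Mathlib
import Cfsg.Prelude.Def_LocalEven
import Cfsg.Agent.Lib.Helper46.FusInd6
import Cfsg.Agent.Lib.Helper46.Involves2

/-!
# The fusion induction: in a `Qd(p)`-free group, `N(W(D))` controls strong fusion

`general_control`: if every `Qd(p)`-free finite group (of the universe) is `p`-stable in the normalizer form, then in
every `Qd(p)`-free finite group `X`, for every Sylow `p`-subgroup `R` and every strongly closed `D ≤ R`, the normalizer
of `W(D)` controls strong fusion in `R` (`p` odd).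
-/

set_option autoImplicit false
set_option linter.unusedSectionVars false

namespace Cfsg.Agent.Helper46

open Cfsg Cfsg.Agent.Helper11.ZJ

universe u

variable {p : ℕ} [Fact p.Prime] (𝒢 : GoodSys.{u} p)

theorem card_subgroup_lt_of_ne_top {X : Type*} [Group X] [Finite X] {Y : Subgroup X} (hY : Y ≠ ⊤) :
    Nat.card ↥Y < Nat.card X := by
  have h1 := card_lt_of_lt' (lt_top_iff_ne_top.mpr hY)
  rwa [Subgroup.card_top] at h1

theorem card_quotient_lt_of_ne_bot {X : Type*} [Group X] [Finite X] {N : Subgroup X} [N.Normal] (hN : N ≠ ⊥) :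
    Nat.card (X ⧸ N) < Nat.card X := by
  have h1 : Nat.card X = Nat.card (X ⧸ N) * Nat.card N := Subgroup.card_eq_card_quotient_mul_card_subgroup N
  have h2 : 1 < Nat.card N := (Subgroup.one_lt_card_iff_ne_bot N).mpr hN
  have h3 : 0 < Nat.card (X ⧸ N) := Nat.card_pos
  rw [h1]
  nlinarith

theorem general_control (hp : p ≠ 2)
    (hG : ∀ (Y : Type u) [Group Y] [Finite Y], ¬ Involves ↥(Cfsg.qd p) Y → IsNormalizerPStable p Y) :
    ∀ (n : ℕ) (X : Type u) [Group X] [Finite X], Nat.card X = n → ¬ Involves ↥(Cfsg.qd p) X →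
      LocalControl 𝒢 X := by
  intro n
  induction n using Nat.strong_induction_on with
  | _ n ih =>
    intro X _ _ hcard hfree
    have IH : ∀ (Y : Type u) [Group Y] [Finite Y], Nat.card Y < Nat.card X →
        ¬ Involves ↥(Cfsg.qd p) Y → LocalControl 𝒢 Y :=
      fun Y _ _ hlt hY => ih (Nat.card Y) (hcard ▸ hlt) Y rfl hY
    have IHsub : ∀ Y : Subgroup X, Y ≠ ⊤ → LocalControl 𝒢 ↥Y := fun Y hY =>
      IH ↥Y (card_subgroup_lt_of_ne_top hY) (fun hinv => hfree (involves_of_involves_subgroup Y hinv))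
    have IHquot : ∀ (N : Subgroup X) [N.Normal], N ≠ ⊥ → LocalControl 𝒢 (X ⧸ N) := fun N _ hN =>
      IH (X ⧸ N) (card_quotient_lt_of_ne_bot hN) (fun hinv =>
        hfree (involves_of_involves_quotient (QuotientGroup.mk' N) (QuotientGroup.mk'_surjective N) hinv))
    intro R D hD A h hA hAh
    by_cases hc : IsPConstrained p X
    · exact local_control 𝒢 hp hc (hG X hfree) R D hD A h hA hAh
    by_cases hK : pPrimeCore p X = ⊥
    swap
    · have : (pPrimeCore p X).Normal := Cfsg.Agent.Helper54.pPrimeCore_normal' p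
      exact control_of_pPrimeQuotient 𝒢 (pPrimeCore p X) (Cfsg.Agent.Helper54.pPrimeCore_coprime p)
        (IHquot _ hK) R D hD A h hA hAh
    by_cases hQ : pCore p X = ⊥
    · apply control_of_locals 𝒢 R D hD _ A h hA hAh
      intro T hTR hTne _
      apply IHsub
      intro htop
      apply hTne
      have hTn : T.Normal := Subgroup.normalizer_eq_top_iff.mp htop
      rw [eq_bot_iff, ← hQ]
      exact le_pCore' hTn (R.isPGroup'.to_le hTR)
    set Q := pCore p X with hQdef
    have hQn : Q.Normal := pCore_normal' p X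
    set C := Subgroup.centralizer (Q : Set X) with hCdef
    have hQR : Q ≤ (R : Subgroup X) := pCore_le_sylow' R
    by_cases hRC : (R : Subgroup X) ⊔ C = ⊤
    · exact control_of_RC_eq_top 𝒢 Q rfl R D hD hRC (IHquot Q hQ) (fun Y _ hY => IHsub Y hY) A h hA hAh
    · obtain ⟨m, hm, n', hn', rfl, hmA⟩ := fusion_frattini R (Q ⊔ C) A hA h hAh
      have hN₁ne : Subgroup.normalizer ((((R : Subgroup X) ⊓ (Q ⊔ C) : Subgroup X)) : Set X) ≠ ⊤ := by
        intro htop
        apply hc
        exact Cfsg.Agent.Helper54.IsCharP.isPConstrained (centralizer_le_pCore_of_normalizer_eq_top R hK htop)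
      have hmY : m ∈ (R : Subgroup X) ⊔ C := (sup_le (hQR.trans le_sup_left) le_sup_right) hm
      obtain ⟨y, hy, hya⟩ := control_of_subgroup 𝒢 R D hD ((R : Subgroup X) ⊔ C) le_sup_left
        (IHsub _ hRC) A m hmY hA hmA
      have hRN₁ : (R : Subgroup X) ≤
          Subgroup.normalizer ((((R : Subgroup X) ⊓ (Q ⊔ C) : Subgroup X)) : Set X) := by
        intro r hr
        apply Subgroup.mem_normalizer_fintype
        rintro x ⟨hx1, hx2⟩
        exact ⟨Subgroup.mul_mem _ (Subgroup.mul_mem _ hr hx1) (Subgroup.inv_mem _ hr),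
          (inferInstance : (Q ⊔ C).Normal).conj_mem x hx2 r⟩
      obtain ⟨z, hz, hza⟩ := control_of_subgroup 𝒢 R D hD _ hRN₁ (IHsub _ hN₁ne)
        ((fun a => m * a * m⁻¹) '' A) n' hn'
        (by
          rintro _ ⟨a, ha, rfl⟩
          exact hmA a ha)
        (by
          rintro _ ⟨a, ha, rfl⟩
          have := hAh a ha
          have e : n' * (m * a * m⁻¹) * n'⁻¹ = n' * m * a * (n' * m)⁻¹ := by group
          rw [e]
          exact this)
      refine ⟨z * y, Subgroup.mul_mem _ hz hy, fun a ha => ?_⟩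
      have h1 := hya a ha
      have h2 := hza (m * a * m⁻¹) ⟨a, ha, rfl⟩
      have e : z * y * a * (z * y)⁻¹ = z * (y * a * y⁻¹) * z⁻¹ := by group
      rw [e, h1, h2]
      group

/-- `general_control` for a given group. -/
theorem general_control' (hp : p ≠ 2)
    (hG : ∀ (Y : Type u) [Group Y] [Finite Y], ¬ Involves ↥(Cfsg.qd p) Y → IsNormalizerPStable p Y)
    {X : Type u} [Group X] [Finite X] (hfree : ¬ Involves ↥(Cfsg.qd p) X) : LocalControl 𝒢 X :=
  general_control 𝒢 hp hG (Nat.card X) X rfl hfree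

end Cfsg.Agent.Helper46
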