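import Mathlib
import Cfsg.Prelude.Def_LocalEven
import Cfsg.Agent.Lib.Helper46.NatSL2
import Cfsg.Agent.Lib.Helper46.PCore
import Cfsg.Agent.Lib.Helper33.Basic

set_option autoImplicit false

namespace Cfsg.Agent.Helper46

open Cfsg

section qd

variable {F : Type*} [Field F]

theorem qdOver_lastRow : ∀ M ∈ Cfsg.qdOver F,
    (M : Matrix (Fin 3) (Fin 3) F) 2 0 = 0 ∧
    (M : Matrix (Fin 3) (Fin 3) F) 2 1 = 0 ∧
    (M : Matrix (Fin 3) (Fin 3) F) 2 2 = 1 := by
  intro M hM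
  unfold Cfsg.qdOver at hM
  induction hM using Subgroup.closure_induction with
  | mem x hx => exact hx
  | one => simp
  | mul x y _ _ hx hy =>
    obtain ⟨hx0, hx1, hx2⟩ := hx
    obtain ⟨hy0, hy1, hy2⟩ := hy
    simp only [Matrix.SpecialLinearGroup.coe_mul, Matrix.mul_apply, Fin.sum_univ_three]
    rw [hx0, hx1, hx2, hy0, hy1, hy2]
    simp
  | inv x _ hx =>
    obtain ⟨hx0, hx1, hx2⟩ := hx
    have h := mul_inv_cancel x
    have hc : ∀ j, ((x * x⁻¹ : Matrix.SpecialLinearGroup (Fin 3) F) :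
        Matrix (Fin 3) (Fin 3) F) 2 j = (1 : Matrix (Fin 3) (Fin 3) F) 2 j := by
      intro j
      rw [h]
      simp
    simp only [Matrix.SpecialLinearGroup.coe_mul, Matrix.mul_apply, Fin.sum_univ_three, hx0, hx1,
      hx2, zero_mul, one_mul, zero_add] at hc
    refine ⟨?_, ?_, ?_⟩
    · rw [hc 0]; simp
    · rw [hc 1]; simp
    · rw [hc 2]; simp

theorem mem_qdOver_iff {M : Matrix.SpecialLinearGroup (Fin 3) F} :
    M ∈ Cfsg.qdOver F ↔ (M : Matrix (Fin 3) (Fin 3) F) 2 0 = 0 ∧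
      (M : Matrix (Fin 3) (Fin 3) F) 2 1 = 0 ∧ (M : Matrix (Fin 3) (Fin 3) F) 2 2 = 1 :=
  ⟨qdOver_lastRow M, fun h => Subgroup.subset_closure h⟩

/-- entry of an element of `Qd(F)` -/
def qent (M : ↥(Cfsg.qdOver F)) (i j : Fin 3) : F :=
  ((M : Matrix.SpecialLinearGroup (Fin 3) F) : Matrix (Fin 3) (Fin 3) F) i j

theorem qent_two_zero (M : ↥(Cfsg.qdOver F)) : qent M 2 0 = 0 := (qdOver_lastRow M.1 M.2).1
theorem qent_two_one (M : ↥(Cfsg.qdOver F)) : qent M 2 1 = 0 := (qdOver_lastRow M.1 M.2).2.1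
theorem qent_two_two (M : ↥(Cfsg.qdOver F)) : qent M 2 2 = 1 := (qdOver_lastRow M.1 M.2).2.2

theorem qent_mul (M N : ↥(Cfsg.qdOver F)) (i j : Fin 3) :
    qent (M * N) i j = qent M i 0 * qent N 0 j + qent M i 1 * qent N 1 j + qent M i 2 * qent N 2 j := by
  unfold qent
  rw [Subgroup.coe_mul, Matrix.SpecialLinearGroup.coe_mul, Matrix.mul_apply, Fin.sum_univ_three]

theorem qent_one (i j : Fin 3) : qent (1 : ↥(Cfsg.qdOver F)) i j = if i = j then 1 else 0 := by
  unfold qent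
  rw [Subgroup.coe_one, Matrix.SpecialLinearGroup.coe_one, Matrix.one_apply]

theorem qent_ext {M N : ↥(Cfsg.qdOver F)} (h : ∀ i j, qent M i j = qent N i j) : M = N := by
  apply Subtype.ext
  apply Subtype.ext
  ext i j
  exact h i j

theorem qent_det (M : ↥(Cfsg.qdOver F)) : qent M 0 0 * qent M 1 1 - qent M 0 1 * qent M 1 0 = 1 := by
  have h := (M : Matrix.SpecialLinearGroup (Fin 3) F).2
  rw [Matrix.det_fin_three] at h
  have h20 := qent_two_zero M
  have h21 := qent_two_one M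
  have h22 := qent_two_two M
  unfold qent at *
  rw [h20, h21, h22] at h
  linear_combination h

/-- the element of `Qd(F)` with linear part `A` and translation part `v` -/
def mkQd (A : Matrix.SpecialLinearGroup (Fin 2) F) (v : Fin 2 → F) : ↥(Cfsg.qdOver F) :=
  ⟨⟨!![(A : Matrix (Fin 2) (Fin 2) F) 0 0, (A : Matrix (Fin 2) (Fin 2) F) 0 1, v 0;
        (A : Matrix (Fin 2) (Fin 2) F) 1 0, (A : Matrix (Fin 2) (Fin 2) F) 1 1, v 1; 0, 0, 1], by
      rw [Matrix.det_fin_three]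
      simp
      exact sl2_det A⟩, mem_qdOver_iff.mpr (by simp)⟩

/-- the linear part -/
def qdBlock (M : ↥(Cfsg.qdOver F)) : Matrix.SpecialLinearGroup (Fin 2) F :=
  ⟨!![qent M 0 0, qent M 0 1; qent M 1 0, qent M 1 1], by
    rw [Matrix.det_fin_two]
    simp
    exact qent_det M⟩

/-- the translation part -/
def qdTrans (M : ↥(Cfsg.qdOver F)) : Fin 2 → F := ![qent M 0 2, qent M 1 2]

theorem qdBlock_apply (M : ↥(Cfsg.qdOver F)) (i j : Fin 2) :
    (qdBlock M : Matrix (Fin 2) (Fin 2) F) i j = qent M (Fin.castSucc i) (Fin.castSucc j) := by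
  fin_cases i <;> fin_cases j <;> rfl

theorem qent_mkQd_block (A : Matrix.SpecialLinearGroup (Fin 2) F) (v : Fin 2 → F) (i j : Fin 2) :
    qent (mkQd A v) (Fin.castSucc i) (Fin.castSucc j) = (A : Matrix (Fin 2) (Fin 2) F) i j := by
  fin_cases i <;> fin_cases j <;> rfl

theorem qent_mkQd_trans (A : Matrix.SpecialLinearGroup (Fin 2) F) (v : Fin 2 → F) (i : Fin 2) :
    qent (mkQd A v) (Fin.castSucc i) 2 = v i := by
  fin_cases i <;> rfl

theorem qdBlock_mkQd (A : Matrix.SpecialLinearGroup (Fin 2) F) (v : Fin 2 → F) : qdBlock (mkQd A v) = A := by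
  apply Subtype.ext
  ext i j
  rw [qdBlock_apply, qent_mkQd_block]

theorem qdTrans_mkQd (A : Matrix.SpecialLinearGroup (Fin 2) F) (v : Fin 2 → F) : qdTrans (mkQd A v) = v := by
  funext i
  fin_cases i <;> rfl

theorem qd_ext {M N : ↥(Cfsg.qdOver F)} (h1 : qdBlock M = qdBlock N) (h2 : qdTrans M = qdTrans N) : M = N := by
  apply qent_ext
  intro i j
  have hb : ∀ i j : Fin 2, qent M (Fin.castSucc i) (Fin.castSucc j) = qent N (Fin.castSucc i) (Fin.castSucc j) := by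
    intro i j
    rw [← qdBlock_apply, ← qdBlock_apply, h1]
  have ht0 : qent M 0 2 = qent N 0 2 := congrFun h2 0
  have ht1 : qent M 1 2 = qent N 1 2 := congrFun h2 1
  fin_cases i <;> fin_cases j
  · exact hb 0 0
  · exact hb 0 1
  · exact ht0
  · exact hb 1 0
  · exact hb 1 1
  · exact ht1
  · change qent M 2 0 = qent N 2 0
    rw [qent_two_zero, qent_two_zero]
  · change qent M 2 1 = qent N 2 1
    rw [qent_two_one, qent_two_one]
  · change qent M 2 2 = qent N 2 2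
    rw [qent_two_two, qent_two_two]

theorem mkQd_block_trans (M : ↥(Cfsg.qdOver F)) : mkQd (qdBlock M) (qdTrans M) = M :=
  qd_ext (qdBlock_mkQd _ _) (qdTrans_mkQd _ _)

theorem exists_mkQd (M : ↥(Cfsg.qdOver F)) : ∃ A v, M = mkQd A v :=
  ⟨_, _, (mkQd_block_trans M).symm⟩

theorem qdBlock_mul (M N : ↥(Cfsg.qdOver F)) : qdBlock (M * N) = qdBlock M * qdBlock N := by
  apply Subtype.ext
  ext i j
  rw [qdBlock_apply, qent_mul, Matrix.SpecialLinearGroup.coe_mul, Matrix.mul_apply, Fin.sum_univ_two,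
    qdBlock_apply, qdBlock_apply, qdBlock_apply, qdBlock_apply]
  have : qent N 2 (Fin.castSucc j) = 0 := by
    fin_cases j
    · exact qent_two_zero N
    · exact qent_two_one N
  rw [this, mul_zero, add_zero]
  rfl

theorem qdTrans_mul (M N : ↥(Cfsg.qdOver F)) : qdTrans (M * N) = qdBlock M • qdTrans N + qdTrans M := by
  funext i
  fin_cases i
  · change qent (M * N) 0 2 = (qdBlock M • qdTrans N) 0 + qent M 0 2
    rw [qent_mul, smul_apply_zero, qent_two_two, mul_one]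
    rfl
  · change qent (M * N) 1 2 = (qdBlock M • qdTrans N) 1 + qent M 1 2
    rw [qent_mul, smul_apply_one, qent_two_two, mul_one]
    rfl

theorem qdBlock_one : qdBlock (1 : ↥(Cfsg.qdOver F)) = 1 := by
  apply Subtype.ext
  ext i j
  rw [qdBlock_apply, qent_one]
  fin_cases i <;> fin_cases j <;> simp

theorem qdTrans_one : qdTrans (1 : ↥(Cfsg.qdOver F)) = 0 := by
  funext i
  fin_cases i
  · change qent 1 0 2 = 0
    rw [qent_one]; simp
  · change qent 1 1 2 = 0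
    rw [qent_one]; simp

/-- projection of `Qd(F)` onto `SL₂(F)` -/
def qdπ (F : Type*) [Field F] : ↥(Cfsg.qdOver F) →* Matrix.SpecialLinearGroup (Fin 2) F where
  toFun := qdBlock
  map_one' := qdBlock_one
  map_mul' := qdBlock_mul

theorem qdπ_apply (M : ↥(Cfsg.qdOver F)) : qdπ F M = qdBlock M := rfl

theorem mkQd_mul (A B : Matrix.SpecialLinearGroup (Fin 2) F) (v w : Fin 2 → F) :
    mkQd A v * mkQd B w = mkQd (A * B) (A • w + v) := by
  apply qd_ext
  · rw [qdBlock_mul, qdBlock_mkQd, qdBlock_mkQd, qdBlock_mkQd]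
  · rw [qdTrans_mul, qdBlock_mkQd, qdTrans_mkQd, qdTrans_mkQd, qdTrans_mkQd]

theorem mkQd_one : mkQd (1 : Matrix.SpecialLinearGroup (Fin 2) F) 0 = 1 := by
  apply qd_ext
  · rw [qdBlock_mkQd, qdBlock_one]
  · rw [qdTrans_mkQd, qdTrans_one]

theorem mkQd_inv (A : Matrix.SpecialLinearGroup (Fin 2) F) (v : Fin 2 → F) :
    (mkQd A v)⁻¹ = mkQd A⁻¹ (-(A⁻¹ • v)) := by
  apply inv_eq_of_mul_eq_one_right
  rw [mkQd_mul, mul_inv_cancel, smul_neg, smul_inv_smul, neg_add_cancel, mkQd_one]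

theorem mkQd_inj {A B : Matrix.SpecialLinearGroup (Fin 2) F} {v w : Fin 2 → F} (h : mkQd A v = mkQd B w) :
    A = B ∧ v = w := by
  have h1 := congrArg qdBlock h
  have h2 := congrArg qdTrans h
  rw [qdBlock_mkQd, qdBlock_mkQd] at h1
  rw [qdTrans_mkQd, qdTrans_mkQd] at h2
  exact ⟨h1, h2⟩

theorem qdπ_mkQd (A : Matrix.SpecialLinearGroup (Fin 2) F) (v : Fin 2 → F) : qdπ F (mkQd A v) = A :=
  qdBlock_mkQd A v

theorem qdπ_surjective : Function.Surjective (qdπ F) := fun A => ⟨mkQd A 0, qdπ_mkQd A 0⟩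

theorem mem_qdKer_iff {M : ↥(Cfsg.qdOver F)} : M ∈ (qdπ F).ker ↔ ∃ v, M = mkQd 1 v := by
  rw [MonoidHom.mem_ker, qdπ_apply]
  constructor
  · intro h
    refine ⟨qdTrans M, ?_⟩
    rw [← h, mkQd_block_trans]
  · rintro ⟨v, rfl⟩
    exact qdBlock_mkQd _ _

theorem mkQd_one_pow (v : Fin 2 → F) (k : ℕ) : (mkQd 1 v) ^ k = mkQd 1 (k • v) := by
  induction k with
  | zero => rw [pow_zero, zero_smul, mkQd_one]
  | succ k ih => rw [pow_succ, ih, mkQd_mul, one_mul, one_smul, add_comm, succ_nsmul]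

/-- the complement `SL₂(F)` in `Qd(F)` -/
def qdK (F : Type*) [Field F] : Subgroup ↥(Cfsg.qdOver F) where
  carrier := {M | qdTrans M = 0}
  one_mem' := qdTrans_one
  mul_mem' := by
    intro a b ha hb
    simp only [Set.mem_ofPred_eq] at ha hb ⊢
    rw [qdTrans_mul, ha, hb, smul_zero, add_zero]
  inv_mem' := by
    intro a ha
    simp only [Set.mem_ofPred_eq] at ha ⊢
    obtain ⟨A, v, rfl⟩ := exists_mkQd a
    rw [qdTrans_mkQd] at ha
    rw [mkQd_inv, qdTrans_mkQd, ha, smul_zero, neg_zero]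

theorem mem_qdK_iff {M : ↥(Cfsg.qdOver F)} : M ∈ qdK F ↔ ∃ A, M = mkQd A 0 := by
  change qdTrans M = 0 ↔ _
  constructor
  · intro h
    refine ⟨qdBlock M, ?_⟩
    rw [← h, mkQd_block_trans]
  · rintro ⟨A, rfl⟩
    exact qdTrans_mkQd _ _

theorem mem_qdK_iff' {M : ↥(Cfsg.qdOver F)} : M ∈ qdK F ↔ qent M 0 2 = 0 ∧ qent M 1 2 = 0 := by
  change qdTrans M = 0 ↔ _
  constructor
  · intro h
    exact ⟨congrFun h 0, congrFun h 1⟩
  · rintro ⟨h0, h1⟩
    funext i
    fin_cases i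
    · exact h0
    · exact h1

theorem qdK_inf_ker : qdK F ⊓ (qdπ F).ker = ⊥ := by
  rw [eq_bot_iff]
  rintro M ⟨h1, h2⟩
  rw [Subgroup.mem_bot]
  apply qd_ext
  · rw [qdBlock_one]; exact h2
  · rw [qdTrans_one]; exact h1

theorem qdK_sup_ker : qdK F ⊔ (qdπ F).ker = ⊤ := by
  rw [eq_top_iff]
  intro M _
  obtain ⟨A, v, rfl⟩ := exists_mkQd M
  have : mkQd A v = mkQd 1 v * mkQd A 0 := by
    rw [mkQd_mul, one_mul, smul_zero, zero_add]
  rw [this, sup_comm]
  exact Subgroup.mul_mem_sup (mem_qdKer_iff.mpr ⟨v, rfl⟩) (mem_qdK_iff.mpr ⟨A, rfl⟩)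

/-- `K ≃* SL₂(F)` -/
noncomputable def qdKEquiv (F : Type*) [Field F] : ↥(qdK F) ≃* Matrix.SpecialLinearGroup (Fin 2) F :=
  MulEquiv.ofBijective ((qdπ F).comp (qdK F).subtype) (by
    constructor
    · intro a b hab
      apply Subtype.ext
      apply qd_ext
      · exact hab
      · rw [show qdTrans (a : ↥(Cfsg.qdOver F)) = 0 from a.2, show qdTrans (b : ↥(Cfsg.qdOver F)) = 0 from b.2]
    · intro A
      exact ⟨⟨mkQd A 0, mem_qdK_iff.mpr ⟨A, rfl⟩⟩, qdπ_mkQd A 0⟩)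

theorem eq_one_of_smul_eq {A : Matrix.SpecialLinearGroup (Fin 2) F} (h : ∀ v : Fin 2 → F, A • v = v) : A = 1 := by
  have h0 := h ![1, 0]
  have h1 := h ![0, 1]
  have h00 := congrFun h0 0
  have h01 := congrFun h0 1
  have h10 := congrFun h1 0
  have h11 := congrFun h1 1
  rw [smul_apply_zero] at h00 h10
  rw [smul_apply_one] at h01 h11
  simp only [Matrix.cons_val_zero, Matrix.cons_val_one, mul_one, mul_zero, add_zero, zero_add] at h00 h01 h10 h11
  apply Subtype.ext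
  ext i j
  fin_cases i <;> fin_cases j
  · simpa using h00
  · simpa using h10
  · simpa using h01
  · simpa using h11

theorem isNatural_qd : Cfsg.IsNaturalSL2Module F (qdπ F).ker (qdK F) := by
  have hnorm : ((qdπ F).ker).Normal := MonoidHom.normal_ker _
  refine ⟨?_, (qdπ F).comp (qdK F).subtype,
    { toFun := fun x => qdTrans ((Additive.toMul x : ↥(qdπ F).ker) : ↥(Cfsg.qdOver F))
      invFun := fun v => Additive.ofMul ⟨mkQd 1 v, mem_qdKer_iff.mpr ⟨v, rfl⟩⟩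
      left_inv := ?_
      right_inv := ?_
      map_add' := ?_ }, ?_, ?_, ?_⟩
  · rw [Subgroup.normalizer_eq_top]
    exact le_top
  · intro x
    obtain ⟨v, hv⟩ := mem_qdKer_iff.mp (Additive.toMul x).2
    apply Additive.toMul.injective
    apply Subtype.ext
    change mkQd 1 (qdTrans ((Additive.toMul x : ↥(qdπ F).ker) : ↥(Cfsg.qdOver F))) = _
    rw [hv, qdTrans_mkQd]
  · intro v
    exact qdTrans_mkQd _ _
  · intro x y
    change qdTrans (((Additive.toMul x : ↥(qdπ F).ker) : ↥(Cfsg.qdOver F)) * ((Additive.toMul y : ↥(qdπ F).ker) : ↥(Cfsg.qdOver F))) = _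
    obtain ⟨v, hv⟩ := mem_qdKer_iff.mp (Additive.toMul x).2
    obtain ⟨w, hw⟩ := mem_qdKer_iff.mp (Additive.toMul y).2
    rw [qdTrans_mul, hv, hw, qdBlock_mkQd, qdTrans_mkQd, qdTrans_mkQd, one_smul, add_comm]
  · intro A
    exact ⟨⟨mkQd A 0, mem_qdK_iff.mpr ⟨A, rfl⟩⟩, qdπ_mkQd A 0⟩
  · ext k
    rw [MonoidHom.mem_ker, Subgroup.mem_subgroupOf, Subgroup.mem_centralizer_iff]
    obtain ⟨A, hA⟩ := mem_qdK_iff.mp k.2
    constructor
    · intro h
      have hk : (k : ↥(Cfsg.qdOver F)) = 1 := by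
        rw [hA]
        change qdBlock (k : ↥(Cfsg.qdOver F)) = 1 at h
        rw [hA, qdBlock_mkQd] at h
        rw [h, mkQd_one]
      intro m _
      rw [hk, mul_one, one_mul]
    · intro h
      change qdBlock (k : ↥(Cfsg.qdOver F)) = 1
      rw [hA, qdBlock_mkQd]
      apply eq_one_of_smul_eq
      intro v
      have := h (mkQd 1 v) (mem_qdKer_iff.mpr ⟨v, rfl⟩)
      rw [hA, mkQd_mul, mkQd_mul, one_mul, mul_one, smul_zero, zero_add, add_zero] at this
      exact ((mkQd_inj this).2).symm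
  · intro l v
    refine ⟨⟨(l : ↥(Cfsg.qdOver F)) * (v : ↥(Cfsg.qdOver F)) * (l : ↥(Cfsg.qdOver F))⁻¹, hnorm.conj_mem _ v.2 _⟩, rfl, ?_⟩
    obtain ⟨A, hA⟩ := mem_qdK_iff.mp l.2
    obtain ⟨t, ht⟩ := mem_qdKer_iff.mp v.2
    change qdTrans ((l : ↥(Cfsg.qdOver F)) * (v : ↥(Cfsg.qdOver F)) * (l : ↥(Cfsg.qdOver F))⁻¹) = qdBlock (l : ↥(Cfsg.qdOver F)) • qdTrans (v : ↥(Cfsg.qdOver F))
    rw [hA, ht, mkQd_inv, mkQd_mul, mkQd_mul, qdTrans_mkQd, qdTrans_mkQd, qdBlock_mkQd]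
    simp

end qd

section weyl

variable {F : Type*} [Field F]

/-- the Weyl element of `SL₂(F)` -/
def weylW (F : Type*) [Field F] : Matrix.SpecialLinearGroup (Fin 2) F :=
  ⟨!![0, -1; 1, 0], by simp [Matrix.det_fin_two]⟩

theorem weylW_conj_one_zero (g : Matrix.SpecialLinearGroup (Fin 2) F) :
    ((weylW F * g * (weylW F)⁻¹ : Matrix.SpecialLinearGroup (Fin 2) F) : Matrix (Fin 2) (Fin 2) F) 1 0 =
      - (g : Matrix (Fin 2) (Fin 2) F) 0 1 := by
  have hw : ((weylW F : Matrix.SpecialLinearGroup (Fin 2) F) : Matrix (Fin 2) (Fin 2) F) = !![0, -1; 1, 0] := rfl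
  rw [Matrix.SpecialLinearGroup.coe_mul, Matrix.SpecialLinearGroup.coe_mul, Matrix.SpecialLinearGroup.coe_inv,
    Matrix.adjugate_fin_two, hw]
  simp [Matrix.mul_apply, Fin.sum_univ_two, Matrix.vecMul, dotProduct]

end weyl

section qdcore

variable {F : Type*} [Field F] [Fintype F] {p : ℕ} [Fact p.Prime] [CharP F p]

/-- `SL₂(F)` has no nontrivial normal `p`-subgroup (`F` finite of characteristic `p`). -/
theorem sl2_normal_pGroup_eq_bot (P : Subgroup (Matrix.SpecialLinearGroup (Fin 2) F)) (hN : P.Normal)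
    (hP : IsPGroup p P) : P = ⊥ := by
  obtain ⟨h, hh⟩ := exists_conj_le_upperU P hP
  have hPU : ∀ g ∈ P, g ∈ upperU F := by
    intro g hg
    have := hh _ (hN.conj_mem g hg h)
    have e : h⁻¹ * (h * g * h⁻¹) * h = g := by group
    rwa [e] at this
  rw [eq_bot_iff]
  intro g hg
  rw [Subgroup.mem_bot]
  have h1 := hPU _ (hN.conj_mem g hg (weylW F))
  have hgU := hPU g hg
  apply upperU_eq_one_of_zero hgU
  have h10 := h1.1
  rw [weylW_conj_one_zero, neg_eq_zero] at h10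
  exact h10

omit [Fintype F] [Fact p.Prime] in
theorem qdKer_isPGroup : IsPGroup p (qdπ F).ker := by
  intro g
  refine ⟨1, ?_⟩
  obtain ⟨v, hv⟩ := mem_qdKer_iff.mp g.2
  apply Subtype.ext
  rw [pow_one, Subgroup.coe_pow, hv, mkQd_one_pow, Subgroup.coe_one]
  have : p • v = 0 := by
    funext i
    simp [CharP.cast_eq_zero]
  rw [this, mkQd_one]

theorem pCore_qdOver : Cfsg.pCore p ↥(Cfsg.qdOver F) = (qdπ F).ker := by
  apply le_antisymm
  · have hN : ((Cfsg.pCore p ↥(Cfsg.qdOver F)).map (qdπ F)).Normal :=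
      (Cfsg.Agent.Helper33.pCore_normal p).map _ qdπ_surjective
    have hP : IsPGroup p ((Cfsg.pCore p ↥(Cfsg.qdOver F)).map (qdπ F)) := isPGroup_pCore.map _
    have := sl2_normal_pGroup_eq_bot _ hN hP
    exact (Subgroup.map_eq_bot_iff _).mp this
  · exact le_pCore (MonoidHom.normal_ker _) qdKer_isPGroup

end qdcore

end Cfsg.Agent.Helper46
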