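import Mathlib
import Cfsg.Prelude.Def_LocalEven
import Cfsg.Agent.Lib.Helper46.Qd
import Cfsg.Agent.Lib.Helper24.CharSub

set_option autoImplicit false

namespace Cfsg.Agent.Helper46

open Cfsg

section heis

variable {F : Type*} [Field F]

theorem sl2_ext {A B : Matrix.SpecialLinearGroup (Fin 2) F}
    (h00 : (A : Matrix (Fin 2) (Fin 2) F) 0 0 = (B : Matrix (Fin 2) (Fin 2) F) 0 0)
    (h01 : (A : Matrix (Fin 2) (Fin 2) F) 0 1 = (B : Matrix (Fin 2) (Fin 2) F) 0 1)
    (h10 : (A : Matrix (Fin 2) (Fin 2) F) 1 0 = (B : Matrix (Fin 2) (Fin 2) F) 1 0)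
    (h11 : (A : Matrix (Fin 2) (Fin 2) F) 1 1 = (B : Matrix (Fin 2) (Fin 2) F) 1 1) : A = B := by
  apply Subtype.ext
  ext i j
  fin_cases i <;> fin_cases j
  · exact h00
  · exact h01
  · exact h10
  · exact h11

theorem unip_apply_zero_zero (a : F) : ((unip a : Matrix.SpecialLinearGroup (Fin 2) F) : Matrix (Fin 2) (Fin 2) F) 0 0 = 1 := by
  simp [unip]

theorem unip_apply_one_zero (a : F) : ((unip a : Matrix.SpecialLinearGroup (Fin 2) F) : Matrix (Fin 2) (Fin 2) F) 1 0 = 0 := by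
  simp [unip]

theorem unip_apply_one_one (a : F) : ((unip a : Matrix.SpecialLinearGroup (Fin 2) F) : Matrix (Fin 2) (Fin 2) F) 1 1 = 1 := by
  simp [unip]

theorem eq_unip_of_mem {g : Matrix.SpecialLinearGroup (Fin 2) F} (hg : g ∈ upperU F) :
    g = unip ((g : Matrix (Fin 2) (Fin 2) F) 0 1) := by
  apply sl2_ext
  · rw [hg.2, unip_apply_zero_zero]
  · rw [unip_zero_one]
  · rw [hg.1, unip_apply_one_zero]
  · rw [upperU_one_one hg, unip_apply_one_one]

theorem unip_mul (a b : F) : unip a * unip b = unip (a + b) := by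
  apply sl2_ext <;>
    simp [Matrix.SpecialLinearGroup.coe_mul, Matrix.mul_apply, Fin.sum_univ_two, unip_apply_zero_zero,
      unip_apply_one_zero, unip_apply_one_one, unip_zero_one, add_comm]

theorem unip_zero : unip (0 : F) = 1 := by
  apply sl2_ext <;> simp [unip_apply_zero_zero, unip_apply_one_zero, unip_apply_one_one, unip_zero_one]

theorem unip_smul (a : F) (v : Fin 2 → F) : unip a • v = ![v 0 + a * v 1, v 1] := by
  funext i
  fin_cases i
  · change (unip a • v) 0 = _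
    rw [upperU_smul_zero (unip_mem a), unip_zero_one]
    rfl
  · change (unip a • v) 1 = _
    rw [upperU_smul_one (unip_mem a)]
    rfl

theorem unip_inj {a b : F} (h : unip a = unip b) : a = b := by
  rw [← unip_zero_one a, h, unip_zero_one]

/-- preimage of the unitriangular group: a Sylow `p`-subgroup of `Qd(F)` -/
def qdS (F : Type*) [Field F] : Subgroup ↥(Cfsg.qdOver F) := (upperU F).comap (qdπ F)

/-- preimage of the Borel subgroup: the normalizer of `qdS` -/
def qdB (F : Type*) [Field F] : Subgroup ↥(Cfsg.qdOver F) := (borelB F).comap (qdπ F)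

/-- Heisenberg coordinates on `qdS` -/
def heis (a b c : F) : ↥(Cfsg.qdOver F) := mkQd (unip a) ![c, b]

theorem heis_mem (a b c : F) : heis a b c ∈ qdS F := by
  change qdπ F (heis a b c) ∈ upperU F
  rw [heis, qdπ_mkQd]
  exact unip_mem a

theorem exists_heis {M : ↥(Cfsg.qdOver F)} (hM : M ∈ qdS F) : ∃ a b c, M = heis a b c := by
  obtain ⟨A, v, rfl⟩ := exists_mkQd M
  have hA : A ∈ upperU F := by
    have : qdπ F (mkQd A v) ∈ upperU F := hM
    rwa [qdπ_mkQd] at this
  refine ⟨(A : Matrix (Fin 2) (Fin 2) F) 0 1, v 1, v 0, ?_⟩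
  rw [heis, ← eq_unip_of_mem hA]
  congr 1
  funext i
  fin_cases i <;> rfl

theorem heis_mul (a b c a' b' c' : F) : heis a b c * heis a' b' c' = heis (a + a') (b + b') (c + c' + a * b') := by
  rw [heis, heis, heis, mkQd_mul, unip_mul, unip_smul]
  congr 1
  funext i
  fin_cases i
  · simp only [Fin.zero_eta, Fin.isValue, Pi.add_apply, Matrix.cons_val_zero, Matrix.cons_val_one]
    ring
  · simp only [Fin.mk_one, Fin.isValue, Pi.add_apply, Matrix.cons_val_one, Matrix.cons_val_zero]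
    ring

theorem heis_inj {a b c a' b' c' : F} (h : heis a b c = heis a' b' c') : a = a' ∧ b = b' ∧ c = c' := by
  obtain ⟨h1, h2⟩ := mkQd_inj h
  exact ⟨unip_inj h1, congrFun h2 1, congrFun h2 0⟩

theorem heis_zero : heis (0 : F) 0 0 = 1 := by
  rw [heis, unip_zero, ← mkQd_one]
  congr 1
  funext i
  fin_cases i <;> rfl

theorem heis_inv (a b c : F) : (heis a b c)⁻¹ = heis (-a) (-b) (a * b - c) := by
  apply inv_eq_of_mul_eq_one_right
  rw [heis_mul, ← heis_zero]
  congr 1 <;> ring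

theorem heis_zero_eq (b c : F) : heis 0 b c = mkQd 1 ![c, b] := by
  rw [heis, unip_zero]

theorem conj_mkQd_one (A : Matrix.SpecialLinearGroup (Fin 2) F) (v t : Fin 2 → F) :
    mkQd A v * mkQd 1 t * (mkQd A v)⁻¹ = mkQd 1 (A • t) := by
  rw [mkQd_inv, mkQd_mul, mkQd_mul, mul_one, mul_inv_cancel, smul_neg, smul_inv_smul]
  congr 1
  abel

theorem diagD_smul (d : F) (hd : d ≠ 0) (v : Fin 2 → F) : diagD d hd • v = ![d * v 0, d⁻¹ * v 1] := by
  funext i
  fin_cases i
  · exact diagD_smul_zero d hd v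
  · exact diagD_smul_one d hd v

theorem conj_diag_heis (d : F) (hd : d ≠ 0) (b c : F) :
    mkQd (diagD d hd) 0 * heis 0 b c * (mkQd (diagD d hd) 0)⁻¹ = heis 0 (d⁻¹ * b) (d * c) := by
  rw [heis_zero_eq, conj_mkQd_one, heis_zero_eq, diagD_smul]
  rfl

theorem mkQd_diag_mem (d : F) (hd : d ≠ 0) : mkQd (diagD d hd) 0 ∈ qdB F := by
  change qdπ F _ ∈ borelB F
  rw [qdπ_mkQd]
  exact diagD_mem d hd

theorem qdS_le_qdB : qdS F ≤ qdB F := by
  intro M hM
  exact (show qdπ F M ∈ upperU F from hM).1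

theorem conj_unip_one_zero (A : Matrix.SpecialLinearGroup (Fin 2) F) :
    ((A * unip 1 * A⁻¹ : Matrix.SpecialLinearGroup (Fin 2) F) : Matrix (Fin 2) (Fin 2) F) 1 0 =
      - ((A : Matrix (Fin 2) (Fin 2) F) 1 0 * (A : Matrix (Fin 2) (Fin 2) F) 1 0) := by
  rw [Matrix.SpecialLinearGroup.coe_mul, Matrix.SpecialLinearGroup.coe_mul, Matrix.SpecialLinearGroup.coe_inv,
    Matrix.adjugate_fin_two]
  simp only [Matrix.mul_apply, Fin.sum_univ_two, unip_apply_zero_zero, unip_apply_one_zero, unip_apply_one_one,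
    unip_zero_one]
  simp
  ring

theorem normalizer_qdS : Subgroup.normalizer ((qdS F : Subgroup ↥(Cfsg.qdOver F)) : Set ↥(Cfsg.qdOver F)) = qdB F := by
  apply le_antisymm
  · intro M hM
    have h1 : M * mkQd (unip 1) 0 * M⁻¹ ∈ qdS F := by
      apply (Subgroup.mem_normalizer_iff.mp hM _).mp
      change qdπ F _ ∈ upperU F
      rw [qdπ_mkQd]
      exact unip_mem 1
    have h2 : qdπ F (M * mkQd (unip 1) 0 * M⁻¹) ∈ upperU F := h1
    rw [map_mul, map_mul, map_inv, qdπ_mkQd] at h2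
    have h3 := h2.1
    rw [conj_unip_one_zero, neg_eq_zero, mul_self_eq_zero] at h3
    exact h3
  · intro M hM
    have hM' : qdπ F M ∈ borelB F := hM
    rw [Subgroup.mem_normalizer_iff]
    intro h
    constructor
    · intro hh
      change qdπ F _ ∈ upperU F
      rw [map_mul, map_mul, map_inv]
      exact borel_conj_mem hM' hh
    · intro hh
      have h2 : qdπ F (M * h * M⁻¹) ∈ upperU F := hh
      rw [map_mul, map_mul, map_inv] at h2
      have h3 := borel_conj_mem ((borelB F).inv_mem hM') h2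
      have e : (qdπ F M)⁻¹ * (qdπ F M * qdπ F h * (qdπ F M)⁻¹) * (qdπ F M)⁻¹⁻¹ = qdπ F h := by group
      rw [e] at h3
      exact h3

theorem qdB_ne_top : qdB F ≠ ⊤ := by
  intro h
  have h1 : mkQd (weylW F) 0 ∈ qdB F := by rw [h]; exact Subgroup.mem_top _
  have h2 : qdπ F (mkQd (weylW F) 0) ∈ borelB F := h1
  rw [qdπ_mkQd] at h2
  have h3 : ((weylW F : Matrix.SpecialLinearGroup (Fin 2) F) : Matrix (Fin 2) (Fin 2) F) 1 0 = 0 := h2
  have h4 : ((weylW F : Matrix.SpecialLinearGroup (Fin 2) F) : Matrix (Fin 2) (Fin 2) F) 1 0 = 1 := by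
    simp [weylW]
  rw [h4] at h3
  exact one_ne_zero h3

theorem heis_pow (a b c : F) (k : ℕ) : ∃ c', (heis a b c) ^ k = heis (k * a) (k * b) c' := by
  induction k with
  | zero => exact ⟨0, by rw [pow_zero, Nat.cast_zero, zero_mul, zero_mul, heis_zero]⟩
  | succ k ih =>
    obtain ⟨c', hc'⟩ := ih
    refine ⟨c' + c + k * a * b, ?_⟩
    rw [pow_succ, hc', heis_mul]
    congr 1 <;> push_cast <;> ring

theorem qdS_isPGroup {p : ℕ} [CharP F p] : IsPGroup p (qdS F) := by
  intro g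
  refine ⟨2, ?_⟩
  obtain ⟨a, b, c, hg⟩ := exists_heis g.2
  apply Subtype.ext
  rw [Subgroup.coe_pow, Subgroup.coe_one, hg, pow_two, pow_mul]
  obtain ⟨c', hc'⟩ := heis_pow a b c p
  rw [hc', CharP.cast_eq_zero, zero_mul, zero_mul]
  rw [heis_zero_eq, mkQd_one_pow]
  have : p • ![c', (0 : F)] = 0 := by
    funext i
    simp [CharP.cast_eq_zero]
  rw [this, mkQd_one]

theorem exists_sylow_eq_conj [Fintype F] {p : ℕ} [Fact p.Prime] [CharP F p] (S : Sylow p ↥(Cfsg.qdOver F)) :
    ∃ g : ↥(Cfsg.qdOver F), (S : Subgroup ↥(Cfsg.qdOver F)) = (qdS F).map (MulAut.conj g).toMonoidHom := by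
  have hP : IsPGroup p ((S : Subgroup ↥(Cfsg.qdOver F)).map (qdπ F)) := S.isPGroup'.map _
  obtain ⟨h, hh⟩ := exists_conj_le_upperU _ hP
  refine ⟨mkQd h 0, ?_⟩
  symm
  apply S.is_maximal' ((qdS_isPGroup (p := p)).map _)
  intro s hs
  rw [Subgroup.mem_map]
  refine ⟨(mkQd h 0)⁻¹ * s * (mkQd h 0), ?_, ?_⟩
  · change qdπ F _ ∈ upperU F
    rw [map_mul, map_mul, map_inv, qdπ_mkQd]
    exact hh _ (Subgroup.mem_map_of_mem _ hs)
  · simp only [MulEquiv.coe_toMonoidHom, MulAut.conj_apply]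
    group

/-- Heisenberg coordinates of an element -/
def hA (M : ↥(Cfsg.qdOver F)) : F := (qdBlock M : Matrix (Fin 2) (Fin 2) F) 0 1
/-- Heisenberg coordinates of an element -/
def hB (M : ↥(Cfsg.qdOver F)) : F := qdTrans M 1
/-- Heisenberg coordinates of an element -/
def hC (M : ↥(Cfsg.qdOver F)) : F := qdTrans M 0

theorem hA_heis (a b c : F) : hA (heis a b c) = a := by
  rw [hA, heis, qdBlock_mkQd, unip_zero_one]

theorem hB_heis (a b c : F) : hB (heis a b c) = b := by
  rw [hB, heis, qdTrans_mkQd]; rfl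

theorem hC_heis (a b c : F) : hC (heis a b c) = c := by
  rw [hC, heis, qdTrans_mkQd]; rfl

/-- the automorphism `(a,b,c) ↦ (b,a,ab-c)` of the Heisenberg group, as a function -/
def thetaFun (M : ↥(Cfsg.qdOver F)) : ↥(Cfsg.qdOver F) := heis (hB M) (hA M) (hA M * hB M - hC M)

theorem thetaFun_heis (a b c : F) : thetaFun (heis a b c) = heis b a (a * b - c) := by
  rw [thetaFun, hA_heis, hB_heis, hC_heis]

/-- the automorphism `(a,b,c) ↦ (b,a,ab-c)` of the Heisenberg group -/
def thetaS (F : Type*) [Field F] : ↥(qdS F) ≃* ↥(qdS F) where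
  toFun x := ⟨thetaFun x.1, heis_mem _ _ _⟩
  invFun x := ⟨thetaFun x.1, heis_mem _ _ _⟩
  left_inv x := by
    obtain ⟨a, b, c, hx⟩ := exists_heis x.2
    apply Subtype.ext
    change thetaFun (thetaFun x.1) = x.1
    rw [hx, thetaFun_heis, thetaFun_heis]
    congr 1
    ring
  right_inv x := by
    obtain ⟨a, b, c, hx⟩ := exists_heis x.2
    apply Subtype.ext
    change thetaFun (thetaFun x.1) = x.1
    rw [hx, thetaFun_heis, thetaFun_heis]
    congr 1
    ring
  map_mul' x y := by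
    obtain ⟨a, b, c, hx⟩ := exists_heis x.2
    obtain ⟨a', b', c', hy⟩ := exists_heis y.2
    apply Subtype.ext
    change thetaFun (x.1 * y.1) = thetaFun x.1 * thetaFun y.1
    rw [hx, hy, heis_mul, thetaFun_heis, thetaFun_heis, thetaFun_heis, heis_mul]
    congr 1
    ring

theorem thetaS_coe (x : ↥(qdS F)) : ((thetaS F x : ↥(qdS F)) : ↥(Cfsg.qdOver F)) = thetaFun x.1 := rfl

theorem heis_comm (a b c a' b' c' : F) :
    heis a b c * (heis a' b' c' * (heis a b c)⁻¹ * (heis a' b' c')⁻¹) = heis 0 0 (a * b' - a' * b) := by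
  rw [heis_inv, heis_inv, heis_mul, heis_mul, heis_mul]
  congr 1 <;> ring

theorem normalizer_char_qdS (T : Subgroup ↥(qdS F)) (hT : T ≠ ⊥) (hTc : T.Characteristic) :
    Subgroup.normalizer ((T.map (qdS F).subtype : Subgroup ↥(Cfsg.qdOver F)) : Set ↥(Cfsg.qdOver F)) = qdB F := by
  set T' : Subgroup ↥(Cfsg.qdOver F) := T.map (qdS F).subtype with hT'
  have hBN : qdB F ≤ Subgroup.normalizer (T' : Set ↥(Cfsg.qdOver F)) := by
    rw [← normalizer_qdS]
    exact Cfsg.Agent.Helper24.normalizer_le_normalizer_map_subtype_of_characteristic (qdS F) T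
  have hconj : ∀ g ∈ qdB F, ∀ x ∈ T', g * x * g⁻¹ ∈ T' := fun g hg x hx =>
    (Subgroup.mem_normalizer_iff.mp (hBN hg) x).mp hx
  have hθ : ∀ a b c : F, heis a b c ∈ T' → heis b a (a * b - c) ∈ T' := by
    intro a b c h
    obtain ⟨y, hy, hyx⟩ := Subgroup.mem_map.mp h
    have hfix := hTc.fixed (thetaS F)
    have h2 : y ∈ T.comap (thetaS F).toMonoidHom := by rw [hfix]; exact hy
    have h3 : thetaS F y ∈ T := h2
    have h4 : ((thetaS F y : ↥(qdS F)) : ↥(Cfsg.qdOver F)) = heis b a (a * b - c) := by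
      rw [thetaS_coe]
      have : (y : ↥(Cfsg.qdOver F)) = heis a b c := hyx
      rw [this, thetaFun_heis]
    rw [← h4]
    exact Subgroup.mem_map.mpr ⟨_, h3, rfl⟩
  -- Step 1a: a nontrivial central element
  have h1a : ∃ z₀ : F, z₀ ≠ 0 ∧ heis 0 0 z₀ ∈ T' := by
    obtain ⟨t, ht, ht1⟩ := (Subgroup.ne_bot_iff_exists_ne_one.mp hT : ∃ t : T, t ≠ 1) |> fun ⟨t, h⟩ =>
      (⟨t.1, t.2, fun h' => h (Subtype.ext h')⟩ : ∃ t : ↥(qdS F), t ∈ T ∧ t ≠ 1)
    obtain ⟨a, b, c, hx⟩ := exists_heis t.2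
    have htT' : heis a b c ∈ T' := hx ▸ Subgroup.mem_map.mpr ⟨t, ht, rfl⟩
    have hne : heis a b c ≠ 1 := by
      intro h
      apply ht1
      apply Subtype.ext
      rw [hx, h]
      rfl
    have hcomm : ∀ a' b' : F, heis 0 0 (a * b' - a' * b) ∈ T' := by
      intro a' b'
      rw [← heis_comm a b c a' b' 0]
      apply T'.mul_mem htT'
      exact hconj _ (qdS_le_qdB (heis_mem a' b' 0)) _ (T'.inv_mem htT')
    by_cases ha : a = 0
    · by_cases hb : b = 0
      · refine ⟨c, ?_, ?_⟩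
        · intro hc
          apply hne
          rw [ha, hb, hc, heis_zero]
        · rw [ha, hb] at htT'
          exact htT'
      · refine ⟨-b, neg_ne_zero.mpr hb, ?_⟩
        have := hcomm 1 0
        rw [mul_zero, zero_sub, one_mul] at this
        exact this
    · refine ⟨a, ha, ?_⟩
      have := hcomm 0 1
      rw [mul_one, zero_mul, sub_zero] at this
      exact this
  -- Step 1b: the whole centre
  have hZ : ∀ z : F, heis 0 0 z ∈ T' := by
    intro z
    obtain ⟨z₀, hz₀, hz₀T⟩ := h1a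
    by_cases hz : z = 0
    · rw [hz, heis_zero]; exact T'.one_mem
    · have := hconj _ (mkQd_diag_mem (z / z₀) (div_ne_zero hz hz₀)) _ hz₀T
      rw [conj_diag_heis, mul_zero, div_mul_cancel₀ _ hz₀] at this
      exact this
  apply le_antisymm _ hBN
  intro g hg
  by_contra hgB
  obtain ⟨A, v, rfl⟩ := exists_mkQd g
  have hA10 : (A : Matrix (Fin 2) (Fin 2) F) 1 0 ≠ 0 := by
    intro h
    apply hgB
    change qdπ F _ ∈ borelB F
    rw [qdπ_mkQd]
    exact h
  have h1 : mkQd A v * heis 0 0 1 * (mkQd A v)⁻¹ ∈ T' := (Subgroup.mem_normalizer_iff.mp hg _).mp (hZ 1)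
  rw [heis_zero_eq, conj_mkQd_one] at h1
  have e1 : A • ![(1 : F), 0] = ![(A : Matrix (Fin 2) (Fin 2) F) 0 0, (A : Matrix (Fin 2) (Fin 2) F) 1 0] := by
    funext i
    fin_cases i
    · change (A • ![(1 : F), 0]) 0 = _
      rw [smul_apply_zero]; simp
    · change (A • ![(1 : F), 0]) 1 = _
      rw [smul_apply_one]; simp
  rw [e1, ← heis_zero_eq] at h1
  have h2 : heis 0 ((A : Matrix (Fin 2) (Fin 2) F) 1 0) 0 ∈ T' := by
    have := T'.mul_mem h1 (hZ (-(A : Matrix (Fin 2) (Fin 2) F) 0 0))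
    rw [heis_mul] at this
    convert this using 2 <;> ring
  have h3 : ∀ b : F, heis 0 b 0 ∈ T' := by
    intro b
    by_cases hb : b = 0
    · rw [hb, heis_zero]; exact T'.one_mem
    · have := hconj _ (mkQd_diag_mem ((A : Matrix (Fin 2) (Fin 2) F) 1 0 / b) (div_ne_zero hA10 hb)) _ h2
      rw [conj_diag_heis, mul_zero, inv_div, div_mul_cancel₀ _ hA10] at this
      exact this
  have h4 : ∀ a : F, heis a 0 0 ∈ T' := by
    intro a
    have := hθ 0 a 0 (h3 a)
    rw [zero_mul, sub_zero] at this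
    exact this
  have h5 : qdS F ≤ T' := by
    intro M hM
    obtain ⟨a, b, c, rfl⟩ := exists_heis hM
    have := T'.mul_mem (T'.mul_mem (h4 a) (h3 b)) (hZ (c - a * b))
    rw [heis_mul, heis_mul] at this
    convert this using 2 <;> ring
  have h6 : T' = qdS F := le_antisymm (Subgroup.map_subtype_le T) h5
  rw [h6, normalizer_qdS] at hg
  exact hgB hg

end heis

section transport

theorem characteristic_comap_equiv {H K : Type*} [Group H] [Group K] (e : H ≃* K) (T : Subgroup K)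
    (hT : T.Characteristic) : (T.comap e.toMonoidHom).Characteristic := by
  rw [Subgroup.characteristic_iff_comap_eq]
  intro φ
  ext x
  simp only [Subgroup.mem_comap, MulEquiv.coe_toMonoidHom]
  have := hT.fixed ((e.symm.trans φ).trans e)
  have h2 : e x ∈ T.comap ((e.symm.trans φ).trans e).toMonoidHom ↔ e x ∈ T := by rw [this]
  simpa using h2

theorem char_normalizer_transport {G : Type*} [Group G] (S₀ : Subgroup G) (α : G ≃* G)
    (N₀ : Subgroup G)
    (h₀ : ∀ T₀ : Subgroup S₀, T₀ ≠ ⊥ → T₀.Characteristic →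
      Subgroup.normalizer ((T₀.map S₀.subtype : Subgroup G) : Set G) = N₀)
    (T : Subgroup ↥(S₀.map α.toMonoidHom)) (hT : T ≠ ⊥) (hTc : T.Characteristic) :
    Subgroup.normalizer ((T.map (S₀.map α.toMonoidHom).subtype : Subgroup G) : Set G) = N₀.map α.toMonoidHom := by
  let e : ↥S₀ ≃* ↥(S₀.map α.toMonoidHom) := α.subgroupMap S₀
  have he : ∀ y : ↥S₀, ((e y : ↥(S₀.map α.toMonoidHom)) : G) = α (y : G) := fun y => rfl
  set T₀ : Subgroup ↥S₀ := T.comap e.toMonoidHom with hT₀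
  have hT₀c : T₀.Characteristic := characteristic_comap_equiv e T hTc
  have hT₀ne : T₀ ≠ ⊥ := by
    intro h
    apply hT
    rw [eq_bot_iff]
    intro t ht
    have : e.symm t ∈ T₀ := by
      change e (e.symm t) ∈ T
      rw [MulEquiv.apply_symm_apply]; exact ht
    rw [h, Subgroup.mem_bot] at this
    rw [Subgroup.mem_bot, ← e.apply_symm_apply t, this, map_one]
  have hkey : (T.map (S₀.map α.toMonoidHom).subtype : Subgroup G) = (T₀.map S₀.subtype).map α.toMonoidHom := by
    ext x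
    constructor
    · rintro ⟨t, ht, rfl⟩
      refine ⟨(e.symm t : ↥S₀), ⟨e.symm t, ?_, rfl⟩, ?_⟩
      · change e (e.symm t) ∈ T
        rw [MulEquiv.apply_symm_apply]; exact ht
      · change α ((e.symm t : ↥S₀) : G) = (t : G)
        rw [← he, MulEquiv.apply_symm_apply]
    · rintro ⟨_, ⟨y, hy, rfl⟩, rfl⟩
      exact ⟨e y, hy, rfl⟩
  rw [hkey, ← Subgroup.map_equiv_normalizer_eq, h₀ T₀ hT₀ne hT₀c]

end transport

section final

variable {F : Type*} [Field F] [Fintype F] {p : ℕ} [Fact p.Prime] [CharP F p]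

theorem qd_char_normalizer (S : Sylow p ↥(Cfsg.qdOver F)) (T : Subgroup ↥(S : Subgroup ↥(Cfsg.qdOver F)))
    (hT : T ≠ ⊥) (hTc : T.Characteristic) :
    Subgroup.normalizer ((T.map (S : Subgroup ↥(Cfsg.qdOver F)).subtype : Subgroup ↥(Cfsg.qdOver F)) : Set ↥(Cfsg.qdOver F)) =
      Subgroup.normalizer ((S : Subgroup ↥(Cfsg.qdOver F)) : Set ↥(Cfsg.qdOver F)) ∧
    Subgroup.normalizer ((S : Subgroup ↥(Cfsg.qdOver F)) : Set ↥(Cfsg.qdOver F)) ≠ ⊤ := by
  obtain ⟨g, hg⟩ := exists_sylow_eq_conj S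
  generalize (S : Subgroup ↥(Cfsg.qdOver F)) = S' at hg T hT hTc
  subst hg
  have hN : Subgroup.normalizer (((qdS F).map (MulAut.conj g).toMonoidHom : Subgroup ↥(Cfsg.qdOver F)) : Set ↥(Cfsg.qdOver F)) =
      (qdB F).map (MulAut.conj g).toMonoidHom := by
    rw [← Subgroup.map_equiv_normalizer_eq, normalizer_qdS]
  constructor
  · rw [hN]
    exact char_normalizer_transport (qdS F) (MulAut.conj g) (qdB F)
      (fun T₀ h1 h2 => normalizer_char_qdS T₀ h1 h2) T hT hTc
  · rw [hN]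
    intro h
    apply qdB_ne_top (F := F)
    rw [eq_top_iff]
    intro x _
    have : (MulAut.conj g) x ∈ (qdB F).map (MulAut.conj g).toMonoidHom := by rw [h]; exact Subgroup.mem_top _
    obtain ⟨y, hy, hyx⟩ := this
    have : y = x := (MulAut.conj g).injective hyx
    rw [← this]; exact hy

end final

end Cfsg.Agent.Helper46
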