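import Mathlib
import Cfsg.Prelude.Def_LocalEven
import Cfsg.Agent.Lib.Helper46.PCore
import Cfsg.Agent.Lib.Helper33.Basic

/-!
# Transport of `IsNormalizerPStable` along isomorphisms; an elementwise form of
  "the image of `g` lies in `O_p(N_G(P)/C_G(P))`".
-/

set_option autoImplicit false

namespace Cfsg.Agent.Helper46

open Cfsg

section nps

variable {G : Type*} [Group G] {p : ℕ}

/-- Elementwise form of membership in `O_p(N_G(P)/C_G(P))`. -/
theorem mk_mem_pCore_normalizer_quot_iff (P : Subgroup G) (g : G)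
    (hg : g ∈ Subgroup.normalizer (P : Set G)) :
    (QuotientGroup.mk (s := (Subgroup.centralizer (P : Set G)).subgroupOf (Subgroup.normalizer (P : Set G)))
          (⟨g, hg⟩ : ↥(Subgroup.normalizer (P : Set G)))) ∈
        pCore p (↥(Subgroup.normalizer (P : Set G)) ⧸
          (Subgroup.centralizer (P : Set G)).subgroupOf (Subgroup.normalizer (P : Set G))) ↔
      ∃ Q : Subgroup G, Q ≤ Subgroup.normalizer (P : Set G) ∧
        (∀ n ∈ Subgroup.normalizer (P : Set G), ∀ q ∈ Q, n * q * n⁻¹ ∈ Q) ∧ g ∈ Q ∧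
        ∀ y ∈ Q, ∃ k : ℕ, y ^ p ^ k ∈ Subgroup.centralizer (P : Set G) := by
  set N := Subgroup.normalizer (P : Set G) with hN
  set C := (Subgroup.centralizer (P : Set G)).subgroupOf N with hC
  constructor
  · intro h
    have hOn : (pCore p (↥N ⧸ C)).Normal := Cfsg.Agent.Helper33.pCore_normal p
    set Q₀ : Subgroup ↥N := (pCore p (↥N ⧸ C)).comap (QuotientGroup.mk' C) with hQ₀
    have hQ₀n : Q₀.Normal := hOn.comap _
    refine ⟨Q₀.map N.subtype, Subgroup.map_subtype_le _, ?_, ?_, ?_⟩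
    · rintro n hn _ ⟨q, hq, rfl⟩
      exact ⟨⟨n, hn⟩ * q * (⟨n, hn⟩ : ↥N)⁻¹, hQ₀n.conj_mem q hq ⟨n, hn⟩, rfl⟩
    · exact ⟨⟨g, hg⟩, h, rfl⟩
    · rintro _ ⟨q, hq, rfl⟩
      have hq' : QuotientGroup.mk' C q ∈ pCore p (↥N ⧸ C) := hq
      obtain ⟨k, hk⟩ := pCore_pow_eq_one hq'
      refine ⟨k, ?_⟩
      rw [QuotientGroup.mk'_apply, ← QuotientGroup.mk_pow, QuotientGroup.eq_one_iff] at hk
      have : ((q ^ p ^ k : ↥N) : G) ∈ Subgroup.centralizer (P : Set G) := hk
      simpa using this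
  · rintro ⟨Q, hQN, hQn, hgQ, hQp⟩
    set Q₀ : Subgroup ↥N := Q.subgroupOf N with hQ₀
    have hQ₀n : Q₀.Normal := by
      refine ⟨fun q hq n => ?_⟩
      rw [hQ₀, Subgroup.mem_subgroupOf] at hq ⊢
      exact hQn n.1 n.2 q.1 hq
    have hmapN : (Q₀.map (QuotientGroup.mk' C)).Normal :=
      hQ₀n.map _ (QuotientGroup.mk'_surjective _)
    have hmapP : IsPGroup p (Q₀.map (QuotientGroup.mk' C)) := by
      rw [isPGroup_subgroup_iff]
      rintro _ ⟨q, hq, rfl⟩
      have hq' : (q : G) ∈ Q := hq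
      obtain ⟨k, hk⟩ := hQp q.1 hq'
      refine ⟨k, ?_⟩
      rw [QuotientGroup.mk'_apply, ← QuotientGroup.mk_pow, QuotientGroup.eq_one_iff]
      rw [hC, Subgroup.mem_subgroupOf]
      simpa using hk
    apply le_pCore hmapN hmapP
    exact ⟨⟨g, hg⟩, hgQ, rfl⟩

/-- Elementwise form of `IsNormalizerPStable`. -/
theorem isNormalizerPStable_iff :
    IsNormalizerPStable p G ↔
      ∀ (P : Subgroup G), IsPGroup p P → ∀ g ∈ Subgroup.normalizer (P : Set G),
        ⁅⁅P, Subgroup.zpowers g⁆, Subgroup.zpowers g⁆ = ⊥ →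
        ∃ Q : Subgroup G, Q ≤ Subgroup.normalizer (P : Set G) ∧
          (∀ n ∈ Subgroup.normalizer (P : Set G), ∀ q ∈ Q, n * q * n⁻¹ ∈ Q) ∧ g ∈ Q ∧
          ∀ y ∈ Q, ∃ k : ℕ, y ^ p ^ k ∈ Subgroup.centralizer (P : Set G) := by
  constructor
  · intro h P hP g hg hq
    exact (mk_mem_pCore_normalizer_quot_iff P g hg).mp (h P hP g hg hq)
  · intro h P hP g hg hq
    exact (mk_mem_pCore_normalizer_quot_iff P g hg).mpr (h P hP g hg hq)

/-- `IsNormalizerPStable` is invariant under isomorphism. -/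
theorem isNormalizerPStable_of_mulEquiv {H : Type*} [Group H] (e : G ≃* H)
    (h : IsNormalizerPStable p G) : IsNormalizerPStable p H := by
  rw [isNormalizerPStable_iff] at h ⊢
  intro P hP g hg hq
  set P₀ : Subgroup G := P.map e.symm.toMonoidHom with hP₀
  have hmemP₀ : ∀ x : G, x ∈ P₀ ↔ e x ∈ P := by
    intro x
    rw [hP₀, Subgroup.mem_map]
    constructor
    · rintro ⟨y, hy, rfl⟩
      simpa using hy
    · intro hx
      exact ⟨e x, hx, by simp⟩
  have hP₀p : IsPGroup p P₀ := hP.map _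
  have hnorm : ∀ n : G, n ∈ Subgroup.normalizer (P₀ : Set G) ↔ e n ∈ Subgroup.normalizer (P : Set H) := by
    intro n
    rw [Subgroup.mem_normalizer_iff, Subgroup.mem_normalizer_iff]
    constructor
    · intro hn y
      have := hn (e.symm y)
      rw [hmemP₀, hmemP₀] at this
      simpa using this
    · intro hn x
      rw [hmemP₀, hmemP₀]
      have := hn (e x)
      simpa using this
  have hcent : ∀ n : G, n ∈ Subgroup.centralizer (P₀ : Set G) ↔ e n ∈ Subgroup.centralizer (P : Set H) := by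
    intro n
    rw [Subgroup.mem_centralizer_iff, Subgroup.mem_centralizer_iff]
    constructor
    · intro hn y hy
      have hy' : e.symm y ∈ P₀ := by rw [hmemP₀]; simpa using hy
      have := congrArg e (hn (e.symm y) hy')
      simpa using this
    · intro hn x hx
      have hx' : e x ∈ P := (hmemP₀ x).mp hx
      have := hn (e x) hx'
      apply e.injective
      simpa using this
  have hg₀ : e.symm g ∈ Subgroup.normalizer (P₀ : Set G) := by rw [hnorm]; simpa using hg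
  have hz : Subgroup.zpowers (e.symm g) = (Subgroup.zpowers g).map e.symm.toMonoidHom := by
    rw [MonoidHom.map_zpowers]; rfl
  have hq₀ : ⁅⁅P₀, Subgroup.zpowers (e.symm g)⁆, Subgroup.zpowers (e.symm g)⁆ = ⊥ := by
    rw [hz, hP₀, ← Subgroup.map_commutator, ← Subgroup.map_commutator, hq, Subgroup.map_bot]
  obtain ⟨Q, hQN, hQn, hgQ, hQp⟩ := h P₀ hP₀p (e.symm g) hg₀ hq₀
  refine ⟨Q.map e.toMonoidHom, ?_, ?_, ?_, ?_⟩
  · rintro _ ⟨q, hq, rfl⟩
    exact (hnorm q).mp (hQN hq)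
  · rintro n hn _ ⟨q, hq, rfl⟩
    have hn' : e.symm n ∈ Subgroup.normalizer (P₀ : Set G) := by rw [hnorm]; simpa using hn
    refine ⟨e.symm n * q * (e.symm n)⁻¹, hQn _ hn' q hq, ?_⟩
    simp
  · exact ⟨e.symm g, hgQ, by simp⟩
  · rintro _ ⟨q, hq, rfl⟩
    obtain ⟨k, hk⟩ := hQp q hq
    refine ⟨k, ?_⟩
    have := (hcent _).mp hk
    simpa using this

end nps

end Cfsg.Agent.Helper46
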