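import Mathlib
import Cfsg.Prelude.Def_LocalEven
import Cfsg.Agent.Lib.Helper46.Qd2
import Cfsg.Agent.Lib.Helper46.QdConv1
import Cfsg.Agent.Lib.Helper11.ZJ9

/-!
# `Qd(F)` is not `p`-stable (normalizer form), and `Z(J(S))` does not control strong fusion in it
-/

set_option autoImplicit false

namespace Cfsg.Agent.Helper46

open Cfsg
open scoped commutatorElement

section notstable

variable {F : Type*} [Field F]

omit [Field F] in
theorem vec_eta (v : Fin 2 → F) : v = ![v 0, v 1] := by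
  funext i
  fin_cases i <;> rfl

theorem mem_qdKer_iff_heis {M : ↥(Cfsg.qdOver F)} : M ∈ (qdπ F).ker ↔ ∃ b c, M = heis 0 b c := by
  rw [mem_qdKer_iff]
  constructor
  · rintro ⟨v, rfl⟩
    refine ⟨v 1, v 0, ?_⟩
    rw [heis_zero_eq, ← vec_eta]
  · rintro ⟨b, c, rfl⟩
    exact ⟨![c, b], heis_zero_eq b c⟩

theorem heis_mem_qdK_iff {a b c : F} : heis a b c ∈ qdK F ↔ b = 0 ∧ c = 0 := by
  rw [mem_qdK_iff]
  constructor
  · rintro ⟨A, hA⟩
    obtain ⟨-, h2⟩ := mkQd_inj hA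
    have h0 := congrFun h2 0
    have h1 := congrFun h2 1
    simp at h0 h1
    exact ⟨h1, h0⟩
  · rintro ⟨rfl, rfl⟩
    refine ⟨unip a, ?_⟩
    rw [heis]
    congr 1
    funext i
    fin_cases i <;> rfl

theorem mem_qdS_inf_qdK {M : ↥(Cfsg.qdOver F)} (hM : M ∈ qdS F ⊓ qdK F) : ∃ a, M = heis a 0 0 := by
  obtain ⟨a, b, c, rfl⟩ := exists_heis hM.1
  obtain ⟨rfl, rfl⟩ := heis_mem_qdK_iff.mp hM.2
  exact ⟨a, rfl⟩

theorem zpowers_heis_le : Subgroup.zpowers (heis (1 : F) 0 0) ≤ qdS F ⊓ qdK F := by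
  rw [Subgroup.zpowers_le]
  exact ⟨heis_mem _ _ _, heis_mem_qdK_iff.mpr ⟨rfl, rfl⟩⟩

theorem heis_center_commute (a c : F) : heis 0 0 c * heis a 0 0 = heis a 0 0 * heis 0 0 c := by
  rw [heis_mul, heis_mul]
  congr 1 <;> ring

/-- the transvection `heis 1 0 0` acts quadratically on the translation subgroup -/
theorem quadratic_heis :
    ⁅⁅(qdπ F).ker, Subgroup.zpowers (heis (1 : F) 0 0)⁆, Subgroup.zpowers (heis (1 : F) 0 0)⁆ = ⊥ := by
  rw [Subgroup.commutator_eq_bot_iff_le_centralizer, Subgroup.commutator_le]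
  intro x hx z hz
  obtain ⟨b, c, rfl⟩ := mem_qdKer_iff_heis.mp hx
  obtain ⟨a, rfl⟩ := mem_qdS_inf_qdK (zpowers_heis_le hz)
  have h1 : ⁅heis 0 b c, heis a 0 0⁆ = heis 0 0 (0 * 0 - a * b) := by
    rw [← heis_comm 0 b c a 0 0, commutatorElement_def]
    group
  rw [h1, Subgroup.mem_centralizer_iff]
  intro z' hz'
  obtain ⟨a', rfl⟩ := mem_qdS_inf_qdK (zpowers_heis_le hz')
  exact (heis_center_commute a' _).symm

theorem qdπ_eq_one_of_mem_centralizer {y : ↥(Cfsg.qdOver F)}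
    (hy : y ∈ Subgroup.centralizer (((qdπ F).ker : Subgroup ↥(Cfsg.qdOver F)) : Set ↥(Cfsg.qdOver F))) :
    qdπ F y = 1 := by
  obtain ⟨A, t, rfl⟩ := exists_mkQd y
  rw [qdπ_mkQd]
  apply eq_one_of_smul_eq
  intro v
  have h := Subgroup.mem_centralizer_iff.mp hy (mkQd 1 v) (mem_qdKer_iff.mpr ⟨v, rfl⟩)
  rw [mkQd_mul, mkQd_mul, one_smul, mul_one, one_mul] at h
  obtain ⟨-, h2⟩ := mkQd_inj h
  -- h2 : t + v = A • v + t
  have : A • v + t = v + t := by rw [← h2, add_comm]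
  exact add_right_cancel this

variable [Fintype F] {p : ℕ} [Fact p.Prime] [CharP F p]

/-- `Qd(F)` is not `p`-stable in the normalizer form. -/
theorem not_isNormalizerPStable_qdOver : ¬ IsNormalizerPStable p ↥(Cfsg.qdOver F) := by
  intro h
  rw [isNormalizerPStable_iff] at h
  have hnormW : Subgroup.normalizer (((qdπ F).ker : Subgroup ↥(Cfsg.qdOver F)) : Set ↥(Cfsg.qdOver F)) = ⊤ :=
    Subgroup.normalizer_eq_top_iff.mpr inferInstance
  obtain ⟨Q, -, hQn, hgQ, hQp⟩ := h (qdπ F).ker (qdKer_isPGroup (p := p)) (heis 1 0 0)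
    (by rw [hnormW]; trivial) quadratic_heis
  have hQnormal : Q.Normal := ⟨fun q hq n => hQn n (by rw [hnormW]; trivial) q hq⟩
  have hmapN : (Q.map (qdπ F)).Normal := hQnormal.map _ qdπ_surjective
  have hmapP : IsPGroup p (Q.map (qdπ F)) := by
    rw [isPGroup_subgroup_iff]
    rintro _ ⟨q, hq, rfl⟩
    obtain ⟨k, hk⟩ := hQp q hq
    refine ⟨k, ?_⟩
    rw [← map_pow]
    exact qdπ_eq_one_of_mem_centralizer hk
  have hbot := sl2_normal_pGroup_eq_bot _ hmapN hmapP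
  have h1 : qdπ F (heis 1 0 0) ∈ Q.map (qdπ F) := Subgroup.mem_map_of_mem _ hgQ
  rw [hbot, Subgroup.mem_bot, heis, qdπ_mkQd, ← unip_zero] at h1
  exact one_ne_zero (unip_inj h1)

end notstable

section char

variable {P : Type*} [Group P]

theorem maxAbelian_map_mem (φ : P ≃* P) {A : Subgroup P} (hA : A ∈ Cfsg.maxAbelianSubgroups P) :
    A.map φ.toMonoidHom ∈ Cfsg.maxAbelianSubgroups P := by
  obtain ⟨hAc, hAmax⟩ := hA
  refine ⟨?_, ?_⟩
  · exact Subgroup.map_isMulCommutative A φ.toMonoidHom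
  · intro B hB
    have hcard : Nat.card (A.map φ.toMonoidHom) = Nat.card A :=
      Subgroup.card_map_of_injective φ.injective
    rw [hcard]
    exact hAmax B hB

theorem thompsonSubgroupA_characteristic : (Cfsg.thompsonSubgroupA P).Characteristic := by
  rw [Subgroup.characteristic_iff_map_le]
  intro φ
  unfold Cfsg.thompsonSubgroupA
  rw [Subgroup.map_le_iff_le_comap, sSup_le_iff]
  intro A hA
  rw [← Subgroup.map_le_iff_le_comap]
  exact le_sSup (maxAbelian_map_mem φ hA)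

end char

end Cfsg.Agent.Helper46
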