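import Mathlib
import Cfsg.Prelude.Def_LocalEven
import Cfsg.Agent.Lib.Helper46.QdConv2
import Cfsg.Agent.Lib.Helper11.ZJ9

/-!
# `Z(J(S))` does not control strong fusion in `Qd(F)`
-/

set_option autoImplicit false

namespace Cfsg.Agent.Helper46

open Cfsg

section nocontrol

variable {F : Type*} [Field F]

theorem qdS_ne_bot : qdS F ≠ ⊥ := by
  intro h
  have h1 : heis (1 : F) 0 0 ∈ qdS F := heis_mem _ _ _
  rw [h, Subgroup.mem_bot, ← heis_zero] at h1
  exact one_ne_zero (heis_inj h1).1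

variable [Fintype F] {p : ℕ} [Fact p.Prime] [CharP F p]

theorem exists_sylow_coe_eq_qdS :
    ∃ T : Sylow p ↥(Cfsg.qdOver F), (T : Subgroup ↥(Cfsg.qdOver F)) = qdS F := by
  obtain ⟨T, hT⟩ := (qdS_isPGroup (p := p) (F := F)).exists_le_sylow
  refine ⟨T, ?_⟩
  obtain ⟨g, hg⟩ := exists_sylow_eq_conj T
  symm
  apply Subgroup.eq_of_le_of_card_ge hT
  rw [hg, Subgroup.card_map_of_injective (MulAut.conj g).injective]

/-- In `Qd(F)`, the subgroup `Z(J(S))` of the standard Sylow `p`-subgroup does not control strong fusion. -/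
theorem not_controls_ZJ_qdOver :
    ∃ T : Sylow p ↥(Cfsg.qdOver F),
      ¬ ControlsStrongFusion p (centerThompsonAOf (T : Subgroup ↥(Cfsg.qdOver F))) := by
  obtain ⟨T, hT⟩ := exists_sylow_coe_eq_qdS (F := F) (p := p)
  refine ⟨T, ?_⟩
  rw [hT]
  set J := thompsonSubgroupA ↥(qdS F) with hJ
  set T₀ : Subgroup ↥(qdS F) := J ⊓ Subgroup.centralizer (J : Set ↥(qdS F)) with hT₀
  have hZ : centerThompsonAOf (qdS F) = T₀.map (qdS F).subtype :=
    Cfsg.Agent.Helper11.ZJ.centerThompsonAOf_eq' (qdS F)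
  have hJc : J.Characteristic := thompsonSubgroupA_characteristic
  have hT₀c : T₀.Characteristic := inferInstance
  have hne : T₀ ≠ ⊥ := by
    intro h0
    have h1 : centerThompsonAOf (qdS F) = ⊥ := by rw [hZ, h0, Subgroup.map_bot]
    rw [Cfsg.Agent.Helper11.ZJ.centerThompsonAOf_eq_W] at h1
    exact Cfsg.Agent.Helper11.ZJ.ZJ_ne_bot (qdS_isPGroup (p := p)) qdS_ne_bot h1
  have hN := normalizer_char_qdS T₀ hne hT₀c
  rw [← hZ] at hN
  rintro ⟨T', -, hctl⟩
  have hW : (qdπ F).ker ≤ (T' : Subgroup ↥(Cfsg.qdOver F)) := by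
    rw [← pCore_qdOver (p := p)]
    exact pCore_le_sylow T'
  have ha : mkQd 1 ![(0 : F), 1] ∈ (qdπ F).ker := mem_qdKer_iff.mpr ⟨_, rfl⟩
  obtain ⟨-, h⟩ := hctl {mkQd 1 ![(0 : F), 1]} (by
    intro x hx
    rw [Set.mem_singleton_iff] at hx
    rw [hx]
    exact hW ha)
  obtain ⟨n, hn, hna⟩ := h (mkQd (weylW F) 0) (by
    rintro _ ⟨x, hx, rfl⟩
    rw [Set.mem_singleton_iff] at hx
    rw [hx]
    apply hW
    exact (inferInstance : ((qdπ F).ker).Normal).conj_mem _ ha _)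
  have hna' := hna _ (Set.mem_singleton _)
  rw [hN] at hn
  obtain ⟨B, t, rfl⟩ := exists_mkQd n
  have hB10 : (B : Matrix (Fin 2) (Fin 2) F) 1 0 = 0 := by
    have : qdπ F (mkQd B t) ∈ borelB F := hn
    rwa [qdπ_mkQd] at this
  rw [conj_mkQd_one, conj_mkQd_one] at hna'
  obtain ⟨-, h2⟩ := mkQd_inj hna'
  have h3 := congrFun h2 1
  rw [smul_apply_one, smul_apply_one] at h3
  have hw : ((weylW F : Matrix.SpecialLinearGroup (Fin 2) F) : Matrix (Fin 2) (Fin 2) F) = !![0, -1; 1, 0] := rfl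
  rw [hw] at h3
  simp at h3
  have hdet := sl2_det B
  rw [← h3, hB10] at hdet
  simp at hdet

end nocontrol

end Cfsg.Agent.Helper46
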