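import Mathlib
import Cfsg.Prelude.Def_LocalEven
import Cfsg.Agent.Lib.Helper46.QdConv3

/-!
# Transport of "`Z(J(T))` controls strong fusion" along isomorphisms; the converse halves of
  the `Qd(p)`-free criteria
-/

set_option autoImplicit false

namespace Cfsg.Agent.Helper46

open Cfsg

section transport

variable {X Y : Type*} [Group X] [Group Y] {p : ℕ} [Fact p.Prime]

omit [Fact p.Prime] in
/-- control of strong fusion is transported by an isomorphism -/
theorem controlsStrongFusion_map (e : X ≃* Y) (U : Subgroup X) (h : ControlsStrongFusion p U) :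
    ControlsStrongFusion p (U.map e.toMonoidHom) := by
  obtain ⟨T', hUT', hctl⟩ := h
  have hrange : (T' : Subgroup X) ≤ e.symm.toMonoidHom.range := by
    intro x _
    exact ⟨e x, by simp⟩
  have hinj : Function.Injective e.symm.toMonoidHom := e.symm.injective
  set T'' : Sylow p Y := T'.comapOfInjective e.symm.toMonoidHom hinj hrange with hT''
  have hmemT'' : ∀ y : Y, y ∈ (T'' : Subgroup Y) ↔ e.symm y ∈ (T' : Subgroup X) := by
    intro y
    rw [hT'', Sylow.coe_comapOfInjective, Subgroup.mem_comap]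
    rfl
  have hmemU : ∀ y : Y, y ∈ U.map e.toMonoidHom ↔ e.symm y ∈ U := by
    intro y
    rw [Subgroup.mem_map]
    constructor
    · rintro ⟨u, hu, rfl⟩
      simpa using hu
    · intro hy
      exact ⟨e.symm y, hy, by simp⟩
  refine ⟨T'', ?_, ?_⟩
  · intro y hy
    rw [hmemT'']
    exact hUT' ((hmemU y).mp hy)
  · intro A hA
    refine ⟨hA, ?_⟩
    intro g hg
    obtain ⟨-, h0⟩ := hctl (e.symm '' A) (by
      rintro _ ⟨a, ha, rfl⟩
      exact (hmemT'' a).mp (hA ha))
    obtain ⟨n₀, hn₀, hna⟩ := h0 (e.symm g) (by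
      rintro _ ⟨_, ⟨a, ha, rfl⟩, rfl⟩
      have h1 : g * a * g⁻¹ ∈ (T'' : Subgroup Y) := hg ⟨a, ha, rfl⟩
      have h2 := (hmemT'' _).mp h1
      have h3 : e.symm g * e.symm a * (e.symm g)⁻¹ ∈ (T' : Subgroup X) := by simpa using h2
      exact h3)
    refine ⟨e n₀, ?_, ?_⟩
    · rw [Subgroup.mem_normalizer_iff] at hn₀ ⊢
      intro y
      rw [hmemU, hmemU]
      have := hn₀ (e.symm y)
      simpa using this
    · intro a ha
      have h1 := hna (e.symm a) ⟨a, ha, rfl⟩
      have h2 := congrArg e h1
      simpa using h2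

/-- `Z(J(P))` commutes with isomorphisms. -/
theorem centerThompsonAOf_map [Finite X] (e : X ≃* Y) (P : Subgroup X) :
    centerThompsonAOf (P.map e.toMonoidHom) = (centerThompsonAOf P).map e.toMonoidHom := by
  have : Finite Y := Finite.of_equiv X e.toEquiv
  rw [Cfsg.Agent.Helper11.ZJ.centerThompsonAOf_eq_W, Cfsg.Agent.Helper11.ZJ.centerThompsonAOf_eq_W]
  apply Cfsg.Agent.Helper11.ZJ.W_comm_map
  rw [(MonoidHom.ker_eq_bot_iff _).mpr e.injective, bot_inf_eq]

/-- if `Z(J(T))` controls strong fusion for all Sylow `p`-subgroups `T` of `X`, the same holds in any group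
isomorphic to `X`. -/
theorem controls_ZJ_of_mulEquiv [Finite X] (e : X ≃* Y)
    (h : ∀ T : Sylow p X, ControlsStrongFusion p (centerThompsonAOf (T : Subgroup X))) :
    ∀ T : Sylow p Y, ControlsStrongFusion p (centerThompsonAOf (T : Subgroup Y)) := by
  intro T
  have hrange : (T : Subgroup Y) ≤ e.toMonoidHom.range := by
    intro y _
    exact ⟨e.symm y, by simp⟩
  have hinj : Function.Injective e.toMonoidHom := e.injective
  set T₀ : Sylow p X := T.comapOfInjective e.toMonoidHom hinj hrange with hT₀
  have hmap : (T₀ : Subgroup X).map e.toMonoidHom = (T : Subgroup Y) := by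
    rw [hT₀, Sylow.coe_comapOfInjective]
    exact Subgroup.map_comap_eq_self_of_surjective e.surjective _
  have h1 := controlsStrongFusion_map e _ (h T₀)
  rw [← centerThompsonAOf_map, hmap] at h1
  exact h1

end transport

section converse

variable {G : Type*} [Group G] {p : ℕ} [Fact p.Prime]

/-- converse half of "`Qd(p)`-free iff all sections are `p`-stable" -/
theorem not_involves_qd_of_sections_stable
    (h : ∀ (K R : Subgroup G) [_hR : (R.subgroupOf K).Normal], IsNormalizerPStable p (K ⧸ R.subgroupOf K)) :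
    ¬ Involves ↥(Cfsg.qd p) G := by
  rintro ⟨K, R, hR, ⟨e⟩⟩
  have h1 := isNormalizerPStable_of_mulEquiv e (h K R)
  have : CharP (ZMod p) p := ZMod.charP p
  exact not_isNormalizerPStable_qdOver (F := ZMod p) (p := p) h1

/-- converse half of "`Qd(p)`-free iff `Z(J(T))` controls strong fusion in all sections" -/
theorem not_involves_qd_of_sections_control [Finite G]
    (h : ∀ (K R : Subgroup G) [_hR : (R.subgroupOf K).Normal], ∀ T : Sylow p (K ⧸ R.subgroupOf K),
      ControlsStrongFusion p (centerThompsonAOf (T : Subgroup (K ⧸ R.subgroupOf K)))) :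
    ¬ Involves ↥(Cfsg.qd p) G := by
  rintro ⟨K, R, hR, ⟨e⟩⟩
  have : CharP (ZMod p) p := ZMod.charP p
  obtain ⟨T, hT⟩ := not_controls_ZJ_qdOver (F := ZMod p) (p := p)
  exact hT (controls_ZJ_of_mulEquiv e (h K R) T)

end converse

end Cfsg.Agent.Helper46
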