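import Mathlib
import Cfsg.Prelude.Def_LocalEven
import Cfsg.Agent.Lib.Helper46.FusInd7
import Cfsg.Agent.Lib.Helper46.QdConv4
import Cfsg.Agent.Lib.Helper11.QP8

/-!
# Consequences of the fusion induction, modulo the Dickson-lite hypothesis `DLHyp p`

* `control_of_qdFree`: the statement of S3081 (Glauberman: in a `Qd(p)`-free group, `N(Z(J(D)))` controls strong fusion).
* `qdFree_iff_sections_stable`, `qdFree_iff_sections_control`: the statements S2795 and S2794.
-/

set_option autoImplicit false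
set_option linter.unusedSectionVars false

namespace Cfsg.Agent.Helper46

open Cfsg Cfsg.Agent.Helper11.ZJ

universe u

variable {p : ℕ} [Fact p.Prime]

theorem localControl_of_qdFree (𝒢 : GoodSys.{u} p) (hDL : Cfsg.Agent.Helper11.QP.DLHyp p) (hp : p ≠ 2)
    {X : Type u} [Group X] [Finite X] (hfree : ¬ Involves ↥(Cfsg.qd p) X) : LocalControl 𝒢 X :=
  general_control' 𝒢 hp
    (fun _ _ _ hY => Cfsg.Agent.Helper11.QP.isNormalizerPStable_of_qdFree hDL hp hY) hfree

/-- S3081 modulo `DLHyp`. -/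
theorem control_of_qdFree (hDL : Cfsg.Agent.Helper11.QP.DLHyp p) {G : Type u} [Group G] [Finite G] (hp : p ≠ 2)
    (P : Sylow p G) (D : Subgroup G) (hD : Cfsg.IsStronglyClosed D (P : Subgroup G))
    (hqd : ¬ Cfsg.Involves ↥(Cfsg.qd p) G) :
    (∀ A : Set G, A ⊆ (P : Subgroup G) → Cfsg.ControlsStrongFusionOf
      (Subgroup.normalizer ((Cfsg.centerThompsonAOf D) : Set G)) (P : Subgroup G) A) ∧
    (∀ A : Set G, A ⊆ (P : Subgroup G) → Cfsg.ControlsStrongFusionOf
      (Subgroup.normalizer ((Cfsg.omegaOne p (Cfsg.centerThompsonOf p D)) : Set G)) (P : Subgroup G) A) := by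
  have hDp : IsPGroup p D := P.isPGroup'.to_le hD.1
  refine ⟨fun A hA => ⟨hA, fun g hg => ?_⟩, fun A hA => ⟨hA, fun g hg => ?_⟩⟩
  · rw [centerThompsonAOf_eq_W]
    obtain ⟨x, hx, hxa⟩ := localControl_of_qdFree (commSys p) hDL hp hqd P D hD A g hA
      (fun a ha => hg ⟨a, ha, rfl⟩)
    exact ⟨x, hx, fun a ha => (hxa a ha).symm⟩
  · rw [omegaOne_centerThompsonOf_eq_W D hDp]
    obtain ⟨x, hx, hxa⟩ := localControl_of_qdFree (elemAbSys p) hDL hp hqd P D hD A g hA
      (fun a ha => hg ⟨a, ha, rfl⟩)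
    exact ⟨x, hx, fun a ha => (hxa a ha).symm⟩

/-- S2795 modulo `DLHyp`. -/
theorem qdFree_iff_sections_stable (hDL : Cfsg.Agent.Helper11.QP.DLHyp p) {G : Type u} [Group G] [Finite G]
    (hp : p ≠ 2) :
    ¬ Cfsg.Involves ↥(Cfsg.qd p) G ↔
      ∀ (K R : Subgroup G) [_hR : (R.subgroupOf K).Normal], Cfsg.IsNormalizerPStable p (K ⧸ R.subgroupOf K) := by
  constructor
  · intro hfree K R hR
    apply Cfsg.Agent.Helper11.QP.isNormalizerPStable_of_qdFree hDL hp
    intro hinv
    apply hfree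
    have h1 : Involves ↥(Cfsg.qd p) ↥K :=
      involves_of_involves_quotient (QuotientGroup.mk' (R.subgroupOf K)) (QuotientGroup.mk'_surjective _) hinv
    exact involves_of_involves_subgroup K h1
  · intro h
    exact not_involves_qd_of_sections_stable (fun K R _ => h K R)

/-- S2794 modulo `DLHyp`. -/
theorem qdFree_iff_sections_control (hDL : Cfsg.Agent.Helper11.QP.DLHyp p) {G : Type u} [Group G] [Finite G]
    (hp : p ≠ 2) :
    ¬ Cfsg.Involves ↥(Cfsg.qd p) G ↔
      ∀ (K R : Subgroup G) [_hR : (R.subgroupOf K).Normal], ∀ T : Sylow p (K ⧸ R.subgroupOf K),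
        Cfsg.ControlsStrongFusion p (Cfsg.centerThompsonAOf (T : Subgroup (K ⧸ R.subgroupOf K))) := by
  constructor
  · intro hfree K R hR T
    have hfree' : ¬ Involves ↥(Cfsg.qd p) (K ⧸ R.subgroupOf K) := by
      intro hinv
      apply hfree
      have h1 : Involves ↥(Cfsg.qd p) ↥K :=
        involves_of_involves_quotient (QuotientGroup.mk' (R.subgroupOf K)) (QuotientGroup.mk'_surjective _) hinv
      exact involves_of_involves_subgroup K h1
    have hsc : IsStronglyClosed (T : Subgroup (K ⧸ R.subgroupOf K)) (T : Subgroup (K ⧸ R.subgroupOf K)) :=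
      ⟨le_rfl, fun _ _ _ h => h⟩
    have h1 := (control_of_qdFree hDL hp T (T : Subgroup (K ⧸ R.subgroupOf K)) hsc hfree').1
    refine ⟨T, ?_, h1⟩
    rw [centerThompsonAOf_eq_W]
    exact W_le goodAx_comm _
  · intro h
    exact not_involves_qd_of_sections_control (fun K R _ T => h K R T)

end Cfsg.Agent.Helper46
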