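import Mathlib
import Cfsg.Prelude.Def_LieTypeDatum
import Cfsg.Agent.Lib.Helper43.GF.Defs
import Cfsg.Agent.Lib.Helper5.OrthLag10

/-!
# GF (CL): class compatibility of the twisted embedding (helper43's GF server, row S2717)

Characteristic-free proof by pure transport: `Cfsg.PreservesSingularClasses` is invariant under a
semilinear bijection of coordinate spaces compatible with the forms and the matrices, and any two
quadratic extensions of a finite field are isomorphic over it.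
-/

set_option autoImplicit false
set_option linter.unusedSectionVars false
set_option linter.unusedVariables false

namespace Cfsg.Agent.Helper46.GF

open Matrix

section transport

variable {K₁ : Type*} {K₂ : Type*} [Field K₁] [Field K₂]
  {ι₁ ι₂ : Type} [Fintype ι₁] [DecidableEq ι₁] [Fintype ι₂] [DecidableEq ι₂]

/-- A semilinear bijection between coordinate spaces, compatible with the forms `Q₁, Q₂` and the
matrices `M₁, M₂`. -/
structure SemiIso (φ : K₁ ≃+* K₂) (Q₁ : (ι₁ → K₁) → K₁) (Q₂ : (ι₂ → K₂) → K₂)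
    (M₁ : Matrix ι₁ ι₁ K₁) (M₂ : Matrix ι₂ ι₂ K₂) where
  Φ : (ι₁ → K₁) → (ι₂ → K₂)
  Ψ : (ι₂ → K₂) → (ι₁ → K₁)
  left : ∀ v, Ψ (Φ v) = v
  right : ∀ w, Φ (Ψ w) = w
  add : ∀ v v', Φ (v + v') = Φ v + Φ v'
  smul : ∀ (c : K₁) v, Φ (c • v) = φ c • Φ v
  hQ : ∀ v, Q₂ (Φ v) = φ (Q₁ v)
  hM : ∀ v, M₂ *ᵥ Φ v = Φ (M₁ *ᵥ v)

variable {φ : K₁ ≃+* K₂} {Q₁ : (ι₁ → K₁) → K₁} {Q₂ : (ι₂ → K₂) → K₂}
  {M₁ : Matrix ι₁ ι₁ K₁} {M₂ : Matrix ι₂ ι₂ K₂}

/-- The inverse semilinear bijection. -/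
def SemiIso.symm (S : SemiIso φ Q₁ Q₂ M₁ M₂) : SemiIso φ.symm Q₂ Q₁ M₂ M₁ where
  Φ := S.Ψ
  Ψ := S.Φ
  left := S.right
  right := S.left
  add w w' := by
    have h := S.add (S.Ψ w) (S.Ψ w')
    rw [S.right, S.right] at h
    rw [← h, S.left]
  smul c w := by
    have h := S.smul (φ.symm c) (S.Ψ w)
    rw [S.right, φ.apply_symm_apply] at h
    rw [← h, S.left]
  hQ w := by
    have h := S.hQ (S.Ψ w)
    rw [S.right] at h
    rw [h, φ.symm_apply_apply]
  hM w := by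
    have h := S.hM (S.Ψ w)
    rw [S.right] at h
    rw [h, S.left]

theorem SemiIso.Ψ_add (S : SemiIso φ Q₁ Q₂ M₁ M₂) (w w' : ι₂ → K₂) :
    S.Ψ (w + w') = S.Ψ w + S.Ψ w' := S.symm.add w w'

theorem SemiIso.Ψ_smul (S : SemiIso φ Q₁ Q₂ M₁ M₂) (c : K₂) (w : ι₂ → K₂) :
    S.Ψ (c • w) = φ.symm c • S.Ψ w := S.symm.smul c w

theorem SemiIso.Ψ_zero (S : SemiIso φ Q₁ Q₂ M₁ M₂) : S.Ψ 0 = 0 := by
  have h := S.Ψ_smul 0 0
  rw [zero_smul, map_zero, zero_smul] at h
  exact h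

/-- The image of a subspace. -/
def SemiIso.push (S : SemiIso φ Q₁ Q₂ M₁ M₂) (U : Submodule K₁ (ι₁ → K₁)) :
    Submodule K₂ (ι₂ → K₂) where
  carrier := {w | S.Ψ w ∈ U}
  add_mem' := by
    intro a b ha hb
    show S.Ψ (a + b) ∈ U
    rw [S.Ψ_add]
    exact U.add_mem ha hb
  zero_mem' := by
    show S.Ψ 0 ∈ U
    rw [S.Ψ_zero]
    exact U.zero_mem
  smul_mem' := by
    intro c a ha
    show S.Ψ (c • a) ∈ U
    rw [S.Ψ_smul]
    exact U.smul_mem _ ha

theorem SemiIso.mem_push (S : SemiIso φ Q₁ Q₂ M₁ M₂) (U : Submodule K₁ (ι₁ → K₁))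
    (w : ι₂ → K₂) : w ∈ S.push U ↔ S.Ψ w ∈ U := Iff.rfl

theorem SemiIso.symm_push_push (S : SemiIso φ Q₁ Q₂ M₁ M₂) (U : Submodule K₁ (ι₁ → K₁)) :
    S.symm.push (S.push U) = U := by
  ext v
  rw [SemiIso.mem_push, SemiIso.mem_push]
  show S.Ψ (S.Φ v) ∈ U ↔ v ∈ U
  rw [S.left]

theorem SemiIso.push_symm_push (S : SemiIso φ Q₁ Q₂ M₁ M₂) (W : Submodule K₂ (ι₂ → K₂)) :
    S.push (S.symm.push W) = W := by
  ext w
  rw [SemiIso.mem_push, SemiIso.mem_push]
  show S.Φ (S.Ψ w) ∈ W ↔ w ∈ W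
  rw [S.right]

theorem SemiIso.push_mono (S : SemiIso φ Q₁ Q₂ M₁ M₂) {U U' : Submodule K₁ (ι₁ → K₁)}
    (h : U ≤ U') : S.push U ≤ S.push U' := fun _ hw => h hw

theorem SemiIso.push_inf (S : SemiIso φ Q₁ Q₂ M₁ M₂) (U U' : Submodule K₁ (ι₁ → K₁)) :
    S.push (U ⊓ U') = S.push U ⊓ S.push U' := by
  ext w
  simp only [SemiIso.mem_push, Submodule.mem_inf]

theorem SemiIso.push_image (S : SemiIso φ Q₁ Q₂ M₁ M₂) (U : Submodule K₁ (ι₁ → K₁)) :
    S.push (Cfsg.imageSubmodule M₁ U) = Cfsg.imageSubmodule M₂ (S.push U) := by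
  ext w
  unfold Cfsg.imageSubmodule
  rw [SemiIso.mem_push, Submodule.mem_map, Submodule.mem_map]
  constructor
  · rintro ⟨u, hu, huw⟩
    rw [Matrix.toLin'_apply] at huw
    refine ⟨S.Φ u, ?_, ?_⟩
    · rw [SemiIso.mem_push, S.left]
      exact hu
    · rw [Matrix.toLin'_apply, S.hM, huw, S.right]
  · rintro ⟨w', hw', hww⟩
    rw [Matrix.toLin'_apply] at hww
    refine ⟨S.Ψ w', hw', ?_⟩
    rw [Matrix.toLin'_apply, ← hww]
    exact S.symm.hM w'

theorem SemiIso.ts_push (S : SemiIso φ Q₁ Q₂ M₁ M₂) {U : Submodule K₁ (ι₁ → K₁)}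
    (hU : Cfsg.Geo.IsTotallySingularQuad Q₁ U) : Cfsg.Geo.IsTotallySingularQuad Q₂ (S.push U) := by
  intro w hw
  have h := S.hQ (S.Ψ w)
  rw [S.right] at h
  rw [h, hU _ hw, map_zero]

theorem SemiIso.maxTS_push (S : SemiIso φ Q₁ Q₂ M₁ M₂) {U : Submodule K₁ (ι₁ → K₁)}
    (hU : Cfsg.IsMaxTotallySingular Q₁ U) : Cfsg.IsMaxTotallySingular Q₂ (S.push U) := by
  refine ⟨S.ts_push hU.1, ?_⟩
  intro W hW hle
  have h1 : Cfsg.Geo.IsTotallySingularQuad Q₁ (S.symm.push W) := S.symm.ts_push hW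
  have h2 : U ≤ S.symm.push W := by
    have := S.symm.push_mono hle
    rwa [S.symm_push_push] at this
  have h3 := hU.2 _ h1 h2
  rw [← S.push_symm_push W, h3]

theorem SemiIso.finrank_push [Finite K₁] (S : SemiIso φ Q₁ Q₂ M₁ M₂)
    (U : Submodule K₁ (ι₁ → K₁)) :
    Module.finrank K₂ ↥(S.push U) = Module.finrank K₁ ↥U := by
  have : Finite K₂ := Finite.of_equiv K₁ φ.toEquiv
  have hc : Nat.card K₂ = Nat.card K₁ := (Nat.card_congr φ.toEquiv).symm
  have e : ↥U ≃ ↥(S.push U) :=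
    { toFun := fun u => ⟨S.Φ u, by rw [SemiIso.mem_push, S.left]; exact u.2⟩
      invFun := fun w => ⟨S.Ψ w, w.2⟩
      left_inv := fun u => Subtype.ext (S.left _)
      right_inv := fun w => Subtype.ext (S.right _) }
  have h1 : Nat.card ↥U = Nat.card K₁ ^ Module.finrank K₁ ↥U := Module.natCard_eq_pow_finrank
  have h2 : Nat.card ↥(S.push U) = Nat.card K₂ ^ Module.finrank K₂ ↥(S.push U) :=
    Module.natCard_eq_pow_finrank
  rw [← Nat.card_congr e, h1, hc] at h2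
  exact (Nat.pow_right_injective (Finite.one_lt_card : 2 ≤ Nat.card K₁) h2).symm

theorem SemiIso.psc [Finite K₁] (S : SemiIso φ Q₁ Q₂ M₁ M₂)
    (h : Cfsg.PreservesSingularClasses Q₁ M₁) : Cfsg.PreservesSingularClasses Q₂ M₂ := by
  intro W hW
  have hU : Cfsg.IsMaxTotallySingular Q₁ (S.symm.push W) := S.symm.maxTS_push hW
  have h1 := h _ hU
  unfold Cfsg.SameParityClass at h1 ⊢
  have e1 : W = S.push (S.symm.push W) := (S.push_symm_push W).symm
  have e2 : W ⊓ Cfsg.imageSubmodule M₂ W =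
      S.push (S.symm.push W ⊓ Cfsg.imageSubmodule M₁ (S.symm.push W)) := by
    rw [S.push_inf, S.push_image, S.push_symm_push]
  rw [e2, S.finrank_push]
  have e3 : Module.finrank K₂ ↥W = Module.finrank K₁ ↥(S.symm.push W) := by
    conv_lhs => rw [e1]
    exact S.finrank_push _
  rw [e3]
  exact h1

theorem SemiIso.psc_iff [Finite K₁] (S : SemiIso φ Q₁ Q₂ M₁ M₂) :
    Cfsg.PreservesSingularClasses Q₁ M₁ ↔ Cfsg.PreservesSingularClasses Q₂ M₂ := by
  have : Finite K₂ := Finite.of_equiv K₁ φ.toEquiv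
  exact ⟨S.psc, S.symm.psc⟩

end transport

section build

variable {F₀ : Type*} {K : Type*} {F : Type*} [Field F₀] [Field K] [Field F]
  {ι ι' : Type} [Fintype ι] [DecidableEq ι] [Fintype ι'] [DecidableEq ι']

/-- The semilinear bijection `v ↦ H *ᵥ (φ ∘ v)` attached to a field isomorphism `φ` and an
isometry `H`. -/
def mkSemiIso (φ : K ≃+* F) (embK : F₀ →+* K) (emb : F₀ →+* F) (hφ : ∀ x, φ (embK x) = emb x)
    (H : Matrix ι ι' F) (H' : Matrix ι' ι F) (hHH' : H * H' = 1) (hH'H : H' * H = 1)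
    (Q₁ : (ι' → K) → K) (Q' : (ι' → F) → F) (Q : (ι → F) → F)
    (hQ : ∀ y, Q (H *ᵥ y) = Q' y) (hQφ : ∀ v : ι' → K, Q' (fun i => φ (v i)) = φ (Q₁ v))
    (g : Matrix ι' ι' F₀) :
    SemiIso φ Q₁ Q (g.map embK) (H * g.map emb * H') where
  Φ v := H *ᵥ (fun i => φ (v i))
  Ψ w := fun i => φ.symm ((H' *ᵥ w) i)
  left v := by
    funext i
    rw [Matrix.mulVec_mulVec, hH'H, Matrix.one_mulVec, φ.symm_apply_apply]
  right w := by
    have h1 : (fun i => φ (φ.symm ((H' *ᵥ w) i))) = H' *ᵥ w := by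
      funext i
      rw [φ.apply_symm_apply]
    rw [h1, Matrix.mulVec_mulVec, hHH', Matrix.one_mulVec]
  add v v' := by
    have h1 : (fun i => φ ((v + v') i)) = (fun i => φ (v i)) + (fun i => φ (v' i)) := by
      funext i
      simp
    rw [h1, Matrix.mulVec_add]
  smul c v := by
    have h1 : (fun i => φ ((c • v) i)) = φ c • (fun i => φ (v i)) := by
      funext i
      simp
    rw [h1, Matrix.mulVec_smul]
  hQ v := by rw [hQ, hQφ]
  hM v := by
    rw [Matrix.mulVec_mulVec, Matrix.mul_assoc (H * g.map emb) H' H, hH'H, Matrix.mul_one,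
      ← Matrix.mulVec_mulVec]
    congr 1
    funext i
    simp only [Matrix.mulVec, dotProduct, Matrix.map_apply, map_sum, map_mul, hφ]

theorem quadFormMinus_map (φ : K ≃+* F) (k : ℕ) (a b : K) (v : (Fin k ⊕ Fin k) ⊕ Fin 2 → K) :
    Cfsg.quadFormMinus k F (φ a) (φ b) (fun i => φ (v i)) = φ (Cfsg.quadFormMinus k K a b v) := by
  unfold Cfsg.quadFormMinus
  simp only [map_add, map_sum, map_mul, map_pow]

/-- A quadratic extension of a finite field is isomorphic, over the base, to any field of the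
right cardinality. -/
theorem exists_ringEquiv [Fintype F₀] [Fintype F] [Algebra F₀ K] (emb : F₀ →+* F)
    (hcard : Fintype.card F = Fintype.card F₀ ^ 2) (hfr : Module.finrank F₀ K = 2) :
    ∃ φ : K ≃+* F, ∀ x, φ (algebraMap F₀ K x) = emb x := by
  classical
  letI : Algebra F₀ F := emb.toAlgebra
  have hfin : Module.Finite F₀ K := Module.finite_of_finrank_pos (by omega)
  have hfinK : Finite K := Module.finite_of_finite F₀
  letI : Fintype K := Fintype.ofFinite K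
  have hK : Fintype.card K = Fintype.card F₀ ^ 2 := by
    rw [Module.card_eq_pow_finrank (K := F₀) (V := K), hfr]
  have h1 : Polynomial.IsSplittingField F₀ K (Polynomial.X ^ Fintype.card K - Polynomial.X) :=
    FiniteField.isSplittingField_sub K F₀
  have h2 : Polynomial.IsSplittingField F₀ F (Polynomial.X ^ Fintype.card K - Polynomial.X) := by
    rw [hK, ← hcard]
    exact FiniteField.isSplittingField_sub F F₀
  let e : K ≃ₐ[F₀] F :=
    (Polynomial.IsSplittingField.algEquiv K (Polynomial.X ^ Fintype.card K - Polynomial.X)).trans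
      (Polynomial.IsSplittingField.algEquiv F (Polynomial.X ^ Fintype.card K - Polynomial.X)).symm
  refine ⟨e.toRingEquiv, fun x => ?_⟩
  have h3 := e.commutes x
  rw [RingHom.algebraMap_toAlgebra] at h3
  exact h3

end build

section main

open QuadraticMap Cfsg.Agent.Helper43 Cfsg.Agent.Helper43.GF Cfsg.Agent.Helper5.OrthAut
  Cfsg.Agent.Helper40.AutPOm

theorem class_compat_K {F₀ F K : Type*} [Field F₀] [Fintype F₀] [Field F] [Fintype F] [Field K]
    [Algebra F₀ K] (emb : F₀ →+* F) (hcard : Fintype.card F = Fintype.card F₀ ^ 2)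
    (hfr : Module.finrank F₀ K = 2) {k : ℕ} (a₀ b₀ : F₀)
    (T : TwData (stdMinus F k (emb a₀) (emb b₀)) (stdPlus F (k + 1)))
    (g : Matrix ((Fin k ⊕ Fin k) ⊕ Fin 2) ((Fin k ⊕ Fin k) ⊕ Fin 2) F₀) :
    Cfsg.PreservesSingularClasses
        (Cfsg.quadFormMinus k K (algebraMap F₀ K a₀) (algebraMap F₀ K b₀))
        (g.map (algebraMap F₀ K)) ↔
      Cfsg.PreservesSingularClasses (⇑(stdPlus F (k + 1))) (T.H * g.map emb * T.H') := by
  have hfin : Module.Finite F₀ K := Module.finite_of_finrank_pos (by omega)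
  have hfinK : Finite K := Module.finite_of_finite F₀
  obtain ⟨φ, hφ⟩ := exists_ringEquiv (K := K) emb hcard hfr
  have hQφ : ∀ v : (Fin k ⊕ Fin k) ⊕ Fin 2 → K,
      (⇑(stdMinus F k (emb a₀) (emb b₀))) (fun i => φ (v i)) =
        φ (Cfsg.quadFormMinus k K (algebraMap F₀ K a₀) (algebraMap F₀ K b₀) v) := by
    intro v
    rw [coe_stdMinus, ← hφ a₀, ← hφ b₀]
    exact quadFormMinus_map φ k _ _ v
  exact (mkSemiIso φ (algebraMap F₀ K) emb hφ T.H T.H' T.hHH' T.hH'H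
    (Cfsg.quadFormMinus k K (algebraMap F₀ K a₀) (algebraMap F₀ K b₀))
    (⇑(stdMinus F k (emb a₀) (emb b₀))) (⇑(stdPlus F (k + 1))) T.hQ hQφ g).psc_iff

/-- (CL) CLASS COMPATIBILITY: an `F₀`-similarity of the minus form `Q₀` preserves the singular
classes of the hyperbolic form `Q` over `F` (after twisting) iff it satisfies
`PreservesSingularClassesMinus` over `F₀`. -/
theorem class_compat {F₀ F : Type*} [Field F₀] [Fintype F₀] [Field F] [Fintype F] (emb : F₀ →+* F)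
    (hcard : Fintype.card F = Fintype.card F₀ ^ 2) {k : ℕ} (hk : 3 ≤ k) (a₀ b₀ : F₀)
    (hab : ∀ z₁ z₂ : F₀, z₁ ^ 2 + a₀ * z₁ * z₂ + b₀ * z₂ ^ 2 = 0 → z₁ = 0 ∧ z₂ = 0)
    (T : TwData (stdMinus F k (emb a₀) (emb b₀)) (stdPlus F (k + 1)))
    (g₀ : GL ((Fin k ⊕ Fin k) ⊕ Fin 2) F₀) (hg₀ : g₀ ∈ GO (stdMinus F₀ k a₀ b₀)) :
    Cfsg.PreservesSingularClasses (⇑(stdPlus F (k + 1)))
        ((T.tw emb g₀ : GL (Fin (k + 1) ⊕ Fin (k + 1)) F) :
          Matrix (Fin (k + 1) ⊕ Fin (k + 1)) (Fin (k + 1) ⊕ Fin (k + 1)) F) ↔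
      Cfsg.PreservesSingularClassesMinus k a₀ b₀
        (g₀ : Matrix ((Fin k ⊕ Fin k) ⊕ Fin 2) ((Fin k ⊕ Fin k) ⊕ Fin 2) F₀) := by
  rw [TwData.tw_coe]
  constructor
  · intro h
    obtain ⟨K, hK1, hK2, hfr⟩ := Cfsg.Agent.Helper5.OrthLag.exists_quadratic_extension a₀ b₀ hab
    exact ⟨K, hK1, hK2, hfr, (class_compat_K emb hcard hfr a₀ b₀ T _).2 h⟩
  · rintro ⟨K, hK1, hK2, hfr, h⟩
    exact (class_compat_K emb hcard hfr a₀ b₀ T _).1 h

end main

end Cfsg.Agent.Helper46.GF
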