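import Mathlib
import Cfsg.Agent.Lib.Helper14.SPIDefs

set_option autoImplicit false

/-!
SPI lemma server (helper14, S5961), piece (ADJ) `adjoint_frob`, by helper46.
-/

namespace Cfsg.Agent.Helper46.SPI

open Module Polynomial Cfsg.Agent.Helper14.SPI

/-- iterated Frobenius on polynomials over a finite field -/
theorem h46_expand_card_pow {F : Type*} [Field F] [Fintype F] (k : ℕ) (g : F[X]) :
    expand F (Fintype.card F ^ k) g = g ^ (Fintype.card F ^ k) := by
  induction k with
  | zero => simp
  | succ k ih =>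
    rw [pow_succ, expand_mul, FiniteField.expand_card, map_pow, ih, ← pow_mul, mul_comm]

/-- powers of an isometry are isometries -/
theorem h46_isIsom_pow {F V : Type*} [Field F] [AddCommGroup V] [Module F V]
    (B : LinearMap.BilinForm F V) (x : V →ₗ[F] V) (hx : IsIsom B x) (n : ℕ) (a b : V) :
    B ((x ^ n) a) ((x ^ n) b) = B a b := by
  induction n with
  | zero => simp
  | succ n ih => rw [pow_succ', Module.End.mul_apply, Module.End.mul_apply, hx, ih]

/-- if `y` is inverse to the isometry `x` then `g(y)` is adjoint to `g(x)` -/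
theorem h46_adjoint_of_inv {F V : Type*} [Field F] [AddCommGroup V] [Module F V]
    (B : LinearMap.BilinForm F V) (x y : V →ₗ[F] V) (hx : IsIsom B x) (hxy : x * y = 1)
    (g : F[X]) (u w : V) : B (aeval y g u) w = B u (aeval x g w) := by
  have hpow : ∀ n : ℕ, x ^ n * y ^ n = 1 := by
    intro n
    induction n with
    | zero => simp
    | succ n ih =>
      rw [pow_succ x, pow_succ' y, mul_assoc, ← mul_assoc x y, hxy, one_mul, ih]
  induction g using Polynomial.induction_on' with
  | add p q hp hq =>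
    simp only [map_add, LinearMap.add_apply, hp, hq]
  | monomial n a =>
    rw [aeval_monomial, aeval_monomial, Module.End.mul_apply, Module.End.mul_apply,
      Module.algebraMap_end_apply, Module.algebraMap_end_apply, map_smul, map_smul,
      LinearMap.smul_apply]
    congr 1
    rw [← h46_isIsom_pow B x hx n ((y ^ n) u) w, ← Module.End.mul_apply, hpow n,
      Module.End.one_apply]

/-- (ADJ) -/
theorem adjoint_frob {F V : Type*} [Field F] [Fintype F] [AddCommGroup V] [Module F V]
    (B : LinearMap.BilinForm F V) (x : V →ₗ[F] V) (hx : IsIsom B x) (r : ℕ) [Fact r.Prime]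
    (hrq : ¬ r ∣ Fintype.card F) (hxr : x ^ r = 1)
    (hev : Even (orderOf ((Fintype.card F : ℕ) : ZMod r))) :
    ∃ s : ℕ, 0 < s ∧ ∀ (g : F[X]) (u w : V), B (((aeval x g) ^ s) u) w = B u (aeval x g w) := by
  classical
  have hrp : r.Prime := Fact.out
  obtain ⟨k, hk⟩ := hev
  have hq0 : ((Fintype.card F : ℕ) : ZMod r) ≠ 0 := by
    rw [Ne, ZMod.natCast_eq_zero_iff]
    exact hrq
  have hipos : 0 < orderOf ((Fintype.card F : ℕ) : ZMod r) := by
    rw [orderOf_pos_iff, isOfFinOrder_iff_isUnit]
    exact isUnit_iff_ne_zero.2 hq0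
  have hkpos : 0 < k := by omega
  have hy2 : (((Fintype.card F : ℕ) : ZMod r) ^ k) * (((Fintype.card F : ℕ) : ZMod r) ^ k) = 1 := by
    rw [← pow_add, ← hk, pow_orderOf_eq_one]
  have hy1 : ((Fintype.card F : ℕ) : ZMod r) ^ k ≠ 1 :=
    pow_ne_one_of_lt_orderOf hkpos.ne' (by omega)
  have hym : ((Fintype.card F : ℕ) : ZMod r) ^ k = -1 := by
    rcases mul_self_eq_one_iff.1 hy2 with h | h
    · exact absurd h hy1
    · exact h
  have hdvd : r ∣ Fintype.card F ^ k + 1 := by
    rw [← ZMod.natCast_eq_zero_iff]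
    push_cast
    rw [hym]; ring
  obtain ⟨m, hm⟩ := hdvd
  have hs1 : x * x ^ (Fintype.card F ^ k) = 1 := by
    rw [← pow_succ', hm, pow_mul, hxr, one_pow]
  refine ⟨Fintype.card F ^ k, pow_pos Fintype.card_pos k, ?_⟩
  intro g u w
  have hfrob : (aeval x g) ^ (Fintype.card F ^ k) = aeval (x ^ (Fintype.card F ^ k)) g := by
    rw [← map_pow, ← h46_expand_card_pow, expand_aeval]
  rw [hfrob]
  exact h46_adjoint_of_inv B x _ hx hs1 g u w

end Cfsg.Agent.Helper46.SPI
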