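import Mathlib
import Cfsg.Prelude.Def_Blocks
import Cfsg.Agent.Lib.Helper78.SectionSum
import Cfsg.Agent.Lib.Helper16.WBO
import Cfsg.Agent.Lib.Helper80.CharBasic

/-!
# Brauer–Suzuki for `Q₈` (helper46), part 1: block kernels

* `bK b y' y = ∑_{ψ ∈ b} ψ y' * conj (ψ y)`;
* `bK_singular` (weak block orthogonality), `reproducing`;
* `sum_section_principal_polar` : the polarized form of `Helper78.sum_section_principal`.
-/

set_option autoImplicit false
set_option linter.unusedSectionVars false
set_option linter.style.haveILetI false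

namespace Cfsg.Agent.Helper46.BSQ

open Cfsg
open Cfsg.Agent.Helper77 Cfsg.Agent.Helper16 Cfsg.Agent.Helper78
open scoped ComplexConjugate

universe u

section kerneldef

variable {H : Type u} [Group H] [Finite H]

/-- the kernel of a block: `∑_{ψ ∈ b} ψ y' * conj (ψ y)` -/
noncomputable def bK (b : Set (IrrCharacter H)) (y' y : H) : ℂ :=
  ∑ ψ ∈ (Set.toFinite b).toFinset, (ψ : H → ℂ) y' * conj ((ψ : H → ℂ) y)

end kerneldef

section kernel

variable {H : Type u} [Group H] [Fintype H] {p : ℕ} [hpf : Fact p.Prime] {M : Ideal AlgInt}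

theorem bK_singular (hM : IsPModular p M) {b : Set (IrrCharacter H)} (hb : IsPBlock M b)
    (y' y : H) (hy' : ¬ p ∣ orderOf y') (hy : p ∣ orderOf y) : bK b y' y = 0 :=
  weak_block_orthogonality hM hb y' y hy' hy

/-- the kernel reproduces the members of the block on `p`-regular elements -/
theorem reproducing (hM : IsPModular p M) {b : Set (IrrCharacter H)} (hb : IsPBlock M b)
    (ψ : IrrCharacter H) (hψ : ψ ∈ b) (y' : H) (hy' : ¬ p ∣ orderOf y') :
    ∑ y : H, (if p ∣ orderOf y then 0 else (ψ : H → ℂ) y * bK b y' y) =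
      (Nat.card H : ℂ) * (ψ : H → ℂ) y' := by
  classical
  have h1 : ∀ y : H, (if p ∣ orderOf y then 0 else (ψ : H → ℂ) y * bK b y' y) =
      (ψ : H → ℂ) y * bK b y' y := by
    intro y
    by_cases hy : p ∣ orderOf y
    · rw [if_pos hy, bK_singular hM hb y' y hy' hy, mul_zero]
    · rw [if_neg hy]
  simp_rw [h1]
  unfold bK
  simp_rw [Finset.mul_sum]
  rw [Finset.sum_comm]
  have h2 : ∀ ψ' : IrrCharacter H,
      ∑ y : H, (ψ : H → ℂ) y * ((ψ' : H → ℂ) y' * conj ((ψ' : H → ℂ) y)) =
      (ψ' : H → ℂ) y' * (if ψ = ψ' then (Nat.card H : ℂ) else 0) := by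
    intro ψ'
    rw [← Cfsg.Agent.Helper80.irr_first_orthogonality ψ ψ', Finset.mul_sum]
    refine Finset.sum_congr rfl fun y _ => ?_
    ring
  simp_rw [h2]
  rw [Finset.sum_eq_single ψ]
  · rw [if_pos rfl, mul_comm]
  · intro ψ' _ hne
    rw [if_neg (fun h => hne h.symm), mul_zero]
  · intro h
    exact absurd ((Set.Finite.mem_toFinset _).2 hψ) h

end kernel

section polar

variable {G : Type u} [Group G] [Fintype G] {p : ℕ} [hpf : Fact p.Prime] {M : Ideal AlgInt}

/-- **Polarized principal block sums on a `p`-section.** -/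
theorem sum_section_principal_polar (hM : IsPModular p M) (z : G)
    (hz : ∃ k : ℕ, orderOf z = p ^ k)
    (y' y : Subgroup.centralizer ({z} : Set G)) (hy' : ¬ p ∣ orderOf y') (hy : ¬ p ∣ orderOf y) :
    ∑ ζ ∈ (Set.toFinite (principalBlock M G)).toFinset,
      (ζ : G → ℂ) (z * (y' : G)) * conj ((ζ : G → ℂ) (z * (y : G))) =
    bK (principalBlock M (Subgroup.centralizer ({z} : Set G))) y' y := by
  classical
  have hp : p.Prime := hpf.out
  haveI hpr := isPrime_of_isPModular hM
  haveI : Fintype (Subgroup.centralizer ({z} : Set G)) := Fintype.ofFinite _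
  -- the two class functions
  set F : Subgroup.centralizer ({z} : Set G) → ℂ :=
    ∑ ζ : IrrCharacter G, conj ((ζ : G → ℂ) (z * (y : G))) •
      (fun c : Subgroup.centralizer ({z} : Set G) => (ζ : G → ℂ) (z * (c : G))) with hF
  set Ψ : Subgroup.centralizer ({z} : Set G) → ℂ :=
    ∑ ψ : IrrCharacter (Subgroup.centralizer ({z} : Set G)),
      conj ((ψ : Subgroup.centralizer ({z} : Set G) → ℂ) y) •
        (ψ : Subgroup.centralizer ({z} : Set G) → ℂ) with hΨ
  have hFval : ∀ c : Subgroup.centralizer ({z} : Set G), F c =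
      ∑ ζ : IrrCharacter G, (ζ : G → ℂ) (z * (c : G)) * conj ((ζ : G → ℂ) (z * (y : G))) := by
    intro c
    rw [hF, Finset.sum_apply]
    refine Finset.sum_congr rfl fun ζ _ => ?_
    rw [Pi.smul_apply, smul_eq_mul, mul_comm]
  have hΨval : ∀ c : Subgroup.centralizer ({z} : Set G), Ψ c =
      ∑ ψ : IrrCharacter (Subgroup.centralizer ({z} : Set G)),
        (ψ : Subgroup.centralizer ({z} : Set G) → ℂ) c *
          conj ((ψ : Subgroup.centralizer ({z} : Set G) → ℂ) y) := by
    intro c
    rw [hΨ, Finset.sum_apply]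
    refine Finset.sum_congr rfl fun ψ _ => ?_
    rw [Pi.smul_apply, smul_eq_mul, mul_comm]
  -- they agree on `p`-regular elements
  have hagree : ∀ c : Subgroup.centralizer ({z} : Set G), ¬ p ∣ orderOf c → F c = Ψ c := by
    intro c hc
    rw [hFval, hΨval, sum_irr_mul_conj, sum_irr_mul_conj]
    by_cases hconj : IsConj c y
    · rw [if_pos hconj, if_pos ((isConj_section_iff z hz c y hc hy).2 hconj),
        card_centralizer_section z hz c hc]
    · rw [if_neg hconj, if_neg (fun h => hconj ((isConj_section_iff z hz c y hc hy).1 h))]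
  -- class functions
  have hFcl : IsClassFunction (Subgroup.centralizer ({z} : Set G)) F := by
    intro c k
    rw [hFval, hFval]
    refine Finset.sum_congr rfl fun ζ _ => ?_
    have h1 := isClassFunction_section ζ z c k
    congr 1
  have hΨcl : IsClassFunction (Subgroup.centralizer ({z} : Set G)) Ψ := by
    intro c k
    rw [hΨval, hΨval]
    refine Finset.sum_congr rfl fun ψ _ => ?_
    rw [isClassFunction_of_isIrrCharacter ψ.2 c k]
  have hΔcl : IsClassFunction (Subgroup.centralizer ({z} : Set G)) (F - Ψ) := by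
    intro c k
    rw [Pi.sub_apply, Pi.sub_apply, hFcl c k, hΨcl c k]
  -- the block part of the difference vanishes at `y'`
  have hypart : IsPPart p y' 1 := by
    refine ⟨y', one_mul y', Commute.one_left y', ⟨0, ?_⟩, hy'⟩
    rw [orderOf_one, pow_zero]
  have hΔ : blockPart (principalBlock M (Subgroup.centralizer ({z} : Set G))) (F - Ψ) y' = 0 := by
    apply (Cfsg.Agent.S0925.result p M hM).1 (F - Ψ) hΔcl 1 ⟨0, by rw [orderOf_one, pow_zero]⟩ ?_
      _ (isPBlock_principalBlock M) y' 1 hypart (IsConj.refl 1)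
    intro u w huw hw
    have hw1 : w = 1 := isConj_one_right.1 hw
    subst hw1
    obtain ⟨y'', hy'1, -, -, hy'2⟩ := huw
    rw [one_mul] at hy'1
    subst hy'1
    rw [Pi.sub_apply, hagree y'' hy'2, sub_self]
  rw [blockPart_sub, sub_eq_zero] at hΔ
  -- evaluate both sides
  have hC : blockPart (principalBlock M (Subgroup.centralizer ({z} : Set G))) Ψ y' =
      ∑ ψ ∈ (Set.toFinite (principalBlock M (Subgroup.centralizer ({z} : Set G)))).toFinset,
        (ψ : Subgroup.centralizer ({z} : Set G) → ℂ) y' *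
          conj ((ψ : Subgroup.centralizer ({z} : Set G) → ℂ) y) := by
    rw [hΨ, blockPart_decomp]
    refine Finset.sum_congr rfl fun ψ _ => ?_
    rw [mul_comm]
  have hD : blockPart (principalBlock M (Subgroup.centralizer ({z} : Set G))) F y' =
      ∑ ζ ∈ (Set.toFinite (principalBlock M G)).toFinset,
        (ζ : G → ℂ) (z * (y' : G)) * conj ((ζ : G → ℂ) (z * (y : G))) := by
    rw [hF, blockPart_sum_smul]
    rw [← Finset.sum_subset (Finset.subset_univ (Set.toFinite (principalBlock M G)).toFinset)]
    · refine Finset.sum_congr rfl fun ζ hζ => ?_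
      rw [Set.Finite.mem_toFinset] at hζ
      rw [← section_principal hM z hz ζ hζ y' hy', mul_comm]
    · intro ζ _ hζ
      rw [Set.Finite.mem_toFinset] at hζ
      have hnot : ¬ IsInducedBlock M (Subgroup.centralizer ({z} : Set G))
          (principalBlock M (Subgroup.centralizer ({z} : Set G))) (blockOf M (ζ : G → ℂ)) := by
        intro hind
        have := isInducedBlock_unique hind (isInducedBlock_principal_centralizer hM z hz)
        apply hζ
        rw [← this]
        exact mem_blockOf_self ζ
      rw [Cfsg.Agent.S0923.result p M hM z hz (blockOf M (ζ : G → ℂ)) (isPBlock_blockOf ζ) ζ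
        (mem_blockOf_self ζ) _ (isPBlock_principalBlock M) hnot y' hy', mul_zero]
  unfold bK
  rw [← hD, hΔ, hC]

end polar

end Cfsg.Agent.Helper46.BSQ
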