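import Mathlib
import Cfsg.Prelude.Def_Blocks
import Cfsg.Agent.Lib.Helper46.BSQ1
import Cfsg.Agent.Lib.Helper15.Central
import Cfsg.Agent.Lib.Helper79.CharBasic
import Cfsg.Agent.S0925

/-!
# Brauer–Suzuki for `Q₈` (helper46), part 3: a group `H` with a central involution `z` whose
principal block meets the characters of `H/⟨z⟩` in four characters `1, Z₂, Z₃, Z₄`
-/

set_option autoImplicit false
set_option linter.unusedSectionVars false
set_option linter.style.haveILetI false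
set_option maxHeartbeats 800000

namespace Cfsg.Agent.Helper46.BSQ

open Cfsg
open Cfsg.Agent.Helper77 Cfsg.Agent.Helper16 Cfsg.Agent.Helper78 Cfsg.Agent.Helper79
open scoped ComplexConjugate

universe u

/-- the data of the principal block of `H/⟨z⟩` (a group with Klein four Sylow `2`-subgroups and one
class of involutions), inflated to `H`. -/
structure KData {H : Type u} [Group H] (M : Ideal AlgInt) (z : H) where
  Z₂ : IrrCharacter H
  Z₃ : IrrCharacter H
  Z₄ : IrrCharacter H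
  ε : ℤ
  hε : ε = 1 ∨ ε = -1
  mem₂ : Z₂ ∈ principalBlock M H
  mem₃ : Z₃ ∈ principalBlock M H
  mem₄ : Z₄ ∈ principalBlock M H
  ne₂ : Z₂ ≠ trivIrr H
  ne₃ : Z₃ ≠ trivIrr H
  ne₄ : Z₄ ≠ trivIrr H
  ne₂₃ : Z₂ ≠ Z₃
  ne₂₄ : Z₂ ≠ Z₄
  ne₃₄ : Z₃ ≠ Z₄
  zinv₂ : ∀ c : H, (Z₂ : H → ℂ) (z * c) = (Z₂ : H → ℂ) c
  zinv₃ : ∀ c : H, (Z₃ : H → ℂ) (z * c) = (Z₃ : H → ℂ) c
  zinv₄ : ∀ c : H, (Z₄ : H → ℂ) (z * c) = (Z₄ : H → ℂ) c
  block : ∀ ψ ∈ principalBlock M H, (ψ : H → ℂ) z = (ψ : H → ℂ) 1 →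
    ψ = trivIrr H ∨ ψ = Z₂ ∨ ψ = Z₃ ∨ ψ = Z₄
  odd : ∀ y : H, Odd (orderOf y) →
    1 + (Z₂ : H → ℂ) y + (ε : ℂ) * (Z₃ : H → ℂ) y - (Z₄ : H → ℂ) y = 0
  sing : ∀ c : H, ¬ Odd (orderOf c) → ¬ Odd (orderOf (z * c)) →
    (Z₂ : H → ℂ) c = 1 ∧ (Z₃ : H → ℂ) c = (ε : ℂ) ∧ (Z₄ : H → ℂ) c = -1
  deg₂ : (4 : ℤ) ∣ (charDegree (Z₂ : H → ℂ) : ℤ) - 1
  deg₃ : (4 : ℤ) ∣ (charDegree (Z₃ : H → ℂ) : ℤ) - ε

section central

variable {H : Type u} [Group H] [Fintype H] {M : Ideal AlgInt} {z : H}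

theorem not_two_dvd_of_odd {n : ℕ} (h : Odd n) : ¬ 2 ∣ n := by
  rw [← even_iff_two_dvd, Nat.not_even_iff_odd]; exact h

theorem odd_of_not_two_dvd {n : ℕ} (h : ¬ 2 ∣ n) : Odd n := by
  rw [← even_iff_two_dvd, Nat.not_even_iff_odd] at h; exact h

/-- the sign of a central involution on an irreducible character -/
theorem central_sign (hzc : z ∈ Subgroup.center H) (hz2 : orderOf z = 2) (ψ : IrrCharacter H) :
    ((∀ c : H, (ψ : H → ℂ) (z * c) = (ψ : H → ℂ) c) ∧ (ψ : H → ℂ) z = (ψ : H → ℂ) 1) ∨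
    ((∀ c : H, (ψ : H → ℂ) (z * c) = - (ψ : H → ℂ) c) ∧ (ψ : H → ℂ) z ≠ (ψ : H → ℂ) 1) := by
  obtain ⟨c, hc1, hc2⟩ := Cfsg.Agent.Helper15.irr_central_scalar ψ z hzc
  have hzz : z ^ 2 = 1 := by rw [← hz2]; exact pow_orderOf_eq_one z
  have hcc : c ^ 2 = 1 := hc2 2 hzz
  have hcomm : ∀ g : H, z * g = g * z := fun g => (Subgroup.mem_center_iff.1 hzc g).symm
  have hc : c = 1 ∨ c = -1 := by
    have : (c - 1) * (c + 1) = 0 := by linear_combination hcc
    rcases mul_eq_zero.1 this with h | h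
    · left; linear_combination h
    · right; linear_combination h
  rcases hc with h | h
  · left
    subst h
    refine ⟨fun g => ?_, ?_⟩
    · rw [hcomm, hc1, one_mul]
    · have := hc1 1
      rw [one_mul, one_mul] at this
      exact this
  · right
    subst h
    refine ⟨fun g => ?_, ?_⟩
    · rw [hcomm, hc1]; ring
    · have := hc1 1
      rw [one_mul] at this
      rw [this]
      intro h
      have hne := irr_one_ne_zero ψ
      apply hne
      linear_combination (-1 / 2 : ℂ) * h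

/-- **The kernel identity.** -/
theorem kernel_identity (hM : IsPModular 2 M) (D : KData M z) (hzc : z ∈ Subgroup.center H)
    (hz2 : orderOf z = 2) (y' y : H) (hy' : Odd (orderOf y')) (hy : Odd (orderOf y)) :
    bK (principalBlock M H) y' y =
      2 * (1 + (D.Z₂ : H → ℂ) y' * conj ((D.Z₂ : H → ℂ) y) +
        (D.Z₃ : H → ℂ) y' * conj ((D.Z₃ : H → ℂ) y) +
        (D.Z₄ : H → ℂ) y' * conj ((D.Z₄ : H → ℂ) y)) := by
  classical
  haveI : Fact (Nat.Prime 2) := ⟨Nat.prime_two⟩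
  haveI := isPrime_of_isPModular hM
  set b := (Set.toFinite (principalBlock M H)).toFinset with hb
  have hbmem : ∀ ψ, ψ ∈ b ↔ ψ ∈ principalBlock M H := fun ψ => by
    rw [hb, Set.Finite.mem_toFinset]
  have hz1 : z ≠ 1 := by
    intro h
    rw [h, orderOf_one] at hz2
    norm_num at hz2
  -- block orthogonality between `y'` and `z y`
  have h0 : ∑ ψ ∈ b, (ψ : H → ℂ) y' * conj ((ψ : H → ℂ) (z * y)) = 0 := by
    have hP1 : IsPPart 2 y' 1 := by
      refine ⟨y', one_mul y', Commute.one_left y', ⟨0, ?_⟩, not_two_dvd_of_odd hy'⟩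
      rw [orderOf_one, pow_zero]
    have hP2 : IsPPart 2 (z * y) z := by
      refine ⟨y, rfl, ?_, ⟨1, by rw [hz2, pow_one]⟩, not_two_dvd_of_odd hy⟩
      exact (Subgroup.mem_center_iff.1 hzc y).symm
    have hnc : ¬ IsConj (1 : H) z := by
      intro h
      exact hz1 (isConj_one_right.1 h)
    have h := (Cfsg.Agent.S0925.result 2 M hM).2 y' (z * y) 1 z hP1 hP2 hnc
      (principalBlock M H) (isPBlock_principalBlock M)
    rw [finsum_mem_eq_finite_toFinset_sum _ (Set.toFinite (principalBlock M H))] at h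
    rw [← h]
    refine Finset.sum_congr rfl fun ψ _ => ?_
    rw [IsIrrCharacter.inv ψ.2]
  -- the sign function
  set s : IrrCharacter H → ℂ := fun ψ =>
    if (ψ : H → ℂ) z = (ψ : H → ℂ) 1 then 1 else -1 with hs
  have hsval : ∀ ψ : IrrCharacter H, conj ((ψ : H → ℂ) (z * y)) = s ψ * conj ((ψ : H → ℂ) y) := by
    intro ψ
    rcases central_sign hzc hz2 ψ with ⟨h1, h2⟩ | ⟨h1, h2⟩
    · rw [h1, hs]
      simp only [if_pos h2, one_mul]
    · rw [h1, hs]
      simp only [if_neg h2, map_neg, neg_mul, one_mul]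
  have h1 : ∑ ψ ∈ b, s ψ * ((ψ : H → ℂ) y' * conj ((ψ : H → ℂ) y)) = 0 := by
    rw [← h0]
    refine Finset.sum_congr rfl fun ψ _ => ?_
    rw [hsval]; ring
  have h2 : bK (principalBlock M H) y' y =
      ∑ ψ ∈ b, (1 + s ψ) * ((ψ : H → ℂ) y' * conj ((ψ : H → ℂ) y)) := by
    simp_rw [add_mul, one_mul]
    rw [Finset.sum_add_distrib, h1, add_zero]
    rfl
  -- the four characters
  set T : Finset (IrrCharacter H) := insert (trivIrr H) (insert D.Z₂ (insert D.Z₃ {D.Z₄})) with hT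
  have hTb : T ⊆ b := by
    intro ψ hψ
    rw [hT, Finset.mem_insert, Finset.mem_insert, Finset.mem_insert, Finset.mem_singleton] at hψ
    rw [hbmem]
    rcases hψ with h | h | h | h
    · rw [h]; exact trivIrr_mem_principalBlock M
    · rw [h]; exact D.mem₂
    · rw [h]; exact D.mem₃
    · rw [h]; exact D.mem₄
  have hsT : ∀ ψ ∈ T, s ψ = 1 := by
    intro ψ hψ
    rw [hT, Finset.mem_insert, Finset.mem_insert, Finset.mem_insert, Finset.mem_singleton] at hψ
    have : (ψ : H → ℂ) z = (ψ : H → ℂ) 1 := by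
      rcases hψ with h | h | h | h
      · rw [h, trivIrr_apply, trivIrr_apply]
      · rw [h]; have := D.zinv₂ 1; rwa [mul_one] at this
      · rw [h]; have := D.zinv₃ 1; rwa [mul_one] at this
      · rw [h]; have := D.zinv₄ 1; rwa [mul_one] at this
    rw [hs]
    simp only [if_pos this]
  have hsnT : ∀ ψ ∈ b, ψ ∉ T → s ψ = -1 := by
    intro ψ hψ hψT
    rw [hs]
    have : ¬ (ψ : H → ℂ) z = (ψ : H → ℂ) 1 := by
      intro h
      apply hψT
      rw [hT, Finset.mem_insert, Finset.mem_insert, Finset.mem_insert, Finset.mem_singleton]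
      exact D.block ψ ((hbmem ψ).1 hψ) h
    simp only [if_neg this]
  rw [h2, ← Finset.sum_subset hTb]
  · have h3 : ∀ ψ ∈ T, (1 + s ψ) * ((ψ : H → ℂ) y' * conj ((ψ : H → ℂ) y)) =
        2 * ((ψ : H → ℂ) y' * conj ((ψ : H → ℂ) y)) := by
      intro ψ hψ
      rw [hsT ψ hψ]; ring
    rw [Finset.sum_congr rfl h3, ← Finset.mul_sum, hT, Finset.sum_insert, Finset.sum_insert,
      Finset.sum_insert, Finset.sum_singleton]
    · simp only [trivIrr_apply, map_one, mul_one]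
      ring
    · rw [Finset.mem_singleton]; exact D.ne₃₄
    · rw [Finset.mem_insert, Finset.mem_singleton]
      rintro (h | h)
      · exact D.ne₂₃ h
      · exact D.ne₂₄ h
    · rw [Finset.mem_insert, Finset.mem_insert, Finset.mem_singleton]
      rintro (h | h | h)
      · exact D.ne₂ h.symm
      · exact D.ne₃ h.symm
      · exact D.ne₄ h.symm
  · intro ψ hψ hψT
    rw [hsnT ψ hψ hψT]; ring

end central

end Cfsg.Agent.Helper46.BSQ
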