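import Mathlib
import Cfsg.Prelude.Def_Blocks
import Cfsg.Agent.Lib.Helper46.BSQ3
import Cfsg.Agent.Lib.Helper3.TwoPartTwist
import Cfsg.Agent.Lib.Helper81.CharInd
import Cfsg.Agent.Lib.Helper82.GenChar

/-!
# Brauer–Suzuki for `Q₈` (helper46), part 4: the generalized decomposition numbers of the
section of the involution `z`
-/

set_option autoImplicit false
set_option linter.unusedSectionVars false
set_option linter.style.haveILetI false
set_option maxHeartbeats 800000
set_option linter.unusedSimpArgs false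

namespace Cfsg.Agent.Helper46.BSQ

open Cfsg
open Cfsg.Agent.Helper77 Cfsg.Agent.Helper16 Cfsg.Agent.Helper78 Cfsg.Agent.Helper79
open scoped ComplexConjugate

universe u

section split

variable {H : Type u} [Group H] [Fintype H]

/-- splitting a sum over a group with a central involution `z` -/
theorem sum_eq_two_mul_sum_odd (z : H) (hzc : z ∈ Subgroup.center H) (hz2 : orderOf z = 2)
    (f : H → ℂ) (hfz : ∀ c, f (z * c) = f c)
    (hf0 : ∀ c, ¬ Odd (orderOf c) → ¬ Odd (orderOf (z * c)) → f c = 0) :
    ∑ c : H, f c = 2 * ∑ c : H, if Odd (orderOf c) then f c else 0 := by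
  classical
  have hcomm : ∀ c : H, Commute z c := fun c => (Subgroup.mem_center_iff.1 hzc c).symm
  have h1 : ∀ c : H, f c = (if Odd (orderOf c) then f c else 0) +
      (if Odd (orderOf (z * c)) then f (z * c) else 0) := by
    intro c
    by_cases h : Odd (orderOf c)
    · have h' : ¬ Odd (orderOf (z * c)) := fun h' =>
        Cfsg.Agent.Helper3.tpt_not_both_odd (hcomm c) hz2 h h'
      rw [if_pos h, if_neg h', add_zero]
    · by_cases h' : Odd (orderOf (z * c))
      · rw [if_neg h, if_pos h', zero_add, hfz]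
      · rw [if_neg h, if_neg h', add_zero, hf0 c h h']
  have h2 : ∑ c : H, (if Odd (orderOf (z * c)) then f (z * c) else 0) =
      ∑ c : H, if Odd (orderOf c) then f c else 0 :=
    Fintype.sum_equiv (Equiv.mulLeft z) _ _ (fun c => rfl)
  rw [Finset.sum_congr rfl (fun c _ => h1 c), Finset.sum_add_distrib, h2]
  ring

end split

section sectionz

variable {G : Type u} [Group G] [Fintype G] {M : Ideal AlgInt} (z : G)
  [Fintype (Subgroup.centralizer ({z} : Set G))]

/-- the involution `z` as an element of its centralizer -/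
def zC : Subgroup.centralizer ({z} : Set G) :=
  ⟨z, by
    rw [Subgroup.mem_centralizer_iff]
    intro w hw
    rw [Set.mem_singleton_iff.1 hw]⟩

theorem zC_coe : ((zC z : Subgroup.centralizer ({z} : Set G)) : G) = z := rfl

theorem zC_mem_center : zC z ∈ Subgroup.center (Subgroup.centralizer ({z} : Set G)) := by
  rw [Subgroup.mem_center_iff]
  intro c
  apply Subtype.ext
  have := c.2
  rw [Subgroup.mem_centralizer_iff] at this
  have h := this z (Set.mem_singleton z)
  show (c : G) * z = z * (c : G)
  exact h.symm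

theorem orderOf_zC (hz2 : orderOf z = 2) : orderOf (zC z) = 2 := by
  rw [← Subgroup.orderOf_coe, zC_coe, hz2]

variable {z}

/-- the basic set `1, Z₂, ε Z₃` -/
noncomputable def phi (D : KData M (zC z)) (i : Fin 3) :
    Subgroup.centralizer ({z} : Set G) → ℂ :=
  match i with
  | 0 => fun _ => 1
  | 1 => (D.Z₂ : Subgroup.centralizer ({z} : Set G) → ℂ)
  | 2 => fun y => (D.ε : ℂ) * (D.Z₃ : Subgroup.centralizer ({z} : Set G) → ℂ) y

/-- the projective characters `φ_i + Z₄` -/
noncomputable def Phi (D : KData M (zC z)) (i : Fin 3) :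
    Subgroup.centralizer ({z} : Set G) → ℂ :=
  fun y => phi D i y + (D.Z₄ : Subgroup.centralizer ({z} : Set G) → ℂ) y

/-- the generalized decomposition numbers -/
noncomputable def cC (D : KData M (zC z)) (i : Fin 3) (χ : IrrCharacter G) : ℂ :=
  (Nat.card (Subgroup.centralizer ({z} : Set G)) : ℂ)⁻¹ *
    ∑ y : Subgroup.centralizer ({z} : Set G),
      if Odd (orderOf y) then (χ : G → ℂ) (z * (y : G)) * (2 * conj (Phi D i y)) else 0

theorem eps_sq (D : KData M (zC z)) : (D.ε : ℂ) * (D.ε : ℂ) = 1 := by
  rcases D.hε with h | h <;> rw [h] <;> norm_num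

theorem conj_eps (D : KData M (zC z)) : conj (D.ε : ℂ) = (D.ε : ℂ) := by
  simp

/-- the kernel of the principal block of `C_G(z)` in terms of the basic set -/
theorem bK_eq_phi (hM : IsPModular 2 M) (hz2 : orderOf z = 2) (D : KData M (zC z))
    (y' y : Subgroup.centralizer ({z} : Set G)) (hy' : Odd (orderOf y')) (hy : Odd (orderOf y)) :
    bK (principalBlock M (Subgroup.centralizer ({z} : Set G))) y' y =
      ∑ i : Fin 3, phi D i y' * (2 * conj (Phi D i y)) := by
  rw [kernel_identity hM D (zC_mem_center z) (orderOf_zC z hz2) y' y hy' hy]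
  have h1 := D.odd y' hy'
  have h2 := D.odd y hy
  have h4' : (D.Z₄ : Subgroup.centralizer ({z} : Set G) → ℂ) y' =
      1 + (D.Z₂ : Subgroup.centralizer ({z} : Set G) → ℂ) y' +
        (D.ε : ℂ) * (D.Z₃ : Subgroup.centralizer ({z} : Set G) → ℂ) y' := by
    linear_combination -h1
  rw [Fin.sum_univ_three]
  simp only [Phi, phi, map_add, map_mul, map_one, conj_eps]
  have he := eps_sq D
  rw [h4']
  linear_combination (-2 * (D.Z₃ : Subgroup.centralizer ({z} : Set G) → ℂ) y' *
    conj ((D.Z₃ : Subgroup.centralizer ({z} : Set G) → ℂ) y)) * he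

theorem card_ne_zero_C : (Nat.card (Subgroup.centralizer ({z} : Set G)) : ℂ) ≠ 0 := by
  have : 0 < Nat.card (Subgroup.centralizer ({z} : Set G)) := Nat.card_pos
  exact_mod_cast this.ne'

/-- `∑_{y odd} χ(z y) * (2 conj Φ_i y) = |C| * c_i[χ]` -/
theorem sum_eq_card_mul_cC (D : KData M (zC z)) (i : Fin 3) (χ : IrrCharacter G) :
    (∑ y : Subgroup.centralizer ({z} : Set G),
      if Odd (orderOf y) then (χ : G → ℂ) (z * (y : G)) * (2 * conj (Phi D i y)) else 0) =
    (Nat.card (Subgroup.centralizer ({z} : Set G)) : ℂ) * cC D i χ := by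
  unfold cC
  rw [← mul_assoc, mul_inv_cancel₀ card_ne_zero_C, one_mul]

/-- **The values of a character of the principal block on the section of `z`.** -/
theorem section_value (hM : IsPModular 2 M) (hz2 : orderOf z = 2) (D : KData M (zC z))
    (χ : IrrCharacter G) (hχ : χ ∈ principalBlock M G)
    (y' : Subgroup.centralizer ({z} : Set G)) (hy' : Odd (orderOf y')) :
    (χ : G → ℂ) (z * (y' : G)) = ∑ i : Fin 3, phi D i y' * cC D i χ := by
  classical
  haveI : Fact (Nat.Prime 2) := ⟨Nat.prime_two⟩
  haveI := isPrime_of_isPModular hM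
  have hzp : ∃ k : ℕ, orderOf z = 2 ^ k := ⟨1, by rw [hz2, pow_one]⟩
  set b := (Set.toFinite (principalBlock M (Subgroup.centralizer ({z} : Set G)))).toFinset with hb
  set ϑ : Subgroup.centralizer ({z} : Set G) → ℂ := fun c => (χ : G → ℂ) (z * (c : G)) with hϑ
  set F : Subgroup.centralizer ({z} : Set G) → ℂ :=
    blockPart (principalBlock M (Subgroup.centralizer ({z} : Set G))) ϑ with hF
  have hFreg : ∀ y : Subgroup.centralizer ({z} : Set G), ¬ 2 ∣ orderOf y →
      (χ : G → ℂ) (z * (y : G)) = F y := fun y hy => section_principal hM z hzp χ hχ y hy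
  have hFexp : ∀ y : Subgroup.centralizer ({z} : Set G), F y =
      ∑ ψ ∈ b, classInner ϑ (ψ : Subgroup.centralizer ({z} : Set G) → ℂ) *
        (ψ : Subgroup.centralizer ({z} : Set G) → ℂ) y := fun y => blockPart_eq_finset _ ϑ y
  have hy'2 : ¬ 2 ∣ orderOf y' := not_two_dvd_of_odd hy'
  -- first evaluation
  have h1 : ∑ y : Subgroup.centralizer ({z} : Set G),
      (if 2 ∣ orderOf y then 0 else
        F y * bK (principalBlock M (Subgroup.centralizer ({z} : Set G))) y' y) =
      (Nat.card (Subgroup.centralizer ({z} : Set G)) : ℂ) * F y' := by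
    have h2 : ∀ y : Subgroup.centralizer ({z} : Set G),
        (if 2 ∣ orderOf y then 0 else
          F y * bK (principalBlock M (Subgroup.centralizer ({z} : Set G))) y' y) =
        ∑ ψ ∈ b, classInner ϑ (ψ : Subgroup.centralizer ({z} : Set G) → ℂ) *
          (if 2 ∣ orderOf y then 0 else (ψ : Subgroup.centralizer ({z} : Set G) → ℂ) y *
            bK (principalBlock M (Subgroup.centralizer ({z} : Set G))) y' y) := by
      intro y
      by_cases hy : 2 ∣ orderOf y
      · simp only [if_pos hy, mul_zero, Finset.sum_const_zero]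
      · simp only [if_neg hy]
        rw [hFexp y, Finset.sum_mul]
        refine Finset.sum_congr rfl fun ψ _ => ?_
        ring
    rw [Finset.sum_congr rfl (fun y _ => h2 y), Finset.sum_comm]
    simp_rw [← Finset.mul_sum]
    rw [hFexp y', Finset.mul_sum]
    refine Finset.sum_congr rfl fun ψ hψ => ?_
    rw [reproducing hM (isPBlock_principalBlock M) ψ ((Set.Finite.mem_toFinset _).1 hψ) y' hy'2]
    ring
  -- second evaluation
  have h3 : ∑ y : Subgroup.centralizer ({z} : Set G),
      (if 2 ∣ orderOf y then 0 else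
        F y * bK (principalBlock M (Subgroup.centralizer ({z} : Set G))) y' y) =
      (Nat.card (Subgroup.centralizer ({z} : Set G)) : ℂ) * ∑ i : Fin 3, phi D i y' * cC D i χ := by
    have h4 : ∀ y : Subgroup.centralizer ({z} : Set G),
        (if 2 ∣ orderOf y then 0 else
          F y * bK (principalBlock M (Subgroup.centralizer ({z} : Set G))) y' y) =
        ∑ i : Fin 3, phi D i y' * (if Odd (orderOf y) then
          (χ : G → ℂ) (z * (y : G)) * (2 * conj (Phi D i y)) else 0) := by
      intro y
      by_cases hy : 2 ∣ orderOf y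
      · have hy' : ¬ Odd (orderOf y) := fun h => not_two_dvd_of_odd h hy
        simp only [if_pos hy, if_neg hy', mul_zero, Finset.sum_const_zero]
      · have hyo : Odd (orderOf y) := odd_of_not_two_dvd hy
        simp only [if_neg hy, if_pos hyo]
        rw [← hFreg y hy, bK_eq_phi hM hz2 D y' y hy' hyo, Finset.mul_sum]
        refine Finset.sum_congr rfl fun i _ => ?_
        ring
    rw [Finset.sum_congr rfl (fun y _ => h4 y), Finset.sum_comm, Finset.mul_sum]
    refine Finset.sum_congr rfl fun i _ => ?_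
    rw [← Finset.mul_sum, sum_eq_card_mul_cC]
    ring
  rw [h1] at h3
  rw [hFreg y' hy'2]
  exact mul_left_cancel₀ card_ne_zero_C h3

/-- the four characters `1, Z₂, Z₃, Z₄` -/
noncomputable def Zs (D : KData M (zC z)) (l : Fin 4) :
    IrrCharacter (Subgroup.centralizer ({z} : Set G)) :=
  match l with
  | 0 => trivIrr _
  | 1 => D.Z₂
  | 2 => D.Z₃
  | 3 => D.Z₄

theorem Zs_zinv (D : KData M (zC z)) (l : Fin 4) (c : Subgroup.centralizer ({z} : Set G)) :
    (Zs D l : Subgroup.centralizer ({z} : Set G) → ℂ) (zC z * c) =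
      (Zs D l : Subgroup.centralizer ({z} : Set G) → ℂ) c := by
  fin_cases l
  · simp only [Zs, trivIrr_apply]
  · exact D.zinv₂ c
  · exact D.zinv₃ c
  · exact D.zinv₄ c

theorem phi_zinv (D : KData M (zC z)) (i : Fin 3) (c : Subgroup.centralizer ({z} : Set G)) :
    phi D i (zC z * c) = phi D i c := by
  fin_cases i
  · simp only [phi]
  · exact D.zinv₂ c
  · simp only [phi]
    rw [D.zinv₃ c]

theorem Phi_zinv (D : KData M (zC z)) (i : Fin 3) (c : Subgroup.centralizer ({z} : Set G)) :
    Phi D i (zC z * c) = Phi D i c := by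
  unfold Phi
  rw [phi_zinv, D.zinv₄]

theorem Phi_sing (D : KData M (zC z)) (i : Fin 3) (c : Subgroup.centralizer ({z} : Set G))
    (h1 : ¬ Odd (orderOf c)) (h2 : ¬ Odd (orderOf (zC z * c))) : Phi D i c = 0 := by
  obtain ⟨e2, e3, e4⟩ := D.sing c h1 h2
  have he := eps_sq D
  unfold Phi
  fin_cases i
  · simp only [phi]
    rw [e4]; ring
  · simp only [phi]
    rw [e2, e4]; ring
  · simp only [phi]
    rw [e3, e4]; linear_combination he

theorem kernel_identity_Zs (hM : IsPModular 2 M) (hz2 : orderOf z = 2) (D : KData M (zC z))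
    (y' y : Subgroup.centralizer ({z} : Set G)) (hy' : Odd (orderOf y')) (hy : Odd (orderOf y)) :
    bK (principalBlock M (Subgroup.centralizer ({z} : Set G))) y' y =
      2 * ∑ l : Fin 4, (Zs D l : Subgroup.centralizer ({z} : Set G) → ℂ) y' *
        conj ((Zs D l : Subgroup.centralizer ({z} : Set G) → ℂ) y) := by
  rw [kernel_identity hM D (zC_mem_center z) (orderOf_zC z hz2) y' y hy' hy, Fin.sum_univ_four]
  simp only [Zs, trivIrr_apply, map_one, mul_one]

/-- the truncated pairing of an inflated character with `Φ_i` is an inner product -/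
theorem pairing_Zs (hz2 : orderOf z = 2) (D : KData M (zC z)) (l : Fin 4) (i : Fin 3) :
    (Nat.card (Subgroup.centralizer ({z} : Set G)) : ℂ)⁻¹ *
      ∑ y : Subgroup.centralizer ({z} : Set G),
        (if Odd (orderOf y) then
          (Zs D l : Subgroup.centralizer ({z} : Set G) → ℂ) y * (2 * conj (Phi D i y)) else 0) =
    classInner (Zs D l : Subgroup.centralizer ({z} : Set G) → ℂ) (Phi D i) := by
  have h := sum_eq_two_mul_sum_odd (zC z) (zC_mem_center z) (orderOf_zC z hz2)
    (fun c => (Zs D l : Subgroup.centralizer ({z} : Set G) → ℂ) c * conj (Phi D i c))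
    (fun c => by
      show (Zs D l : Subgroup.centralizer ({z} : Set G) → ℂ) (zC z * c) *
        conj (Phi D i (zC z * c)) = _
      rw [Zs_zinv, Phi_zinv])
    (fun c h1 h2 => by
      show (Zs D l : Subgroup.centralizer ({z} : Set G) → ℂ) c * conj (Phi D i c) = 0
      rw [Phi_sing D i c h1 h2, map_zero, mul_zero])
  unfold classInner
  rw [h]
  congr 1
  rw [Finset.mul_sum]
  refine Finset.sum_congr rfl fun y _ => ?_
  by_cases hy : Odd (orderOf y)
  · simp only [if_pos hy]; ring
  · simp only [if_neg hy, mul_zero]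

/-- the decomposition matrix of the four inflated characters -/
noncomputable def Amat (D : KData M (zC z)) (l : Fin 4) (i : Fin 3) : ℂ :=
  match l, i with
  | 0, 0 => 1
  | 1, 1 => 1
  | 2, 2 => (D.ε : ℂ)
  | 3, _ => 1
  | _, _ => 0

theorem Phi_eq_add (D : KData M (zC z)) (i : Fin 3) :
    Phi D i = phi D i + (D.Z₄ : Subgroup.centralizer ({z} : Set G) → ℂ) := by
  funext y; rfl

theorem phi_zero (D : KData M (zC z)) :
    phi D 0 = (trivIrr (Subgroup.centralizer ({z} : Set G)) :
      Subgroup.centralizer ({z} : Set G) → ℂ) := by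
  funext y; rfl

theorem phi_one (D : KData M (zC z)) :
    phi D 1 = (D.Z₂ : Subgroup.centralizer ({z} : Set G) → ℂ) := rfl

theorem phi_two (D : KData M (zC z)) :
    phi D 2 = (D.ε : ℂ) • (D.Z₃ : Subgroup.centralizer ({z} : Set G) → ℂ) := by
  funext y; rfl

theorem inner_Zs_Phi (D : KData M (zC z)) (l : Fin 4) (i : Fin 3) :
    classInner (Zs D l : Subgroup.centralizer ({z} : Set G) → ℂ) (Phi D i) = Amat D l i := by
  classical
  have hne₂ := D.ne₂
  have hne₃ := D.ne₃
  have hne₄ := D.ne₄
  have h23 := D.ne₂₃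
  have h24 := D.ne₂₄
  have h34 := D.ne₃₄
  rw [Phi_eq_add, Cfsg.Agent.Helper81.classInner_add_right]
  fin_cases l <;> fin_cases i <;>
    simp only [Zs, Amat, phi_zero, phi_one, phi_two, Cfsg.Agent.Helper81.classInner_smul_right,
      Cfsg.Agent.Helper80.classInner_irr, conj_eps, Fin.zero_eta, Fin.mk_one, Fin.reduceFinMk,
      if_pos, if_neg, hne₂, hne₃, hne₄, h23, h24, h34, hne₂.symm, hne₃.symm, hne₄.symm, h23.symm,
      h24.symm, h34.symm, if_true, if_false, mul_one, mul_zero, add_zero, zero_add]

/-- the truncation weights -/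
noncomputable def uW (D : KData M (zC z)) (i : Fin 3) (y : Subgroup.centralizer ({z} : Set G)) : ℂ :=
  if Odd (orderOf y) then 2 * conj (Phi D i y) else 0

theorem uW_of_not_odd (D : KData M (zC z)) (i : Fin 3) (y : Subgroup.centralizer ({z} : Set G))
    (h : ¬ Odd (orderOf y)) : uW D i y = 0 := by
  unfold uW; rw [if_neg h]

theorem cC_eq (D : KData M (zC z)) (i : Fin 3) (χ : IrrCharacter G) :
    cC D i χ = (Nat.card (Subgroup.centralizer ({z} : Set G)) : ℂ)⁻¹ *
      ∑ y : Subgroup.centralizer ({z} : Set G), (χ : G → ℂ) (z * (y : G)) * uW D i y := by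
  unfold cC uW
  congr 1
  refine Finset.sum_congr rfl fun y _ => ?_
  by_cases hy : Odd (orderOf y)
  · simp only [if_pos hy]
  · simp only [if_neg hy, mul_zero]

theorem pairing_Zs' (hz2 : orderOf z = 2) (D : KData M (zC z)) (l : Fin 4) (i : Fin 3) :
    (Nat.card (Subgroup.centralizer ({z} : Set G)) : ℂ)⁻¹ *
      ∑ y : Subgroup.centralizer ({z} : Set G),
        (Zs D l : Subgroup.centralizer ({z} : Set G) → ℂ) y * uW D i y = Amat D l i := by
  rw [← inner_Zs_Phi, ← pairing_Zs hz2]
  congr 1
  refine Finset.sum_congr rfl fun y _ => ?_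
  unfold uW
  by_cases hy : Odd (orderOf y)
  · simp only [if_pos hy]
  · simp only [if_neg hy, mul_zero]

/-- **The Gram matrix of the generalized decomposition numbers.** -/
theorem gram (hM : IsPModular 2 M) (hz2 : orderOf z = 2) (D : KData M (zC z)) (i j : Fin 3) :
    ∑ χ ∈ (Set.toFinite (principalBlock M G)).toFinset, cC D i χ * conj (cC D j χ) =
      2 * ∑ l : Fin 4, Amat D l i * conj (Amat D l j) := by
  classical
  haveI : Fact (Nat.Prime 2) := ⟨Nat.prime_two⟩
  have hzp : ∃ k : ℕ, orderOf z = 2 ^ k := ⟨1, by rw [hz2, pow_one]⟩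
  set T := (Set.toFinite (principalBlock M G)).toFinset with hT
  set c : ℂ := (Nat.card (Subgroup.centralizer ({z} : Set G)) : ℂ) with hc
  have hcconj : conj c⁻¹ = c⁻¹ := by
    rw [hc, map_inv₀, Complex.conj_natCast]
  -- the inner sum over the block
  have hker : ∀ y y' : Subgroup.centralizer ({z} : Set G),
      uW D i y * conj (uW D j y') *
        ∑ χ ∈ T, (χ : G → ℂ) (z * (y : G)) * conj ((χ : G → ℂ) (z * (y' : G))) =
      uW D i y * conj (uW D j y') *
        (2 * ∑ l : Fin 4, (Zs D l : Subgroup.centralizer ({z} : Set G) → ℂ) y *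
          conj ((Zs D l : Subgroup.centralizer ({z} : Set G) → ℂ) y')) := by
    intro y y'
    by_cases hy : Odd (orderOf y)
    · by_cases hy' : Odd (orderOf y')
      · rw [sum_section_principal_polar hM z hzp y y' (not_two_dvd_of_odd hy)
          (not_two_dvd_of_odd hy'), kernel_identity_Zs hM hz2 D y y' hy hy']
      · rw [uW_of_not_odd D j y' hy', map_zero, mul_zero, zero_mul, zero_mul]
    · rw [uW_of_not_odd D i y hy, zero_mul, zero_mul, zero_mul]
  -- expand the left side
  have h1 : ∀ χ : IrrCharacter G, cC D i χ * conj (cC D j χ) =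
      c⁻¹ * c⁻¹ * ∑ y : Subgroup.centralizer ({z} : Set G),
        ∑ y' : Subgroup.centralizer ({z} : Set G),
          uW D i y * conj (uW D j y') *
            ((χ : G → ℂ) (z * (y : G)) * conj ((χ : G → ℂ) (z * (y' : G)))) := by
    intro χ
    rw [cC_eq D i χ, cC_eq D j χ, map_mul, hcconj, map_sum]
    rw [mul_mul_mul_comm, Finset.sum_mul_sum]
    congr 1
    refine Finset.sum_congr rfl fun y _ => ?_
    refine Finset.sum_congr rfl fun y' _ => ?_
    rw [map_mul]
    ring
  rw [Finset.sum_congr rfl (fun χ _ => h1 χ), ← Finset.mul_sum]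
  rw [Finset.sum_comm]
  have h2 : ∀ y : Subgroup.centralizer ({z} : Set G),
      ∑ χ ∈ T, ∑ y' : Subgroup.centralizer ({z} : Set G),
        uW D i y * conj (uW D j y') *
          ((χ : G → ℂ) (z * (y : G)) * conj ((χ : G → ℂ) (z * (y' : G)))) =
      ∑ y' : Subgroup.centralizer ({z} : Set G), uW D i y * conj (uW D j y') *
        (2 * ∑ l : Fin 4, (Zs D l : Subgroup.centralizer ({z} : Set G) → ℂ) y *
          conj ((Zs D l : Subgroup.centralizer ({z} : Set G) → ℂ) y')) := by
    intro y
    rw [Finset.sum_comm]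
    refine Finset.sum_congr rfl fun y' _ => ?_
    rw [← Finset.mul_sum, hker y y']
  rw [Finset.sum_congr rfl (fun y _ => h2 y)]
  -- now separate the variables
  have h3 : ∀ l : Fin 4, Amat D l i * conj (Amat D l j) =
      c⁻¹ * c⁻¹ * ∑ y : Subgroup.centralizer ({z} : Set G),
        ∑ y' : Subgroup.centralizer ({z} : Set G),
          uW D i y * conj (uW D j y') *
            ((Zs D l : Subgroup.centralizer ({z} : Set G) → ℂ) y *
              conj ((Zs D l : Subgroup.centralizer ({z} : Set G) → ℂ) y')) := by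
    intro l
    rw [← pairing_Zs' hz2 D l i, ← pairing_Zs' hz2 D l j, map_mul, hcconj, map_sum]
    rw [mul_mul_mul_comm, Finset.sum_mul_sum]
    congr 1
    refine Finset.sum_congr rfl fun y _ => ?_
    refine Finset.sum_congr rfl fun y' _ => ?_
    rw [map_mul]
    ring
  rw [Finset.sum_congr rfl (fun l _ => h3 l), ← Finset.mul_sum]
  have h5 : ∑ l : Fin 4, ∑ y : Subgroup.centralizer ({z} : Set G),
      ∑ y' : Subgroup.centralizer ({z} : Set G),
        uW D i y * conj (uW D j y') *
          ((Zs D l : Subgroup.centralizer ({z} : Set G) → ℂ) y *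
            conj ((Zs D l : Subgroup.centralizer ({z} : Set G) → ℂ) y')) =
      ∑ y : Subgroup.centralizer ({z} : Set G), ∑ y' : Subgroup.centralizer ({z} : Set G),
        uW D i y * conj (uW D j y') *
        (∑ l : Fin 4, (Zs D l : Subgroup.centralizer ({z} : Set G) → ℂ) y *
          conj ((Zs D l : Subgroup.centralizer ({z} : Set G) → ℂ) y')) := by
    rw [Finset.sum_comm]
    refine Finset.sum_congr rfl fun y _ => ?_
    rw [Finset.sum_comm]
    refine Finset.sum_congr rfl fun y' _ => ?_
    rw [← Finset.mul_sum]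
  rw [h5]
  have h6 : ∀ a b : ℂ, a * (2 * b) = 2 * (a * b) := by intros; ring
  simp_rw [h6, ← Finset.mul_sum]
  ring

theorem gram_eval (hM : IsPModular 2 M) (hz2 : orderOf z = 2) (D : KData M (zC z)) (i j : Fin 3) :
    ∑ χ ∈ (Set.toFinite (principalBlock M G)).toFinset, cC D i χ * conj (cC D j χ) =
      if i = j then 4 else 2 := by
  rw [gram hM hz2 D i j, Fin.sum_univ_four]
  have he := eps_sq D
  fin_cases i <;> fin_cases j <;>
    simp only [Amat, conj_eps, map_one, map_zero, mul_one, mul_zero, zero_mul, one_mul, add_zero,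
      zero_add, Fin.zero_eta, Fin.mk_one, Fin.reduceFinMk, Fin.reduceEq, if_true, if_false,
      Fin.isValue] <;>
    first
      | linear_combination (2 : ℂ) * he
      | norm_num

/-- orthogonality of the columns of the section of `z` to the other sections -/
theorem orth_c (hM : IsPModular 2 M) (hz2 : orderOf z = 2) (D : KData M (zC z)) (i : Fin 3)
    (g x : G) (hgx : IsPPart 2 g x) (hx : ¬ IsConj x z) :
    ∑ χ ∈ (Set.toFinite (principalBlock M G)).toFinset, (χ : G → ℂ) g * conj (cC D i χ) = 0 := by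
  classical
  haveI : Fact (Nat.Prime 2) := ⟨Nat.prime_two⟩
  set T := (Set.toFinite (principalBlock M G)).toFinset with hT
  set c : ℂ := (Nat.card (Subgroup.centralizer ({z} : Set G)) : ℂ) with hc
  have hcconj : conj c⁻¹ = c⁻¹ := by
    rw [hc, map_inv₀, Complex.conj_natCast]
  have h1 : ∀ χ : IrrCharacter G, (χ : G → ℂ) g * conj (cC D i χ) =
      c⁻¹ * ∑ y : Subgroup.centralizer ({z} : Set G),
        conj (uW D i y) * ((χ : G → ℂ) g * conj ((χ : G → ℂ) (z * (y : G)))) := by
    intro χ
    rw [cC_eq D i χ, map_mul, hcconj, map_sum, ← mul_assoc, mul_comm _ c⁻¹, mul_assoc,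
      Finset.mul_sum]
    congr 1
    refine Finset.sum_congr rfl fun y _ => ?_
    rw [map_mul]
    ring
  rw [Finset.sum_congr rfl (fun χ _ => h1 χ), ← Finset.mul_sum, Finset.sum_comm]
  have h2 : ∀ y : Subgroup.centralizer ({z} : Set G),
      ∑ χ ∈ T, conj (uW D i y) * ((χ : G → ℂ) g * conj ((χ : G → ℂ) (z * (y : G)))) = 0 := by
    intro y
    rw [← Finset.mul_sum]
    by_cases hy : Odd (orderOf y)
    · have hP2 : IsPPart 2 (z * (y : G)) z := by
        refine ⟨(y : G), rfl, ?_, ⟨1, by rw [hz2, pow_one]⟩, ?_⟩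
        · have := y.2
          rw [Subgroup.mem_centralizer_iff] at this
          exact this z (Set.mem_singleton z)
        · rw [Subgroup.orderOf_coe]
          exact not_two_dvd_of_odd hy
      have h := (Cfsg.Agent.S0925.result 2 M hM).2 g (z * (y : G)) x z hgx hP2 hx
        (principalBlock M G) (isPBlock_principalBlock M)
      rw [finsum_mem_eq_finite_toFinset_sum _ (Set.toFinite (principalBlock M G))] at h
      have h' : ∑ χ ∈ T, (χ : G → ℂ) g * conj ((χ : G → ℂ) (z * (y : G))) = 0 := by
        rw [← h]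
        refine Finset.sum_congr rfl fun χ _ => ?_
        rw [IsIrrCharacter.inv χ.2]
      rw [h', mul_zero]
    · rw [uW_of_not_odd D i y hy, map_zero, zero_mul]
  rw [Finset.sum_congr rfl (fun y _ => h2 y), Finset.sum_const_zero, mul_zero]

theorem isGenChar_irr (ψ : IrrCharacter (Subgroup.centralizer ({z} : Set G))) :
    IsGeneralizedCharacter (Subgroup.centralizer ({z} : Set G))
      (ψ : Subgroup.centralizer ({z} : Set G) → ℂ) :=
  Cfsg.Agent.Helper82.isGeneralizedCharacter_of_isCharacter
    (Cfsg.Agent.Helper80.isCharacter_of_irr ψ.2)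

theorem isGenChar_phi (D : KData M (zC z)) (i : Fin 3) :
    IsGeneralizedCharacter (Subgroup.centralizer ({z} : Set G)) (phi D i) := by
  fin_cases i
  · show IsGeneralizedCharacter _ (phi D 0)
    rw [phi_zero]; exact isGenChar_irr _
  · show IsGeneralizedCharacter _ (phi D 1)
    rw [phi_one]; exact isGenChar_irr _
  · show IsGeneralizedCharacter _ (phi D 2)
    rw [phi_two]
    rcases D.hε with h | h
    · rw [h]
      simp only [Int.cast_one, one_smul]
      exact isGenChar_irr _
    · rw [h]
      have : ((-1 : ℤ) : ℂ) • (D.Z₃ : Subgroup.centralizer ({z} : Set G) → ℂ) =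
          -(D.Z₃ : Subgroup.centralizer ({z} : Set G) → ℂ) := by
        funext y; simp
      rw [this]
      exact Cfsg.Agent.Helper82.isGeneralizedCharacter_neg (isGenChar_irr _)

theorem isGenChar_Phi (D : KData M (zC z)) (i : Fin 3) :
    IsGeneralizedCharacter (Subgroup.centralizer ({z} : Set G)) (Phi D i) := by
  rw [Phi_eq_add]
  exact Cfsg.Agent.Helper82.isGeneralizedCharacter_add (isGenChar_phi D i) (isGenChar_irr _)

/-- the twisted truncation of `Φ_i` -/
noncomputable def PsiT (D : KData M (zC z)) (i : Fin 3) :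
    Subgroup.centralizer ({z} : Set G) → ℂ :=
  fun c => if Odd (orderOf (zC z * c)) then 2 * Phi D i c else 0

theorem isGenChar_PsiT (hz2 : orderOf z = 2) (D : KData M (zC z)) (i : Fin 3) :
    IsGeneralizedCharacter (Subgroup.centralizer ({z} : Set G)) (PsiT D i) := by
  classical
  exact Cfsg.Agent.Helper3.twoPartTwist_isGenChar (zC z) (zC_mem_center z) (orderOf_zC z hz2)
    (Phi D i) (isGenChar_Phi D i) (Phi_zinv D i) (Phi_sing D i)
    (fun c => Odd (orderOf (zC z * c))) (fun c => Iff.rfl)

theorem zC_mul_self (hz2 : orderOf z = 2) (y : Subgroup.centralizer ({z} : Set G)) :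
    zC z * (zC z * y) = y := by
  have h : zC z * zC z = 1 := by
    have := pow_orderOf_eq_one (zC z)
    rw [orderOf_zC z hz2, pow_two] at this
    exact this
  rw [← mul_assoc, h, one_mul]

theorem cC_eq_classInner (hz2 : orderOf z = 2) (D : KData M (zC z)) (i : Fin 3)
    (χ : IrrCharacter G) :
    cC D i χ = classInner (fun c : Subgroup.centralizer ({z} : Set G) => (χ : G → ℂ) c)
      (PsiT D i) := by
  unfold cC classInner
  congr 1
  symm
  refine Fintype.sum_equiv (Equiv.mulLeft (zC z)) _ _ (fun c => ?_)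
  show (χ : G → ℂ) c * conj (PsiT D i c) =
    (if Odd (orderOf (zC z * c)) then (χ : G → ℂ) (z * ((zC z * c : Subgroup.centralizer
      ({z} : Set G)) : G)) * (2 * conj (Phi D i (zC z * c))) else 0)
  unfold PsiT
  have hzz : z * (z * (c : G)) = (c : G) := by
    have := congrArg (fun t : Subgroup.centralizer ({z} : Set G) => (t : G)) (zC_mul_self hz2 c)
    simpa only [Subgroup.coe_mul, zC_coe] using this
  by_cases hc : Odd (orderOf (zC z * c))
  · rw [if_pos hc, if_pos hc, map_mul, Phi_zinv]
    simp only [Subgroup.coe_mul, zC_coe, map_ofNat, hzz]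
  · rw [if_neg hc, if_neg hc, map_zero, mul_zero]

theorem cC_int (hz2 : orderOf z = 2) (D : KData M (zC z)) (i : Fin 3) (χ : IrrCharacter G) :
    ∃ k : ℤ, cC D i χ = (k : ℂ) := by
  rw [cC_eq_classInner hz2]
  exact Cfsg.Agent.Helper82.genChar_inner_int
    (Cfsg.Agent.Helper82.isGeneralizedCharacter_of_isCharacter
      (Cfsg.Agent.Helper81.isCharacter_restrict _ (Cfsg.Agent.Helper80.isCharacter_of_irr χ.2)))
    (isGenChar_PsiT hz2 D i)

end sectionz

end Cfsg.Agent.Helper46.BSQ
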