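import Mathlib
import Cfsg.Prelude.Def_Blocks
import Cfsg.Agent.Lib.Helper46.BSQ4
import Cfsg.Agent.Lib.Helper94.CoreArith
import Cfsg.Agent.Lib.Helper15.PRegularCong
import Cfsg.Agent.Lib.Helper78.CharSchur
import Cfsg.Agent.Lib.Helper3.CharDecomp
import Cfsg.Agent.S0944
import Cfsg.Agent.S0947

/-!
# Brauer–Suzuki for `Q₈` (helper46), part 5: integrality, parity and the class multiplication
relations for the columns of the principal block
-/

set_option autoImplicit false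
set_option linter.unusedSectionVars false
set_option linter.style.haveILetI false
set_option maxHeartbeats 800000
set_option linter.unusedSimpArgs false

namespace Cfsg.Agent.Helper46.BSQ

open Cfsg
open Cfsg.Agent.Helper77 Cfsg.Agent.Helper16 Cfsg.Agent.Helper78 Cfsg.Agent.Helper79
open scoped ComplexConjugate

universe u

section general

variable {G : Type u} [Group G] [Fintype G] {M : Ideal AlgInt}

/-- block orthogonality for the principal block, in conjugate form -/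
theorem block_orth (hM : IsPModular 2 M) (g h x y : G) (hg : IsPPart 2 g x) (hh : IsPPart 2 h y)
    (hxy : ¬ IsConj x y) :
    ∑ χ ∈ (Set.toFinite (principalBlock M G)).toFinset,
      (χ : G → ℂ) g * conj ((χ : G → ℂ) h) = 0 := by
  haveI : Fact (Nat.Prime 2) := ⟨Nat.prime_two⟩
  have h1 := (Cfsg.Agent.S0925.result 2 M hM).2 g h x y hg hh hxy
    (principalBlock M G) (isPBlock_principalBlock M)
  rw [finsum_mem_eq_finite_toFinset_sum _ (Set.toFinite (principalBlock M G))] at h1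
  rw [← h1]
  refine Finset.sum_congr rfl fun χ _ => ?_
  rw [IsIrrCharacter.inv χ.2]

theorem isPPart_one_of_odd (g : G) (hg : Odd (orderOf g)) : IsPPart 2 g 1 := by
  refine ⟨g, one_mul g, Commute.one_left g, ⟨0, ?_⟩, not_two_dvd_of_odd hg⟩
  rw [orderOf_one, pow_zero]

theorem isPPart_self (g : G) (k : ℕ) (hg : orderOf g = 2 ^ k) : IsPPart 2 g g := by
  refine ⟨1, mul_one g, Commute.one_right g, ⟨k, hg⟩, ?_⟩
  rw [orderOf_one]; norm_num

theorem not_isConj_of_orderOf_ne {x y : G} (h : orderOf x ≠ orderOf y) : ¬ IsConj x y := by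
  intro hc
  obtain ⟨c, hc⟩ := isConj_iff.1 hc
  apply h
  rw [← hc]
  have := (MulAut.conj c).toMonoidHom.toMulEquiv
  exact (MulEquiv.orderOf_eq (MulAut.conj c) x).symm

/-- sums over a cyclic subgroup -/
theorem sum_zpowers (x : G) [Fintype (Subgroup.zpowers x)] (f : G → ℂ) :
    ∑ h : Subgroup.zpowers x, f (h : G) = ∑ i ∈ Finset.range (orderOf x), f (x ^ i) := by
  have hx : IsOfFinOrder x := isOfFinOrder_of_finite x
  rw [← Fin.sum_univ_eq_sum_range (fun i => f (x ^ i)) (orderOf x)]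
  symm
  refine Fintype.sum_equiv (finEquivZPowers hx) _ _ (fun i => ?_)
  rw [finEquivZPowers_apply]

/-- an integer lies in the local ideal at a `2`-modular ideal only if it is even -/
theorem two_dvd_of_memLocalIdeal (hM : IsPModular 2 M) (n : ℤ) (h : MemLocalIdeal M (n : ℂ)) :
    (2 : ℤ) ∣ n := by
  haveI := isPrime_of_isPModular hM
  have h1 : MemLocalIdeal M ((n.natAbs : ℕ) : ℂ) := by
    rcases Int.natAbs_eq n with h2 | h2
    · have h3 : ((n.natAbs : ℕ) : ℂ) = (((n.natAbs : ℕ) : ℤ) : ℂ) := (Int.cast_natCast _).symm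
      rw [h3, ← h2]; exact h
    · have h3 : ((n.natAbs : ℕ) : ℂ) = -((-((n.natAbs : ℕ) : ℤ) : ℤ) : ℂ) := by
        rw [Int.cast_neg, neg_neg, Int.cast_natCast]
      rw [h3, ← h2]; exact memLocalIdeal_neg h
  rw [memLocalIdeal_natCast_iff hM] at h1
  have h2 : ((2 : ℕ) : ℤ) ∣ (n.natAbs : ℤ) := Int.natCast_dvd_natCast.2 h1
  rw [Int.dvd_natAbs] at h2
  exact_mod_cast h2

/-- a character value at an element of order four conjugate to its inverse is a rational
integer, congruent to the degree modulo `2` -/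
theorem irr_order_four_int (hM : IsPModular 2 M) (χ : IrrCharacter G) (u : G)
    (hu4 : orderOf u = 4) (huinv : IsConj u u⁻¹) :
    ∃ w : ℤ, (χ : G → ℂ) u = (w : ℂ) ∧ (2 : ℤ) ∣ w - (charDegree (χ : G → ℂ) : ℤ) := by
  classical
  haveI : Fintype (Subgroup.zpowers u) := Fintype.ofFinite _
  have hd := (irr_one_eq χ).1
  set d := charDegree (χ : G → ℂ) with hdd
  have hu2 : orderOf (u ^ 2) = 2 := by
    rw [orderOf_pow_of_dvd (by norm_num) (by rw [hu4]; norm_num), hu4]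
  obtain ⟨a', ha', k, hk⟩ := Cfsg.Agent.S0944.result χ (u ^ 2) hu2
  have hχc : IsCharacter G (χ : G → ℂ) := Cfsg.Agent.Helper80.isCharacter_of_irr χ.2
  have h1c : IsCharacter (Subgroup.zpowers u) (fun _ => (1 : ℂ)) := by
    have := Cfsg.Agent.Helper80.isCharacter_of_irr (trivIrr (Subgroup.zpowers u)).2
    exact this
  obtain ⟨m, hm⟩ := Cfsg.Agent.Helper3.classInner_isCharacter_nat
    (Cfsg.Agent.Helper81.isCharacter_restrict (Subgroup.zpowers u) hχc) h1c
  have hu41 : u ^ 4 = 1 := by rw [← hu4]; exact pow_orderOf_eq_one u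
  have hu3 : u ^ 3 = u⁻¹ := by
    rw [eq_inv_iff_mul_eq_one, ← pow_succ]; exact hu41
  have hinv : (χ : G → ℂ) u⁻¹ = (χ : G → ℂ) u := by
    obtain ⟨c, hc⟩ := isConj_iff.1 huinv
    rw [← hc, irr_class]
  have hsum : ∑ h : Subgroup.zpowers u, (χ : G → ℂ) (h : G) * conj (1 : ℂ) =
      (d : ℂ) + 2 * (χ : G → ℂ) u + (a' : ℂ) := by
    simp only [map_one, mul_one]
    rw [sum_zpowers u (χ : G → ℂ), hu4, Finset.sum_range_succ, Finset.sum_range_succ,
      Finset.sum_range_succ, Finset.sum_range_one, pow_zero, pow_one, hu3, hinv, ha', hd]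
    ring
  unfold classInner at hm
  rw [hsum, Nat.card_zpowers, hu4] at hm
  have hval : (χ : G → ℂ) u = ((2 * (m : ℤ) - (d : ℤ) + k : ℤ) : ℂ) := by
    have hk' : ((d : ℤ) : ℂ) - (a' : ℂ) = 2 * (k : ℂ) := by exact_mod_cast congrArg (Int.cast (R := ℂ)) hk
    push_cast
    push_cast at hk' hm
    linear_combination (2 : ℂ) * hm + (1 / 2 : ℂ) * hk'
  refine ⟨2 * (m : ℤ) - (d : ℤ) + k, hval, ?_⟩
  apply two_dvd_of_memLocalIdeal hM
  have hpow : u ^ (2 ^ 2) = 1 := by norm_num; exact hu41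
  have h := Cfsg.Agent.Helper15.char_mul_ppart_sub hM hχc (Commute.one_right u) hpow
  rw [mul_one, hval, hd] at h
  push_cast
  push_cast at h
  exact h

/-- class multiplication: a column orthogonal to the `2`-regular columns kills
`χ(z)² / χ(1)` when products of two conjugates of `z` have odd order -/
theorem col_quadratic (z : G) (hprod : ∀ a b : G, Odd (orderOf (a * z * a⁻¹ * (b * z * b⁻¹))))
    (T : Finset (IrrCharacter G)) (v : IrrCharacter G → ℂ)
    (hv : ∀ g : G, Odd (orderOf g) → ∑ χ ∈ T, (χ : G → ℂ) g * v χ = 0) :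
    ∑ χ ∈ T, v χ * ((χ : G → ℂ) z ^ 2 / (χ : G → ℂ) 1) = 0 := by
  have hG : (Nat.card G : ℂ) ≠ 0 := by
    have : 0 < Nat.card G := Nat.card_pos
    exact_mod_cast this.ne'
  have h1 : ∀ χ : IrrCharacter G, (Nat.card G : ℂ) ^ 2 * ((χ : G → ℂ) z ^ 2 / (χ : G → ℂ) 1) =
      ∑ a : G, ∑ b : G, (χ : G → ℂ) (a * z * a⁻¹ * (b * z * b⁻¹)) := by
    intro χ
    have h := sum_sum_irr_conj_mul χ.2 z z 1
    simp only [mul_one] at h
    rw [h]
    have h0 := irr_one_ne_zero χ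
    field_simp
  have h2 : (Nat.card G : ℂ) ^ 2 * ∑ χ ∈ T, v χ * ((χ : G → ℂ) z ^ 2 / (χ : G → ℂ) 1) = 0 := by
    rw [Finset.mul_sum]
    have h3 : ∀ χ ∈ T, (Nat.card G : ℂ) ^ 2 * (v χ * ((χ : G → ℂ) z ^ 2 / (χ : G → ℂ) 1)) =
        ∑ a : G, ∑ b : G, (χ : G → ℂ) (a * z * a⁻¹ * (b * z * b⁻¹)) * v χ := by
      intro χ _
      rw [mul_left_comm, h1 χ, Finset.mul_sum]
      refine Finset.sum_congr rfl fun a _ => ?_
      rw [Finset.mul_sum]
      refine Finset.sum_congr rfl fun b _ => ?_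
      ring
    rw [Finset.sum_congr rfl h3, Finset.sum_comm]
    refine Finset.sum_eq_zero fun a _ => ?_
    rw [Finset.sum_comm]
    refine Finset.sum_eq_zero fun b _ => ?_
    exact hv _ (hprod a b)
  rcases mul_eq_zero.1 h2 with h | h
  · exact absurd (pow_eq_zero_iff (two_ne_zero) |>.1 h) hG
  · exact h

end general

section main

variable {G : Type u} [Group G] [Fintype G] {M : Ideal AlgInt} {z : G}
  [Fintype (Subgroup.centralizer ({z} : Set G))]

theorem cC_trivIrr (hz2 : orderOf z = 2) (D : KData M (zC z)) (i : Fin 3) :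
    cC D i (trivIrr G) = Amat D 0 i := by
  rw [cC_eq, ← pairing_Zs' hz2 D 0 i]
  congr 1

/-- **The core of the Brauer–Suzuki theorem for `Q₈`**: a nontrivial irreducible character of the
principal `2`-block having `z` in its kernel. -/
theorem bsq8_core (hM : IsPModular 2 M) (u : G) (hz2 : orderOf z = 2) (hu4 : orderOf u = 4)
    (D : KData M (zC z))
    (hCu : ∃ k : ℕ, (pPrimeCore 2 (Subgroup.centralizer ({u} : Set G))).index = 2 ^ k)
    (hCu2 : (Nat.card (Subgroup.centralizer ({u} : Set G))).factorization 2 = 2)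
    (huinv : IsConj u u⁻¹)
    (hprod : ∀ a b : G, Odd (orderOf (a * z * a⁻¹ * (b * z * b⁻¹)))) :
    ∃ χ : IrrCharacter G, χ ≠ trivIrr G ∧ (χ : G → ℂ) z = (χ : G → ℂ) 1 := by
  classical
  haveI : Fact (Nat.Prime 2) := ⟨Nat.prime_two⟩
  haveI := isPrime_of_isPModular hM
  set T := (Set.toFinite (principalBlock M G)).toFinset with hT
  have hTmem : ∀ χ, χ ∈ T ↔ χ ∈ principalBlock M G := fun χ => by
    rw [hT, Set.Finite.mem_toFinset]
  -- the integer valued columns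
  choose wI hwI hwpar using fun χ : IrrCharacter G => irr_order_four_int hM χ u hu4 huinv
  choose cI hcI using fun (i : Fin 3) (χ : IrrCharacter G) => cC_int hz2 D i χ
  choose aI haI haIpar using fun χ : IrrCharacter G => Cfsg.Agent.S0944.result χ z hz2
  set dI : IrrCharacter G → ℤ := fun χ => (charDegree (χ : G → ℂ) : ℤ) with hdI
  have hdval : ∀ χ : IrrCharacter G, (χ : G → ℂ) 1 = (dI χ : ℂ) := fun χ => by
    rw [(irr_one_eq χ).1]; simp [hdI]
  have hdpos : ∀ χ : IrrCharacter G, 0 < dI χ := fun χ => by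
    have := (irr_one_eq χ).2
    simp only [hdI]; exact_mod_cast this
  have hz1 : z ≠ 1 := by
    intro h; rw [h, orderOf_one] at hz2; norm_num at hz2
  have hu1 : u ≠ 1 := by
    intro h; rw [h, orderOf_one] at hu4; norm_num at hu4
  have hPu : IsPPart 2 u u := isPPart_self u 2 (by rw [hu4]; norm_num)
  have hP1 : IsPPart 2 (1 : G) 1 := isPPart_one_of_odd 1 (by rw [orderOf_one]; exact odd_one)
  have hnuz : ¬ IsConj u z := not_isConj_of_orderOf_ne (by rw [hu4, hz2]; norm_num)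
  have hn1z : ¬ IsConj (1 : G) z := fun h => hz1 (isConj_one_right.1 h)
  have hn1u : ¬ IsConj (1 : G) u := fun h => hu1 (isConj_one_right.1 h)
  have hnu1 : ¬ IsConj u (1 : G) := fun h => hu1 (isConj_one_left.1 h)
  -- (1) the norm of `w`
  have hww : ∑ χ ∈ T, wI χ ^ 2 = 4 := by
    have h := (Cfsg.Agent.S0947.result 2 M hM u ⟨2, by rw [hu4]; norm_num⟩ hu1
      (1 : Subgroup.centralizer ({u} : Set G)) (by rw [orderOf_one]; norm_num)).2 hCu
    rw [finsum_mem_eq_finite_toFinset_sum _ (Set.toFinite (principalBlock M G)), hCu2] at h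
    have h2 : ∑ χ ∈ T, ((wI χ : ℤ) : ℝ) ^ 2 = 4 := by
      have : ((2 ^ 2 : ℕ) : ℝ) = 4 := by norm_num
      rw [← this, ← h]
      refine Finset.sum_congr rfl fun χ _ => ?_
      rw [Subgroup.coe_one, mul_one, hwI χ, Complex.norm_intCast, sq_abs]
    exact_mod_cast h2
  -- (2) the Gram matrix of the `c`
  have hgram : ∀ i j : Fin 3, ∑ χ ∈ T, cI i χ * cI j χ = if i = j then 4 else 2 := by
    intro i j
    have h := gram_eval hM hz2 D i j
    have h2 : ∑ χ ∈ T, ((cI i χ : ℤ) : ℂ) * ((cI j χ : ℤ) : ℂ) = if i = j then 4 else 2 := by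
      rw [← h]
      refine Finset.sum_congr rfl fun χ _ => ?_
      rw [hcI i χ, hcI j χ, map_intCast]
    split_ifs at h2 ⊢ <;> exact_mod_cast h2
  -- (3) `w ⊥ c`
  have hwc : ∀ i : Fin 3, ∑ χ ∈ T, wI χ * cI i χ = 0 := by
    intro i
    have h := orth_c hM hz2 D i u u hPu hnuz
    have h2 : ∑ χ ∈ T, ((wI χ : ℤ) : ℂ) * ((cI i χ : ℤ) : ℂ) = 0 := by
      rw [← h]
      refine Finset.sum_congr rfl fun χ _ => ?_
      rw [hcI i χ, hwI χ, map_intCast]
    exact_mod_cast h2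
  -- (4) `w ⊥ d`
  have hwd : ∑ χ ∈ T, wI χ * dI χ = 0 := by
    have h := block_orth hM u 1 u 1 hPu hP1 hnu1
    have h2 : ∑ χ ∈ T, ((wI χ : ℤ) : ℂ) * ((dI χ : ℤ) : ℂ) = 0 := by
      rw [← h]
      refine Finset.sum_congr rfl fun χ _ => ?_
      rw [hdval χ, hwI χ, map_intCast]
    exact_mod_cast h2
  -- (5) `c ⊥ d`
  have hcd : ∀ i : Fin 3, ∑ χ ∈ T, cI i χ * dI χ = 0 := by
    intro i
    have h := orth_c hM hz2 D i 1 1 hP1 hn1z
    have h2 : ∑ χ ∈ T, ((cI i χ : ℤ) : ℂ) * ((dI χ : ℤ) : ℂ) = 0 := by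
      rw [← h]
      refine Finset.sum_congr rfl fun χ _ => ?_
      rw [hcI i χ, hdval χ, map_intCast]
      ring
    exact_mod_cast h2
  -- (6) the value at `z`
  set f₂ : ℤ := (charDegree (D.Z₂ : Subgroup.centralizer ({z} : Set G) → ℂ) : ℤ) with hf₂
  set f₃ : ℤ := D.ε * (charDegree (D.Z₃ : Subgroup.centralizer ({z} : Set G) → ℂ) : ℤ) with hf₃
  have hf₂pos : 1 ≤ f₂ := by
    have := (irr_one_eq D.Z₂).2
    rw [hf₂]; exact_mod_cast this
  have haval : ∀ χ ∈ T, aI χ = cI 0 χ + f₂ * cI 1 χ + f₃ * cI 2 χ := by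
    intro χ hχ
    have h := section_value hM hz2 D χ ((hTmem χ).1 hχ)
      (1 : Subgroup.centralizer ({z} : Set G)) (by rw [orderOf_one]; exact odd_one)
    rw [Subgroup.coe_one, mul_one, Fin.sum_univ_three, haI χ, hcI 0 χ, hcI 1 χ, hcI 2 χ] at h
    have e0 : phi D 0 (1 : Subgroup.centralizer ({z} : Set G)) = 1 := rfl
    have e1 : phi D 1 (1 : Subgroup.centralizer ({z} : Set G)) = ((f₂ : ℤ) : ℂ) := by
      show (D.Z₂ : Subgroup.centralizer ({z} : Set G) → ℂ) 1 = _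
      rw [(irr_one_eq D.Z₂).1, hf₂]; simp
    have e2 : phi D 2 (1 : Subgroup.centralizer ({z} : Set G)) = ((f₃ : ℤ) : ℂ) := by
      show (D.ε : ℂ) * (D.Z₃ : Subgroup.centralizer ({z} : Set G) → ℂ) 1 = _
      rw [(irr_one_eq D.Z₃).1, hf₃]; simp
    rw [e0, e1, e2] at h
    have h2 : ((aI χ : ℤ) : ℂ) = ((cI 0 χ + f₂ * cI 1 χ + f₃ * cI 2 χ : ℤ) : ℂ) := by
      rw [h]; push_cast; ring
    exact_mod_cast h2
  -- (7) the quadratic relations
  have hquad : ∀ vI : IrrCharacter G → ℤ,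
      (∀ g : G, Odd (orderOf g) → ∑ χ ∈ T, (χ : G → ℂ) g * ((vI χ : ℤ) : ℂ) = 0) →
      ∑ χ ∈ T, (vI χ : ℚ) * (aI χ : ℚ) ^ 2 / (dI χ : ℚ) = 0 := by
    intro vI hv
    have h := col_quadratic z hprod T (fun χ => ((vI χ : ℤ) : ℂ)) hv
    have h' : ((∑ χ ∈ T, (vI χ : ℚ) * (aI χ : ℚ) ^ 2 / (dI χ : ℚ) : ℚ) : ℂ) = 0 := by
      rw [← h]
      push_cast
      refine Finset.sum_congr rfl fun χ _ => ?_
      rw [haI χ, hdval χ]
      ring
    exact_mod_cast h'
  have hqw : ∑ χ ∈ T, (wI χ : ℚ) * (aI χ : ℚ) ^ 2 / (dI χ : ℚ) = 0 := by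
    apply hquad
    intro g hg
    have h := block_orth hM g u 1 u (isPPart_one_of_odd g hg) hPu hn1u
    rw [← h]
    refine Finset.sum_congr rfl fun χ _ => ?_
    rw [hwI χ, map_intCast]
  have hqc : ∀ i : Fin 3, ∑ χ ∈ T, (cI i χ : ℚ) * (aI χ : ℚ) ^ 2 / (dI χ : ℚ) = 0 := by
    intro i
    apply hquad
    intro g hg
    have h := orth_c hM hz2 D i g 1 (isPPart_one_of_odd g hg) hn1z
    rw [← h]
    refine Finset.sum_congr rfl fun χ _ => ?_
    rw [hcI i χ, map_intCast]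
  -- (8) parity
  have hpar : ∀ χ ∈ T, Even (wI χ + cI 0 χ + cI 1 χ + cI 2 χ) := by
    intro χ hχ
    obtain ⟨k1, hk1⟩ := hwpar χ
    obtain ⟨k2, hk2⟩ := haIpar χ
    obtain ⟨k3, hk3⟩ := D.deg₂
    obtain ⟨k4, hk4⟩ := D.deg₃
    have ha := haval χ hχ
    have hee : D.ε * D.ε = 1 := by
      rcases D.hε with h | h <;> rw [h] <;> norm_num
    refine ⟨k1 + k2 + cI 0 χ + (1 + 2 * k3) * cI 1 χ + (1 + 2 * D.ε * k4) * cI 2 χ, ?_⟩
    rw [hf₂] at ha
    rw [hf₃] at ha
    linear_combination hk1 + hk2 + ha + (cI 1 χ) * hk3 + (D.ε * cI 2 χ) * hk4 + (cI 2 χ) * hee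
  -- (9) the trivial character
  have hoT : trivIrr G ∈ T := (hTmem _).2 (trivIrr_mem_principalBlock M)
  have hd0 : dI (trivIrr G) = 1 := by
    have h := hdval (trivIrr G)
    rw [trivIrr_apply] at h
    exact_mod_cast h.symm
  have hw0 : wI (trivIrr G) = 1 := by
    have h := hwI (trivIrr G)
    rw [trivIrr_apply] at h
    exact_mod_cast h.symm
  have hc0 : ∀ i : Fin 3, ((cI i (trivIrr G) : ℤ) : ℂ) = Amat D 0 i := by
    intro i
    rw [← hcI i, cC_trivIrr hz2 D i]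
  have hc00 : cI 0 (trivIrr G) = 1 := by
    have h := hc0 0
    simp only [Amat] at h
    exact_mod_cast h
  have hc10 : cI 1 (trivIrr G) = 0 := by
    have h := hc0 1
    simp only [Amat] at h
    exact_mod_cast h
  have hc20 : cI 2 (trivIrr G) = 0 := by
    have h := hc0 2
    simp only [Amat] at h
    exact_mod_cast h
  -- apply the arithmetic core
  have key := Cfsg.Agent.Helper94.CoreArith.core_arith (ι := ↥T) ⟨trivIrr G, hoT⟩
    (fun i => dI i.1) (fun i => aI i.1) (fun i => wI i.1) (fun i => cI 0 i.1) (fun i => cI 1 i.1)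
    (fun i => cI 2 i.1) f₂ f₃ hf₂pos (fun i => hdpos i.1) hd0 hw0 hc00 hc10 hc20
    (by rw [Finset.sum_coe_sort T (fun χ => wI χ ^ 2)]; exact hww)
    (by rw [Finset.sum_coe_sort T (fun χ => cI 0 χ ^ 2)]; simp only [pow_two]; simpa using hgram 0 0)
    (by rw [Finset.sum_coe_sort T (fun χ => cI 1 χ ^ 2)]; simp only [pow_two]; simpa using hgram 1 1)
    (by rw [Finset.sum_coe_sort T (fun χ => cI 2 χ ^ 2)]; simp only [pow_two]; simpa using hgram 2 2)
    (by rw [Finset.sum_coe_sort T (fun χ => cI 0 χ * cI 1 χ)]; simpa using hgram 0 1)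
    (by rw [Finset.sum_coe_sort T (fun χ => cI 0 χ * cI 2 χ)]; simpa using hgram 0 2)
    (by rw [Finset.sum_coe_sort T (fun χ => cI 1 χ * cI 2 χ)]; simpa using hgram 1 2)
    (by rw [Finset.sum_coe_sort T (fun χ => wI χ * cI 0 χ)]; exact hwc 0)
    (by rw [Finset.sum_coe_sort T (fun χ => wI χ * cI 1 χ)]; exact hwc 1)
    (by rw [Finset.sum_coe_sort T (fun χ => wI χ * cI 2 χ)]; exact hwc 2)
    (by rw [Finset.sum_coe_sort T (fun χ => wI χ * dI χ)]; exact hwd)
    (by rw [Finset.sum_coe_sort T (fun χ => cI 0 χ * dI χ)]; exact hcd 0)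
    (by rw [Finset.sum_coe_sort T (fun χ => cI 1 χ * dI χ)]; exact hcd 1)
    (by rw [Finset.sum_coe_sort T (fun χ => cI 2 χ * dI χ)]; exact hcd 2)
    (fun i => haval i.1 i.2)
    (by rw [Finset.sum_coe_sort T (fun χ => (wI χ : ℚ) * (aI χ : ℚ) ^ 2 / (dI χ : ℚ))]; exact hqw)
    (by rw [Finset.sum_coe_sort T (fun χ => (cI 0 χ : ℚ) * (aI χ : ℚ) ^ 2 / (dI χ : ℚ))]; exact hqc 0)
    (by rw [Finset.sum_coe_sort T (fun χ => (cI 1 χ : ℚ) * (aI χ : ℚ) ^ 2 / (dI χ : ℚ))]; exact hqc 1)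
    (by rw [Finset.sum_coe_sort T (fun χ => (cI 2 χ : ℚ) * (aI χ : ℚ) ^ 2 / (dI χ : ℚ))]; exact hqc 2)
    (fun i => hpar i.1 i.2)
  obtain ⟨i, hi, hai⟩ := key
  refine ⟨i.1, fun h => hi (Subtype.ext h), ?_⟩
  rw [haI i.1, hdval i.1]
  exact_mod_cast hai

end main

end Cfsg.Agent.Helper46.BSQ
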