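import Mathlib
import Cfsg.Prelude.Def_Blocks
import Cfsg.Agent.Lib.Helper74.Klein4
import Cfsg.Agent.Lib.Helper16.PPart

/-!
# Brauer–Suzuki for `Q₈` (helper46), part 2: Klein four Sylow, values on `2`-singular elements
-/

set_option autoImplicit false
set_option linter.unusedSectionVars false
set_option linter.style.haveILetI false
set_option maxHeartbeats 800000

namespace Cfsg.Agent.Helper46.BSQ

open Cfsg
open Cfsg.Agent.Helper74.KL Cfsg.Agent.Helper74.SS
open Cfsg.Agent.Helper77 Cfsg.Agent.Helper78 Cfsg.Agent.Helper16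
open scoped ComplexConjugate

universe u

/-- Klein four Sylow `2`-subgroup, one class of involutions: a character of the principal block
takes at every `2`-singular element its value at an involution. -/
theorem klein_const_on_singular {G : Type u} [Group G] [Fintype G] (M : Ideal AlgInt)
    (hM : IsPModular 2 M) (P : Sylow 2 G) (hP : IsKleinFour (P : Subgroup G))
    (hone : ∀ s t : G, orderOf s = 2 → orderOf t = 2 → IsConj s t)
    (χ : IrrCharacter G) (hχ : χ ∈ principalBlock M G) (x : G) (hx : 2 ∣ orderOf x) :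
    ∃ t : G, orderOf t = 2 ∧ (χ : G → ℂ) x = (χ : G → ℂ) t := by
  classical
  haveI : Fact (Nat.Prime 2) := ⟨Nat.prime_two⟩
  have hP4 : Nat.card P = 4 := hP.card_four
  have hexp : ∀ x : P, x * x = 1 := by
    intro x
    have h : (x : (P : Subgroup G)) ^ Monoid.exponent (P : Subgroup G) = 1 :=
      Monoid.pow_exponent_eq_one _
    rw [hP.exponent_two, pow_two] at h
    exact h
  obtain ⟨t, ht2, htP, hrankC, hk, hsec⟩ := klein_core M hM P hP4 hexp hone
  have htp : ∃ k : ℕ, orderOf t = 2 ^ k := ⟨1, by rw [ht2, pow_one]⟩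
  -- `2`-elements are involutions
  have h2el : ∀ g : G, (∃ k : ℕ, orderOf g = 2 ^ k) → g ≠ 1 → orderOf g = 2 := by
    intro g hg hg1
    obtain ⟨k, hk⟩ := hg
    have hpg : IsPGroup 2 (Subgroup.zpowers g) := by
      apply IsPGroup.of_card (n := k)
      rw [Nat.card_zpowers, hk]
    obtain ⟨Q, hQ⟩ := hpg.exists_le_sylow
    have e := Sylow.equiv Q P
    have hgQ : g ∈ (Q : Subgroup G) := hQ (Subgroup.mem_zpowers g)
    have h1 := hexp (e ⟨g, hgQ⟩)
    rw [← map_mul] at h1
    have h2 : (⟨g, hgQ⟩ : Q) * ⟨g, hgQ⟩ = 1 := by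
      apply e.injective
      rw [h1, map_one]
    have h3 : g * g = 1 := by
      have := congrArg (fun q : Q => (q : G)) h2
      simpa using this
    exact orderOf_eq_prime (by rw [pow_two]; exact h3) hg1
  obtain ⟨x₂, y, hxy, hcomm, hx₂, hy⟩ := exists_isPPart (p := 2) Nat.prime_two x
  have hx₂1 : x₂ ≠ 1 := by
    intro h
    rw [h, one_mul] at hxy
    rw [hxy] at hy
    exact hy hx
  have hx₂2 : orderOf x₂ = 2 := h2el x₂ hx₂ hx₂1
  obtain ⟨g, hg⟩ := isConj_iff.1 (hone t x₂ ht2 hx₂2)
  -- `g t g⁻¹ = x₂`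
  set y' : G := g⁻¹ * y * g with hy'
  have hy'C : y' ∈ Subgroup.centralizer ({t} : Set G) := by
    rw [Subgroup.mem_centralizer_iff]
    intro w hw
    rw [Set.mem_singleton_iff] at hw
    subst hw
    have h1 : x₂ * y = y * x₂ := hcomm
    rw [← hg] at h1
    have h2 : w = g⁻¹ * (g * w * g⁻¹) * g := by group
    calc w * y' = g⁻¹ * ((g * w * g⁻¹) * y) * g := by rw [hy']; group
      _ = g⁻¹ * (y * (g * w * g⁻¹)) * g := by rw [h1]
      _ = y' * w := by rw [hy']; group
  have hy'ord : ¬ 2 ∣ orderOf (⟨y', hy'C⟩ : Subgroup.centralizer ({t} : Set G)) := by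
    rw [← Subgroup.orderOf_coe]
    have : orderOf y' = orderOf y := by
      rw [hy']
      have h := MulEquiv.orderOf_eq (MulAut.conj g⁻¹) y
      rw [MulAut.conj_apply, inv_inv] at h
      exact h
    show ¬ 2 ∣ orderOf y'
    rw [this]
    exact hy
  letI : Fintype (Subgroup.centralizer ({t} : Set G)) := Fintype.ofFinite _
  have hsc := shift_const t hM htp hrankC hχ ⟨y', hy'C⟩ hy'ord
  refine ⟨t, ht2, ?_⟩
  have hcl := isClassFunction_of_isIrrCharacter χ.2
  have h3 : x = g * (t * y') * g⁻¹ := by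
    rw [← hxy, ← hg, hy']
    group
  rw [h3, hcl]
  exact hsc

end Cfsg.Agent.Helper46.BSQ
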