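import Mathlib
import Cfsg.Prelude.Def_Blocks
import Cfsg.Agent.Lib.Helper46.BSQ2
import Cfsg.Agent.Lib.Helper46.BSQ3
import Cfsg.Agent.Lib.Helper79.Inflation
import Cfsg.Agent.S0941
import Cfsg.Agent.S0948

/-!
# Brauer–Suzuki for `Q₈` (helper46), part 6: the block data of a group `H` with a central
involution `z` such that `H/⟨z⟩` has Klein four Sylow `2`-subgroups and one class of involutions
-/

set_option autoImplicit false
set_option linter.unusedSectionVars false
set_option linter.style.haveILetI false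
set_option maxHeartbeats 800000
set_option linter.unusedSimpArgs false

namespace Cfsg.Agent.Helper46.BSQ

open Cfsg
open Cfsg.Agent.Helper77 Cfsg.Agent.Helper16 Cfsg.Agent.Helper78 Cfsg.Agent.Helper79
open scoped ComplexConjugate

universe u

theorem exists_involution_of_klein {Q : Type*} [Group Q] (P : Subgroup Q) (hP : IsKleinFour P) :
    ∃ t : Q, orderOf t = 2 := by
  haveI : Finite P := Nat.finite_of_card_ne_zero (by rw [hP.card_four]; norm_num)
  haveI : Nontrivial P := by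
    rw [← Finite.one_lt_card_iff_nontrivial, hP.card_four]; norm_num
  obtain ⟨x, hx⟩ := exists_ne (1 : P)
  refine ⟨x, ?_⟩
  have h : x ^ 2 = 1 := by rw [← hP.exponent_two]; exact Monoid.pow_exponent_eq_one x
  haveI : Fact (Nat.Prime 2) := ⟨Nat.prime_two⟩
  have : orderOf x = 2 := orderOf_eq_prime h hx
  rw [Subgroup.orderOf_coe]; exact this

section quot

variable {H : Type u} [Group H] [Finite H] {M : Ideal AlgInt}

/-- elements of `zpowers z` for an involution `z` -/
theorem mem_zpowers_involution {z x : H} (hz2 : orderOf z = 2) (hx : x ∈ Subgroup.zpowers z) :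
    x = 1 ∨ x = z := by
  obtain ⟨k, rfl⟩ := Subgroup.mem_zpowers_iff.1 hx
  have h := zpow_mod_orderOf z k
  rw [hz2] at h
  rcases Int.emod_two_eq_zero_or_one k with h2 | h2
  · left
    rw [← h]
    have : k % ((2 : ℕ) : ℤ) = 0 := by exact_mod_cast h2
    rw [this, zpow_zero]
  · right
    rw [← h]
    have : k % ((2 : ℕ) : ℤ) = 1 := by exact_mod_cast h2
    rw [this, zpow_one]

/-- a `2`-singular element, not in the section of `z`, maps to a `2`-singular element of the
quotient -/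
theorem two_dvd_orderOf_mk {z : H} (hzc : z ∈ Subgroup.center H) (hz2 : orderOf z = 2)
    (N : Subgroup H) [N.Normal] (hN : N = Subgroup.zpowers z) (c : H)
    (h1 : ¬ Odd (orderOf c)) (h2 : ¬ Odd (orderOf (z * c))) :
    2 ∣ orderOf (QuotientGroup.mk c : H ⧸ N) := by
  by_contra hodd
  have hodd' : Odd (orderOf (QuotientGroup.mk c : H ⧸ N)) := odd_of_not_two_dvd hodd
  set m := orderOf (QuotientGroup.mk c : H ⧸ N) with hm
  have h3 : (QuotientGroup.mk (c ^ m) : H ⧸ N) = 1 := by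
    rw [QuotientGroup.mk_pow, hm]; exact pow_orderOf_eq_one _
  rw [QuotientGroup.eq_one_iff, hN] at h3
  rcases mem_zpowers_involution hz2 h3 with h4 | h4
  · exact h1 (Odd.of_dvd_nat hodd' (orderOf_dvd_of_pow_eq_one h4))
  · apply h2
    refine Odd.of_dvd_nat hodd' (orderOf_dvd_of_pow_eq_one ?_)
    have hcomm : Commute z c := (Subgroup.mem_center_iff.1 hzc c).symm
    rw [hcomm.mul_pow, h4]
    obtain ⟨j, hj⟩ := hodd'
    have hzz : z ^ 2 = 1 := by rw [← hz2]; exact pow_orderOf_eq_one z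
    rw [hj, pow_succ, pow_mul, hzz, one_pow, one_mul, ← pow_two, hzz]

/-- **The block data from the quotient.** -/
theorem exists_kdata (hM : IsPModular 2 M) (z : H) (hzc : z ∈ Subgroup.center H)
    (hz2 : orderOf z = 2) (N : Subgroup H) [N.Normal] (hN : N = Subgroup.zpowers z)
    (P : Sylow 2 (H ⧸ N)) (hP : IsKleinFour (P : Subgroup (H ⧸ N)))
    (hone : ∀ s t : H ⧸ N, orderOf s = 2 → orderOf t = 2 → IsConj s t) :
    Nonempty (KData M z) := by
  classical
  haveI : Fact (Nat.Prime 2) := ⟨Nat.prime_two⟩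
  haveI := isPrime_of_isPModular hM
  haveI : Fintype (H ⧸ N) := Fintype.ofFinite _
  haveI : Fintype H := Fintype.ofFinite _
  obtain ⟨ζ₂, ζ₃, ζ₄, ε, hε, hne₂, hne₃, h23, h24, h34, hblock, hinvol, hdeg₂, hdeg₃, _, hodd⟩ :=
    Cfsg.Agent.S0948.result M hM P hP hone
  obtain ⟨t, ht⟩ := exists_involution_of_klein (P : Subgroup (H ⧸ N)) hP
  have hzN : z ∈ N := by rw [hN]; exact Subgroup.mem_zpowers z
  have hmkz : ∀ c : H, (QuotientGroup.mk (z * c) : H ⧸ N) = QuotientGroup.mk c := by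
    intro c
    rw [QuotientGroup.mk_mul, (QuotientGroup.eq_one_iff z).2 hzN, one_mul]
  -- inflation and blocks
  have hNp : IsPGroup 2 N := by
    rw [hN]
    refine IsPGroup.of_card (n := 1) ?_
    rw [Nat.card_zpowers, hz2, pow_one]
  have hNc : ∃ k : ℕ, (Subgroup.centralizer (N : Set H)).index = 2 ^ k := by
    refine ⟨0, ?_⟩
    have : Subgroup.centralizer (N : Set H) = ⊤ := by
      rw [eq_top_iff]
      intro g _
      rw [Subgroup.mem_centralizer_iff]
      intro n hn
      rw [SetLike.mem_coe, hN] at hn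
      rcases mem_zpowers_involution hz2 hn with h | h
      · rw [h, mul_one, one_mul]
      · rw [h]; exact (Subgroup.mem_center_iff.1 hzc g).symm
    rw [this, Subgroup.index_top, pow_zero]
  have h941 := (Cfsg.Agent.S0941.result 2 M hM N hNp hNc).1
  have hmemiff : ∀ ψ : IrrCharacter (H ⧸ N),
      inflate N ψ ∈ principalBlock M H ↔ ψ ∈ principalBlock M (H ⧸ N) := by
    intro ψ
    have h := h941 (trivIrr (H ⧸ N)) ψ
    exact h.symm
  have hmemQ : ∀ ψ : IrrCharacter (H ⧸ N), ψ ∈ principalBlock M (H ⧸ N) ↔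
      ((ψ : H ⧸ N → ℂ) = (fun _ => 1) ∨ ψ = ζ₂ ∨ ψ = ζ₃ ∨ ψ = ζ₄) := by
    intro ψ
    rw [hblock]; exact Iff.rfl
  have htriv : inflate N (trivIrr (H ⧸ N)) = trivIrr H := by
    apply Subtype.ext
    funext g
    rfl
  have hne₄ : (ζ₄ : H ⧸ N → ℂ) ≠ (fun _ => 1) := by
    intro h
    have h1 := (hinvol t ht).2.2
    rw [h] at h1
    norm_num at h1
  have hneT : ∀ ψ : IrrCharacter (H ⧸ N), (ψ : H ⧸ N → ℂ) ≠ (fun _ => 1) →
      inflate N ψ ≠ trivIrr H := by
    intro ψ hψ h
    rw [← htriv] at h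
    have := inflate_injective N h
    apply hψ
    rw [this]; rfl
  -- the values at the singular elements
  have hsing : ∀ (ψ : IrrCharacter (H ⧸ N)), ψ ∈ principalBlock M (H ⧸ N) → ∀ c : H,
      ¬ Odd (orderOf c) → ¬ Odd (orderOf (z * c)) →
      ∃ t : H ⧸ N, orderOf t = 2 ∧ (inflate N ψ : H → ℂ) c = (ψ : H ⧸ N → ℂ) t := by
    intro ψ hψ c h1 h2
    obtain ⟨t, ht2, hval⟩ := klein_const_on_singular M hM P hP hone ψ hψ (QuotientGroup.mk c)
      (two_dvd_orderOf_mk hzc hz2 N hN c h1 h2)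
    exact ⟨t, ht2, by rw [inflate_apply, hval]⟩
  refine ⟨{
    Z₂ := inflate N ζ₂
    Z₃ := inflate N ζ₃
    Z₄ := inflate N ζ₄
    ε := ε
    hε := hε
    mem₂ := (hmemiff ζ₂).2 ((hmemQ ζ₂).2 (Or.inr (Or.inl rfl)))
    mem₃ := (hmemiff ζ₃).2 ((hmemQ ζ₃).2 (Or.inr (Or.inr (Or.inl rfl))))
    mem₄ := (hmemiff ζ₄).2 ((hmemQ ζ₄).2 (Or.inr (Or.inr (Or.inr rfl))))
    ne₂ := hneT ζ₂ hne₂
    ne₃ := hneT ζ₃ hne₃
    ne₄ := hneT ζ₄ hne₄
    ne₂₃ := fun h => h23 (inflate_injective N h)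
    ne₂₄ := fun h => h24 (inflate_injective N h)
    ne₃₄ := fun h => h34 (inflate_injective N h)
    zinv₂ := fun c => by rw [inflate_apply, inflate_apply, hmkz]
    zinv₃ := fun c => by rw [inflate_apply, inflate_apply, hmkz]
    zinv₄ := fun c => by rw [inflate_apply, inflate_apply, hmkz]
    block := ?_
    odd := ?_
    sing := ?_
    deg₂ := by rw [charDegree_inflate]; exact hdeg₂
    deg₃ := by rw [charDegree_inflate]; exact hdeg₃ }⟩
  · -- block
    intro ψ hψ hψz
    have hker : N ≤ irrKer ψ := by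
      intro n hn
      rw [hN] at hn
      rw [mem_irrKer]
      rcases mem_zpowers_involution hz2 hn with h | h
      · rw [h]
      · rw [h]; exact hψz
    obtain ⟨ψ', rfl⟩ := exists_deflate N ψ hker
    have h1 := (hmemQ ψ').1 ((hmemiff ψ').1 hψ)
    rcases h1 with h | h | h | h
    · left
      rw [← htriv]
      congr 1
      apply Subtype.ext
      rw [h]; rfl
    · right; left; rw [h]
    · right; right; left; rw [h]
    · right; right; right; rw [h]
  · -- odd
    intro y hy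
    rw [inflate_apply, inflate_apply, inflate_apply]
    apply hodd
    exact Odd.of_dvd_nat hy (orderOf_dvd_of_pow_eq_one (by
      rw [← QuotientGroup.mk_pow, pow_orderOf_eq_one, QuotientGroup.mk_one]))
  · -- sing
    intro c h1 h2
    obtain ⟨t2, ht2, hv2⟩ := hsing ζ₂ ((hmemQ ζ₂).2 (Or.inr (Or.inl rfl))) c h1 h2
    obtain ⟨t3, ht3, hv3⟩ := hsing ζ₃ ((hmemQ ζ₃).2 (Or.inr (Or.inr (Or.inl rfl)))) c h1 h2
    obtain ⟨t4, ht4, hv4⟩ := hsing ζ₄ ((hmemQ ζ₄).2 (Or.inr (Or.inr (Or.inr rfl)))) c h1 h2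
    exact ⟨by rw [hv2]; exact (hinvol t2 ht2).1, by rw [hv3]; exact (hinvol t3 ht3).2.1,
      by rw [hv4]; exact (hinvol t4 ht4).2.2⟩

end quot

end Cfsg.Agent.Helper46.BSQ
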