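import Mathlib
import Cfsg.Prelude.Def_Blocks
import Cfsg.Agent.Lib.Helper46.BSQ5
import Cfsg.Agent.Lib.Helper46.BSQ6
import Cfsg.Agent.Lib.Helper74.DefectZero
import Cfsg.Agent.Lib.Helper34.BSQ8GT2
import Cfsg.Agent.Lib.Helper94.BSQ8GT1
import Cfsg.Agent.Lib.Helper96.BSQ8GT3
import Cfsg.Agent.S0950

/-!
# Brauer–Suzuki for `Q₈` (helper46), part 7: a proper normal subgroup containing the involution
-/

set_option autoImplicit false
set_option linter.unusedSectionVars false
set_option linter.style.haveILetI false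
set_option maxHeartbeats 800000
set_option linter.unusedSimpArgs false

namespace Cfsg.Agent.Helper46.BSQ

open Cfsg
open Cfsg.Agent.Helper77 Cfsg.Agent.Helper16 Cfsg.Agent.Helper78 Cfsg.Agent.Helper79
open scoped ComplexConjugate

universe u

/-- **Brauer–Suzuki for `Q₈`, character-theoretic part**: if a Sylow `2`-subgroup `S` of `G` is
quaternion of order `8` and has no normal complement, the involution of `S` lies in a proper
normal subgroup of `G`. -/
theorem q8_exists_proper_normal (G : Type u) [Group G] [Finite G] (S : Sylow 2 G)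
    (e : (S : Subgroup G) ≃* QuaternionGroup 2)
    (hnc : ∀ N : Subgroup G, N.Normal → ¬ Subgroup.IsComplement' N (S : Subgroup G))
    (z : G) (hzS : z ∈ (S : Subgroup G)) (hz : orderOf z = 2) :
    ∃ K : Subgroup G, K.Normal ∧ K ≠ ⊤ ∧ z ∈ K := by
  classical
  haveI : Fintype G := Fintype.ofFinite G
  haveI : Fintype (Subgroup.centralizer ({z} : Set G)) := Fintype.ofFinite _
  obtain ⟨M, hM⟩ := Cfsg.Agent.Helper74.DZ.exists_isPModular 2 Nat.prime_two
  have hconj : ∀ A B : Subgroup G, A ≤ S → B ≤ S → Nat.card A = 4 → Nat.card B = 4 →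
      ∃ n : G, B = A.map (MulAut.conj n).toMonoidHom := by
    intro A B hA hB hA4 hB4
    obtain ⟨n, _, hn⟩ := Cfsg.Agent.S0950.result S e hnc A B hA hB hA4 hB4
    exact ⟨n, hn⟩
  -- the central subgroup `⟨z⟩` of `C(z)`
  set N : Subgroup (Subgroup.centralizer ({z} : Set G)) := Subgroup.zpowers (zC z) with hN
  haveI : N.Normal := by
    constructor
    intro n hn g
    have hnc : n ∈ Subgroup.center (Subgroup.centralizer ({z} : Set G)) := by
      have hle : N ≤ Subgroup.center (Subgroup.centralizer ({z} : Set G)) := by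
        rw [hN, Subgroup.zpowers_le]; exact zC_mem_center z
      exact hle hn
    have : g * n * g⁻¹ = n := by
      rw [Subgroup.mem_center_iff.1 hnc g, mul_inv_cancel_right]
    rw [this]; exact hn
  obtain ⟨P, hP, hone⟩ := Cfsg.Agent.Helper94.BSQ8GT.q8_quotient_klein S e hconj z hzS hz
    (zC z) (zC_coe z) N hN
  obtain ⟨D⟩ := exists_kdata hM (zC z) (zC_mem_center z) (orderOf_zC z hz) N hN P hP hone
  -- an element of order four
  set u : G := ((e.symm (QuaternionGroup.a 1) : (S : Subgroup G)) : G) with hu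
  have huS : u ∈ (S : Subgroup G) := (e.symm (QuaternionGroup.a 1)).2
  have hu4 : orderOf u = 4 := by
    rw [hu, Subgroup.orderOf_coe, MulEquiv.orderOf_eq, QuaternionGroup.orderOf_a_one]
  obtain ⟨hCu, hCu2, huinv⟩ :=
    Cfsg.Agent.Helper34.BSQ8GT.q8_centralizer_order_four S e u huS hu4
  have hprod : ∀ a b : G, Odd (orderOf (a * z * a⁻¹ * (b * z * b⁻¹))) :=
    fun a b => Cfsg.Agent.Helper96.BSQ8GT.q8_odd_mul_conj S e a b z hz
  obtain ⟨χ, hχ1, hχz⟩ := bsq8_core hM u hz hu4 D hCu hCu2 huinv hprod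
  refine ⟨irrKer χ, inferInstance, ?_, (mem_irrKer χ z).2 hχz⟩
  intro htop
  have hconst : ∀ g : G, (χ : G → ℂ) g = (χ : G → ℂ) 1 := by
    intro g
    rw [← mem_irrKer, htop]; trivial
  have h1 := Cfsg.Agent.Helper80.classInner_irr χ (trivIrr G)
  rw [if_neg hχ1] at h1
  unfold classInner at h1
  have hG : (Nat.card G : ℂ) ≠ 0 := by
    have : 0 < Nat.card G := Nat.card_pos
    exact_mod_cast this.ne'
  have h2 : ∑ g : G, (χ : G → ℂ) g * conj ((trivIrr G : G → ℂ) g) =
      (Nat.card G : ℂ) * (χ : G → ℂ) 1 := by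
    simp only [trivIrr_apply, map_one, mul_one, hconst]
    rw [Finset.sum_const, Finset.card_univ, nsmul_eq_mul, Nat.card_eq_fintype_card]
  rw [h2, ← mul_assoc, inv_mul_cancel₀ hG, one_mul] at h1
  exact irr_one_ne_zero χ h1

end Cfsg.Agent.Helper46.BSQ
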