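import Mathlib
import Cfsg.Prelude.Def_FusionSystem
import Cfsg.Agent.Lib.Helper87.Om7Defs

set_option autoImplicit false
set_option linter.unusedSectionVars false
set_option linter.unusedVariables false

/-!
# OM7 (API2b) for helper87's server (S2647): membership in `Ω` of `D`, `W`, reflections
-/

namespace Cfsg.Agent.Helper46.Om7

open Matrix QuadraticMap Cfsg.Agent.Helper36.QuadInv Cfsg.Agent.Helper36.OmegaTrans
  Cfsg.Agent.Helper43 Cfsg.Agent.Helper87.Om7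

variable {F : Type*} [Field F] [Fintype F] [DecidableEq F] {ι : Type} [Fintype ι] [DecidableEq ι]
variable {Q : QuadraticForm F (ι → F)} {c : F} {f : Fin 7 → ι → F}

theorem h46_Q_ne (hF : Frame Q c f) (i : Fin 7) : Q (f i) ≠ 0 := by
  rw [hF.norm]; exact hF.c0

theorem h46_Q_sub (hF : Frame Q c f) {a b : Fin 7} (hab : a ≠ b) : Q (f a - f b) = 2 * c := by
  rw [sub_eq_add_neg, QuadraticMap.map_add Q, QuadraticMap.map_neg, polar_neg_right, hF.norm,
    hF.norm, hF.orth a b hab]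
  ring

theorem h46_Q_sub_ne (hF : Frame Q c f) {a b : Fin 7} (hab : a ≠ b) : Q (f a - f b) ≠ 0 := by
  rw [h46_Q_sub hF hab]
  exact mul_ne_zero hF.two hF.c0

theorem h46_coe_two {u v : ι → F} (hu : Q u ≠ 0) (hv : Q v ≠ 0) :
    (((reflIso' Q u * reflIso' Q v : OG F ⇑Q) : GL ι F) : Matrix ι ι F) =
      ([u, v].map (fun v => Cfsg.reflectionMatrix (⇑Q) v)).prod := by
  rw [Subgroup.coe_mul, Units.val_mul, reflIso'_coe Q hu, reflIso'_coe Q hv]
  simp

theorem h46_two_mem_iff (h2 : (2 : F) ≠ 0) (hQ : (polarBilin Q).Nondegenerate) {u v : ι → F}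
    (hu : Q u ≠ 0) (hv : Q v ≠ 0) :
    reflIso' Q u * reflIso' Q v ∈ Cfsg.Omega F ⇑Q ↔ IsSquare (Q u * Q v) := by
  have hvs : ∀ w ∈ [u, v], Q w ≠ 0 := by
    intro w hw
    simp only [List.mem_cons, List.not_mem_nil, or_false] at hw
    rcases hw with rfl | rfl
    · exact hu
    · exact hv
  rw [mem_Omega_iff_of_list_all Q h2 hQ _ [u, v] hvs (h46_coe_two hu hv)]
  simp

theorem D_mem_Omega (hF : Frame Q c f) {i j : Fin 7} (hij : i ≠ j) :
    D Q f i j ∈ Cfsg.Omega F ⇑Q := by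
  unfold D
  rw [h46_two_mem_iff hF.two hF.nd (h46_Q_ne hF i) (h46_Q_ne hF j), hF.norm, hF.norm]
  exact ⟨c, rfl⟩

theorem W_mem_Omega (hF : Frame Q c f) {a b p q : Fin 7} (hab : a ≠ b) (hpq : p ≠ q) :
    W Q f a b p q ∈ Cfsg.Omega F ⇑Q := by
  unfold W
  rw [h46_two_mem_iff hF.two hF.nd (h46_Q_sub_ne hF hab) (h46_Q_sub_ne hF hpq), h46_Q_sub hF hab,
    h46_Q_sub hF hpq]
  exact ⟨2 * c, rfl⟩

/-- `Ω ≤ SO` (commutators have determinant `1`; as in
`Cfsg.Agent.Lead.POmegaCard.neg_one_not_mem_omega_odd`) -/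
theorem det_eq_one_of_mem_Omega {x : OG F ⇑Q} (hx : x ∈ Cfsg.Omega F ⇑Q) :
    ((x : GL ι F) : Matrix ι ι F).det = 1 := by
  have h1 := Abelianization.commutator_subset_ker
    (Matrix.GeneralLinearGroup.det.comp (Subgroup.subtype (Cfsg.isometryGroup F ⇑Q))) hx
  rw [MonoidHom.mem_ker] at h1
  have h3 := congrArg (fun u : Fˣ => (u : F)) h1
  exact h3

/-- a single reflection is not in `Ω` -/
theorem refl_not_mem_Omega (hF : Frame Q c f) (i : Fin 7) :
    reflIso' Q (f i) ∉ Cfsg.Omega F ⇑Q := by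
  intro h
  have hvs : ∀ w ∈ [f i], Q w ≠ 0 := by
    intro w hw
    simp only [List.mem_cons, List.not_mem_nil, or_false] at hw
    rw [hw]; exact h46_Q_ne hF i
  have hcoe : (((reflIso' Q (f i) : OG F ⇑Q) : GL ι F) : Matrix ι ι F) =
      ([f i].map (fun v => Cfsg.reflectionMatrix (⇑Q) v)).prod := by
    rw [reflIso'_coe Q (h46_Q_ne hF i)]
    simp
  have := (mem_Omega_iff_of_list_all Q hF.two hF.nd _ [f i] hvs hcoe).mp h
  simp at this

/-- THE place where `q ≡ ±3 (mod 8)` enters: spinor norm `2 c²` -/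
theorem R_not_mem_Omega (hF : Frame Q c f) (h2 : ¬ IsSquare (2 : F)) :
    reflIso' Q (f 4 - f 5) * reflIso' Q (f 6) ∉ Cfsg.Omega F ⇑Q := by
  intro h
  have h45 : (4 : Fin 7) ≠ 5 := by decide
  rw [h46_two_mem_iff hF.two hF.nd (h46_Q_sub_ne hF h45) (h46_Q_ne hF 6), h46_Q_sub hF h45,
    hF.norm] at h
  obtain ⟨r, hr⟩ := h
  apply h2
  refine ⟨r / c, ?_⟩
  have hc := hF.c0
  field_simp
  linear_combination hr

end Cfsg.Agent.Helper46.Om7
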