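import Mathlib
import Cfsg.Agent.Lib.Helper32.N5Defs

/-!
# N5 piece (T1a) for helper32's lemma server (row S1904)

An odd-order automorphism of an abelian 2-subgroup `H` that is trivial on `Ω₁(H)` is trivial on `H`.
Proof: induction on the exponent: if `a` fixes `x ^ 2` then `t = x⁻¹ * a x` is an involution of `H`,
so `a t = t`, `a ^ n x = x * t ^ n`, and `n = orderOf a` odd forces `t = 1`.
-/

set_option autoImplicit false

namespace Cfsg.Agent.Helper46.N5

open Cfsg Cfsg.Agent.Helper32.N5
open scoped commutatorElement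

universe u

variable {X : Type u} [Group X] [Finite X]

theorem aut_trivial_of_trivial_on_omega (hX : IsPGroup 2 X) (H : Subgroup X) (hHab : Ab H)
    (a : MulAut X) (haH : ∀ x ∈ H, a x ∈ H) (hodd : Odd (orderOf a))
    (htriv : ∀ x ∈ H, x ^ 2 = 1 → a x = x) : ∀ x ∈ H, a x = x := by
  have key : ∀ k : ℕ, ∀ x ∈ H, x ^ (2 ^ k) = 1 → a x = x := by
    intro k
    induction k with
    | zero =>
      intro x _ h
      rw [pow_zero, pow_one] at h
      subst h
      exact map_one a
    | succ k ih =>
      intro x hx h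
      have h2 : (x ^ 2) ^ (2 ^ k) = 1 := by
        rw [← pow_mul, ← pow_succ']
        exact h
      have hx2 : x ^ 2 ∈ H := H.pow_mem hx 2
      have ha2 : a (x ^ 2) = x ^ 2 := ih _ hx2 h2
      have haxH : a x ∈ H := haH x hx
      have hxiH : x⁻¹ ∈ H := H.inv_mem hx
      have htH : x⁻¹ * a x ∈ H := H.mul_mem hxiH haxH
      have hcomm : a x * x⁻¹ = x⁻¹ * a x := hHab _ haxH _ hxiH
      have ht2 : (x⁻¹ * a x) ^ 2 = 1 := by
        have e1 : (x⁻¹ * a x) ^ 2 = x⁻¹ * (a x * x⁻¹) * a x := by
          rw [pow_two]; group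
        rw [e1, hcomm]
        have e2 : x⁻¹ * (x⁻¹ * a x) * a x = (x ^ 2)⁻¹ * (a x) ^ 2 := by
          rw [pow_two, pow_two]; group
        rw [e2, ← map_pow, ha2, inv_mul_cancel]
      have hat : a (x⁻¹ * a x) = x⁻¹ * a x := htriv _ htH ht2
      have hpow : ∀ n : ℕ, (a ^ n) x = x * (x⁻¹ * a x) ^ n := by
        intro n
        induction n with
        | zero => simp
        | succ n ihn =>
          rw [pow_succ', MulAut.mul_apply, ihn, map_mul, map_pow, hat, pow_succ', ← mul_assoc x,
            mul_inv_cancel_left]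
      have h1 := hpow (orderOf a)
      rw [pow_orderOf_eq_one, MulAut.one_apply] at h1
      have h3 : (x⁻¹ * a x) ^ orderOf a = 1 := by
        have := mul_left_cancel (a := x) (b := 1) (c := (x⁻¹ * a x) ^ orderOf a) (by rw [mul_one]; exact h1)
        exact this.symm
      obtain ⟨m, hm⟩ := hodd
      rw [hm, pow_succ, pow_mul, ht2, one_pow, one_mul] at h3
      have : a x = x * (x⁻¹ * a x) := by group
      rw [this, h3, mul_one]
  intro x hx
  obtain ⟨k, hk⟩ := hX x
  exact key k x hx hk

end Cfsg.Agent.Helper46.N5
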