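import Mathlib
import Cfsg.Agent.Lib.Helper32.N5Defs

/-!
# N5 piece (MIN) for helper32's lemma server (row S1904)

Minimal `A`-invariant normal subgroups `N` with `B < N ≤ C` in a finite 2-group: they satisfy
`[N, X] ≤ B` and `N ^ 2 ≤ B`.
-/

set_option autoImplicit false

namespace Cfsg.Agent.Helper46.N5

open Cfsg Cfsg.Agent.Helper32.N5
open scoped commutatorElement

universe u

variable {X : Type u} [Group X] [Finite X]

omit [Finite X] in
/-- `AInv` in terms of images. -/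
theorem h46_ainv_iff (A : Subgroup (MulAut X)) (M : Subgroup X) :
    AInv A M ↔ ∀ φ ∈ A, M.map (φ : X ≃* X).toMonoidHom ≤ M := by
  constructor
  · intro h φ hφ y hy
    obtain ⟨x, hx, rfl⟩ := hy
    exact h φ hφ x hx
  · intro h φ hφ x hx
    exact h φ hφ ⟨x, hx, rfl⟩

/-- In a finite `2`-group, `N = B ⊔ ⁅N, ⊤⁆` with `B` normal forces `N ≤ B`. -/
theorem h46_le_of_eq_sup_commutator (hX : IsPGroup 2 X) (B N : Subgroup X) (hBn : B.Normal)
    (h : N = B ⊔ ⁅N, (⊤ : Subgroup X)⁆) : N ≤ B := by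
  have : Fact (Nat.Prime 2) := ⟨Nat.prime_two⟩
  have hnil : Group.IsNilpotent X := hX.isNilpotent
  obtain ⟨k, hk⟩ := Subgroup.nilpotent_iff_lowerCentralSeries.mp hnil
  have key : ∀ i : ℕ, N ≤ B ⊔ (⊤ : Subgroup X).lowerCentralSeries i := by
    intro i
    induction i with
    | zero =>
      rw [Subgroup.lowerCentralSeries_zero]
      exact le_trans le_top le_sup_right
    | succ i ih =>
      have hLn : ((⊤ : Subgroup X).lowerCentralSeries (i + 1)).Normal := inferInstance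
      have hc : ⁅N, (⊤ : Subgroup X)⁆ ≤ B ⊔ (⊤ : Subgroup X).lowerCentralSeries (i + 1) := by
        rw [Subgroup.commutator_le]
        intro n hn x _
        have hn' := ih hn
        rw [← SetLike.mem_coe, Subgroup.mul_normal] at hn'
        obtain ⟨b, hb, l, hl, rfl⟩ := hn'
        have e : ⁅b * l, x⁆ = (b * ⁅l, x⁆ * b⁻¹) * ⁅b, x⁆ := by
          simp only [commutatorElement_def]; group
        rw [e]
        refine Subgroup.mul_mem _ (Subgroup.mem_sup_right ?_) (Subgroup.mem_sup_left ?_)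
        · apply hLn.conj_mem
          rw [Subgroup.lowerCentralSeries_succ]
          exact Subgroup.commutator_mem_commutator hl (Subgroup.mem_top x)
        · rw [commutatorElement_def, mul_assoc, mul_assoc]
          refine B.mul_mem hb ?_
          rw [← mul_assoc]
          exact hBn.conj_mem _ (B.inv_mem hb) x
      rw [h]
      exact sup_le le_sup_left hc
  have := key k
  rwa [hk, sup_bot_eq] at this

theorem exists_min_invariant (hX : IsPGroup 2 X) (A : Subgroup (MulAut X))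
    (B C : Subgroup X) (hBn : B.Normal) (hBi : AInv A B) (hCn : C.Normal) (hCi : AInv A C) (hBC : B < C) :
    ∃ N : Subgroup X, N.Normal ∧ AInv A N ∧ B < N ∧ N ≤ C ∧ (∀ n ∈ N, ∀ x : X, ⁅n, x⁆ ∈ B) ∧
      (∀ n ∈ N, n ^ 2 ∈ B) ∧
      ∀ M : Subgroup X, M.Normal → AInv A M → B ≤ M → M ≤ N → M = B ∨ M = N := by
  classical
  -- choose `N` of least order
  obtain ⟨N, ⟨hNn, hNi, hBN, hNC⟩, hleast⟩ :=
    Set.exists_min_image {N : Subgroup X | N.Normal ∧ AInv A N ∧ B < N ∧ N ≤ C}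
      (fun N => Nat.card N) (Set.toFinite _) ⟨C, hCn, hCi, hBC, le_rfl⟩
  have hmin : ∀ M : Subgroup X, M.Normal → AInv A M → B ≤ M → M ≤ N → M = B ∨ M = N := by
    intro M hMn hMi hBM hMN
    by_cases hMB : M = B
    · exact Or.inl hMB
    · right
      have hlt : B < M := lt_of_le_of_ne hBM (Ne.symm hMB)
      have hc := hleast M ⟨hMn, hMi, hlt, hMN.trans hNC⟩
      exact Subgroup.eq_of_le_of_card_ge hMN hc
  -- commutators
  have hcomm : ∀ n ∈ N, ∀ x : X, ⁅n, x⁆ ∈ B := by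
    have := hBn
    have := hNn
    have hM1n : (B ⊔ ⁅N, (⊤ : Subgroup X)⁆).Normal := inferInstance
    have hM1i : AInv A (B ⊔ ⁅N, (⊤ : Subgroup X)⁆) := by
      rw [h46_ainv_iff]
      intro φ hφ
      rw [Subgroup.map_sup, Subgroup.map_commutator]
      refine sup_le_sup ((h46_ainv_iff A B).mp hBi φ hφ) ?_
      exact Subgroup.commutator_mono ((h46_ainv_iff A N).mp hNi φ hφ) le_top
    have hM1N : B ⊔ ⁅N, (⊤ : Subgroup X)⁆ ≤ N :=
      sup_le hBN.le (Subgroup.commutator_le_left N ⊤)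
    rcases hmin _ hM1n hM1i le_sup_left hM1N with h1 | h1
    · intro n hn x
      have : ⁅n, x⁆ ∈ B ⊔ ⁅N, (⊤ : Subgroup X)⁆ :=
        Subgroup.mem_sup_right (Subgroup.commutator_mem_commutator hn (Subgroup.mem_top x))
      rwa [h1] at this
    · exact absurd (h46_le_of_eq_sup_commutator hX B N hBn h1.symm) (not_le_of_gt hBN)
  -- `B`-membership of the "other" commutator
  have hcomm' : ∀ n ∈ N, ∀ m : X, m⁻¹ * n⁻¹ * m * n ∈ B := by
    intro n hn m
    have h1 := B.inv_mem (hcomm n⁻¹ (N.inv_mem hn) m⁻¹)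
    have e : (⁅n⁻¹, m⁻¹⁆)⁻¹ = m⁻¹ * n⁻¹ * m * n := by
      simp only [commutatorElement_def]; group
    rwa [e] at h1
  -- squares
  let M2 : Subgroup X :=
    { carrier := {n | n ∈ N ∧ n ^ 2 ∈ B}
      one_mem' := ⟨N.one_mem, by simp [B.one_mem]⟩
      mul_mem' := by
        rintro n m ⟨hn, hn2⟩ ⟨hm, hm2⟩
        refine ⟨N.mul_mem hn hm, ?_⟩
        have e : (n * m) ^ 2 = n ^ 2 * (m * (m⁻¹ * n⁻¹ * m * n) * m⁻¹) * m ^ 2 := by
          simp only [pow_two]; group
        rw [e]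
        exact B.mul_mem (B.mul_mem hn2 (hBn.conj_mem _ (hcomm' n hn m) m)) hm2
      inv_mem' := by
        rintro n ⟨hn, hn2⟩
        refine ⟨N.inv_mem hn, ?_⟩
        rw [inv_pow]
        exact B.inv_mem hn2 }
  have hM2mem : ∀ n, n ∈ M2 ↔ n ∈ N ∧ n ^ 2 ∈ B := fun n => Iff.rfl
  have hM2n : M2.Normal := by
    constructor
    intro n hn g
    rw [hM2mem] at hn ⊢
    refine ⟨hNn.conj_mem n hn.1 g, ?_⟩
    have e : (g * n * g⁻¹) ^ 2 = g * n ^ 2 * g⁻¹ := by
      simp only [pow_two]; group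
    rw [e]
    exact hBn.conj_mem _ hn.2 g
  have hM2i : AInv A M2 := by
    intro φ hφ n hn
    rw [hM2mem] at hn ⊢
    refine ⟨hNi φ hφ n hn.1, ?_⟩
    rw [← map_pow]
    exact hBi φ hφ _ hn.2
  have hBM2 : B ≤ M2 := fun b hb => ⟨hBN.le hb, B.pow_mem hb 2⟩
  have hM2N : M2 ≤ N := fun n hn => hn.1
  have hsq : ∀ n ∈ N, n ^ 2 ∈ B := by
    rcases hmin M2 hM2n hM2i hBM2 hM2N with h2 | h2
    · exfalso
      obtain ⟨n, hnN, hnB⟩ := SetLike.exists_of_lt hBN
      obtain ⟨k, hk⟩ := hX n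
      have hex : ∃ j : ℕ, n ^ (2 ^ j) ∈ B := ⟨k, by rw [hk]; exact B.one_mem⟩
      have hj0 : Nat.find hex ≠ 0 := by
        intro h0
        have := Nat.find_spec hex
        rw [h0, pow_zero, pow_one] at this
        exact hnB this
      obtain ⟨j, hj⟩ := Nat.exists_eq_succ_of_ne_zero hj0
      have hjn : ¬ n ^ (2 ^ j) ∈ B := Nat.find_min hex (by omega)
      have hjs : n ^ (2 ^ (j + 1)) ∈ B := by
        have := Nat.find_spec hex
        rwa [hj] at this
      have : n ^ (2 ^ j) ∈ M2 := by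
        rw [hM2mem]
        refine ⟨N.pow_mem hnN _, ?_⟩
        rw [← pow_mul, ← pow_succ]
        exact hjs
      rw [h2] at this
      exact hjn this
    · intro n hn
      have : n ∈ M2 := by rw [h2]; exact hn
      exact this.2
  exact ⟨N, hNn, hNi, hBN, hNC, hcomm, hsq, hmin⟩

end Cfsg.Agent.Helper46.N5
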