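import Mathlib
import Cfsg.Prelude.Def_OddOrder
import Cfsg.Prelude.Def_OddOrderLocal
import Cfsg.Agent.Lib.Helper52.CoprimeHall

/-!
# BG142 Q18 (helper54's request list for S1430/S1431): a `τ₁(M)`-subgroup of a complement `E`
lies in a Hall `τ₁(M)`-subgroup of `E` (`E` is solvable).
-/

set_option autoImplicit false

namespace Cfsg.Agent.Helper46.BG142Req

open Subgroup

variable {G : Type*} [Group G] [Finite G]

/-- a `π`-subgroup of a solvable subgroup `E` lies in a Hall `π`-subgroup of `E`. -/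
theorem exists_piHallOf_ge (π : Set ℕ) (E K : Subgroup G) (hEs : Group.IsSolvable E) (hKE : K ≤ E)
    (hK : ∀ p : ℕ, p.Prime → p ∣ Nat.card K → p ∈ π) :
    ∃ E1 : Subgroup G, Cfsg.IsPiHallOf π E1 E ∧ K ≤ E1 := by
  classical
  have hE0 : Nat.card E ≠ 0 := Nat.card_pos.ne'
  have hmn : Nat.card E = Cfsg.Agent.Helper52.piPart π (Nat.card E) *
      Cfsg.Agent.Helper52.piPrimePart π (Nat.card E) :=
    (Cfsg.Agent.Helper52.piPart_mul_piPrimePart π hE0).symm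
  have hcop := Cfsg.Agent.Helper52.piPart_coprime π (Nat.card E)
  have hKn : (Nat.card K).Coprime (Cfsg.Agent.Helper52.piPrimePart π (Nat.card E)) := by
    apply Nat.coprime_of_dvd
    intro k hk h1 h2
    exact Cfsg.Agent.Helper52.not_mem_of_prime_dvd_piPrimePart π hk h2 (hK k hk h1)
  obtain ⟨Q, hQE, hQc, hKQ, -⟩ := Cfsg.Agent.Helper52.exists_invariant_hall_ge
    (⊥ : Subgroup G) E K bot_le (by simp) hEs _ _ hmn hcop hKE bot_le hKn
  exact ⟨Q, (Cfsg.Agent.Helper52.isPiHallOf_iff_card π Q E).mpr ⟨hQE, hQc⟩, hKQ⟩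

theorem exists_hall_tau1_ge (hG : Cfsg.IsMinSimpleOddOrder G) (M : Subgroup G) (hM : IsCoatom M)
    (E : Subgroup G) (hE : Cfsg.IsComplIn E (Cfsg.sigmaCore M) M) (K : Subgroup G) (hKE : K ≤ E)
    (hK : ∀ p : ℕ, p.Prime → p ∣ Nat.card K → p ∈ Cfsg.tau1 M) :
    ∃ E1 : Subgroup G, Cfsg.IsPiHallOf (Cfsg.tau1 M) E1 E ∧ K ≤ E1 := by
  have hEtop : E ≠ ⊤ := fun h => hM.1 (top_le_iff.mp (h ▸ hE.1))
  exact exists_piHallOf_ge (Cfsg.tau1 M) E K (hG.2.2.2 E hEtop) hKE hK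

end Cfsg.Agent.Helper46.BG142Req
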