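import Mathlib
import Cfsg.Prelude.Def_OddOrder
import Cfsg.Prelude.Def_OddOrderLocal

/-!
# BG142 Q8 (helper54's request list for S1430/S1431): normalizers of subgroups of a complement

If `M = E N` with `N` normal in `M`, `E ∩ N = 1` and `X ≤ E`, then
`N_M(X) = N_E(X) C_N(X)`.
-/

set_option autoImplicit false

namespace Cfsg.Agent.Helper46.BG142Req

open Subgroup

variable {G : Type*} [Group G] [Finite G]

theorem inf_normalizer_eq_sup (M E N X : Subgroup G) (hE : Cfsg.IsComplIn E N M)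
    (hN : M ≤ normalizer (N : Set G)) (hXE : X ≤ E) :
    M ⊓ normalizer (X : Set G) = (E ⊓ normalizer (X : Set G)) ⊔ (N ⊓ centralizer (X : Set G)) := by
  obtain ⟨hEM, hNM, hdisj, hprod⟩ := hE
  apply le_antisymm
  · intro n hn
    obtain ⟨hnM, hnX⟩ := Subgroup.mem_inf.mp hn
    obtain ⟨e, he, s, hs, rfl⟩ := hprod n hnM
    -- `s` centralizes `X`
    have hsC : s ∈ centralizer (X : Set G) := by
      rw [Subgroup.mem_centralizer_iff]
      intro x hx
      have hxX : x ∈ X := hx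
      have hxM : x ∈ M := hEM (hXE hxX)
      -- the conjugate of `x` by `e * s` lies in `X ≤ E`
      have h1 : e * s * x * (e * s)⁻¹ ∈ X := (mem_normalizer_iff.mp hnX x).mp hxX
      -- `[s, x] ∈ N`
      have h2 : x * s⁻¹ * x⁻¹ ∈ N := (mem_normalizer_iff.mp (hN hxM) s⁻¹).mp (N.inv_mem hs)
      have h3 : s * (x * s⁻¹ * x⁻¹) ∈ N := N.mul_mem hs h2
      have heN : e ∈ normalizer (N : Set G) := hN (hEM he)
      have h4 : e * (s * (x * s⁻¹ * x⁻¹)) * e⁻¹ ∈ N := (mem_normalizer_iff.mp heN _).mp h3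
      have h5 : e * x * e⁻¹ ∈ E := E.mul_mem (E.mul_mem he (hXE hxX)) (E.inv_mem he)
      have h6 : e * (s * (x * s⁻¹ * x⁻¹)) * e⁻¹ =
          (e * s * x * (e * s)⁻¹) * (e * x * e⁻¹)⁻¹ := by group
      have h7 : e * (s * (x * s⁻¹ * x⁻¹)) * e⁻¹ ∈ E := by
        rw [h6]
        exact E.mul_mem (hXE h1) (E.inv_mem h5)
      have h8 : e * (s * (x * s⁻¹ * x⁻¹)) * e⁻¹ ∈ E ⊓ N := Subgroup.mem_inf.mpr ⟨h7, h4⟩
      rw [hdisj, Subgroup.mem_bot] at h8
      have h9 : s * (x * s⁻¹ * x⁻¹) = 1 := by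
        have : s * (x * s⁻¹ * x⁻¹) = e⁻¹ * (e * (s * (x * s⁻¹ * x⁻¹)) * e⁻¹) * e := by group
        rw [this, h8]
        group
      -- `x * s = s * x`
      have : x * s = s * (x * s⁻¹ * x⁻¹) * (x * s) := by rw [h9, one_mul]
      rw [this]
      group
    have hsX : s ∈ normalizer (X : Set G) := centralizer_le_normalizer _ hsC
    have heX : e ∈ normalizer (X : Set G) := by
      have : e = e * s * s⁻¹ := by group
      rw [this]
      exact (normalizer (X : Set G)).mul_mem hnX ((normalizer (X : Set G)).inv_mem hsX)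
    exact Subgroup.mul_mem_sup (Subgroup.mem_inf.mpr ⟨he, heX⟩) (Subgroup.mem_inf.mpr ⟨hs, hsC⟩)
  · apply sup_le
    · exact inf_le_inf_right _ hEM
    · exact inf_le_inf hNM (centralizer_le_normalizer _)

end Cfsg.Agent.Helper46.BG142Req
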