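import Mathlib

/-!
# BG157-E2 (Ea) for helper49: the eigenvalue `a` of `k` on `L/Z` satisfies `a^2 ≢ 1 (mod p)`.
-/

set_option autoImplicit false

namespace Cfsg.Agent.Helper46.BG157

open Subgroup

variable {G : Type*} [Group G] [Finite G]

/-! ## (Ea) the eigenvalue a of k on L/Z satisfies a^2 ≢ 1 (mod p) -/
theorem sq_not_modEq_one {p : ℕ} [Fact p.Prime] (P K Z L : Subgroup G)
    (hcop : (Nat.card K).Coprime p) (hZ : Nat.card Z = p) (hZK : K ≤ centralizer (Z : Set G))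
    (hfix : ∀ k ∈ K, k ≠ 1 → P ⊓ centralizer ({k} : Set G) = Z)
    (k : G) (hkK : k ∈ K) (hk1 : k ≠ 1) (hkodd : Odd (orderOf k))
    (hZL : Z ≤ L) (hLP : L ≤ P) (hL : Nat.card L = p ^ 2) (hZLc : L ≤ centralizer (Z : Set G))
    (y : G) (hyL : y ∈ L) (hyZ : y ∉ Z) (a : ℕ) (hya : (y ^ a)⁻¹ * (k * y * k⁻¹) ∈ Z) :
    ¬ (a ^ 2 ≡ 1 [MOD p]) := by
  intro hmod
  have hp : p.Prime := Fact.out
  have hKZ : ∀ x ∈ K, ∀ z ∈ Z, z * x = x * z :=
    fun x hx z hz => (Subgroup.mem_centralizer_iff.mp (hZK hx)) z hz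
  have hkZ : ∀ z ∈ Z, z * k = k * z := hKZ k hkK
  have hyZc : ∀ z ∈ Z, z * y = y * z :=
    fun z hz => (Subgroup.mem_centralizer_iff.mp (hZLc hyL)) z hz
  -- Step 1: `y ^ p ∈ Z`
  have hyp : y ^ p ∈ Z := by
    have hnormal : (Z.subgroupOf L).Normal := by
      constructor
      intro n hn g
      rw [Subgroup.mem_subgroupOf] at hn ⊢
      have hg := Subgroup.mem_centralizer_iff.mp (hZLc g.2) _ hn
      have h1 : ((g * n * g⁻¹ : ↥L) : G) = (n : G) := by
        rw [Subgroup.coe_mul, Subgroup.coe_mul, Subgroup.coe_inv, ← hg, mul_inv_cancel_right]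
      rw [h1]
      exact hn
    have hidx : (Z.subgroupOf L).index = p := by
      have h1 := Subgroup.card_mul_index (Z.subgroupOf L)
      have h2 : Nat.card (Z.subgroupOf L) = p := by
        rw [Nat.card_congr (Subgroup.subgroupOfEquivOfLe hZL).toEquiv, hZ]
      rw [h2, hL, sq] at h1
      exact Nat.eq_of_mul_eq_mul_left hp.pos h1
    have h3 := Subgroup.pow_index_mem (Z.subgroupOf L) (⟨y, hyL⟩ : ↥L)
    rw [hidx, Subgroup.mem_subgroupOf] at h3
    simpa using h3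
  -- Step 2: conjugation by `k * k`
  set z0 := (y ^ a)⁻¹ * (k * y * k⁻¹) with hz0
  have hkyk : k * y * k⁻¹ = y ^ a * z0 := by
    rw [hz0]
    group
  have hyz0 : Commute y z0 := (hyZc z0 hya).symm
  have hkz0 : k * z0 * k⁻¹ = z0 := by
    rw [← hkZ z0 hya, mul_inv_cancel_right]
  have h1 : (k * k) * y * (k * k)⁻¹ = y ^ (a ^ 2) * z0 ^ (a + 1) := by
    calc (k * k) * y * (k * k)⁻¹ = k * (k * y * k⁻¹) * k⁻¹ := by group
      _ = k * (y ^ a * z0) * k⁻¹ := by rw [hkyk]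
      _ = (k * y * k⁻¹) ^ a * (k * z0 * k⁻¹) := by
          rw [conj_pow]
          group
      _ = (y ^ a * z0) ^ a * z0 := by rw [hkyk, hkz0]
      _ = y ^ (a ^ 2) * z0 ^ (a + 1) := by
          have e1 : (y ^ a * z0) ^ a = y ^ (a ^ 2) * z0 ^ a := by
            rw [(hyz0.pow_left a).mul_pow, ← pow_mul, sq]
          rw [e1, mul_assoc, ← pow_succ]
  have ha2 : 1 ≤ a ^ 2 := by
    by_contra hlt
    have h0 : a ^ 2 = 0 := by omega
    rw [h0] at hmod
    have h5 : p ∣ 1 := (Nat.modEq_zero_iff_dvd).mp hmod.symm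
    exact hp.one_lt.ne' (Nat.dvd_one.mp h5)
  obtain ⟨m, hm⟩ := (Nat.modEq_iff_dvd' ha2).mp hmod.symm
  have ha2' : a ^ 2 = 1 + p * m := by omega
  set z' := (y ^ p) ^ m * z0 ^ (a + 1) with hz'
  have hz'Z : z' ∈ Z := Z.mul_mem (Z.pow_mem hyp m) (Z.pow_mem hya _)
  have h2 : (k * k) * y * (k * k)⁻¹ = y * z' := by
    rw [h1, ha2', pow_add, pow_one, pow_mul, hz', mul_assoc]
  have hhK : k * k ∈ K := K.mul_mem hkK hkK
  have h3 : y⁻¹ * (k * k) * y = z' * (k * k) := by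
    calc y⁻¹ * (k * k) * y = y⁻¹ * ((k * k) * y * (k * k)⁻¹) * (k * k) := by group
      _ = y⁻¹ * (y * z') * (k * k) := by rw [h2]
      _ = z' * (k * k) := by group
  have hcomm : Commute z' (k * k) := hKZ _ hhK z' hz'Z
  have hz'p : z' ^ p = 1 := by
    have h5 : orderOf z' ∣ p := by
      have := Subgroup.orderOf_dvd_natCard Z hz'Z
      rwa [hZ] at this
    exact orderOf_dvd_iff_pow_eq_one.mp h5
  have h4 : y⁻¹ * (k * k) ^ p * y = (k * k) ^ p := by
    have h5 := conj_pow (i := p) (a := y⁻¹) (b := k * k)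
    rw [inv_inv] at h5
    rw [← h5, h3, hcomm.mul_pow, hz'p, one_mul]
  have h6 : (k * k) ^ p * y = y * (k * k) ^ p := by
    calc (k * k) ^ p * y = y * (y⁻¹ * (k * k) ^ p * y) := by group
      _ = y * (k * k) ^ p := by rw [h4]
  have hcK : (k * k) ^ p ∈ K := K.pow_mem hhK p
  have hc1 : (k * k) ^ p ≠ 1 := by
    intro hc
    have h7 : k ^ (2 * p) = 1 := by
      rw [pow_mul, pow_two]
      exact hc
    have h8 : orderOf k ∣ p * 2 := by
      rw [mul_comm]
      exact orderOf_dvd_of_pow_eq_one h7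
    have h9 : orderOf k ∣ p := (Nat.Coprime.dvd_of_dvd_mul_right hkodd.coprime_two_right) h8
    have h10 : orderOf k ∣ Nat.card K := Subgroup.orderOf_dvd_natCard K hkK
    have h11 : orderOf k ∣ Nat.gcd (Nat.card K) p := Nat.dvd_gcd h10 h9
    rw [Nat.Coprime.gcd_eq_one hcop] at h11
    exact hk1 (orderOf_eq_one_iff.mp (Nat.dvd_one.mp h11))
  have h12 : y ∈ P ⊓ centralizer ({(k * k) ^ p} : Set G) := by
    refine Subgroup.mem_inf.mpr ⟨hLP hyL, ?_⟩
    rw [Subgroup.mem_centralizer_iff]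
    intro h hh
    rw [Set.mem_singleton_iff.mp hh]
    exact h6
  rw [hfix _ hcK hc1] at h12
  exact hyZ h12

end Cfsg.Agent.Helper46.BG157
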