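import Mathlib
import Cfsg.Prelude.Def_Blocks
import Cfsg.Agent.Lib.Helper46.BSQ1
import Cfsg.Agent.Lib.Helper78.NormalCompSum
import Cfsg.Agent.S0925
import Cfsg.Agent.S0939

/-!
# Brauer–Leonard (helper46), part 1: characters of the principal block are constant on the
`p`-sections of `p`-elements with `p`-nilpotent centralizer
-/

set_option autoImplicit false
set_option linter.unusedSectionVars false
set_option linter.style.haveILetI false
set_option maxHeartbeats 800000
set_option linter.unusedSimpArgs false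

namespace Cfsg.Agent.Helper46.BL

open Cfsg
open Cfsg.Agent.Helper77 Cfsg.Agent.Helper16 Cfsg.Agent.Helper78 Cfsg.Agent.Helper79
open Cfsg.Agent.Helper46.BSQ
open scoped ComplexConjugate

universe u

section nilp

variable {H : Type u} [Group H] [Finite H]

/-- With a normal `p`-complement the kernel of the principal block is constant on pairs of
`p`-regular elements. -/
theorem bK_of_normal_complement (p : ℕ) [hpf : Fact p.Prime] (M : Ideal AlgInt)
    (hM : IsPModular p M) (hnc : ∃ k : ℕ, (pPrimeCore p H).index = p ^ k) (s' s : H)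
    (hs' : ¬ p ∣ orderOf s') (hs : ¬ p ∣ orderOf s) :
    bK (principalBlock M H) s' s = ((p ^ (Nat.card H).factorization p : ℕ) : ℂ) := by
  classical
  have hp : p.Prime := hpf.out
  have := Fintype.ofFinite H
  have hNn : (pPrimeCore p H).Normal := Cfsg.Agent.Helper49.pPrimeCore_normal' p
  have hpN : ¬ p ∣ Nat.card (pPrimeCore p H) := by
    have h := Cfsg.Agent.Helper49.pPrimeCore_card_coprime (G := H) p
    intro hd
    have h1 := Nat.Coprime.eq_one_of_dvd h.symm hd
    exact hp.one_lt.ne' h1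
  have hB := Cfsg.Agent.S0939.result p M hM hnc
  obtain ⟨k, hk⟩ := hnc
  have hsK : s ∈ pPrimeCore p H := mem_of_index_pow_of_regular hp _ k hk s hs
  have hs'K : s' ∈ pPrimeCore p H := mem_of_index_pow_of_regular hp _ k hk s' hs'
  have hset : (Set.toFinite (principalBlock M H)).toFinset =
      Finset.univ.filter (fun χ : IrrCharacter H => pPrimeCore p H ≤ Helper79.irrKer χ) := by
    ext χ
    rw [Set.Finite.mem_toFinset, hB, Finset.mem_filter]
    simp only [Finset.mem_univ, true_and]
    rfl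
  unfold bK
  rw [hset]
  have h1 : ∀ χ ∈ Finset.univ.filter
      (fun χ : IrrCharacter H => pPrimeCore p H ≤ Helper79.irrKer χ),
      (χ : H → ℂ) s' * conj ((χ : H → ℂ) s) = (((charDegree (χ : H → ℂ)) ^ 2 : ℕ) : ℂ) := by
    intro χ hχ
    rw [Finset.mem_filter] at hχ
    have h2 : (χ : H → ℂ) s = (χ : H → ℂ) 1 := (Helper79.mem_irrKer χ s).1 (hχ.2 hsK)
    have h2' : (χ : H → ℂ) s' = (χ : H → ℂ) 1 := (Helper79.mem_irrKer χ s').1 (hχ.2 hs'K)
    rw [h2, h2', (irr_one_eq χ).1, Complex.conj_natCast]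
    push_cast
    ring
  rw [Finset.sum_congr rfl h1, ← Nat.cast_sum, Helper79.sum_sq_degree_of_le_ker, hk]
  congr 2
  have h3 := Subgroup.card_mul_index (pPrimeCore p H)
  rw [hk] at h3
  rw [← h3, Nat.factorization_mul Nat.card_pos.ne' (pow_pos hp.pos k).ne', Finsupp.add_apply,
    Nat.factorization_eq_zero_of_not_dvd hpN, hp.factorization_pow, Finsupp.single_eq_same,
    zero_add]

end nilp

section sect

variable {G : Type u} [Group G] [Fintype G] {p : ℕ} [hpf : Fact p.Prime] {M : Ideal AlgInt}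

/-- the polarized section sums when the centralizer is `p`-nilpotent -/
theorem sum_section_of_nilpotent (hM : IsPModular p M) (z : G) (hz : ∃ k : ℕ, orderOf z = p ^ k)
    (hnc : ∃ k : ℕ, (pPrimeCore p (Subgroup.centralizer ({z} : Set G))).index = p ^ k)
    (s' s : Subgroup.centralizer ({z} : Set G)) (hs' : ¬ p ∣ orderOf s') (hs : ¬ p ∣ orderOf s) :
    ∑ ζ ∈ (Set.toFinite (principalBlock M G)).toFinset,
      (ζ : G → ℂ) (z * (s' : G)) * conj ((ζ : G → ℂ) (z * (s : G))) =
    ((p ^ (Nat.card (Subgroup.centralizer ({z} : Set G))).factorization p : ℕ) : ℂ) := by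
  rw [sum_section_principal_polar hM z hz s' s hs' hs]
  exact bK_of_normal_complement p M hM hnc s' s hs' hs

/-- **Constancy on sections.** -/
theorem section_const (hM : IsPModular p M) (z : G) (hz : ∃ k : ℕ, orderOf z = p ^ k)
    (hnc : ∃ k : ℕ, (pPrimeCore p (Subgroup.centralizer ({z} : Set G))).index = p ^ k)
    (ζ : IrrCharacter G) (hζ : ζ ∈ principalBlock M G)
    (s : Subgroup.centralizer ({z} : Set G)) (hs : ¬ p ∣ orderOf s) :
    (ζ : G → ℂ) (z * (s : G)) = (ζ : G → ℂ) z := by
  classical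
  set T := (Set.toFinite (principalBlock M G)).toFinset with hT
  have h1' : ¬ p ∣ orderOf (1 : Subgroup.centralizer ({z} : Set G)) := by
    rw [orderOf_one]
    exact fun h => hpf.out.one_lt.ne' (Nat.dvd_one.1 h)
  set q : ℂ := ((p ^ (Nat.card (Subgroup.centralizer ({z} : Set G))).factorization p : ℕ) : ℂ)
    with hq
  have A := fun a b ha hb => sum_section_of_nilpotent hM z hz hnc a b ha hb
  have e1 := A s s hs hs
  have e2 := A s 1 hs h1'
  have e3 := A 1 s h1' hs
  have e4 := A 1 1 h1' h1'
  simp only [Subgroup.coe_one, mul_one] at e2 e3 e4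
  have hsum : ∑ χ ∈ T, Complex.normSq ((χ : G → ℂ) (z * (s : G)) - (χ : G → ℂ) z) = 0 := by
    have h2 : ((∑ χ ∈ T, Complex.normSq ((χ : G → ℂ) (z * (s : G)) - (χ : G → ℂ) z) : ℝ) : ℂ)
        = 0 := by
      push_cast
      have h3 : ∀ χ : IrrCharacter G,
          (Complex.normSq ((χ : G → ℂ) (z * (s : G)) - (χ : G → ℂ) z) : ℂ) =
          (χ : G → ℂ) (z * (s : G)) * conj ((χ : G → ℂ) (z * (s : G))) -
          (χ : G → ℂ) (z * (s : G)) * conj ((χ : G → ℂ) z) -
          (χ : G → ℂ) z * conj ((χ : G → ℂ) (z * (s : G))) +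
          (χ : G → ℂ) z * conj ((χ : G → ℂ) z) := by
        intro χ
        rw [← Complex.mul_conj, map_sub]
        ring
      simp_rw [h3]
      rw [Finset.sum_add_distrib, Finset.sum_sub_distrib, Finset.sum_sub_distrib, e1, e2, e3, e4]
      ring
    exact_mod_cast h2
  have h4 := (Finset.sum_eq_zero_iff_of_nonneg (fun χ _ => Complex.normSq_nonneg _)).1 hsum ζ
    ((Set.Finite.mem_toFinset _).2 hζ)
  rw [Complex.normSq_eq_zero, sub_eq_zero] at h4
  exact h4

end sect

end Cfsg.Agent.Helper46.BL
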