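import Mathlib
import Cfsg.Prelude.Def_Blocks
import Cfsg.Agent.Lib.Helper46.BL1
import Cfsg.Agent.Lib.Helper79.Linear
import Cfsg.Agent.Lib.Helper74.LinChar
import Cfsg.Agent.Lib.Helper81.CharElem
import Cfsg.Agent.Lib.Helper81.CharInd
import Cfsg.Agent.Lib.Helper3.CharDecomp
import Cfsg.Agent.Lib.Helper78.CharSchur

/-!
# Brauer–Leonard (helper46), part 2: the columns of the principal block at the elements of an
abelian Sylow `p`-subgroup with `p`-nilpotent centralizers
-/

set_option autoImplicit false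
set_option linter.unusedSectionVars false
set_option linter.style.haveILetI false
set_option maxHeartbeats 800000
set_option linter.unusedSimpArgs false

namespace Cfsg.Agent.Helper46.BL

open Cfsg
open Cfsg.Agent.Helper77 Cfsg.Agent.Helper16 Cfsg.Agent.Helper78 Cfsg.Agent.Helper79
open Cfsg.Agent.Helper46.BSQ
open scoped ComplexConjugate

universe u

section cols

variable {G : Type u} [Group G] [Fintype G] {p : ℕ} [hpf : Fact p.Prime] {M : Ideal AlgInt}

/-- block orthogonality for the principal block, in conjugate form -/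
theorem block_orth_p (hM : IsPModular p M) (g h x y : G) (hg : IsPPart p g x) (hh : IsPPart p h y)
    (hxy : ¬ IsConj x y) :
    ∑ χ ∈ (Set.toFinite (principalBlock M G)).toFinset,
      (χ : G → ℂ) g * conj ((χ : G → ℂ) h) = 0 := by
  have h1 := (Cfsg.Agent.S0925.result p M hM).2 g h x y hg hh hxy
    (principalBlock M G) (isPBlock_principalBlock M)
  rw [finsum_mem_eq_finite_toFinset_sum _ (Set.toFinite (principalBlock M G))] at h1
  rw [← h1]
  refine Finset.sum_congr rfl fun χ _ => ?_
  rw [IsIrrCharacter.inv χ.2]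

theorem isPPart_self_p (g : G) (hg : ∃ k : ℕ, orderOf g = p ^ k) : IsPPart p g g := by
  refine ⟨1, mul_one g, Commute.one_right g, hg, ?_⟩
  rw [orderOf_one]
  exact fun h => hpf.out.one_lt.ne' (Nat.dvd_one.1 h)

theorem isPPart_one_p (g : G) (hg : ¬ p ∣ orderOf g) : IsPPart p g 1 := by
  refine ⟨g, one_mul g, Commute.one_left g, ⟨0, ?_⟩, hg⟩
  rw [orderOf_one, pow_zero]

variable (P : Sylow p G)

theorem pelement_of_mem {y : G} (hy : y ∈ (P : Subgroup G)) : ∃ k : ℕ, orderOf y = p ^ k := by
  obtain ⟨k, hk⟩ := P.isPGroup' ⟨y, hy⟩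
  have h1 : y ^ p ^ k = 1 := by
    have := congrArg (fun t : (P : Subgroup G) => (t : G)) hk
    simpa using this
  obtain ⟨j, -, hj⟩ := (Nat.dvd_prime_pow hpf.out).1 (orderOf_dvd_of_pow_eq_one h1)
  exact ⟨j, hj⟩

/-- the hypothesis: the centralizers of the non-identity elements of `P` are `p`-nilpotent of
full `p`-part -/
def NilCent : Prop :=
  ∀ y : G, y ∈ (P : Subgroup G) → y ≠ 1 →
    (∃ k : ℕ, (pPrimeCore p (Subgroup.centralizer ({y} : Set G))).index = p ^ k) ∧
    (Nat.card (Subgroup.centralizer ({y} : Set G))).factorization p =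
      (Nat.card G).factorization p

variable {P}

/-- **Constancy on the sections through `P`.** -/
theorem val_section (hM : IsPModular p M) (hnil : NilCent P) (ζ : IrrCharacter G)
    (hζ : ζ ∈ principalBlock M G) (z y : G) (hzy : IsPPart p z y) (hy : y ∈ (P : Subgroup G))
    (hy1 : y ≠ 1) : (ζ : G → ℂ) z = (ζ : G → ℂ) y := by
  obtain ⟨s, hs1, hs2, hs3, hs4⟩ := hzy
  have hsC : s ∈ Subgroup.centralizer ({y} : Set G) := by
    rw [Subgroup.mem_centralizer_iff]
    intro h hh
    rw [Set.mem_singleton_iff.1 hh]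
    exact hs2.eq
  have h := section_const hM y hs3 (hnil y hy hy1).1 ζ hζ ⟨s, hsC⟩
    (by rw [Subgroup.orderOf_mk]; exact hs4)
  rw [← hs1]
  exact h

/-- the norm of a column -/
theorem col_norm (hM : IsPModular p M) (hnil : NilCent P) (y : G) (hy : y ∈ (P : Subgroup G))
    (hy1 : y ≠ 1) :
    ∑ ζ ∈ (Set.toFinite (principalBlock M G)).toFinset,
      (ζ : G → ℂ) y * conj ((ζ : G → ℂ) y) = (Nat.card P : ℂ) := by
  have h1' : ¬ p ∣ orderOf (1 : Subgroup.centralizer ({y} : Set G)) := by
    rw [orderOf_one]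
    exact fun h => hpf.out.one_lt.ne' (Nat.dvd_one.1 h)
  have h := sum_section_of_nilpotent hM y (pelement_of_mem P hy) (hnil y hy hy1).1 1 1 h1' h1'
  simp only [Subgroup.coe_one, mul_one] at h
  rw [h, (hnil y hy hy1).2, Sylow.card_eq_multiplicity P]

/-- the columns at the non-identity elements of `P` -/
theorem col_orth (hM : IsPModular p M) (hnil : NilCent P) (y y' : G) (hy : y ∈ (P : Subgroup G))
    (hy1 : y ≠ 1) (hy' : y' ∈ (P : Subgroup G)) (hy1' : y' ≠ 1) [Decidable (IsConj y y')] :
    ∑ ζ ∈ (Set.toFinite (principalBlock M G)).toFinset,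
      (ζ : G → ℂ) y * conj ((ζ : G → ℂ) y') = if IsConj y y' then (Nat.card P : ℂ) else 0 := by
  by_cases hc : IsConj y y'
  · rw [if_pos hc, ← col_norm hM hnil y hy hy1]
    refine Finset.sum_congr rfl fun ζ _ => ?_
    obtain ⟨c, hc⟩ := isConj_iff.1 hc
    rw [← hc, irr_class]
  · rw [if_neg hc]
    exact block_orth_p hM y y' y y' (isPPart_self_p y (pelement_of_mem P hy))
      (isPPart_self_p y' (pelement_of_mem P hy')) hc

end cols

end Cfsg.Agent.Helper46.BL
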