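import Mathlib
import Cfsg.Prelude.Def_Blocks
import Cfsg.Agent.Lib.Helper46.BL2
import Cfsg.Agent.Lib.Helper45.BrauerLeonardGT
import Cfsg.Agent.Lib.Helper2.BLLattice

/-!
# Brauer–Leonard (helper46), part 3: the restriction multiplicities of the principal block to
the abelian Sylow subgroup `P` and their Gram matrix
-/

set_option autoImplicit false
set_option linter.unusedSectionVars false
set_option linter.style.haveILetI false
set_option maxHeartbeats 800000
set_option linter.unusedSimpArgs false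

namespace Cfsg.Agent.Helper46.BL

open Cfsg
open Cfsg.Agent.Helper77 Cfsg.Agent.Helper16 Cfsg.Agent.Helper78 Cfsg.Agent.Helper79
open Cfsg.Agent.Helper46.BSQ
open Cfsg.Agent.Helper74.Lin
open scoped ComplexConjugate

universe u

section dual

variable {A : Type u} [Group A] [Fintype A] [Fintype (A →* ℂˣ)]

/-- first orthogonality for homomorphisms to `ℂˣ` -/
theorem hom_orth (φ ψ : A →* ℂˣ) [Decidable (φ = ψ)] :
    ∑ w : A, ((φ w : ℂˣ) : ℂ) * conj ((ψ w : ℂˣ) : ℂ) =
      if φ = ψ then (Nat.card A : ℂ) else 0 := by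
  classical
  have h := Cfsg.Agent.Helper80.irr_first_orthogonality (ofHom φ) (ofHom ψ)
  simp only [ofHom_apply] at h
  rw [h]
  by_cases hc : φ = ψ
  · rw [if_pos hc, if_pos (by rw [hc])]
  · rw [if_neg hc, if_neg (fun h' => hc (ofHom_injective h'))]

theorem ofHom_bijective (hA : ∀ a b : A, a * b = b * a) :
    Function.Bijective (ofHom (G := A)) := by
  refine ⟨ofHom_injective, fun χ => ?_⟩
  have h1 : (χ : A → ℂ) 1 = 1 := Cfsg.Agent.Helper81.irr_one_eq_one_of_comm hA χ.2
  exact ⟨toHom χ h1, ofHom_toHom χ h1⟩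

/-- sums over the dual group are sums over the irreducible characters -/
theorem sum_hom_eq_sum_irr (hA : ∀ a b : A, a * b = b * a) (f : IrrCharacter A → ℂ) :
    ∑ ψ : A →* ℂˣ, f (ofHom ψ) = ∑ χ : IrrCharacter A, f χ :=
  Fintype.sum_equiv (Equiv.ofBijective _ (ofHom_bijective hA)) _ _ (fun _ => rfl)

/-- second orthogonality for the dual group of an abelian group -/
theorem dual_orth (hA : ∀ a b : A, a * b = b * a) (y w : A) [Decidable (y = w)] :
    ∑ ψ : A →* ℂˣ, ((ψ y : ℂˣ) : ℂ) * conj ((ψ w : ℂˣ) : ℂ) =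
      if y = w then (Nat.card A : ℂ) else 0 := by
  classical
  have h := sum_hom_eq_sum_irr hA (fun χ => (χ : A → ℂ) y * conj ((χ : A → ℂ) w))
  simp only [ofHom_apply] at h
  rw [h, sum_irr_mul_conj]
  have hconj : IsConj y w ↔ y = w := by
    constructor
    · intro hc
      obtain ⟨c, hc⟩ := isConj_iff.1 hc
      rw [← hc, hA c y, mul_inv_cancel_right]
    · rintro rfl; exact IsConj.refl _
  have hcent : Subgroup.centralizer ({y} : Set A) = ⊤ := by
    rw [eq_top_iff]
    intro g _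
    rw [Subgroup.mem_centralizer_iff]
    intro h hh
    exact hA h g
  by_cases hyw : y = w
  · rw [if_pos hyw, if_pos (hconj.2 hyw), hcent, Subgroup.card_top]
  · rw [if_neg hyw, if_neg (fun h' => hyw (hconj.1 h'))]

/-- the sum of the values of all linear characters at an element -/
theorem dual_sum (hA : ∀ a b : A, a * b = b * a) (y : A) [Decidable (y = 1)] :
    ∑ ψ : A →* ℂˣ, ((ψ y : ℂˣ) : ℂ) = if y = 1 then (Nat.card A : ℂ) else 0 := by
  classical
  have h := dual_orth hA y 1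
  simp only [map_one, Units.val_one, mul_one] at h
  rw [h]

end dual

section mult

variable {G : Type u} [Group G] [Fintype G] {p : ℕ} [hpf : Fact p.Prime] {M : Ideal AlgInt}
  (P : Sylow p G) [Fintype ↥(P : Subgroup G)] [Fintype (↥(P : Subgroup G) →* ℂˣ)]

/-- the differences of restriction multiplicities `⟨ζ|_P, ψ⟩ - ⟨ζ|_P, 1⟩` -/
noncomputable def bC (ζ : IrrCharacter G) (ψ : ↥(P : Subgroup G) →* ℂˣ) : ℂ :=
  (Nat.card ↥(P : Subgroup G) : ℂ)⁻¹ *
    ∑ w : ↥(P : Subgroup G), (ζ : G → ℂ) (w : G) * (conj ((ψ w : ℂˣ) : ℂ) - 1)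

theorem bC_int (ζ : IrrCharacter G) (ψ : ↥(P : Subgroup G) →* ℂˣ) :
    ∃ k : ℤ, bC P ζ ψ = (k : ℂ) := by
  have hζc : IsCharacter G (ζ : G → ℂ) := Cfsg.Agent.Helper80.isCharacter_of_irr ζ.2
  have hres := Cfsg.Agent.Helper81.isCharacter_restrict (P : Subgroup G) hζc
  obtain ⟨m1, hm1⟩ := Cfsg.Agent.Helper3.classInner_isCharacter_nat hres
    (Cfsg.Agent.Helper80.isCharacter_of_irr (ofHom ψ).2)
  obtain ⟨m0, hm0⟩ := Cfsg.Agent.Helper3.classInner_isCharacter_nat hres
    (Cfsg.Agent.Helper80.isCharacter_of_irr (ofHom (1 : ↥(P : Subgroup G) →* ℂˣ)).2)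
  refine ⟨(m1 : ℤ) - (m0 : ℤ), ?_⟩
  push_cast
  rw [← hm1, ← hm0]
  unfold bC classInner
  rw [← mul_sub, ← Finset.sum_sub_distrib]
  congr 1
  refine Finset.sum_congr rfl fun w _ => ?_
  simp only [ofHom_apply, MonoidHom.one_apply, Units.val_one, map_one]
  ring

theorem bC_one (ζ : IrrCharacter G) : bC P ζ 1 = 0 := by
  unfold bC
  simp

/-- Fourier inversion on `P ∖ 1` -/
theorem val_eq_sum_bC (hab : ∀ a b : ↥(P : Subgroup G), a * b = b * a) (ζ : IrrCharacter G)
    (y : ↥(P : Subgroup G)) (hy : y ≠ 1) :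
    (ζ : G → ℂ) (y : G) = ∑ ψ : ↥(P : Subgroup G) →* ℂˣ, bC P ζ ψ * ((ψ y : ℂˣ) : ℂ) := by
  classical
  have hP : (Nat.card ↥(P : Subgroup G) : ℂ) ≠ 0 := by
    have : 0 < Nat.card ↥(P : Subgroup G) := Nat.card_pos
    exact_mod_cast this.ne'
  unfold bC
  simp_rw [mul_assoc, Finset.sum_mul]
  rw [← Finset.mul_sum, Finset.sum_comm]
  have h1 : ∀ w : ↥(P : Subgroup G),
      ∑ ψ : ↥(P : Subgroup G) →* ℂˣ, (ζ : G → ℂ) (w : G) * (conj ((ψ w : ℂˣ) : ℂ) - 1) *
        ((ψ y : ℂˣ) : ℂ) =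
      (ζ : G → ℂ) (w : G) * (if y = w then (Nat.card ↥(P : Subgroup G) : ℂ) else 0) := by
    intro w
    have e1 := dual_orth hab y w
    have e2 := dual_sum hab y
    rw [if_neg hy] at e2
    rw [← e1]
    have : ∀ ψ : ↥(P : Subgroup G) →* ℂˣ,
        (ζ : G → ℂ) (w : G) * (conj ((ψ w : ℂˣ) : ℂ) - 1) * ((ψ y : ℂˣ) : ℂ) =
        (ζ : G → ℂ) (w : G) * (((ψ y : ℂˣ) : ℂ) * conj ((ψ w : ℂˣ) : ℂ)) -
        (ζ : G → ℂ) (w : G) * ((ψ y : ℂˣ) : ℂ) := fun ψ => by ring
    simp_rw [this]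
    rw [Finset.sum_sub_distrib, ← Finset.mul_sum, ← Finset.mul_sum, e2, mul_zero, sub_zero]
  simp_rw [h1]
  rw [Finset.sum_eq_single y]
  · rw [if_pos rfl, ← mul_assoc, mul_comm _ ((ζ : G → ℂ) (y : G)), mul_assoc,
      inv_mul_cancel₀ hP, mul_one]
  · intro w _ hw
    rw [if_neg (fun h => hw h.symm), mul_zero]
  · intro h
    exact absurd (Finset.mem_univ y) h

end mult

section gram

open Cfsg.Agent.Helper45.BLGT Cfsg.Agent.Helper2.BLLattice

variable {G : Type u} [Group G] [Fintype G] {p : ℕ} [hpf : Fact p.Prime] {M : Ideal AlgInt}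
  (P : Sylow p G) [Fintype ↥(P : Subgroup G)] [Fintype (↥(P : Subgroup G) →* ℂˣ)]
  [Fintype ↥(Subgroup.normalizer ((P : Subgroup G) : Set G))]

/-- `C_G(P)` inside `N_G(P)` -/
def StC : Subgroup ↥(Subgroup.normalizer ((P : Subgroup G) : Set G)) :=
  (Subgroup.centralizer ((P : Subgroup G) : Set G)).subgroupOf
    (Subgroup.normalizer ((P : Subgroup G) : Set G))

theorem conjHom_mul (a b : ↥(Subgroup.normalizer ((P : Subgroup G) : Set G)))
    (w : ↥(P : Subgroup G)) : conjHom p P (a * b) w = conjHom p P a (conjHom p P b w) := by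
  apply Subtype.ext
  rw [conjHom_coe, conjHom_coe, conjHom_coe]
  simp only [Subgroup.coe_mul]
  group

theorem conjHom_one (w : ↥(P : Subgroup G)) :
    conjHom p P (1 : ↥(Subgroup.normalizer ((P : Subgroup G) : Set G))) w = w := by
  apply Subtype.ext
  rw [conjHom_coe]
  simp

theorem conjHom_inv_self (a : ↥(Subgroup.normalizer ((P : Subgroup G) : Set G)))
    (w : ↥(P : Subgroup G)) : conjHom p P a⁻¹ (conjHom p P a w) = w := by
  rw [← conjHom_mul, inv_mul_cancel, conjHom_one]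

theorem conjHom_self_inv (a : ↥(Subgroup.normalizer ((P : Subgroup G) : Set G)))
    (w : ↥(P : Subgroup G)) : conjHom p P a (conjHom p P a⁻¹ w) = w := by
  rw [← conjHom_mul, mul_inv_cancel, conjHom_one]

/-- conjugation as a permutation of `P` -/
def conjEquiv (a : ↥(Subgroup.normalizer ((P : Subgroup G) : Set G))) :
    ↥(P : Subgroup G) ≃ ↥(P : Subgroup G) where
  toFun := conjHom p P a
  invFun := conjHom p P a⁻¹
  left_inv := conjHom_inv_self P a
  right_inv := conjHom_self_inv P a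

variable (hab : IsMulCommutative P)
  (hfrob : ∀ y : G, y ∈ (P : Subgroup G) → y ≠ 1 →
    Subgroup.centralizer ({y} : Set G) ⊓ Subgroup.normalizer ((P : Subgroup G) : Set G) =
      Subgroup.centralizer ((P : Subgroup G) : Set G))

theorem mem_StC_iff (n : ↥(Subgroup.normalizer ((P : Subgroup G) : Set G))) :
    n ∈ StC P ↔ (n : G) ∈ Subgroup.centralizer ((P : Subgroup G) : Set G) := by
  unfold StC
  rw [Subgroup.mem_subgroupOf]

include hfrob in
theorem conjHom_fix_iff (w : ↥(P : Subgroup G)) (hw : w ≠ 1)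
    (n : ↥(Subgroup.normalizer ((P : Subgroup G) : Set G))) :
    conjHom p P n w = w ↔ n ∈ StC P := by
  rw [mem_StC_iff]
  have hw1 : (w : G) ≠ 1 := fun h => hw (Subtype.ext h)
  constructor
  · intro h
    have h1 : (n : G) * w * (n : G)⁻¹ = w := by
      have := congrArg (fun t : ↥(P : Subgroup G) => (t : G)) h
      simpa only [conjHom_coe] using this
    rw [← hfrob (w : G) w.2 hw1]
    refine Subgroup.mem_inf.2 ⟨?_, n.2⟩
    rw [Subgroup.mem_centralizer_iff]
    intro x hx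
    rw [Set.mem_singleton_iff.1 hx]
    rw [mul_inv_eq_iff_eq_mul] at h1
    exact h1.symm
  · intro h
    apply Subtype.ext
    rw [conjHom_coe]
    rw [Subgroup.mem_centralizer_iff] at h
    rw [← h (w : G) w.2, mul_inv_cancel_right]

include hab in
theorem exists_conjHom_iff (w w' : ↥(P : Subgroup G)) :
    (∃ n : ↥(Subgroup.normalizer ((P : Subgroup G) : Set G)), conjHom p P n w = w') ↔
      IsConj (w : G) (w' : G) := by
  haveI := hab
  constructor
  · rintro ⟨n, hn⟩
    rw [isConj_iff]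
    refine ⟨(n : G), ?_⟩
    rw [← hn, conjHom_coe]
  · intro h
    obtain ⟨g, hg⟩ := isConj_iff.1 h
    have h1 : g⁻¹⁻¹ * (w : G) * g⁻¹ ∈ (P : Subgroup G) := by
      rw [inv_inv, hg]; exact w'.2
    obtain ⟨n, hn, hn'⟩ := Sylow.conj_eq_normalizer_conj_of_mem P (w : G) g⁻¹ w.2 h1
    rw [inv_inv, hg] at hn'
    refine ⟨⟨n, hn⟩⁻¹, ?_⟩
    apply Subtype.ext
    rw [conjHom_coe, hn']
    simp

theorem card_StC : Nat.card (StC P) =
    Nat.card (Subgroup.centralizer ((P : Subgroup G) : Set G)) := by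
  have hle : Subgroup.centralizer ((P : Subgroup G) : Set G) ≤
      Subgroup.normalizer ((P : Subgroup G) : Set G) := Subgroup.centralizer_le_normalizer _
  exact Nat.card_congr (Subgroup.subgroupOfEquivOfLe hle).toEquiv

theorem card_normalizer_eq (m : ℕ)
    (hCN : (Subgroup.centralizer ((P : Subgroup G) : Set G)).relIndex
      (Subgroup.normalizer ((P : Subgroup G) : Set G)) = m) :
    Nat.card ↥(Subgroup.normalizer ((P : Subgroup G) : Set G)) = Nat.card (StC P) * m := by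
  rw [← hCN]
  exact (Subgroup.card_mul_index (StC P)).symm

end gram

end Cfsg.Agent.Helper46.BL
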