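import Mathlib
import Cfsg.Prelude.Def_Blocks
import Cfsg.Agent.Lib.Helper46.BL3

/-!
# Brauer–Leonard (helper46), part 4: the Gram matrix of the restriction multiplicities
-/

set_option autoImplicit false
set_option linter.unusedSectionVars false
set_option linter.style.haveILetI false
set_option maxHeartbeats 1600000
set_option linter.unusedSimpArgs false

namespace Cfsg.Agent.Helper46.BL

open Cfsg
open Cfsg.Agent.Helper77 Cfsg.Agent.Helper16 Cfsg.Agent.Helper78 Cfsg.Agent.Helper79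
open Cfsg.Agent.Helper46.BSQ
open Cfsg.Agent.Helper74.Lin
open Cfsg.Agent.Helper45.BLGT Cfsg.Agent.Helper2.BLLattice
open scoped ComplexConjugate

universe u

section gram2

variable {G : Type u} [Group G] [Fintype G] {p : ℕ} [hpf : Fact p.Prime] {M : Ideal AlgInt}
  (P : Sylow p G) [Fintype ↥(P : Subgroup G)] [Fintype (↥(P : Subgroup G) →* ℂˣ)]
  [Fintype ↥(Subgroup.normalizer ((P : Subgroup G) : Set G))]
  (hab : IsMulCommutative P)
  (hfrob : ∀ y : G, y ∈ (P : Subgroup G) → y ≠ 1 →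
    Subgroup.centralizer ({y} : Set G) ⊓ Subgroup.normalizer ((P : Subgroup G) : Set G) =
      Subgroup.centralizer ((P : Subgroup G) : Set G))

include hab hfrob in
theorem nilCent_of_frob : NilCent P :=
  fun y hy hy1 => centralizer_pnilpotent p P hab hfrob y hy hy1

include hab in
theorem comm_of_hab : ∀ a b : ↥(P : Subgroup G), a * b = b * a := hab.is_comm.comm

theorem hom_one_sub (ψ : ↥(P : Subgroup G) →* ℂˣ) :
    conj ((ψ (1 : ↥(P : Subgroup G)) : ℂˣ) : ℂ) - 1 = 0 := by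
  simp

theorem hom_one_sub' (ψ : ↥(P : Subgroup G) →* ℂˣ) :
    ((ψ (1 : ↥(P : Subgroup G)) : ℂˣ) : ℂ) - 1 = 0 := by
  simp

theorem conjHom_fix_iff' (n : ↥(Subgroup.normalizer ((P : Subgroup G) : Set G)))
    (hn : n ∈ StC P) (w : ↥(P : Subgroup G)) : conjHom p P n w = w := by
  rw [mem_StC_iff] at hn
  apply Subtype.ext
  rw [conjHom_coe]
  rw [Subgroup.mem_centralizer_iff] at hn
  rw [← hn (w : G) w.2, mul_inv_cancel_right]

include hab hfrob in
/-- G1: the kernel of the principal block on `P × P`, up to the vanishing factors -/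
theorem kernel_on_P (hM : IsPModular p M) (ψ ψ' : ↥(P : Subgroup G) →* ℂˣ)
    (w w' : ↥(P : Subgroup G)) [Decidable (IsConj (w : G) (w' : G))] :
    (conj ((ψ w : ℂˣ) : ℂ) - 1) * (((ψ' w' : ℂˣ) : ℂ) - 1) *
      (∑ ζ ∈ (Set.toFinite (principalBlock M G)).toFinset,
        (ζ : G → ℂ) (w : G) * conj ((ζ : G → ℂ) (w' : G))) =
    (conj ((ψ w : ℂˣ) : ℂ) - 1) * (((ψ' w' : ℂˣ) : ℂ) - 1) *
      (if IsConj (w : G) (w' : G) then (Nat.card ↥(P : Subgroup G) : ℂ) else 0) := by
  by_cases hw : w = 1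
  · subst hw
    rw [hom_one_sub]; ring
  by_cases hw' : w' = 1
  · subst hw'
    rw [hom_one_sub']; ring
  have hw1 : (w : G) ≠ 1 := fun h => hw (Subtype.ext h)
  have hw1' : (w' : G) ≠ 1 := fun h => hw' (Subtype.ext h)
  rw [col_orth hM (nilCent_of_frob P hab hfrob) (w : G) (w' : G) w.2 hw1 w'.2 hw1']

include hab hfrob in
/-- G2: sums over the `G`-conjugates in `P` of an element of `P ∖ 1` -/
theorem sum_conj_in_P (w : ↥(P : Subgroup G)) (hw : w ≠ 1) (g : ↥(P : Subgroup G) → ℂ)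
    [∀ w' : ↥(P : Subgroup G), Decidable (IsConj (w : G) (w' : G))] :
    ∑ n : ↥(Subgroup.normalizer ((P : Subgroup G) : Set G)), g (conjHom p P n w) =
      (Nat.card (StC P) : ℂ) *
        ∑ w' : ↥(P : Subgroup G), if IsConj (w : G) (w' : G) then g w' else 0 := by
  classical
  have h := sum_act_eq (fun n w => conjHom p P n w) (conjHom_mul P) (conjHom_one P) (StC P) w
    (conjHom_fix_iff P hfrob w hw) g
  rw [h]
  congr 1
  refine Finset.sum_congr rfl fun w' _ => ?_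
  by_cases hc : IsConj (w : G) (w' : G)
  · rw [if_pos hc, if_pos ((exists_conjHom_iff P hab w w').2 hc)]
  · rw [if_neg hc, if_neg (fun h' => hc ((exists_conjHom_iff P hab w w').1 h'))]

/-- G3 -/
theorem sum_sub_one_mul (ψ φ : ↥(P : Subgroup G) →* ℂˣ) (hψ : ψ ≠ 1) (hφ : φ ≠ 1)
    [Decidable (φ = ψ)] :
    ∑ w : ↥(P : Subgroup G), (conj ((ψ w : ℂˣ) : ℂ) - 1) * (((φ w : ℂˣ) : ℂ) - 1) =
      (Nat.card ↥(P : Subgroup G) : ℂ) * ((if φ = ψ then 1 else 0) + 1) := by
  classical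
  have e1 := hom_orth φ ψ
  have e2 := hom_orth φ (1 : ↥(P : Subgroup G) →* ℂˣ)
  have e3 := hom_orth (1 : ↥(P : Subgroup G) →* ℂˣ) ψ
  rw [if_neg hφ] at e2
  rw [if_neg (fun h => hψ h.symm)] at e3
  simp only [MonoidHom.one_apply, Units.val_one, map_one, mul_one, one_mul] at e2 e3
  have h : ∀ w : ↥(P : Subgroup G),
      (conj ((ψ w : ℂˣ) : ℂ) - 1) * (((φ w : ℂˣ) : ℂ) - 1) =
      ((φ w : ℂˣ) : ℂ) * conj ((ψ w : ℂˣ) : ℂ) - ((φ w : ℂˣ) : ℂ) - conj ((ψ w : ℂˣ) : ℂ) + 1 :=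
    fun w => by ring
  simp_rw [h]
  rw [Finset.sum_add_distrib, Finset.sum_sub_distrib, Finset.sum_sub_distrib, e1, e2, e3,
    Finset.sum_const, Finset.card_univ, nsmul_eq_mul, mul_one, Nat.card_eq_fintype_card]
  by_cases hc : φ = ψ
  · rw [if_pos hc, if_pos hc]; ring
  · rw [if_neg hc, if_neg hc]; ring

include hab hfrob in
/-- G4: counting the conjugators between two linear characters -/
theorem sum_conjugators (ψ ψ' : ↥(P : Subgroup G) →* ℂˣ) (hψ' : ψ' ≠ 1)
    [Decidable (Rel p P ψ ψ')] :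
    ∑ n : ↥(Subgroup.normalizer ((P : Subgroup G) : Set G)),
      (if ψ'.comp (conjHom p P n) = ψ then (1 : ℂ) else 0) =
      (Nat.card (StC P) : ℂ) * (if Rel p P ψ ψ' then 1 else 0) := by
  classical
  set act : ↥(Subgroup.normalizer ((P : Subgroup G) : Set G)) →
      (↥(P : Subgroup G) →* ℂˣ) → (↥(P : Subgroup G) →* ℂˣ) :=
    fun n φ => φ.comp (conjHom p P n⁻¹) with hact
  have hmul : ∀ a b φ, act (a * b) φ = act a (act b φ) := by
    intro a b φ
    ext w
    simp only [hact, MonoidHom.comp_apply, mul_inv_rev]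
    rw [conjHom_mul]
  have hone : ∀ φ, act 1 φ = φ := by
    intro φ
    ext w
    simp only [hact, MonoidHom.comp_apply, inv_one]
    rw [conjHom_one]
  have hSt : ∀ n, act n ψ' = ψ' ↔ n ∈ StC P := by
    intro n
    constructor
    · intro h
      rw [mem_StC_iff]
      refine char_stabilizer p P hab hfrob ψ' hψ' (n : G) n.2 ?_
      intro w w' hww
      have h1 : conjHom p P n⁻¹ w' = w := by
        have : w' = conjHom p P n w := by
          apply Subtype.ext
          rw [conjHom_coe]; exact hww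
        rw [this, conjHom_inv_self]
      have h2 := congrArg (fun φ : ↥(P : Subgroup G) →* ℂˣ => φ w') h
      simp only [hact, MonoidHom.comp_apply] at h2
      rw [h1] at h2
      exact h2.symm
    · intro h
      ext w
      simp only [hact, MonoidHom.comp_apply]
      have h1 : n⁻¹ ∈ StC P := (StC P).inv_mem h
      rw [(conjHom_fix_iff' P n⁻¹ h1 w)]
  have h := sum_act_eq act hmul hone (StC P) ψ' hSt (fun φ => if φ = ψ then (1 : ℂ) else 0)
  have hre : ∑ n : ↥(Subgroup.normalizer ((P : Subgroup G) : Set G)),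
      (if ψ'.comp (conjHom p P n) = ψ then (1 : ℂ) else 0) =
      ∑ n : ↥(Subgroup.normalizer ((P : Subgroup G) : Set G)),
        (fun φ => if φ = ψ then (1 : ℂ) else 0) (act n ψ') := by
    rw [← Equiv.sum_comp (Equiv.inv _)]
    refine Finset.sum_congr rfl fun n _ => ?_
    simp only [hact, Equiv.inv_apply]
  rw [hre, h]
  congr 1
  have hrel : (∃ n, act n ψ' = ψ) ↔ Rel p P ψ ψ' := by
    constructor
    · rintro ⟨n, hn⟩
      refine ⟨((n⁻¹ : ↥(Subgroup.normalizer ((P : Subgroup G) : Set G))) : G), (n⁻¹).2, ?_⟩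
      intro w w' hww
      have h1 : w' = conjHom p P n⁻¹ w := by
        apply Subtype.ext
        rw [conjHom_coe]; exact hww
      rw [h1, ← hn]
      rfl
    · rintro ⟨n₀, hn₀, h0⟩
      refine ⟨(⟨n₀, hn₀⟩ : ↥(Subgroup.normalizer ((P : Subgroup G) : Set G)))⁻¹, ?_⟩
      ext w
      simp only [hact, MonoidHom.comp_apply, inv_inv]
      rw [h0 w (conjHom p P ⟨n₀, hn₀⟩ w) (by rw [conjHom_coe])]
  rw [Finset.sum_eq_single ψ]
  · by_cases hc : Rel p P ψ ψ'
    · rw [if_pos hc, if_pos (hrel.2 hc), if_pos rfl]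
    · rw [if_neg hc, if_neg (fun h' => hc (hrel.1 h'))]
  · intro φ _ hφ
    rw [if_neg hφ]
    split_ifs <;> rfl
  · intro h'
    exact absurd (Finset.mem_univ ψ) h'

include hab hfrob in
/-- **The Gram matrix of the restriction multiplicities.** -/
theorem gram_bC (hM : IsPModular p M) (m : ℕ)
    (hCN : (Subgroup.centralizer ((P : Subgroup G) : Set G)).relIndex
      (Subgroup.normalizer ((P : Subgroup G) : Set G)) = m)
    (ψ ψ' : ↥(P : Subgroup G) →* ℂˣ) (hψ : ψ ≠ 1) (hψ' : ψ' ≠ 1) [Decidable (Rel p P ψ ψ')] :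
    ∑ ζ ∈ (Set.toFinite (principalBlock M G)).toFinset, bC P ζ ψ * conj (bC P ζ ψ') =
      (m : ℂ) + if Rel p P ψ ψ' then 1 else 0 := by
  classical
  set T := (Set.toFinite (principalBlock M G)).toFinset with hT
  set cP : ℂ := (Nat.card ↥(P : Subgroup G) : ℂ) with hcP
  set cC : ℂ := (Nat.card (StC P) : ℂ) with hcC
  have hP0 : cP ≠ 0 := by
    have : 0 < Nat.card ↥(P : Subgroup G) := Nat.card_pos
    rw [hcP]; exact_mod_cast this.ne'
  have hC0 : cC ≠ 0 := by
    have : 0 < Nat.card (StC P) := Nat.card_pos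
    rw [hcC]; exact_mod_cast this.ne'
  have hcPconj : conj cP⁻¹ = cP⁻¹ := by rw [hcP, map_inv₀, Complex.conj_natCast]
  -- step 1: expand
  have h1 : ∑ ζ ∈ T, bC P ζ ψ * conj (bC P ζ ψ') =
      cP⁻¹ * cP⁻¹ * ∑ w : ↥(P : Subgroup G), ∑ w' : ↥(P : Subgroup G),
        (conj ((ψ w : ℂˣ) : ℂ) - 1) * (((ψ' w' : ℂˣ) : ℂ) - 1) *
          (∑ ζ ∈ T, (ζ : G → ℂ) (w : G) * conj ((ζ : G → ℂ) (w' : G))) := by
    have : ∀ ζ : IrrCharacter G, bC P ζ ψ * conj (bC P ζ ψ') =
        cP⁻¹ * cP⁻¹ * ∑ w : ↥(P : Subgroup G), ∑ w' : ↥(P : Subgroup G),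
          (conj ((ψ w : ℂˣ) : ℂ) - 1) * (((ψ' w' : ℂˣ) : ℂ) - 1) *
            ((ζ : G → ℂ) (w : G) * conj ((ζ : G → ℂ) (w' : G))) := by
      intro ζ
      unfold bC
      rw [map_mul, hcPconj, map_sum]
      rw [mul_mul_mul_comm, Finset.sum_mul_sum]
      congr 1
      refine Finset.sum_congr rfl fun w _ => ?_
      refine Finset.sum_congr rfl fun w' _ => ?_
      rw [map_mul, map_sub, Complex.conj_conj, map_one]
      ring
    rw [Finset.sum_congr rfl (fun ζ _ => this ζ), ← Finset.mul_sum]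
    congr 1
    rw [Finset.sum_comm]
    refine Finset.sum_congr rfl fun w _ => ?_
    rw [Finset.sum_comm]
    refine Finset.sum_congr rfl fun w' _ => ?_
    rw [Finset.mul_sum]
  -- step 2: the kernel
  have h2 : ∑ w : ↥(P : Subgroup G), ∑ w' : ↥(P : Subgroup G),
        (conj ((ψ w : ℂˣ) : ℂ) - 1) * (((ψ' w' : ℂˣ) : ℂ) - 1) *
          (∑ ζ ∈ T, (ζ : G → ℂ) (w : G) * conj ((ζ : G → ℂ) (w' : G))) =
      cP * ∑ w : ↥(P : Subgroup G), (conj ((ψ w : ℂˣ) : ℂ) - 1) *
        ∑ w' : ↥(P : Subgroup G),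
          (if IsConj (w : G) (w' : G) then (((ψ' w' : ℂˣ) : ℂ) - 1) else 0) := by
    rw [Finset.mul_sum]
    refine Finset.sum_congr rfl fun w _ => ?_
    rw [Finset.mul_sum, Finset.mul_sum]
    refine Finset.sum_congr rfl fun w' _ => ?_
    rw [kernel_on_P P hab hfrob hM ψ ψ' w w']
    by_cases hc : IsConj (w : G) (w' : G)
    · rw [if_pos hc, if_pos hc]; ring
    · rw [if_neg hc, if_neg hc]; ring
  -- step 3: conjugates via the normalizer
  have h3 : ∀ w : ↥(P : Subgroup G), (conj ((ψ w : ℂˣ) : ℂ) - 1) *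
        ∑ w' : ↥(P : Subgroup G),
          (if IsConj (w : G) (w' : G) then (((ψ' w' : ℂˣ) : ℂ) - 1) else 0) =
      cC⁻¹ * ∑ n : ↥(Subgroup.normalizer ((P : Subgroup G) : Set G)),
        (conj ((ψ w : ℂˣ) : ℂ) - 1) * ((((ψ'.comp (conjHom p P n)) w : ℂˣ) : ℂ) - 1) := by
    intro w
    by_cases hw : w = 1
    · subst hw
      rw [hom_one_sub]
      simp
    · have h := sum_conj_in_P P hab hfrob w hw (fun w' => ((ψ' w' : ℂˣ) : ℂ) - 1)
      rw [← Finset.mul_sum]
      simp only [MonoidHom.comp_apply]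
      rw [h, ← hcC]
      field_simp
  -- step 4: the sums over `P`
  have h4 : ∀ n : ↥(Subgroup.normalizer ((P : Subgroup G) : Set G)),
      ∑ w : ↥(P : Subgroup G),
        (conj ((ψ w : ℂˣ) : ℂ) - 1) * ((((ψ'.comp (conjHom p P n)) w : ℂˣ) : ℂ) - 1) =
      cP * ((if ψ'.comp (conjHom p P n) = ψ then 1 else 0) + 1) := by
    intro n
    have hne : ψ'.comp (conjHom p P n) ≠ 1 := by
      intro h
      apply hψ'
      ext w
      have := congrArg (fun φ : ↥(P : Subgroup G) →* ℂˣ => φ (conjHom p P n⁻¹ w)) h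
      simp only [MonoidHom.comp_apply, MonoidHom.one_apply] at this
      rw [conjHom_self_inv] at this
      rw [this]; rfl
    exact sum_sub_one_mul P ψ (ψ'.comp (conjHom p P n)) hψ hne
  rw [h1, h2, Finset.sum_congr rfl (fun w _ => h3 w), ← Finset.mul_sum, Finset.sum_comm,
    Finset.sum_congr rfl (fun n _ => h4 n), ← Finset.mul_sum, Finset.sum_add_distrib,
    sum_conjugators P hab hfrob ψ ψ' hψ', Finset.sum_const, Finset.card_univ, nsmul_eq_mul,
    mul_one, ← Nat.card_eq_fintype_card, card_normalizer_eq P m hCN, ← hcC]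
  push_cast
  rw [← hcC]
  field_simp
  ring

end gram2

end Cfsg.Agent.Helper46.BL
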