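import Mathlib
import Cfsg.Prelude.Def_Blocks
import Cfsg.Agent.Lib.Helper46.BL4

/-!
# Brauer–Leonard (helper46), part 5: invariance, orthogonality to the `p`-regular columns and
non-vanishing of the restriction multiplicities
-/

set_option autoImplicit false
set_option linter.unusedSectionVars false
set_option linter.style.haveILetI false
set_option maxHeartbeats 1600000
set_option linter.unusedSimpArgs false

namespace Cfsg.Agent.Helper46.BL

open Cfsg
open Cfsg.Agent.Helper77 Cfsg.Agent.Helper16 Cfsg.Agent.Helper78 Cfsg.Agent.Helper79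
open Cfsg.Agent.Helper46.BSQ
open Cfsg.Agent.Helper74.Lin
open Cfsg.Agent.Helper45.BLGT Cfsg.Agent.Helper2.BLLattice
open scoped ComplexConjugate

universe u

section more

variable {G : Type u} [Group G] [Fintype G] {p : ℕ} [hpf : Fact p.Prime] {M : Ideal AlgInt}
  (P : Sylow p G) [Fintype ↥(P : Subgroup G)] [Fintype (↥(P : Subgroup G) →* ℂˣ)]
  [Fintype ↥(Subgroup.normalizer ((P : Subgroup G) : Set G))]
  (hab : IsMulCommutative P)
  (hfrob : ∀ y : G, y ∈ (P : Subgroup G) → y ≠ 1 →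
    Subgroup.centralizer ({y} : Set G) ⊓ Subgroup.normalizer ((P : Subgroup G) : Set G) =
      Subgroup.centralizer ((P : Subgroup G) : Set G))

/-- invariance under the normalizer -/
theorem bC_rel (ζ : IrrCharacter G) (ψ ψ' : ↥(P : Subgroup G) →* ℂˣ) (h : Rel p P ψ ψ') :
    bC P ζ ψ' = bC P ζ ψ := by
  obtain ⟨n, hn, h⟩ := h
  unfold bC
  congr 1
  symm
  refine Fintype.sum_equiv (conjEquiv P ⟨n, hn⟩) _ _ (fun w => ?_)
  have h1 : ((conjEquiv P ⟨n, hn⟩ w : ↥(P : Subgroup G)) : G) = n * (w : G) * n⁻¹ := rfl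
  rw [h1, irr_class, h w (conjEquiv P ⟨n, hn⟩ w) h1]

/-- orthogonality to the `p`-regular columns -/
theorem sum_reg_mul_bC (hM : IsPModular p M) (g : G) (hg : ¬ p ∣ orderOf g)
    (ψ : ↥(P : Subgroup G) →* ℂˣ) :
    ∑ ζ ∈ (Set.toFinite (principalBlock M G)).toFinset,
      (ζ : G → ℂ) g * conj (bC P ζ ψ) = 0 := by
  classical
  set T := (Set.toFinite (principalBlock M G)).toFinset with hT
  have hcPconj : conj (Nat.card ↥(P : Subgroup G) : ℂ)⁻¹ = (Nat.card ↥(P : Subgroup G) : ℂ)⁻¹ := by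
    rw [map_inv₀, Complex.conj_natCast]
  have h1 : ∀ ζ : IrrCharacter G, (ζ : G → ℂ) g * conj (bC P ζ ψ) =
      (Nat.card ↥(P : Subgroup G) : ℂ)⁻¹ * ∑ w : ↥(P : Subgroup G),
        (((ψ w : ℂˣ) : ℂ) - 1) * ((ζ : G → ℂ) g * conj ((ζ : G → ℂ) (w : G))) := by
    intro ζ
    unfold bC
    rw [map_mul, hcPconj, map_sum, ← mul_assoc, mul_comm _ (Nat.card ↥(P : Subgroup G) : ℂ)⁻¹,
      mul_assoc, Finset.mul_sum]
    congr 1
    refine Finset.sum_congr rfl fun w _ => ?_
    rw [map_mul, map_sub, Complex.conj_conj, map_one]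
    ring
  rw [Finset.sum_congr rfl (fun ζ _ => h1 ζ), ← Finset.mul_sum, Finset.sum_comm]
  have h2 : ∀ w : ↥(P : Subgroup G),
      ∑ ζ ∈ T, (((ψ w : ℂˣ) : ℂ) - 1) * ((ζ : G → ℂ) g * conj ((ζ : G → ℂ) (w : G))) = 0 := by
    intro w
    rw [← Finset.mul_sum]
    by_cases hw : w = 1
    · subst hw
      rw [hom_one_sub', zero_mul]
    · have hw1 : (w : G) ≠ 1 := fun h => hw (Subtype.ext h)
      have hnc : ¬ IsConj (1 : G) (w : G) := fun h => hw1 (isConj_one_left.1 h.symm)
      rw [block_orth_p hM g (w : G) 1 (w : G) (isPPart_one_p g hg)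
        (isPPart_self_p (w : G) (pelement_of_mem P w.2)) hnc, mul_zero]
  rw [Finset.sum_congr rfl (fun w _ => h2 w), Finset.sum_const_zero, mul_zero]

include hab hfrob in
/-- no character of the principal block vanishes on `P ∖ 1` -/
theorem exists_bC_ne_zero (hM : IsPModular p M) (hP1 : Nat.card ↥(P : Subgroup G) ≠ 1)
    (ζ : IrrCharacter G) (hζ : ζ ∈ principalBlock M G) :
    ∃ ψ : ↥(P : Subgroup G) →* ℂˣ, ψ ≠ 1 ∧ bC P ζ ψ ≠ 0 := by
  classical
  by_contra hcon
  push Not at hcon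
  have hall : ∀ ψ : ↥(P : Subgroup G) →* ℂˣ, bC P ζ ψ = 0 := by
    intro ψ
    by_cases hψ : ψ = 1
    · rw [hψ, bC_one]
    · exact hcon ψ hψ
  -- a non-identity element of `P`
  have hnt : Nontrivial ↥(P : Subgroup G) := by
    rw [← Finite.one_lt_card_iff_nontrivial]
    have : 0 < Nat.card ↥(P : Subgroup G) := Nat.card_pos
    omega
  obtain ⟨y, hy⟩ := exists_ne (1 : ↥(P : Subgroup G))
  have hy1 : (y : G) ≠ 1 := fun h => hy (Subtype.ext h)
  have hval : (ζ : G → ℂ) (y : G) = 0 := by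
    rw [val_eq_sum_bC P (comm_of_hab P hab) ζ y hy]
    refine Finset.sum_eq_zero fun ψ _ => ?_
    rw [hall ψ, zero_mul]
  -- the central characters
  have hsb : SameBlock M (fun _ : G => (1 : ℂ)) (ζ : G → ℂ) := hζ
  have h1 := hsb (y : G)
  unfold centralChar at h1
  rw [hval, mul_zero, zero_div, sub_zero, mul_one, div_one] at h1
  rw [memLocalIdeal_natCast_iff hM] at h1
  -- but the index of the centralizer is prime to `p`
  have hfact := (nilCent_of_frob P hab hfrob (y : G) y.2 hy1).2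
  have hmul := Subgroup.card_mul_index (Subgroup.centralizer ({(y : G)} : Set G))
  have hidx0 : (Subgroup.centralizer ({(y : G)} : Set G)).index ≠ 0 := Subgroup.index_ne_zero_of_finite
  have hc0 : Nat.card (Subgroup.centralizer ({(y : G)} : Set G)) ≠ 0 := Nat.card_pos.ne'
  have h2 : ((Nat.card (Subgroup.centralizer ({(y : G)} : Set G))) * (Subgroup.centralizer ({(y : G)} : Set G)).index).factorization p = (Nat.card G).factorization p := congrArg (fun n : ℕ => n.factorization p) hmul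
  rw [Nat.factorization_mul hc0 hidx0, Finsupp.add_apply, hfact] at h2
  have h3 : (Subgroup.centralizer ({(y : G)} : Set G)).index.factorization p = 0 := by omega
  have h4 := (Nat.factorization_eq_zero_iff _ p).1 h3
  rcases h4 with h4 | h4 | h4
  · exact h4 hpf.out
  · exact h4 h1
  · exact hidx0 h4

end more

end Cfsg.Agent.Helper46.BL
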