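import Mathlib
import Cfsg.Prelude.Def_Blocks
import Cfsg.Agent.Lib.Helper46.BL5

/-!
# Brauer–Leonard (helper46), part 6: the exceptional characters of the principal block
-/

set_option autoImplicit false
set_option linter.unusedSectionVars false
set_option linter.style.haveILetI false
set_option maxHeartbeats 1600000
set_option linter.unusedSimpArgs false

namespace Cfsg.Agent.Helper46.BL

open Cfsg
open Cfsg.Agent.Helper77 Cfsg.Agent.Helper16 Cfsg.Agent.Helper78 Cfsg.Agent.Helper79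
open Cfsg.Agent.Helper46.BSQ
open Cfsg.Agent.Helper74.Lin
open Cfsg.Agent.Helper45.BLGT Cfsg.Agent.Helper2.BLLattice
open scoped ComplexConjugate

universe u

section struct

variable {G : Type u} [Group G] [Fintype G] {p : ℕ} [hpf : Fact p.Prime]
  (P : Sylow p G) [Fintype ↥(P : Subgroup G)] [Fintype (↥(P : Subgroup G) →* ℂˣ)]
  [Fintype ↥(Subgroup.normalizer ((P : Subgroup G) : Set G))]

/-- the shape of the restriction multiplicities of the principal block -/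
structure BLData (M : Ideal AlgInt) where
  ε : ℤ
  d₀ : ℤ
  a₀ : IrrCharacter G → ℤ
  ζ : (↥(P : Subgroup G) →* ℂˣ) → IrrCharacter G
  hε : ε = 1 ∨ ε = -1
  hmem : ∀ ψ : ↥(P : Subgroup G) →* ℂˣ, ψ ≠ 1 → ζ ψ ∈ principalBlock M G
  hinj : ∀ ψ ψ' : ↥(P : Subgroup G) →* ℂˣ, ψ ≠ 1 → ψ' ≠ 1 → (ζ ψ = ζ ψ' ↔ Rel p P ψ ψ')
  hb1 : ∀ ψ : ↥(P : Subgroup G) →* ℂˣ, ψ ≠ 1 → bC P (ζ ψ) ψ = ((a₀ (ζ ψ) + ε : ℤ) : ℂ)
  hb0 : ∀ ψ : ↥(P : Subgroup G) →* ℂˣ, ψ ≠ 1 → ∀ χ ∈ principalBlock M G, χ ≠ ζ ψ →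
    bC P χ ψ = ((a₀ χ : ℤ) : ℂ)
  hd : ∀ ψ : ↥(P : Subgroup G) →* ℂˣ, ψ ≠ 1 → a₀ (ζ ψ) = d₀

variable {M : Ideal AlgInt}
  (hab : IsMulCommutative P)
  (hfrob : ∀ y : G, y ∈ (P : Subgroup G) → y ≠ 1 →
    Subgroup.centralizer ({y} : Set G) ⊓ Subgroup.normalizer ((P : Subgroup G) : Set G) =
      Subgroup.centralizer ((P : Subgroup G) : Set G))

include hab hfrob in
theorem card_hom_fintype :
    Fintype.card (↥(P : Subgroup G) →* ℂˣ) = Nat.card ↥(P : Subgroup G) := by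
  rw [← Nat.card_eq_fintype_card]
  exact card_hom_sylow p P hab hfrob

include hab hfrob in
theorem card_nontrivial_hom :
    (Finset.univ.filter (fun ψ : ↥(P : Subgroup G) →* ℂˣ => ψ ≠ 1)).card =
      Nat.card ↥(P : Subgroup G) - 1 := by
  classical
  rw [Finset.filter_ne', Finset.card_erase_of_mem (Finset.mem_univ _), Finset.card_univ,
    card_hom_fintype P hab hfrob]

include hab hfrob in
theorem card_filter_rel (m : ℕ)
    (hCN : (Subgroup.centralizer ((P : Subgroup G) : Set G)).relIndex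
      (Subgroup.normalizer ((P : Subgroup G) : Set G)) = m)
    (ψ₀ : ↥(P : Subgroup G) →* ℂˣ) (hψ₀ : ψ₀ ≠ 1) [DecidablePred (fun ψ => Rel p P ψ₀ ψ)] :
    (Finset.univ.filter (fun ψ : ↥(P : Subgroup G) →* ℂˣ => Rel p P ψ₀ ψ)).card = m := by
  classical
  have h := card_rel_class p P hab hfrob m hCN ψ₀ hψ₀
  rw [Nat.card_eq_fintype_card, Fintype.card_subtype] at h
  rw [← h]

include hab hfrob in
/-- there are at least two classes of non-trivial linear characters -/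
theorem exists_not_rel (m : ℕ) (hm2 : m + 1 < Nat.card ↥(P : Subgroup G))
    (hCN : (Subgroup.centralizer ((P : Subgroup G) : Set G)).relIndex
      (Subgroup.normalizer ((P : Subgroup G) : Set G)) = m)
    (ψ₀ : ↥(P : Subgroup G) →* ℂˣ) (hψ₀ : ψ₀ ≠ 1) :
    ∃ ψ' : ↥(P : Subgroup G) →* ℂˣ, ψ' ≠ 1 ∧ ¬ Rel p P ψ₀ ψ' := by
  classical
  by_contra hcon
  push Not at hcon
  have hsub : Finset.univ.filter (fun ψ : ↥(P : Subgroup G) →* ℂˣ => ψ ≠ 1) ⊆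
      Finset.univ.filter (fun ψ : ↥(P : Subgroup G) →* ℂˣ => Rel p P ψ₀ ψ) := by
    intro ψ hψ
    simp only [Finset.mem_filter, Finset.mem_univ, true_and] at hψ ⊢
    exact hcon ψ hψ
  have h := Finset.card_le_card hsub
  rw [card_nontrivial_hom P hab hfrob, card_filter_rel P hab hfrob m hCN ψ₀ hψ₀] at h
  omega

include hab hfrob in
theorem exists_nontrivial_hom (hP1 : Nat.card ↥(P : Subgroup G) ≠ 1) :
    ∃ ψ : ↥(P : Subgroup G) →* ℂˣ, ψ ≠ 1 := by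
  classical
  have h := card_nontrivial_hom P hab hfrob
  have hpos : 0 < Nat.card ↥(P : Subgroup G) := Nat.card_pos
  have h2 : 0 < (Finset.univ.filter (fun ψ : ↥(P : Subgroup G) →* ℂˣ => ψ ≠ 1)).card := by
    rw [h]; omega
  obtain ⟨ψ, hψ⟩ := Finset.card_pos.1 h2
  exact ⟨ψ, (Finset.mem_filter.1 hψ).2⟩

theorem bC_conj (ζ : IrrCharacter G) (ψ : ↥(P : Subgroup G) →* ℂˣ) :
    conj (bC P ζ ψ) = bC P ζ ψ := by
  obtain ⟨k, hk⟩ := bC_int P ζ ψ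
  rw [hk, map_intCast]

/-- the multiplicities of the trivial character -/
theorem bC_triv (ψ : ↥(P : Subgroup G) →* ℂˣ) (hψ : ψ ≠ 1) :
    bC P (trivIrr G) ψ = -1 := by
  classical
  have hP : (Nat.card ↥(P : Subgroup G) : ℂ) ≠ 0 := by
    have : 0 < Nat.card ↥(P : Subgroup G) := Nat.card_pos
    exact_mod_cast this.ne'
  unfold bC
  have h1 := hom_orth (1 : ↥(P : Subgroup G) →* ℂˣ) ψ
  rw [if_neg (fun h => hψ h.symm)] at h1
  simp only [MonoidHom.one_apply, Units.val_one, one_mul] at h1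
  have h2 : ∀ w : ↥(P : Subgroup G), ((trivIrr G : IrrCharacter G) : G → ℂ) (w : G) *
      (conj ((ψ w : ℂˣ) : ℂ) - 1) = conj ((ψ w : ℂˣ) : ℂ) - 1 := by
    intro w
    rw [trivIrr_apply, one_mul]
  simp_rw [h2]
  rw [Finset.sum_sub_distrib, h1, Finset.sum_const, Finset.card_univ, zero_sub, nsmul_eq_mul,
    mul_one, ← Nat.card_eq_fintype_card, mul_neg, inv_mul_cancel₀ hP]

include hab hfrob in
/-- **The exceptional characters of the principal block.** -/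
theorem exists_blData (hM : IsPModular p M) (hP1 : Nat.card ↥(P : Subgroup G) ≠ 1) (m : ℕ)
    (hm2 : m + 1 < Nat.card ↥(P : Subgroup G))
    (hCN : (Subgroup.centralizer ((P : Subgroup G) : Set G)).relIndex
      (Subgroup.normalizer ((P : Subgroup G) : Set G)) = m) :
    Nonempty (BLData P M) := by
  classical
  set T := (Set.toFinite (principalBlock M G)).toFinset with hT
  have hTmem : ∀ χ, χ ∈ T ↔ χ ∈ principalBlock M G := fun χ => Set.Finite.mem_toFinset _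
  choose bZ hbZ using fun (ζ : IrrCharacter G) (ψ : ↥(P : Subgroup G) →* ℂˣ) => bC_int P ζ ψ
  have hRe := rel_equivalence p P hab hfrob
  -- two unrelated
  have htwo : ∃ ψ ψ' : {ψ : ↥(P : Subgroup G) →* ℂˣ // ψ ≠ 1}, ¬ Rel p P ψ.1 ψ'.1 := by
    obtain ⟨ψ₀, hψ₀⟩ := exists_nontrivial_hom P hab hfrob hP1
    obtain ⟨ψ', hψ', hn⟩ := exists_not_rel P hab hfrob m hm2 hCN ψ₀ hψ₀
    exact ⟨⟨ψ₀, hψ₀⟩, ⟨ψ', hψ'⟩, hn⟩
  have hbR : ∀ ψ ψ' : {ψ : ↥(P : Subgroup G) →* ℂˣ // ψ ≠ 1}, Rel p P ψ.1 ψ'.1 →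
      (fun i : ↥T => bZ i.1 ψ.1) = (fun i : ↥T => bZ i.1 ψ'.1) := by
    intro ψ ψ' h
    funext i
    apply Int.cast_injective (α := ℂ)
    rw [← hbZ, ← hbZ]
    exact (bC_rel P i.1 ψ.1 ψ'.1 h).symm
  have hgram : ∀ ψ ψ' : {ψ : ↥(P : Subgroup G) →* ℂˣ // ψ ≠ 1},
      ∑ i : ↥T, bZ i.1 ψ.1 * bZ i.1 ψ'.1 = (m : ℤ) + if Rel p P ψ.1 ψ'.1 then 1 else 0 := by
    intro ψ ψ'
    apply Int.cast_injective (α := ℂ)
    have hg := gram_bC P hab hfrob hM m hCN ψ.1 ψ'.1 ψ.2 ψ'.2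
    rw [Int.cast_sum, Finset.sum_coe_sort T (fun ζ => ((bZ ζ ψ.1 * bZ ζ ψ'.1 : ℤ) : ℂ))]
    have h1 : ∀ ζ ∈ T, ((bZ ζ ψ.1 * bZ ζ ψ'.1 : ℤ) : ℂ) = bC P ζ ψ.1 * conj (bC P ζ ψ'.1) := by
      intro ζ _
      rw [bC_conj, hbZ, hbZ, Int.cast_mul]
    rw [Finset.sum_congr rfl h1, hg]
    by_cases hr : Rel p P ψ.1 ψ'.1
    · rw [if_pos hr, if_pos hr]; push_cast; rfl
    · rw [if_neg hr, if_neg hr]; push_cast; rfl
  have hdeg : ∀ ψ : {ψ : ↥(P : Subgroup G) →* ℂˣ // ψ ≠ 1},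
      ∑ i : ↥T, (charDegree (i.1 : G → ℂ) : ℤ) * bZ i.1 ψ.1 = 0 := by
    intro ψ
    apply Int.cast_injective (α := ℂ)
    have hg := sum_reg_mul_bC (M := M) P hM 1
      (by rw [orderOf_one]; exact fun h => hpf.out.one_lt.ne' (Nat.dvd_one.1 h)) ψ.1
    rw [Int.cast_sum, Finset.sum_coe_sort T
      (fun ζ => (((charDegree (ζ : G → ℂ) : ℤ) * bZ ζ ψ.1 : ℤ) : ℂ)), Int.cast_zero, ← hg]
    refine Finset.sum_congr rfl fun ζ _ => ?_
    rw [bC_conj, hbZ, (irr_one_eq ζ).1]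
    push_cast
    rfl
  obtain ⟨ε, d, a, ζ₀, hε, hζ, hb, hd⟩ := lattice_core (ι := ↥T)
    (Λ := {ψ : ↥(P : Subgroup G) →* ℂˣ // ψ ≠ 1})
    (fun ψ ψ' => Rel p P ψ.1 ψ'.1)
    ⟨fun ψ => hRe.refl ψ.1, fun h => hRe.symm h, fun h h' => hRe.trans h h'⟩
    (fun ψ i => bZ i.1 ψ.1) (m : ℤ) (fun i => (charDegree (i.1 : G → ℂ) : ℤ))
    (fun i => by exact_mod_cast (irr_one_eq i.1).2)
    hbR hgram hdeg htwo
  -- build the data
  have hζT : ∀ ψ : {ψ : ↥(P : Subgroup G) →* ℂˣ // ψ ≠ 1}, (ζ₀ ψ).1 ∈ principalBlock M G :=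
    fun ψ => (hTmem _).1 (ζ₀ ψ).2
  refine ⟨{
    ε := ε
    d₀ := d
    a₀ := fun χ => if h : χ ∈ T then a ⟨χ, h⟩ else 0
    ζ := fun ψ => if h : ψ ≠ 1 then (ζ₀ ⟨ψ, h⟩).1 else trivIrr G
    hε := hε
    hmem := ?_
    hinj := ?_
    hb1 := ?_
    hb0 := ?_
    hd := ?_ }⟩
  · intro ψ hψ
    rw [dif_pos hψ]
    exact hζT _
  · intro ψ ψ' hψ hψ'
    rw [dif_pos hψ, dif_pos hψ', ← hζ ⟨ψ, hψ⟩ ⟨ψ', hψ'⟩]
    exact ⟨fun h => Subtype.ext h, fun h => by rw [h]⟩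
  · intro ψ hψ
    rw [dif_pos hψ, dif_pos (ζ₀ ⟨ψ, hψ⟩).2, hbZ]
    have := hb ⟨ψ, hψ⟩ (ζ₀ ⟨ψ, hψ⟩)
    rw [if_pos rfl] at this
    simp only at this
    rw [this]
  · intro ψ hψ χ hχ hne
    rw [dif_pos hψ] at hne
    rw [dif_pos ((hTmem χ).2 hχ), hbZ]
    have := hb ⟨ψ, hψ⟩ ⟨χ, (hTmem χ).2 hχ⟩
    rw [if_neg (fun h => hne (congrArg Subtype.val h)), add_zero] at this
    simp only at this
    rw [this]
  · intro ψ hψ
    rw [dif_pos hψ, dif_pos (ζ₀ ⟨ψ, hψ⟩).2]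
    exact hd ⟨ψ, hψ⟩

end struct

end Cfsg.Agent.Helper46.BL
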