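import Mathlib
import Cfsg.Prelude.Def_Blocks
import Cfsg.Agent.Lib.Helper46.BL6

/-!
# Brauer–Leonard (helper46), part 7: consequences of the shape of the restriction multiplicities
-/

set_option autoImplicit false
set_option linter.unusedSectionVars false
set_option linter.style.haveILetI false
set_option maxHeartbeats 1600000
set_option linter.unusedSimpArgs false

namespace Cfsg.Agent.Helper46.BL

open Cfsg
open Cfsg.Agent.Helper77 Cfsg.Agent.Helper16 Cfsg.Agent.Helper78 Cfsg.Agent.Helper79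
open Cfsg.Agent.Helper46.BSQ
open Cfsg.Agent.Helper74.Lin
open Cfsg.Agent.Helper45.BLGT Cfsg.Agent.Helper2.BLLattice
open scoped ComplexConjugate

universe u

section conseq

variable {G : Type u} [Group G] [Fintype G] {p : ℕ} [hpf : Fact p.Prime] {M : Ideal AlgInt}
  {P : Sylow p G} [Fintype ↥(P : Subgroup G)] [Fintype (↥(P : Subgroup G) →* ℂˣ)]
  [Fintype ↥(Subgroup.normalizer ((P : Subgroup G) : Set G))]
  (hab : IsMulCommutative P)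
  (hfrob : ∀ y : G, y ∈ (P : Subgroup G) → y ≠ 1 →
    Subgroup.centralizer ({y} : Set G) ⊓ Subgroup.normalizer ((P : Subgroup G) : Set G) =
      Subgroup.centralizer ((P : Subgroup G) : Set G))

namespace BLData

variable (D : BLData P M)

theorem hb (ψ : ↥(P : Subgroup G) →* ℂˣ) (hψ : ψ ≠ 1) (χ : IrrCharacter G)
    (hχ : χ ∈ principalBlock M G) [Decidable (χ = D.ζ ψ)] :
    bC P χ ψ = ((D.a₀ χ + if χ = D.ζ ψ then D.ε else 0 : ℤ) : ℂ) := by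
  by_cases h : χ = D.ζ ψ
  · rw [if_pos h, h]; exact D.hb1 ψ hψ
  · rw [if_neg h, add_zero]; exact D.hb0 ψ hψ χ hχ h

open Classical in
/-- the exceptional characters -/
noncomputable def Yf : Finset (IrrCharacter G) :=
  (Finset.univ.filter (fun ψ : ↥(P : Subgroup G) →* ℂˣ => ψ ≠ 1)).image D.ζ

theorem mem_Yf (η : IrrCharacter G) :
    η ∈ D.Yf ↔ ∃ ψ : ↥(P : Subgroup G) →* ℂˣ, ψ ≠ 1 ∧ D.ζ ψ = η := by
  classical
  unfold Yf
  simp only [Finset.mem_image, Finset.mem_filter, Finset.mem_univ, true_and]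

theorem Yf_subset : D.Yf ⊆ (Set.toFinite (principalBlock M G)).toFinset := by
  intro η hη
  obtain ⟨ψ, hψ, rfl⟩ := (D.mem_Yf η).1 hη
  exact (Set.Finite.mem_toFinset _).2 (D.hmem ψ hψ)

include hab in
/-- the values on `P ∖ 1` -/
theorem val (χ : IrrCharacter G) (hχ : χ ∈ principalBlock M G) (y : ↥(P : Subgroup G))
    (hy : y ≠ 1) [DecidablePred (fun ψ : ↥(P : Subgroup G) →* ℂˣ => ψ ≠ 1 ∧ D.ζ ψ = χ)] :
    (χ : G → ℂ) (y : G) = -(D.a₀ χ : ℂ) + (D.ε : ℂ) *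
      ∑ ψ ∈ Finset.univ.filter (fun ψ : ↥(P : Subgroup G) →* ℂˣ => ψ ≠ 1 ∧ D.ζ ψ = χ),
        ((ψ y : ℂˣ) : ℂ) := by
  classical
  rw [val_eq_sum_bC P (comm_of_hab P hab) χ y hy]
  have h1 : ∀ ψ : ↥(P : Subgroup G) →* ℂˣ, bC P χ ψ * ((ψ y : ℂˣ) : ℂ) =
      ((D.a₀ χ : ℂ) * ((ψ y : ℂˣ) : ℂ) - if ψ = 1 then (D.a₀ χ : ℂ) else 0) +
      (D.ε : ℂ) * (if ψ ≠ 1 ∧ D.ζ ψ = χ then ((ψ y : ℂˣ) : ℂ) else 0) := by
    intro ψ
    by_cases hψ : ψ = 1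
    · subst hψ
      rw [bC_one, if_pos rfl, if_neg (fun h => h.1 rfl)]
      simp
    · rw [D.hb ψ hψ χ hχ, if_neg hψ]
      by_cases h : χ = D.ζ ψ
      · rw [if_pos h, if_pos ⟨hψ, h.symm⟩]; push_cast; ring
      · rw [if_neg h, if_neg (fun h' => h h'.2.symm)]; push_cast; ring
  simp_rw [h1]
  rw [Finset.sum_add_distrib, Finset.sum_sub_distrib, ← Finset.mul_sum, ← Finset.mul_sum,
    dual_sum (comm_of_hab P hab) y, if_neg hy, Finset.sum_ite_eq' Finset.univ (1 : ↥(P : Subgroup G) →* ℂˣ)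
      (fun _ => (D.a₀ χ : ℂ)), if_pos (Finset.mem_univ _), ← Finset.sum_filter]
  have e : Finset.univ.filter (fun ψ : ↥(P : Subgroup G) →* ℂˣ => ψ ≠ 1 ∧ D.ζ ψ = χ) =
      Finset.univ.filter (fun ψ : ↥(P : Subgroup G) →* ℂˣ => ψ ≠ 1 ∧ D.ζ ψ = χ) := by
    ext ψ; simp only [Finset.mem_filter, Finset.mem_univ, true_and]
  rw [e]
  ring

include hab hfrob in
theorem filter_eq (ψ₀ : ↥(P : Subgroup G) →* ℂˣ) (hψ₀ : ψ₀ ≠ 1)
    [DecidablePred (fun ψ : ↥(P : Subgroup G) →* ℂˣ => ψ ≠ 1 ∧ D.ζ ψ = D.ζ ψ₀)]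
    [DecidablePred (fun ψ : ↥(P : Subgroup G) →* ℂˣ => Rel p P ψ₀ ψ)] :
    Finset.univ.filter (fun ψ : ↥(P : Subgroup G) →* ℂˣ => ψ ≠ 1 ∧ D.ζ ψ = D.ζ ψ₀) =
      Finset.univ.filter (fun ψ : ↥(P : Subgroup G) →* ℂˣ => Rel p P ψ₀ ψ) := by
  ext ψ
  simp only [Finset.mem_filter, Finset.mem_univ, true_and]
  constructor
  · rintro ⟨h1, h2⟩
    exact (D.hinj ψ₀ ψ hψ₀ h1).1 h2.symm
  · intro h
    have hψ : ψ ≠ 1 := by
      rintro rfl
      exact hψ₀ ((rel_one p P hab hfrob ψ₀).1 h)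
    exact ⟨hψ, ((D.hinj ψ₀ ψ hψ₀ hψ).2 h).symm⟩

include hab hfrob in
/-- the non-exceptional characters are constant on the sections through `P ∖ 1` -/
theorem val_X (hM : IsPModular p M) (χ : IrrCharacter G) (hχ : χ ∈ principalBlock M G)
    (hχY : χ ∉ D.Yf) (z y : G) (hzy : IsPPart p z y) (hy : y ∈ (P : Subgroup G)) (hy1 : y ≠ 1) :
    (χ : G → ℂ) z = ((-D.a₀ χ : ℤ) : ℂ) := by
  classical
  rw [val_section hM (nilCent_of_frob P hab hfrob) χ hχ z y hzy hy hy1]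
  have h := D.val hab χ hχ ⟨y, hy⟩ (fun h => hy1 (congrArg Subtype.val h))
  rw [show ((⟨y, hy⟩ : ↥(P : Subgroup G)) : G) = y from rfl] at h
  rw [h, Finset.filter_false_of_mem, Finset.sum_empty, mul_zero, add_zero]
  · push_cast; rfl
  · intro ψ _ hψ
    exact hχY ((D.mem_Yf χ).2 ⟨ψ, hψ.1, hψ.2⟩)

include hab hfrob in
/-- the exceptional characters on the sections through `P ∖ 1` -/
theorem val_Y (hM : IsPModular p M) (ψ₀ : ↥(P : Subgroup G) →* ℂˣ) (hψ₀ : ψ₀ ≠ 1)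
    (z : G) (y : ↥(P : Subgroup G)) (hzy : IsPPart p z (y : G)) (hy1 : (y : G) ≠ 1)
    [DecidablePred (fun ψ : ↥(P : Subgroup G) →* ℂˣ => Rel p P ψ₀ ψ)] :
    (D.ζ ψ₀ : G → ℂ) z = ((-D.d₀ : ℤ) : ℂ) + (D.ε : ℂ) *
      ∑ ψ ∈ Finset.univ.filter (fun ψ : ↥(P : Subgroup G) →* ℂˣ => Rel p P ψ₀ ψ),
        ((ψ y : ℂˣ) : ℂ) := by
  classical
  rw [val_section hM (nilCent_of_frob P hab hfrob) (D.ζ ψ₀) (D.hmem ψ₀ hψ₀) z y hzy y.2 hy1]
  have h := D.val hab (D.ζ ψ₀) (D.hmem ψ₀ hψ₀) y (fun h => hy1 (by rw [h]; rfl))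
  rw [h, D.filter_eq hab hfrob ψ₀ hψ₀, D.hd ψ₀ hψ₀]
  push_cast
  rfl

include hab hfrob in
/-- the norm relation -/
theorem norm (hM : IsPModular p M) (m : ℕ)
    (hCN : (Subgroup.centralizer ((P : Subgroup G) : Set G)).relIndex
      (Subgroup.normalizer ((P : Subgroup G) : Set G)) = m)
    (hnt : ∃ ψ : ↥(P : Subgroup G) →* ℂˣ, ψ ≠ 1) :
    ∑ χ ∈ (Set.toFinite (principalBlock M G)).toFinset, D.a₀ χ ^ 2 + 2 * D.ε * D.d₀ = (m : ℤ) := by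
  classical
  set T := (Set.toFinite (principalBlock M G)).toFinset with hT
  have hTmem : ∀ χ, χ ∈ T ↔ χ ∈ principalBlock M G := fun χ => Set.Finite.mem_toFinset _
  obtain ⟨ψ, hψ⟩ := hnt
  have hg := gram_bC P hab hfrob hM m hCN ψ ψ hψ hψ
  rw [if_pos ((rel_equivalence p P hab hfrob).refl ψ)] at hg
  have h1 : ∀ χ ∈ T, bC P χ ψ * conj (bC P χ ψ) =
      (((D.a₀ χ ^ 2 + if χ = D.ζ ψ then 2 * D.a₀ χ * D.ε + D.ε ^ 2 else 0 : ℤ)) : ℂ) := by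
    intro χ hχ
    rw [bC_conj, D.hb ψ hψ χ ((hTmem χ).1 hχ)]
    by_cases h : χ = D.ζ ψ
    · rw [if_pos h, if_pos h]; push_cast; ring
    · rw [if_neg h, if_neg h]; push_cast; ring
  rw [Finset.sum_congr rfl h1, ← Int.cast_sum] at hg
  have hg' : ∑ χ ∈ T, (D.a₀ χ ^ 2 + if χ = D.ζ ψ then 2 * D.a₀ χ * D.ε + D.ε ^ 2 else 0) =
      (m : ℤ) + 1 := by exact_mod_cast hg
  rw [Finset.sum_add_distrib, Finset.sum_ite_eq' T (D.ζ ψ)
    (fun χ => 2 * D.a₀ χ * D.ε + D.ε ^ 2), if_pos ((hTmem _).2 (D.hmem ψ hψ)), D.hd ψ hψ] at hg'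
  have hε2 : D.ε ^ 2 = 1 := by
    rcases D.hε with h | h <;> rw [h] <;> norm_num
  rw [hε2] at hg'
  linarith

include hab hfrob in
/-- the number of exceptional characters -/
theorem card_Yf (m : ℕ)
    (hCN : (Subgroup.centralizer ((P : Subgroup G) : Set G)).relIndex
      (Subgroup.normalizer ((P : Subgroup G) : Set G)) = m) :
    D.Yf.card * m = Nat.card ↥(P : Subgroup G) - 1 := by
  classical
  rw [← card_nontrivial_hom P hab hfrob]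
  have h := Finset.card_eq_sum_card_image D.ζ
    (Finset.univ.filter (fun ψ : ↥(P : Subgroup G) →* ℂˣ => ψ ≠ 1))
  have hY : (Finset.univ.filter (fun ψ : ↥(P : Subgroup G) →* ℂˣ => ψ ≠ 1)).image D.ζ = D.Yf := by
    unfold Yf
    congr
  rw [hY] at h
  rw [h, Finset.sum_const_nat (m := m), ]
  intro η hη
  obtain ⟨ψ₀, hψ₀, rfl⟩ := (D.mem_Yf η).1 hη
  rw [Finset.filter_filter, D.filter_eq hab hfrob ψ₀ hψ₀]
  exact card_filter_rel P hab hfrob m hCN ψ₀ hψ₀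

/-- the relation on the `p`-regular elements -/
theorem reg (hM : IsPModular p M) (g : G) (hg : ¬ p ∣ orderOf g)
    (ψ : ↥(P : Subgroup G) →* ℂˣ) (hψ : ψ ≠ 1) :
    ∑ χ ∈ (Set.toFinite (principalBlock M G)).toFinset, (D.a₀ χ : ℂ) * (χ : G → ℂ) g +
      (D.ε : ℂ) * (D.ζ ψ : G → ℂ) g = 0 := by
  classical
  set T := (Set.toFinite (principalBlock M G)).toFinset with hT
  have hTmem : ∀ χ, χ ∈ T ↔ χ ∈ principalBlock M G := fun χ => Set.Finite.mem_toFinset _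
  have h := sum_reg_mul_bC (M := M) P hM g hg ψ
  have h1 : ∀ χ ∈ T, (χ : G → ℂ) g * conj (bC P χ ψ) =
      (D.a₀ χ : ℂ) * (χ : G → ℂ) g + if χ = D.ζ ψ then (D.ε : ℂ) * (χ : G → ℂ) g else 0 := by
    intro χ hχ
    rw [bC_conj, D.hb ψ hψ χ ((hTmem χ).1 hχ)]
    by_cases h : χ = D.ζ ψ
    · rw [if_pos h, if_pos h]; push_cast; ring
    · rw [if_neg h, if_neg h]; push_cast; ring
  rw [Finset.sum_congr rfl h1, Finset.sum_add_distrib, Finset.sum_ite_eq' T (D.ζ ψ)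
    (fun χ => (D.ε : ℂ) * (χ : G → ℂ) g), if_pos ((hTmem _).2 (D.hmem ψ hψ))] at h
  exact h

/-- the exceptional characters agree on the `p`-regular elements -/
theorem reg_agree (hM : IsPModular p M) (g : G) (hg : ¬ p ∣ orderOf g)
    (ψ ψ' : ↥(P : Subgroup G) →* ℂˣ) (hψ : ψ ≠ 1) (hψ' : ψ' ≠ 1) :
    (D.ζ ψ : G → ℂ) g = (D.ζ ψ' : G → ℂ) g := by
  have h1 := D.reg hM g hg ψ hψ
  have h2 := D.reg hM g hg ψ' hψ'
  have hε : (D.ε : ℂ) ≠ 0 := by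
    rcases D.hε with h | h <;> rw [h] <;> norm_num
  have h3 : (D.ε : ℂ) * (D.ζ ψ : G → ℂ) g = (D.ε : ℂ) * (D.ζ ψ' : G → ℂ) g := by
    linear_combination h1 - h2
  exact mul_left_cancel₀ hε h3

include hab hfrob in
/-- the trivial character is not exceptional -/
theorem triv_not_mem_Yf (hM : IsPModular p M) (m : ℕ)
    (hm2 : m + 1 < Nat.card ↥(P : Subgroup G))
    (hCN : (Subgroup.centralizer ((P : Subgroup G) : Set G)).relIndex
      (Subgroup.normalizer ((P : Subgroup G) : Set G)) = m) :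
    trivIrr G ∉ D.Yf := by
  classical
  haveI := isPrime_of_isPModular hM
  intro h
  obtain ⟨ψ₀, hψ₀, hζ⟩ := (D.mem_Yf _).1 h
  obtain ⟨ψ', hψ', hn⟩ := exists_not_rel P hab hfrob m hm2 hCN ψ₀ hψ₀
  have h1 := D.hb1 ψ₀ hψ₀
  rw [hζ, bC_triv P ψ₀ hψ₀] at h1
  have hne : trivIrr G ≠ D.ζ ψ' := by
    rw [← hζ]
    exact fun h' => hn ((D.hinj ψ₀ ψ' hψ₀ hψ').1 h')
  have h2 := D.hb0 ψ' hψ' (trivIrr G) (trivIrr_mem_principalBlock M) hne
  rw [bC_triv P ψ' hψ'] at h2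
  have h1' : (-1 : ℤ) = D.a₀ (trivIrr G) + D.ε := by exact_mod_cast h1
  have h2' : (-1 : ℤ) = D.a₀ (trivIrr G) := by exact_mod_cast h2
  rcases D.hε with h | h <;> omega

include hab hfrob in
/-- the non-exceptional characters do not vanish on `P ∖ 1` -/
theorem a₀_ne_zero (hM : IsPModular p M) (hP1 : Nat.card ↥(P : Subgroup G) ≠ 1)
    (χ : IrrCharacter G) (hχ : χ ∈ principalBlock M G) (hχY : χ ∉ D.Yf) : D.a₀ χ ≠ 0 := by
  obtain ⟨ψ, hψ, hne⟩ := exists_bC_ne_zero P hab hfrob hM hP1 χ hχ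
  have hχψ : χ ≠ D.ζ ψ := fun h => hχY ((D.mem_Yf χ).2 ⟨ψ, hψ, h.symm⟩)
  rw [D.hb0 ψ hψ χ hχ hχψ] at hne
  intro h0
  rw [h0] at hne
  exact hne (by norm_num)

end BLData

end conseq

end Cfsg.Agent.Helper46.BL
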