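import Mathlib
import Cfsg.Prelude.Def_Blocks
import Cfsg.Agent.Lib.Helper46.BL7

/-!
# Brauer–Leonard (helper46), part 8: the case `|N : C| = 3`
-/

set_option autoImplicit false
set_option linter.unusedSectionVars false
set_option linter.style.haveILetI false
set_option maxHeartbeats 1600000
set_option linter.unusedSimpArgs false

namespace Cfsg.Agent.Helper46.BL

open Cfsg
open Cfsg.Agent.Helper77 Cfsg.Agent.Helper16 Cfsg.Agent.Helper78 Cfsg.Agent.Helper79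
open Cfsg.Agent.Helper46.BSQ
open Cfsg.Agent.Helper74.Lin
open Cfsg.Agent.Helper45.BLGT Cfsg.Agent.Helper2.BLLattice
open scoped ComplexConjugate

universe u

theorem prime_pow_ne_ten (p n : ℕ) (hp : p.Prime) : p ^ n ≠ 10 := by
  intro h
  have h2 : 2 ∣ p ^ n := by rw [h]; norm_num
  have h5 : 5 ∣ p ^ n := by rw [h]; norm_num
  have e2 := (Nat.prime_dvd_prime_iff_eq Nat.prime_two hp).1 (Nat.prime_two.dvd_of_dvd_pow h2)
  have e5 := (Nat.prime_dvd_prime_iff_eq Nat.prime_five hp).1 (Nat.prime_five.dvd_of_dvd_pow h5)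
  omega

section m3

variable {G : Type u} [Group G] [Fintype G] {p : ℕ} [hpf : Fact p.Prime] {M : Ideal AlgInt}
  {P : Sylow p G} [Fintype ↥(P : Subgroup G)] [Fintype (↥(P : Subgroup G) →* ℂˣ)]
  [Fintype ↥(Subgroup.normalizer ((P : Subgroup G) : Set G))]
  (hab : IsMulCommutative P)
  (hfrob : ∀ y : G, y ∈ (P : Subgroup G) → y ≠ 1 →
    Subgroup.centralizer ({y} : Set G) ⊓ Subgroup.normalizer ((P : Subgroup G) : Set G) =
      Subgroup.centralizer ((P : Subgroup G) : Set G))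

namespace BLData

variable (D : BLData P M)

include hab hfrob in
theorem a₀_triv (hM : IsPModular p M) (m : ℕ)
    (hm2 : m + 1 < Nat.card ↥(P : Subgroup G))
    (hCN : (Subgroup.centralizer ((P : Subgroup G) : Set G)).relIndex
      (Subgroup.normalizer ((P : Subgroup G) : Set G)) = m) :
    D.a₀ (trivIrr G) = -1 := by
  haveI := isPrime_of_isPModular hM
  have hP1 : Nat.card ↥(P : Subgroup G) ≠ 1 := by omega
  obtain ⟨ψ, hψ⟩ := exists_nontrivial_hom P hab hfrob hP1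
  have hne : trivIrr G ≠ D.ζ ψ := by
    intro h
    exact D.triv_not_mem_Yf hab hfrob hM m hm2 hCN ((D.mem_Yf _).2 ⟨ψ, hψ, h.symm⟩)
  have h2 := D.hb0 ψ hψ (trivIrr G) (trivIrr_mem_principalBlock M) hne
  rw [bC_triv P ψ hψ] at h2
  have h2' : (-1 : ℤ) = D.a₀ (trivIrr G) := by exact_mod_cast h2
  omega

include hab hfrob in
/-- the sum of the squares over the non-exceptional characters -/
theorem norm_split (hM : IsPModular p M) (m : ℕ)
    (hCN : (Subgroup.centralizer ((P : Subgroup G) : Set G)).relIndex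
      (Subgroup.normalizer ((P : Subgroup G) : Set G)) = m)
    (hP1 : Nat.card ↥(P : Subgroup G) ≠ 1) :
    ∑ χ ∈ (Set.toFinite (principalBlock M G)).toFinset \ D.Yf, D.a₀ χ ^ 2 +
      (D.Yf.card : ℤ) * D.d₀ ^ 2 + 2 * D.ε * D.d₀ = (m : ℤ) := by
  classical
  have hnorm := D.norm hab hfrob hM m hCN (exists_nontrivial_hom P hab hfrob hP1)
  have hsumY : ∑ χ ∈ D.Yf, D.a₀ χ ^ 2 = (D.Yf.card : ℤ) * D.d₀ ^ 2 := by
    have hYd : ∀ η ∈ D.Yf, D.a₀ η ^ 2 = D.d₀ ^ 2 := by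
      intro η hη
      obtain ⟨ψ, hψ, rfl⟩ := (D.mem_Yf η).1 hη
      rw [D.hd ψ hψ]
    rw [Finset.sum_congr rfl hYd, Finset.sum_const, nsmul_eq_mul]
  rw [← hsumY, Finset.sum_sdiff D.Yf_subset]
  exact hnorm

include hab hfrob in
/-- for `m = 3`: either `d₀ = 0`, or `d₀ = -ε` and there are exactly two exceptional characters -/
theorem m3_cases (hM : IsPModular p M) (hm2 : 3 + 1 < Nat.card ↥(P : Subgroup G))
    (hCN : (Subgroup.centralizer ((P : Subgroup G) : Set G)).relIndex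
      (Subgroup.normalizer ((P : Subgroup G) : Set G)) = 3) :
    D.d₀ = 0 ∨ (D.d₀ = -D.ε ∧ D.Yf.card = 2) := by
  classical
  haveI := isPrime_of_isPModular hM
  set T := (Set.toFinite (principalBlock M G)).toFinset with hT
  have hTmem : ∀ χ, χ ∈ T ↔ χ ∈ principalBlock M G := fun χ => Set.Finite.mem_toFinset _
  have hP1 : Nat.card ↥(P : Subgroup G) ≠ 1 := by omega
  have hcard := D.card_Yf hab hfrob 3 hCN
  have hr2 : 2 ≤ D.Yf.card := by omega
  have hns := D.norm_split hab hfrob hM 3 hCN hP1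
  have htriv := D.a₀_triv hab hfrob hM 3 hm2 hCN
  have htrivX : trivIrr G ∈ T \ D.Yf :=
    Finset.mem_sdiff.2 ⟨(hTmem _).2 (trivIrr_mem_principalBlock M),
      D.triv_not_mem_Yf hab hfrob hM 3 hm2 hCN⟩
  have hXne : ∀ χ ∈ T \ D.Yf, D.a₀ χ ≠ 0 := by
    intro χ hχ
    have h := Finset.mem_sdiff.1 hχ
    exact D.a₀_ne_zero hab hfrob hM hP1 χ ((hTmem χ).1 h.1) h.2
  have hXsq : ∀ χ ∈ T \ D.Yf, (1 : ℤ) ≤ D.a₀ χ ^ 2 := by
    intro χ hχ
    have := hXne χ hχ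
    have h2 : 0 < D.a₀ χ ^ 2 := by positivity
    omega
  have hsumX1 : (1 : ℤ) ≤ ∑ χ ∈ T \ D.Yf, D.a₀ χ ^ 2 := by
    calc (1 : ℤ) ≤ D.a₀ (trivIrr G) ^ 2 := hXsq _ htrivX
      _ ≤ ∑ χ ∈ T \ D.Yf, D.a₀ χ ^ 2 :=
        Finset.single_le_sum (f := fun χ => D.a₀ χ ^ 2) (fun χ _ => sq_nonneg _) htrivX
  have hε2 : D.ε ^ 2 = 1 := by
    rcases D.hε with h | h <;> rw [h] <;> norm_num
  by_cases hd0 : D.d₀ = 0
  · exact Or.inl hd0
  right
  have hr2' : (2 : ℤ) ≤ (D.Yf.card : ℤ) := by exact_mod_cast hr2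
  -- `e = ε d₀`
  have hkey : (D.Yf.card : ℤ) * D.d₀ ^ 2 + 2 * D.ε * D.d₀ ≤ 2 := by
    push_cast at hns
    linarith
  have hd : D.d₀ = -D.ε := by
    rcases D.hε with h | h
    · rw [h] at hkey ⊢
      have h1 : D.d₀ ≤ -1 := by
        by_contra hc
        have : 1 ≤ D.d₀ := by omega
        nlinarith
      have h2 : -1 ≤ D.d₀ := by
        by_contra hc
        have : D.d₀ ≤ -2 := by omega
        nlinarith
      omega
    · rw [h] at hkey ⊢
      have h1 : 1 ≤ D.d₀ := by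
        by_contra hc
        have : D.d₀ ≤ -1 := by omega
        nlinarith
      have h2 : D.d₀ ≤ 1 := by
        by_contra hc
        have : 2 ≤ D.d₀ := by omega
        nlinarith
      omega
  refine ⟨hd, ?_⟩
  have hd2 : D.d₀ ^ 2 = 1 := by rw [hd, neg_sq, hε2]
  have hεd : D.ε * D.d₀ = -1 := by rw [hd]; linarith
  have hrle : D.Yf.card ≤ 4 := by
    have : (D.Yf.card : ℤ) ≤ 4 := by
      rw [hd2] at hkey
      linarith
    exact_mod_cast this
  have hr : D.Yf.card = 2 ∨ D.Yf.card = 3 ∨ D.Yf.card = 4 := by omega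
  rcases hr with hr | hr | hr
  · exact hr
  · exfalso
    obtain ⟨n, hn⟩ := (P.isPGroup').exists_card_eq
    have : Nat.card ↥(P : Subgroup G) = 10 := by omega
    rw [this] at hn
    exact prime_pow_ne_ten p n hpf.out hn.symm
  · exfalso
    -- `X = {1}`
    have hsumX : ∑ χ ∈ T \ D.Yf, D.a₀ χ ^ 2 = 1 := by
      rw [hd2, hr] at hns
      push_cast at hns
      linarith
    have hXcard : (T \ D.Yf).card ≤ 1 := by
      have h1 : ((T \ D.Yf).card : ℤ) = ∑ χ ∈ T \ D.Yf, (1 : ℤ) := by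
        rw [Finset.sum_const, nsmul_eq_mul, mul_one]
      have h2 : ∑ χ ∈ T \ D.Yf, (1 : ℤ) ≤ ∑ χ ∈ T \ D.Yf, D.a₀ χ ^ 2 :=
        Finset.sum_le_sum hXsq
      have : ((T \ D.Yf).card : ℤ) ≤ 1 := by linarith
      exact_mod_cast this
    have hXeq : T \ D.Yf = {trivIrr G} := by
      rw [Finset.eq_singleton_iff_unique_mem]
      refine ⟨htrivX, fun χ hχ => ?_⟩
      exact Finset.card_le_one.1 hXcard χ hχ _ htrivX
    obtain ⟨ψ, hψ⟩ := exists_nontrivial_hom P hab hfrob hP1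
    have h1ord : ¬ p ∣ orderOf (1 : G) := by
      rw [orderOf_one]; exact fun h => hpf.out.one_lt.ne' (Nat.dvd_one.1 h)
    have hreg := D.reg hM 1 h1ord ψ hψ
    rw [← Finset.sum_sdiff D.Yf_subset, hXeq, Finset.sum_singleton, htriv, trivIrr_apply] at hreg
    have hY : ∑ χ ∈ D.Yf, (D.a₀ χ : ℂ) * (χ : G → ℂ) 1 =
        (D.Yf.card : ℂ) * ((D.d₀ : ℂ) * (D.ζ ψ : G → ℂ) 1) := by
      rw [← nsmul_eq_mul, ← Finset.sum_const]
      refine Finset.sum_congr rfl fun η' hη' => ?_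
      obtain ⟨ψ', hψ', rfl⟩ := (D.mem_Yf η').1 hη'
      rw [D.hd ψ' hψ', D.reg_agree hM 1 h1ord ψ' ψ hψ' hψ]
    rw [hY, hr, (irr_one_eq (D.ζ ψ)).1, hd] at hreg
    have hreg' : (-1 : ℤ) + 4 * (-D.ε * (charDegree (D.ζ ψ : G → ℂ) : ℤ)) +
        D.ε * (charDegree (D.ζ ψ : G → ℂ) : ℤ) = 0 := by
      have : (((-1 : ℤ) + 4 * (-D.ε * (charDegree (D.ζ ψ : G → ℂ) : ℤ)) +
        D.ε * (charDegree (D.ζ ψ : G → ℂ) : ℤ) : ℤ) : ℂ) = 0 := by
        push_cast
        push_cast at hreg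
        linear_combination hreg
      exact_mod_cast this
    rcases D.hε with h | h <;> rw [h] at hreg' <;> omega

include hab hfrob in
/-- relabelling in the case of two exceptional characters with `d₀ = -ε` -/
theorem relabel (hm2 : 3 + 1 < Nat.card ↥(P : Subgroup G))
    (hCN : (Subgroup.centralizer ((P : Subgroup G) : Set G)).relIndex
      (Subgroup.normalizer ((P : Subgroup G) : Set G)) = 3)
    (hd : D.d₀ = -D.ε) (hr : D.Yf.card = 2) :
    ∃ D' : BLData P M, D'.d₀ = 0 := by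
  classical
  have hRe := rel_equivalence p P hab hfrob
  obtain ⟨x, y, hxy, hY⟩ := Finset.card_eq_two.1 hr
  have mem : ∀ ψ : ↥(P : Subgroup G) →* ℂˣ, ψ ≠ 1 → D.ζ ψ = x ∨ D.ζ ψ = y := by
    intro ψ hψ
    have := (D.mem_Yf _).2 ⟨ψ, hψ, rfl⟩
    rw [hY] at this
    simpa using this
  have memY : ∀ χ ∈ D.Yf, χ = x ∨ χ = y := by
    intro χ hχ
    rw [hY] at hχ
    simpa using hχ
  -- there are exactly two classes
  have two : ∀ α β γ : ↥(P : Subgroup G) →* ℂˣ, α ≠ 1 → β ≠ 1 → γ ≠ 1 →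
      ¬ Rel p P α β → ¬ Rel p P α γ → Rel p P β γ := by
    intro α β γ hα hβ hγ hαβ hαγ
    have nαβ : D.ζ α ≠ D.ζ β := fun h => hαβ ((D.hinj α β hα hβ).1 h)
    have nαγ : D.ζ α ≠ D.ζ γ := fun h => hαγ ((D.hinj α γ hα hγ).1 h)
    apply (D.hinj β γ hβ hγ).1
    rcases mem α hα with ha | ha <;> rcases mem β hβ with hb | hb <;>
      rcases mem γ hγ with hc | hc
    all_goals first
      | exact absurd (ha.trans hb.symm) nαβ
      | exact absurd (ha.trans hc.symm) nαγ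
      | exact hb.trans hc.symm
  -- the other class
  have hstar : ∀ ψ : ↥(P : Subgroup G) →* ℂˣ, ψ ≠ 1 →
      ∃ ψ' : ↥(P : Subgroup G) →* ℂˣ, ψ' ≠ 1 ∧ ¬ Rel p P ψ ψ' :=
    fun ψ hψ => exists_not_rel P hab hfrob 3 hm2 hCN ψ hψ
  choose star hstar1 hstar2 using hstar
  have hζne : ∀ (ψ : ↥(P : Subgroup G) →* ℂˣ) (hψ : ψ ≠ 1), D.ζ (star ψ hψ) ≠ D.ζ ψ :=
    fun ψ hψ h => hstar2 ψ hψ ((D.hinj ψ (star ψ hψ) hψ (hstar1 ψ hψ)).1 h.symm)
  refine ⟨{
    ε := -D.ε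
    d₀ := 0
    a₀ := fun χ => if χ ∈ D.Yf then 0 else D.a₀ χ
    ζ := fun ψ => if h : ψ ≠ 1 then D.ζ (star ψ h) else trivIrr G
    hε := ?_
    hmem := ?_
    hinj := ?_
    hb1 := ?_
    hb0 := ?_
    hd := ?_ }, rfl⟩
  · rcases D.hε with h | h <;> rw [h] <;> norm_num
  · intro ψ hψ
    rw [dif_pos hψ]
    exact D.hmem _ (hstar1 ψ hψ)
  · intro ψ ψ' hψ hψ'
    rw [dif_pos hψ, dif_pos hψ', D.hinj _ _ (hstar1 ψ hψ) (hstar1 ψ' hψ')]
    constructor
    · intro h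
      by_contra hn
      have h1 : Rel p P ψ' (star ψ hψ) := two ψ ψ' (star ψ hψ) hψ hψ' (hstar1 ψ hψ) hn (hstar2 ψ hψ)
      exact hstar2 ψ' hψ' (hRe.trans h1 h)
    · intro h
      refine two ψ (star ψ hψ) (star ψ' hψ') hψ (hstar1 ψ hψ) (hstar1 ψ' hψ') (hstar2 ψ hψ) ?_
      intro h'
      exact hstar2 ψ' hψ' (hRe.trans (hRe.symm h) h')
  · intro ψ hψ
    rw [dif_pos hψ, if_pos ((D.mem_Yf _).2 ⟨star ψ hψ, hstar1 ψ hψ, rfl⟩)]
    rw [D.hb0 ψ hψ (D.ζ (star ψ hψ)) (D.hmem _ (hstar1 ψ hψ)) (hζne ψ hψ), D.hd _ (hstar1 ψ hψ), hd]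
    push_cast
    ring
  · intro ψ hψ χ hχ hne
    rw [dif_pos hψ] at hne
    by_cases hY' : χ ∈ D.Yf
    · rw [if_pos hY']
      have hχ' : χ = D.ζ ψ := by
        rcases memY χ hY' with hc | hc <;> rcases mem ψ hψ with ha | ha <;>
          rcases mem _ (hstar1 ψ hψ) with hb | hb
        all_goals first
          | exact hc.trans ha.symm
          | exact absurd (hc.trans hb.symm) hne
          | exact absurd (hb.trans ha.symm) (hζne ψ hψ)
      rw [hχ', D.hb1 ψ hψ, D.hd ψ hψ, hd]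
      push_cast
      ring
    · rw [if_neg hY']
      exact D.hb0 ψ hψ χ hχ (fun h => hY' ((D.mem_Yf χ).2 ⟨ψ, hψ, h.symm⟩))
  · intro ψ hψ
    rw [dif_pos hψ, if_pos ((D.mem_Yf _).2 ⟨star ψ hψ, hstar1 ψ hψ, rfl⟩)]

include hab hfrob D in
/-- for `m = 3` the data can be chosen with `d₀ = 0` -/
theorem exists_d₀_zero (hM : IsPModular p M) (hm2 : 3 + 1 < Nat.card ↥(P : Subgroup G))
    (hCN : (Subgroup.centralizer ((P : Subgroup G) : Set G)).relIndex
      (Subgroup.normalizer ((P : Subgroup G) : Set G)) = 3) :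
    ∃ D' : BLData P M, D'.d₀ = 0 := by
  rcases D.m3_cases hab hfrob hM hm2 hCN with h | ⟨h1, h2⟩
  · exact ⟨D, h⟩
  · exact D.relabel hab hfrob hm2 hCN h1 h2

include hab hfrob in
/-- for `m = 3` and `d₀ = 0` there are exactly three non-exceptional characters, with values
`±1` on the sections through `P ∖ 1` -/
theorem m3_X (hM : IsPModular p M) (hm2 : 3 + 1 < Nat.card ↥(P : Subgroup G))
    (hCN : (Subgroup.centralizer ((P : Subgroup G) : Set G)).relIndex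
      (Subgroup.normalizer ((P : Subgroup G) : Set G)) = 3) (hd : D.d₀ = 0) :
    ((Set.toFinite (principalBlock M G)).toFinset \ D.Yf).card = 3 ∧
      ∀ χ ∈ (Set.toFinite (principalBlock M G)).toFinset \ D.Yf, D.a₀ χ = 1 ∨ D.a₀ χ = -1 := by
  classical
  set T := (Set.toFinite (principalBlock M G)).toFinset with hT
  have hTmem : ∀ χ, χ ∈ T ↔ χ ∈ principalBlock M G := fun χ => Set.Finite.mem_toFinset _
  have hP1 : Nat.card ↥(P : Subgroup G) ≠ 1 := by omega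
  have hns := D.norm_split hab hfrob hM 3 hCN hP1
  rw [hd] at hns
  have hsum : ∑ χ ∈ T \ D.Yf, D.a₀ χ ^ 2 = 3 := by
    push_cast at hns
    linarith
  have hXne : ∀ χ ∈ T \ D.Yf, D.a₀ χ ≠ 0 := by
    intro χ hχ
    have h := Finset.mem_sdiff.1 hχ
    exact D.a₀_ne_zero hab hfrob hM hP1 χ ((hTmem χ).1 h.1) h.2
  have hXsq : ∀ χ ∈ T \ D.Yf, (1 : ℤ) ≤ D.a₀ χ ^ 2 := by
    intro χ hχ
    have := hXne χ hχ
    have h2 : 0 < D.a₀ χ ^ 2 := by positivity
    omega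
  -- each value is `±1`
  have hpm : ∀ χ ∈ T \ D.Yf, D.a₀ χ = 1 ∨ D.a₀ χ = -1 := by
    intro χ hχ
    by_contra hcon
    push Not at hcon
    have h4 : (4 : ℤ) ≤ D.a₀ χ ^ 2 := by
      have h0 := hXne χ hχ
      have : 2 ≤ D.a₀ χ ∨ D.a₀ χ ≤ -2 := by omega
      rcases this with h | h <;> nlinarith
    have hle : D.a₀ χ ^ 2 ≤ ∑ χ ∈ T \ D.Yf, D.a₀ χ ^ 2 :=
      Finset.single_le_sum (f := fun χ => D.a₀ χ ^ 2) (fun χ _ => sq_nonneg _) hχ
    omega
  refine ⟨?_, hpm⟩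
  have h1 : ∑ χ ∈ T \ D.Yf, D.a₀ χ ^ 2 = ∑ χ ∈ T \ D.Yf, (1 : ℤ) := by
    refine Finset.sum_congr rfl fun χ hχ => ?_
    rcases hpm χ hχ with h | h <;> rw [h] <;> norm_num
  rw [h1, Finset.sum_const, nsmul_eq_mul, mul_one] at hsum
  exact_mod_cast hsum

end BLData

end m3

end Cfsg.Agent.Helper46.BL
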