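import Mathlib
import Cfsg.Prelude.Def_Blocks
import Cfsg.Agent.Lib.Helper46.BL8
import Cfsg.Agent.Lib.Helper16.PPart
import Cfsg.Agent.Lib.Helper79.Inflation
import Cfsg.Agent.S0944

/-!
# Brauer–Leonard (helper46), part 9: an involution in no proper normal subgroup
-/

set_option autoImplicit false
set_option linter.unusedSectionVars false
set_option linter.style.haveILetI false
set_option maxHeartbeats 1600000
set_option linter.unusedSimpArgs false

namespace Cfsg.Agent.Helper46.BL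

open Cfsg
open Cfsg.Agent.Helper77 Cfsg.Agent.Helper16 Cfsg.Agent.Helper78 Cfsg.Agent.Helper79
open Cfsg.Agent.Helper46.BSQ
open Cfsg.Agent.Helper74.Lin
open Cfsg.Agent.Helper45.BLGT Cfsg.Agent.Helper2.BLLattice
open scoped ComplexConjugate

universe u

section invol

variable {G : Type u} [Group G] [Fintype G]

/-- a character all of whose values equal its degree is the trivial character -/
theorem eq_trivIrr_of_const (χ : IrrCharacter G)
    (h : ∀ g, (χ : G → ℂ) g = (χ : G → ℂ) 1) : χ = trivIrr G := by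
  by_contra hne
  have h1 := Cfsg.Agent.Helper80.irr_first_orthogonality χ (trivIrr G)
  rw [if_neg hne] at h1
  simp only [trivIrr_apply, map_one, mul_one] at h1
  rw [Finset.sum_congr rfl (fun g _ => h g), Finset.sum_const, Finset.card_univ,
    nsmul_eq_mul] at h1
  rcases mul_eq_zero.1 h1 with h2 | h2
  · have : 0 < Fintype.card G := Fintype.card_pos
    exact absurd h2 (by exact_mod_cast this.ne')
  · exact irr_one_ne_zero χ h2

/-- a nontrivial character is not constant at an element generating `G` as a normal subgroup -/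
theorem val_lt_degree (χ : IrrCharacter G) (hχ : χ ≠ trivIrr G) (t : G)
    (ht : ∀ K : Subgroup G, K.Normal → t ∈ K → K = ⊤) (k : ℤ) (hk : (χ : G → ℂ) t = (k : ℂ)) :
    k < (charDegree (χ : G → ℂ) : ℤ) := by
  have hle := irr_norm_le χ t
  rw [hk] at hle
  have h1 : ((k : ℤ) : ℝ) ≤ (charDegree (χ : G → ℂ) : ℝ) := by
    have : ‖((k : ℤ) : ℂ)‖ = |(k : ℝ)| := by
      rw [← Complex.ofReal_intCast, Complex.norm_real]; rfl
    rw [this] at hle
    exact le_trans (le_abs_self _) hle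
  have h2 : k ≤ (charDegree (χ : G → ℂ) : ℤ) := by exact_mod_cast h1
  rcases lt_or_eq_of_le h2 with h | h
  · exact h
  · exfalso
    have hmem : t ∈ irrKer χ := by
      rw [mem_irrKer, hk, (irr_one_eq χ).1, h]; push_cast; rfl
    have htop := ht (irrKer χ) inferInstance hmem
    apply hχ
    apply eq_trivIrr_of_const
    intro g
    have : g ∈ irrKer χ := by rw [htop]; exact Subgroup.mem_top g
    exact (mem_irrKer χ g).1 this

/-- class multiplication: a column orthogonal to the columns of a set of elements containing all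
products of two conjugates of `z` kills `χ(z)² / χ(1)` -/
theorem col_quadratic_gen (z : G) (S : G → Prop)
    (hprod : ∀ a b : G, S (a * z * a⁻¹ * (b * z * b⁻¹)))
    (T : Finset (IrrCharacter G)) (v : IrrCharacter G → ℂ)
    (hv : ∀ g : G, S g → ∑ χ ∈ T, (χ : G → ℂ) g * v χ = 0) :
    ∑ χ ∈ T, v χ * ((χ : G → ℂ) z ^ 2 / (χ : G → ℂ) 1) = 0 := by
  have hG : (Nat.card G : ℂ) ≠ 0 := by
    have : 0 < Nat.card G := Nat.card_pos
    exact_mod_cast this.ne'
  have h1 : ∀ χ : IrrCharacter G, (Nat.card G : ℂ) ^ 2 * ((χ : G → ℂ) z ^ 2 / (χ : G → ℂ) 1) =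
      ∑ a : G, ∑ b : G, (χ : G → ℂ) (a * z * a⁻¹ * (b * z * b⁻¹)) := by
    intro χ
    have h := sum_sum_irr_conj_mul χ.2 z z 1
    simp only [mul_one] at h
    rw [h]
    have h0 := irr_one_ne_zero χ
    field_simp
  have h2 : (Nat.card G : ℂ) ^ 2 * ∑ χ ∈ T, v χ * ((χ : G → ℂ) z ^ 2 / (χ : G → ℂ) 1) = 0 := by
    rw [Finset.mul_sum]
    have h3 : ∀ χ ∈ T, (Nat.card G : ℂ) ^ 2 * (v χ * ((χ : G → ℂ) z ^ 2 / (χ : G → ℂ) 1)) =
        ∑ a : G, ∑ b : G, (χ : G → ℂ) (a * z * a⁻¹ * (b * z * b⁻¹)) * v χ := by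
      intro χ _
      rw [mul_left_comm, h1 χ, Finset.mul_sum]
      refine Finset.sum_congr rfl fun a _ => ?_
      rw [Finset.mul_sum]
      refine Finset.sum_congr rfl fun b _ => ?_
      ring
    rw [Finset.sum_congr rfl h3, Finset.sum_comm]
    refine Finset.sum_eq_zero fun a _ => ?_
    rw [Finset.sum_comm]
    refine Finset.sum_eq_zero fun b _ => ?_
    exact hv _ (hprod a b)
  rcases mul_eq_zero.1 h2 with h | h
  · exact absurd (pow_eq_zero_iff (two_ne_zero) |>.1 h) hG
  · exact h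

variable {p : ℕ} [hpf : Fact p.Prime] {M : Ideal AlgInt}

/-- the quadratic relation in the principal block at a `p`-element `y` such that no product of
two conjugates of `t` has `p`-part conjugate to `y` -/
theorem quad_rel (hM : IsPModular p M) (t y : G) (hy : ∃ k : ℕ, orderOf y = p ^ k)
    (hprod : ∀ a b x : G, IsPPart p (a * t * a⁻¹ * (b * t * b⁻¹)) x → ¬ IsConj x y) :
    ∑ χ ∈ (Set.toFinite (principalBlock M G)).toFinset,
      conj ((χ : G → ℂ) y) * ((χ : G → ℂ) t ^ 2 / (χ : G → ℂ) 1) = 0 := by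
  apply col_quadratic_gen t (fun g => ∀ x, IsPPart p g x → ¬ IsConj x y)
    (fun a b x hx => hprod a b x hx) _ (fun χ => conj ((χ : G → ℂ) y))
  intro g hg
  obtain ⟨x, hx⟩ := exists_isPPart hpf.out g
  exact block_orth_p hM g y x y hx (isPPart_self_p y hy) (hg x hx)

end invol

section m3

variable {G : Type u} [Group G] [Fintype G] {p : ℕ} [hpf : Fact p.Prime] {M : Ideal AlgInt}
  {P : Sylow p G} [Fintype ↥(P : Subgroup G)] [Fintype (↥(P : Subgroup G) →* ℂˣ)]
  [Fintype ↥(Subgroup.normalizer ((P : Subgroup G) : Set G))]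
  (hab : IsMulCommutative P)
  (hfrob : ∀ y : G, y ∈ (P : Subgroup G) → y ≠ 1 →
    Subgroup.centralizer ({y} : Set G) ⊓ Subgroup.normalizer ((P : Subgroup G) : Set G) =
      Subgroup.centralizer ((P : Subgroup G) : Set G))

namespace BLData

variable (D : BLData P M)

include hab in
/-- the sum of the values of the exceptional characters at an element of `P ∖ 1` -/
theorem sum_Yf_val (y : ↥(P : Subgroup G)) (hy : y ≠ 1) :
    ∑ η ∈ D.Yf, (η : G → ℂ) (y : G) = -((D.Yf.card : ℂ) * (D.d₀ : ℂ)) - (D.ε : ℂ) := by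
  classical
  have h1 : ∀ η ∈ D.Yf, (η : G → ℂ) (y : G) = -(D.d₀ : ℂ) + (D.ε : ℂ) *
      ∑ ψ ∈ (Finset.univ.filter (fun ψ : ↥(P : Subgroup G) →* ℂˣ => ψ ≠ 1)).filter
        (fun ψ => D.ζ ψ = η), ((ψ y : ℂˣ) : ℂ) := by
    intro η hη
    have hη' := (Set.Finite.mem_toFinset _).1 (D.Yf_subset hη)
    rw [D.val hab η hη' y hy, Finset.filter_filter]
    obtain ⟨ψ, hψ, rfl⟩ := (D.mem_Yf η).1 hη
    rw [D.hd ψ hψ]
  rw [Finset.sum_congr rfl h1, Finset.sum_add_distrib, Finset.sum_const, ← Finset.mul_sum,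
    Finset.sum_fiberwise_of_maps_to (fun ψ hψ => (D.mem_Yf _).2 ⟨ψ, (Finset.mem_filter.1 hψ).2, rfl⟩)]
  have h2 : ∑ ψ ∈ Finset.univ.filter (fun ψ : ↥(P : Subgroup G) →* ℂˣ => ψ ≠ 1),
      ((ψ y : ℂˣ) : ℂ) = -1 := by
    have h3 := dual_sum (comm_of_hab P hab) y
    rw [if_neg hy] at h3
    rw [Finset.filter_ne', Finset.sum_erase_eq_sub (Finset.mem_univ _), h3]
    simp
  rw [h2, nsmul_eq_mul]
  ring

end BLData

end m3

end Cfsg.Agent.Helper46.BL
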