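import Mathlib
import Cfsg.Prelude.Def_Blocks
import Cfsg.Agent.Lib.Helper46.BL9

/-!
# Brauer–Leonard (helper46), part 10: the relations at an involution, `p` odd
-/

set_option autoImplicit false
set_option linter.unusedSectionVars false
set_option linter.style.haveILetI false
set_option maxHeartbeats 1600000
set_option linter.unusedSimpArgs false

namespace Cfsg.Agent.Helper46.BL

open Cfsg
open Cfsg.Agent.Helper77 Cfsg.Agent.Helper16 Cfsg.Agent.Helper78 Cfsg.Agent.Helper79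
open Cfsg.Agent.Helper46.BSQ
open Cfsg.Agent.Helper74.Lin
open Cfsg.Agent.Helper45.BLGT Cfsg.Agent.Helper2.BLLattice
open scoped ComplexConjugate

universe u

section m3

variable {G : Type u} [Group G] [Fintype G] {p : ℕ} [hpf : Fact p.Prime] {M : Ideal AlgInt}
  {P : Sylow p G} [Fintype ↥(P : Subgroup G)] [Fintype (↥(P : Subgroup G) →* ℂˣ)]
  [Fintype ↥(Subgroup.normalizer ((P : Subgroup G) : Set G))]
  (hab : IsMulCommutative P)
  (hfrob : ∀ y : G, y ∈ (P : Subgroup G) → y ≠ 1 →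
    Subgroup.centralizer ({y} : Set G) ⊓ Subgroup.normalizer ((P : Subgroup G) : Set G) =
      Subgroup.centralizer ((P : Subgroup G) : Set G))

namespace BLData

variable (D : BLData P M)

/-- the shape of the relations at the involution -/
def InvolRel (v : IrrCharacter G → ℤ) (v₄ : ℤ) : Prop :=
  v (trivIrr G) = 1 ∧
  (∀ χ ∈ (Set.toFinite (principalBlock M G)).toFinset \ D.Yf, χ ≠ trivIrr G →
    v χ < (charDegree (χ : G → ℂ) : ℤ)) ∧
  (∀ η ∈ D.Yf, v₄ < (charDegree (η : G → ℂ) : ℤ)) ∧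
  (∑ χ ∈ (Set.toFinite (principalBlock M G)).toFinset \ D.Yf, (D.a₀ χ : ℂ) * (v χ : ℂ) +
    (D.ε : ℂ) * (v₄ : ℂ) = 0) ∧
  (∀ η ∈ D.Yf, ∑ χ ∈ (Set.toFinite (principalBlock M G)).toFinset \ D.Yf,
    (D.a₀ χ : ℂ) * ((v χ : ℂ) ^ 2 / (charDegree (χ : G → ℂ) : ℂ)) +
    (D.ε : ℂ) * ((v₄ : ℂ) ^ 2 / (charDegree (η : G → ℂ) : ℂ)) = 0)

/-- splitting a sum over the principal block when `d₀ = 0` -/
theorem sum_split_zero (hd : D.d₀ = 0) (f : IrrCharacter G → ℂ) :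
    ∑ χ ∈ (Set.toFinite (principalBlock M G)).toFinset, (D.a₀ χ : ℂ) * f χ =
      ∑ χ ∈ (Set.toFinite (principalBlock M G)).toFinset \ D.Yf, (D.a₀ χ : ℂ) * f χ := by
  classical
  rw [← Finset.sum_sdiff D.Yf_subset]
  have h0 : ∑ χ ∈ D.Yf, (D.a₀ χ : ℂ) * f χ = 0 := by
    refine Finset.sum_eq_zero fun η hη => ?_
    obtain ⟨ψ, hψ, rfl⟩ := (D.mem_Yf η).1 hη
    rw [D.hd ψ hψ, hd]
    simp
  rw [h0, add_zero]

/-- all exceptional characters have the same degree -/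
theorem degree_Yf (hM : IsPModular p M) (η η' : IrrCharacter G) (hη : η ∈ D.Yf) (hη' : η' ∈ D.Yf) :
    charDegree (η : G → ℂ) = charDegree (η' : G → ℂ) := by
  obtain ⟨ψ, hψ, rfl⟩ := (D.mem_Yf η).1 hη
  obtain ⟨ψ', hψ', rfl⟩ := (D.mem_Yf η').1 hη'
  have h1ord : ¬ p ∣ orderOf (1 : G) := by
    rw [orderOf_one]; exact fun h => hpf.out.one_lt.ne' (Nat.dvd_one.1 h)
  have h := D.reg_agree hM 1 h1ord ψ ψ' hψ hψ'
  rw [(irr_one_eq _).1, (irr_one_eq _).1] at h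
  exact_mod_cast h

include hab hfrob in
/-- the relations at an involution, `p` odd -/
theorem rel_odd (hM : IsPModular p M) (hm2 : 3 + 1 < Nat.card ↥(P : Subgroup G))
    (hCN : (Subgroup.centralizer ((P : Subgroup G) : Set G)).relIndex
      (Subgroup.normalizer ((P : Subgroup G) : Set G)) = 3) (hd : D.d₀ = 0) (hp2 : p ≠ 2)
    (t : G) (ht2 : orderOf t = 2) (htn : ∀ K : Subgroup G, K.Normal → t ∈ K → K = ⊤)
    (hprod : ∀ y : G, y ∈ (P : Subgroup G) → y ≠ 1 → ∀ a b x : G,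
      IsPPart p (a * t * a⁻¹ * (b * t * b⁻¹)) x → ¬ IsConj x y) :
    ∃ (v : IrrCharacter G → ℤ) (v₄ : ℤ), D.InvolRel v v₄ := by
  classical
  haveI := isPrime_of_isPModular hM
  set T := (Set.toFinite (principalBlock M G)).toFinset with hT
  have hTmem : ∀ χ, χ ∈ T ↔ χ ∈ principalBlock M G := fun χ => Set.Finite.mem_toFinset _
  have hP1 : Nat.card ↥(P : Subgroup G) ≠ 1 := by omega
  obtain ⟨ψ₀, hψ₀⟩ := exists_nontrivial_hom P hab hfrob hP1
  -- integer values at `t`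
  have hint : ∀ χ : IrrCharacter G, ∃ n : ℤ, (χ : G → ℂ) t = (n : ℂ) := fun χ => by
    obtain ⟨n, hn, -⟩ := Cfsg.Agent.S0944.result χ t ht2
    exact ⟨n, hn⟩
  choose v hv using hint
  have hreg : ¬ p ∣ orderOf t := by
    rw [ht2]
    intro h
    exact hp2 ((Nat.prime_dvd_prime_iff_eq hpf.out Nat.prime_two).1 h)
  have hY : ∀ η ∈ D.Yf, (η : G → ℂ) t = ((v (D.ζ ψ₀) : ℤ) : ℂ) := by
    intro η hη
    obtain ⟨ψ, hψ, rfl⟩ := (D.mem_Yf η).1 hη
    rw [D.reg_agree hM t hreg ψ ψ₀ hψ hψ₀, hv]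
  have htrivY := D.triv_not_mem_Yf hab hfrob hM 3 hm2 hCN
  -- an element of `P ∖ 1`
  have hnt : Nontrivial ↥(P : Subgroup G) := by
    rw [← Finite.one_lt_card_iff_nontrivial]
    omega
  obtain ⟨y, hy⟩ := exists_ne (1 : ↥(P : Subgroup G))
  have hy1 : (y : G) ≠ 1 := fun h => hy (Subtype.ext h)
  refine ⟨v, v (D.ζ ψ₀), ?_, ?_, ?_, ?_, ?_⟩
  · have h := hv (trivIrr G)
    rw [trivIrr_apply] at h
    exact_mod_cast h.symm
  · intro χ _ hχ1
    exact val_lt_degree χ hχ1 t htn (v χ) (hv χ)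
  · intro η hη
    have hη1 : η ≠ trivIrr G := fun h => htrivY (h ▸ hη)
    exact val_lt_degree η hη1 t htn _ (hY η hη)
  · have h := D.reg hM t hreg ψ₀ hψ₀
    rw [D.sum_split_zero hd (fun χ => (χ : G → ℂ) t), hv] at h
    rw [← h]
    congr 1
    refine Finset.sum_congr rfl fun χ _ => ?_
    rw [hv]
  · intro η hη
    have hq := quad_rel (M := M) hM t (y : G) (pelement_of_mem P y.2)
      (hprod (y : G) y.2 hy1)
    rw [← Finset.sum_sdiff D.Yf_subset] at hq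
    -- the exceptional part
    have hYpart : ∑ χ ∈ D.Yf, conj ((χ : G → ℂ) (y : G)) *
        ((χ : G → ℂ) t ^ 2 / (χ : G → ℂ) 1) =
        -(D.ε : ℂ) * (((v (D.ζ ψ₀) : ℤ) : ℂ) ^ 2 / (charDegree (η : G → ℂ) : ℂ)) := by
      have h1 : ∀ χ ∈ D.Yf, conj ((χ : G → ℂ) (y : G)) * ((χ : G → ℂ) t ^ 2 / (χ : G → ℂ) 1) =
          conj ((χ : G → ℂ) (y : G)) *
            (((v (D.ζ ψ₀) : ℤ) : ℂ) ^ 2 / (charDegree (η : G → ℂ) : ℂ)) := by
        intro χ hχ
        rw [hY χ hχ, (irr_one_eq χ).1, D.degree_Yf hM χ η hχ hη]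
      rw [Finset.sum_congr rfl h1, ← Finset.sum_mul, ← map_sum, D.sum_Yf_val hab y hy, hd]
      simp
    -- the non-exceptional part
    have hXpart : ∑ χ ∈ T \ D.Yf, conj ((χ : G → ℂ) (y : G)) *
        ((χ : G → ℂ) t ^ 2 / (χ : G → ℂ) 1) =
        -∑ χ ∈ T \ D.Yf, (D.a₀ χ : ℂ) * ((v χ : ℂ) ^ 2 / (charDegree (χ : G → ℂ) : ℂ)) := by
      rw [← Finset.sum_neg_distrib]
      refine Finset.sum_congr rfl fun χ hχ => ?_
      have hχ' := Finset.mem_sdiff.1 hχ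
      rw [D.val_X hab hfrob hM χ ((hTmem χ).1 hχ'.1) hχ'.2 (y : G) (y : G)
        (isPPart_self_p (y : G) (pelement_of_mem P y.2)) y.2 hy1, hv, (irr_one_eq χ).1]
      rw [map_intCast]
      push_cast
      ring
    rw [hXpart, hYpart] at hq
    linear_combination -hq

end BLData

end m3

end Cfsg.Agent.Helper46.BL
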