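import Mathlib
import Cfsg.Prelude.Def_Blocks
import Cfsg.Agent.Lib.Helper46.BL10

/-!
# Brauer–Leonard (helper46), part 11: the relations at an involution, `p = 2`
-/

set_option autoImplicit false
set_option linter.unusedSectionVars false
set_option linter.style.haveILetI false
set_option maxHeartbeats 3200000
set_option linter.unusedSimpArgs false

namespace Cfsg.Agent.Helper46.BL

open Cfsg
open Cfsg.Agent.Helper77 Cfsg.Agent.Helper16 Cfsg.Agent.Helper78 Cfsg.Agent.Helper79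
open Cfsg.Agent.Helper46.BSQ
open Cfsg.Agent.Helper74.Lin
open Cfsg.Agent.Helper45.BLGT Cfsg.Agent.Helper2.BLLattice
open scoped ComplexConjugate

universe u

/-- three signs with product one -/
theorem three_signs (s₀ s₁ s₂ : ℂ) (h0 : s₀ ^ 2 = 1) (h1 : s₁ ^ 2 = 1) (h2 : s₂ ^ 2 = 1)
    (hp : s₀ * s₁ * s₂ = 1) : (s₀ + s₁ + s₂) ^ 2 = 3 + 2 * (s₀ + s₁ + s₂) := by
  have e01 : s₀ * s₁ = s₂ := by linear_combination s₂ * hp - s₀ * s₁ * h2
  have e02 : s₀ * s₂ = s₁ := by linear_combination s₁ * hp - s₀ * s₂ * h1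
  have e12 : s₁ * s₂ = s₀ := by linear_combination s₀ * hp - s₁ * s₂ * h0
  linear_combination h0 + h1 + h2 + 2 * e01 + 2 * e02 + 2 * e12

section m3

variable {G : Type u} [Group G] [Fintype G] {p : ℕ} [hpf : Fact p.Prime] {M : Ideal AlgInt}
  {P : Sylow p G} [Fintype ↥(P : Subgroup G)] [Fintype (↥(P : Subgroup G) →* ℂˣ)]
  [Fintype ↥(Subgroup.normalizer ((P : Subgroup G) : Set G))]
  (hab : IsMulCommutative P)
  (hfrob : ∀ y : G, y ∈ (P : Subgroup G) → y ≠ 1 →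
    Subgroup.centralizer ({y} : Set G) ⊓ Subgroup.normalizer ((P : Subgroup G) : Set G) =
      Subgroup.centralizer ((P : Subgroup G) : Set G))

namespace BLData

variable (D : BLData P M)

include hab hfrob in
/-- the quadratic equation of the values of the exceptional characters at an involution of `P` -/
theorem two_quad (hM : IsPModular p M) (hm2 : 3 + 1 < Nat.card ↥(P : Subgroup G))
    (hd : D.d₀ = 0)
    (c : ↥(P : Subgroup G) →* ↥(P : Subgroup G))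
    (hcprod : ∀ w, w * c w * c (c w) = 1)
    (hcls : ∀ ψ : ↥(P : Subgroup G) →* ℂˣ, ψ ≠ 1 →
      (∀ ψ', Rel p P ψ ψ' ↔ (ψ' = ψ ∨ ψ' = ψ.comp c ∨ ψ' = ψ.comp (c.comp c))) ∧
      ψ ≠ ψ.comp c ∧ ψ ≠ ψ.comp (c.comp c) ∧ ψ.comp c ≠ ψ.comp (c.comp c))
    (t : ↥(P : Subgroup G)) (ht2 : orderOf (t : G) = 2)
    (ψ : ↥(P : Subgroup G) →* ℂˣ) (hψ : ψ ≠ 1) :
    (D.ζ ψ : G → ℂ) (t : G) ^ 2 = 3 + 2 * (D.ε : ℂ) * (D.ζ ψ : G → ℂ) (t : G) := by
  classical
  have hε2 : (D.ε : ℂ) ^ 2 = 1 := by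
    rcases D.hε with h | h <;> rw [h] <;> norm_num
  have ht1 : (t : G) ≠ 1 := by
    intro h
    rw [h, orderOf_one] at ht2
    omega
  have htt : t * t = 1 := by
    apply Subtype.ext
    have := pow_orderOf_eq_one (t : G)
    rw [ht2, pow_two] at this
    exact this
  have hsq : ∀ (ψ : ↥(P : Subgroup G) →* ℂˣ) (w : ↥(P : Subgroup G)), w * w = 1 →
      ((ψ w : ℂˣ) : ℂ) ^ 2 = 1 := by
    intro ψ w hw
    rw [← Units.val_pow_eq_pow_val, ← map_pow, pow_two, hw, map_one, Units.val_one]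
  have hct : c t * c t = 1 := by rw [← map_mul, htt, map_one]
  have hcct : c (c t) * c (c t) = 1 := by rw [← map_mul, hct, map_one]
  have htP : IsPPart p (t : G) (t : G) := isPPart_self_p (t : G) (pelement_of_mem P t.2)
  obtain ⟨hcl, h01, h02, h12⟩ := hcls ψ hψ
  have hfil : Finset.univ.filter (fun ψ' : ↥(P : Subgroup G) →* ℂˣ => Rel p P ψ ψ') =
      {ψ, ψ.comp c, ψ.comp (c.comp c)} := by
    ext ψ'
    simp only [Finset.mem_filter, Finset.mem_univ, true_and, Finset.mem_insert,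
      Finset.mem_singleton]
    exact hcl ψ'
  have hvalt : (D.ζ ψ : G → ℂ) (t : G) = (D.ε : ℂ) *
      (((ψ t : ℂˣ) : ℂ) + ((ψ (c t) : ℂˣ) : ℂ) + ((ψ (c (c t)) : ℂˣ) : ℂ)) := by
    rw [D.val_Y hab hfrob hM ψ hψ (t : G) t htP ht1, hd, hfil, Finset.sum_insert (by
      simp only [Finset.mem_insert, Finset.mem_singleton, not_or]; exact ⟨h01, h02⟩),
      Finset.sum_pair h12]
    simp only [MonoidHom.comp_apply]
    push_cast
    ring
  have h3 := three_signs ((ψ t : ℂˣ) : ℂ) ((ψ (c t) : ℂˣ) : ℂ) ((ψ (c (c t)) : ℂˣ) : ℂ)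
    (hsq ψ t htt) (hsq ψ (c t) hct) (hsq ψ (c (c t)) hcct) (by
      rw [← Units.val_mul, ← Units.val_mul, ← map_mul, ← map_mul, hcprod t, map_one,
        Units.val_one])
  rw [hvalt, mul_pow, hε2, one_mul, h3]
  linear_combination (-2 * (((ψ t : ℂˣ) : ℂ) + ((ψ (c t) : ℂˣ) : ℂ) +
    ((ψ (c (c t)) : ℂˣ) : ℂ))) * hε2

include hab hfrob in
/-- the quadratic relation at an involution `t` of `P` and an element `y` of `P ∖ 1` which is
not the `p`-part of a product of two conjugates of `t`, `p = 2` -/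
theorem two_core (hM : IsPModular p M) (hm2 : 3 + 1 < Nat.card ↥(P : Subgroup G))
    (hCN : (Subgroup.centralizer ((P : Subgroup G) : Set G)).relIndex
      (Subgroup.normalizer ((P : Subgroup G) : Set G)) = 3) (hd : D.d₀ = 0)
    (t : ↥(P : Subgroup G)) (ht2 : orderOf (t : G) = 2)
    (hquad : ∀ ψ : ↥(P : Subgroup G) →* ℂˣ, ψ ≠ 1 →
      (D.ζ ψ : G → ℂ) (t : G) ^ 2 = 3 + 2 * (D.ε : ℂ) * (D.ζ ψ : G → ℂ) (t : G))
    (y : ↥(P : Subgroup G)) (hy1' : y ≠ 1) (hnconj : ¬ IsConj (t : G) (y : G))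
    (hprody : ∀ a b x : G, IsPPart p (a * (t : G) * a⁻¹ * (b * (t : G) * b⁻¹)) x →
      ¬ IsConj x (y : G)) :
    ∀ η ∈ D.Yf, ∑ χ ∈ (Set.toFinite (principalBlock M G)).toFinset \ D.Yf,
      (D.a₀ χ : ℂ) * ((((-D.a₀ χ : ℤ)) : ℂ) ^ 2 / (charDegree (χ : G → ℂ) : ℂ)) +
      (D.ε : ℂ) * ((((3 * D.ε : ℤ)) : ℂ) ^ 2 / (charDegree (η : G → ℂ) : ℂ)) = 0 := by
  classical
  haveI := isPrime_of_isPModular hM
  set T := (Set.toFinite (principalBlock M G)).toFinset with hT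
  have hTmem : ∀ χ, χ ∈ T ↔ χ ∈ principalBlock M G := fun χ => Set.Finite.mem_toFinset _
  have hnil := nilCent_of_frob P hab hfrob
  obtain ⟨hX3, hpm⟩ := D.m3_X hab hfrob hM hm2 hCN hd
  have hε2 : (D.ε : ℂ) ^ 2 = 1 := by
    rcases D.hε with h | h <;> rw [h] <;> norm_num
  have ht1 : (t : G) ≠ 1 := by
    intro h
    rw [h, orderOf_one] at ht2
    omega
  have htP : IsPPart p (t : G) (t : G) := isPPart_self_p (t : G) (pelement_of_mem P t.2)
  have hy1 : (y : G) ≠ 1 := fun h => hy1' (Subtype.ext h)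
  have hyP : IsPPart p (y : G) (y : G) := isPPart_self_p (y : G) (pelement_of_mem P y.2)
  -- values on `X`
  have hXt : ∀ χ ∈ T \ D.Yf, (χ : G → ℂ) (t : G) = ((-D.a₀ χ : ℤ) : ℂ) := by
    intro χ hχ
    have hχ' := Finset.mem_sdiff.1 hχ
    exact D.val_X hab hfrob hM χ ((hTmem χ).1 hχ'.1) hχ'.2 (t : G) (t : G) htP t.2 ht1
  have hXy : ∀ χ ∈ T \ D.Yf, (χ : G → ℂ) (y : G) = ((-D.a₀ χ : ℤ) : ℂ) := by
    intro χ hχ
    have hχ' := Finset.mem_sdiff.1 hχ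
    exact D.val_X hab hfrob hM χ ((hTmem χ).1 hχ'.1) hχ'.2 (y : G) (y : G) hyP y.2 hy1
  have hsq1 : ∀ χ ∈ T \ D.Yf, (D.a₀ χ : ℂ) ^ 2 = 1 := by
    intro χ hχ
    rcases hpm χ hχ with h | h <;> rw [h] <;> norm_num
  have hsumsq : ∑ χ ∈ T \ D.Yf, (D.a₀ χ : ℂ) ^ 2 = 3 := by
    rw [Finset.sum_congr rfl hsq1, Finset.sum_const, hX3]
    norm_num
  -- column orthogonality of `t` and `y`
  have hcol : ∑ η ∈ D.Yf, (η : G → ℂ) (t : G) * conj ((η : G → ℂ) (y : G)) = -3 := by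
    have h := col_orth hM hnil (t : G) (y : G) t.2 ht1 y.2 hy1
    rw [if_neg hnconj, ← Finset.sum_sdiff D.Yf_subset] at h
    have hXp : ∑ χ ∈ T \ D.Yf, (χ : G → ℂ) (t : G) * conj ((χ : G → ℂ) (y : G)) = 3 := by
      rw [← hsumsq]
      refine Finset.sum_congr rfl fun χ hχ => ?_
      rw [hXt χ hχ, hXy χ hχ, map_intCast]
      push_cast
      ring
    rw [hXp] at h
    linear_combination h
  have hsumy : ∑ η ∈ D.Yf, conj ((η : G → ℂ) (y : G)) = -(D.ε : ℂ) := by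
    rw [← map_sum, D.sum_Yf_val hab y hy1', hd]
    simp
  have hnine : ∑ η ∈ D.Yf, conj ((η : G → ℂ) (y : G)) * (η : G → ℂ) (t : G) ^ 2 =
      -9 * (D.ε : ℂ) := by
    have h1 : ∀ η ∈ D.Yf, conj ((η : G → ℂ) (y : G)) * (η : G → ℂ) (t : G) ^ 2 =
        3 * conj ((η : G → ℂ) (y : G)) +
          2 * (D.ε : ℂ) * ((η : G → ℂ) (t : G) * conj ((η : G → ℂ) (y : G))) := by
      intro η hη
      obtain ⟨ψ, hψ, rfl⟩ := (D.mem_Yf η).1 hη
      rw [hquad ψ hψ]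
      ring
    rw [Finset.sum_congr rfl h1, Finset.sum_add_distrib, ← Finset.mul_sum, ← Finset.mul_sum,
      hsumy, hcol]
    ring
  intro η hη
  have hq := quad_rel (M := M) hM (t : G) (y : G) (pelement_of_mem P y.2) hprody
  rw [← Finset.sum_sdiff D.Yf_subset] at hq
  have hYpart : ∑ χ ∈ D.Yf, conj ((χ : G → ℂ) (y : G)) *
      ((χ : G → ℂ) (t : G) ^ 2 / (χ : G → ℂ) 1) =
      -9 * (D.ε : ℂ) / (charDegree (η : G → ℂ) : ℂ) := by
    have h1 : ∀ χ ∈ D.Yf, conj ((χ : G → ℂ) (y : G)) *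
        ((χ : G → ℂ) (t : G) ^ 2 / (χ : G → ℂ) 1) =
        conj ((χ : G → ℂ) (y : G)) * (χ : G → ℂ) (t : G) ^ 2 /
          (charDegree (η : G → ℂ) : ℂ) := by
      intro χ hχ
      rw [(irr_one_eq χ).1, D.degree_Yf hM χ η hχ hη, mul_div_assoc]
    rw [Finset.sum_congr rfl h1, ← Finset.sum_div, hnine]
  have hXpart : ∑ χ ∈ T \ D.Yf, conj ((χ : G → ℂ) (y : G)) *
      ((χ : G → ℂ) (t : G) ^ 2 / (χ : G → ℂ) 1) =
      -∑ χ ∈ T \ D.Yf, (D.a₀ χ : ℂ) *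
        ((((-D.a₀ χ : ℤ)) : ℂ) ^ 2 / (charDegree (χ : G → ℂ) : ℂ)) := by
    rw [← Finset.sum_neg_distrib]
    refine Finset.sum_congr rfl fun χ hχ => ?_
    rw [hXt χ hχ, hXy χ hχ, (irr_one_eq χ).1, map_intCast]
    push_cast
    ring
  rw [hXpart, hYpart] at hq
  have h9 : (D.ε : ℂ) * ((((3 * D.ε : ℤ)) : ℂ) ^ 2 / (charDegree (η : G → ℂ) : ℂ)) =
      9 * (D.ε : ℂ) / (charDegree (η : G → ℂ) : ℂ) := by
    push_cast
    rw [mul_pow, hε2]
    ring
  rw [h9]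
  linear_combination -hq

include hab hfrob in
/-- the relations at an involution, `p = 2` -/
theorem rel_two (hM : IsPModular p M) (hm2 : 3 + 1 < Nat.card ↥(P : Subgroup G))
    (hCN : (Subgroup.centralizer ((P : Subgroup G) : Set G)).relIndex
      (Subgroup.normalizer ((P : Subgroup G) : Set G)) = 3) (hd : D.d₀ = 0) (hp2 : p = 2)
    (c : ↥(P : Subgroup G) →* ↥(P : Subgroup G))
    (hcprod : ∀ w, w * c w * c (c w) = 1)
    (hcconj : ∀ w w' : ↥(P : Subgroup G), IsConj (w : G) (w' : G) →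
      w' = w ∨ w' = c w ∨ w' = c (c w))
    (hcls : ∀ ψ : ↥(P : Subgroup G) →* ℂˣ, ψ ≠ 1 →
      (∀ ψ', Rel p P ψ ψ' ↔ (ψ' = ψ ∨ ψ' = ψ.comp c ∨ ψ' = ψ.comp (c.comp c))) ∧
      ψ ≠ ψ.comp c ∧ ψ ≠ ψ.comp (c.comp c) ∧ ψ.comp c ≠ ψ.comp (c.comp c))
    (t : ↥(P : Subgroup G)) (ht2 : orderOf (t : G) = 2)
    (htn : ∀ K : Subgroup G, K.Normal → (t : G) ∈ K → K = ⊤)
    (hprod : ∀ y : G, y ∈ (P : Subgroup G) → y ≠ 1 →
      (∀ t₁ t₂ : G, t₁ ∈ (P : Subgroup G) → t₂ ∈ (P : Subgroup G) → IsConj (t : G) t₁ →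
        IsConj (t : G) t₂ → t₁ * t₂ ≠ y) →
      ∀ a b x : G, IsPPart p (a * (t : G) * a⁻¹ * (b * (t : G) * b⁻¹)) x → ¬ IsConj x y) :
    ∃ (v : IrrCharacter G → ℤ) (v₄ : ℤ), D.InvolRel v v₄ := by
  classical
  haveI := isPrime_of_isPModular hM
  set T := (Set.toFinite (principalBlock M G)).toFinset with hT
  have hTmem : ∀ χ, χ ∈ T ↔ χ ∈ principalBlock M G := fun χ => Set.Finite.mem_toFinset _
  have hP1 : Nat.card ↥(P : Subgroup G) ≠ 1 := by omega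
  obtain ⟨hX3, hpm⟩ := D.m3_X hab hfrob hM hm2 hCN hd
  have htriv := D.a₀_triv hab hfrob hM 3 hm2 hCN
  have htrivY := D.triv_not_mem_Yf hab hfrob hM 3 hm2 hCN
  have hε2 : (D.ε : ℂ) ^ 2 = 1 := by
    rcases D.hε with h | h <;> rw [h] <;> norm_num
  have hε0 : (D.ε : ℂ) ≠ 0 := by
    rcases D.hε with h | h <;> rw [h] <;> norm_num
  -- the order of `P`
  have hcard := D.card_Yf hab hfrob 3 hCN
  have hP16 : 16 ≤ Nat.card ↥(P : Subgroup G) := by
    obtain ⟨n, hn'⟩ := (P.isPGroup').exists_card_eq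
    have hn : Nat.card ↥(P : Subgroup G) = 2 ^ n := by rw [hn', hp2]
    have hn3 : 3 ≤ n := by
      by_contra hlt
      have : n ≤ 2 := by omega
      have := Nat.pow_le_pow_right (show 0 < 2 by norm_num) this
      omega
    rcases Nat.lt_or_ge n 4 with h4 | h4
    · have : n = 3 := by omega
      rw [this] at hn
      omega
    · have := Nat.pow_le_pow_right (show 0 < 2 by norm_num) h4
      omega
  have hr5 : 5 ≤ D.Yf.card := by omega
  -- basic facts on `t`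
  have ht1 : (t : G) ≠ 1 := by
    intro h
    rw [h, orderOf_one] at ht2
    omega
  have ht1' : t ≠ 1 := fun h => ht1 (by rw [h]; rfl)
  have htP : IsPPart p (t : G) (t : G) := isPPart_self_p (t : G) (pelement_of_mem P t.2)
  have hquad := D.two_quad hab hfrob hM hm2 hd c hcprod hcls t ht2
  -- a character with the value `3ε`
  have hex : ∃ ψ₁ : ↥(P : Subgroup G) →* ℂˣ, ψ₁ ≠ 1 ∧
      (D.ζ ψ₁ : G → ℂ) (t : G) = ((3 * D.ε : ℤ) : ℂ) := by
    by_contra hcon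
    push Not at hcon
    have hall : ∀ η ∈ D.Yf, (η : G → ℂ) (t : G) = -(D.ε : ℂ) := by
      intro η hη
      obtain ⟨ψ, hψ, rfl⟩ := (D.mem_Yf η).1 hη
      have h1 := hquad ψ hψ
      have h2 := hcon ψ hψ
      have h3 : ((D.ζ ψ : G → ℂ) (t : G) - 3 * (D.ε : ℂ)) *
          ((D.ζ ψ : G → ℂ) (t : G) + (D.ε : ℂ)) = 0 := by
        linear_combination h1 - 3 * hε2
      rcases mul_eq_zero.1 h3 with h4 | h4
      · exfalso
        apply h2
        push_cast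
        linear_combination h4
      · linear_combination h4
    have hs := D.sum_Yf_val hab t ht1'
    rw [Finset.sum_congr rfl hall, Finset.sum_const, nsmul_eq_mul, hd] at hs
    have hr1 : (D.Yf.card : ℂ) = 1 := by
      have : (D.ε : ℂ) * ((D.Yf.card : ℂ) - 1) = 0 := by
        push_cast at hs
        linear_combination -hs
      rcases mul_eq_zero.1 this with h | h
      · exact absurd h hε0
      · linear_combination h
    have : D.Yf.card = 1 := by exact_mod_cast hr1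
    omega
  obtain ⟨ψ₁, hψ₁, hval₁⟩ := hex
  -- the choice of `y`
  set S : Finset ↥(P : Subgroup G) := {t, c t, c (c t)} with hS
  set img : Finset ↥(P : Subgroup G) := (S ×ˢ S).image (fun x => x.1 * x.2) with himg
  have hB : (insert 1 (S ∪ img)).card < Fintype.card ↥(P : Subgroup G) := by
    have h1 : S.card ≤ 3 := Finset.card_le_three
    have h2 : img.card ≤ (S ×ˢ S).card := Finset.card_image_le
    rw [Finset.card_product] at h2
    have h3 := Finset.card_union_le S img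
    have h4 := Finset.card_insert_le (1 : ↥(P : Subgroup G)) (S ∪ img)
    rw [← Nat.card_eq_fintype_card]
    nlinarith
  obtain ⟨y, hy⟩ : ∃ y : ↥(P : Subgroup G), y ∉ insert 1 (S ∪ img) := by
    by_contra h
    push Not at h
    have h1 : Finset.univ ⊆ insert 1 (S ∪ img) := fun y _ => h y
    have h2 := Finset.card_le_card h1
    rw [Finset.card_univ] at h2
    omega
  rw [Finset.mem_insert, Finset.mem_union, not_or, not_or] at hy
  obtain ⟨hy1', hyS, hyimg⟩ := hy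
  have hy1 : (y : G) ≠ 1 := fun h => hy1' (Subtype.ext h)
  have hSmem : ∀ w : ↥(P : Subgroup G), IsConj (t : G) (w : G) → w ∈ S := by
    intro w hw
    rw [hS]
    simp only [Finset.mem_insert, Finset.mem_singleton]
    exact hcconj t w hw
  have hnconj : ¬ IsConj (t : G) (y : G) := fun h => hyS (hSmem y h)
  have hyt : ∀ t₁ t₂ : G, t₁ ∈ (P : Subgroup G) → t₂ ∈ (P : Subgroup G) → IsConj (t : G) t₁ →
      IsConj (t : G) t₂ → t₁ * t₂ ≠ (y : G) := by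
    intro t₁ t₂ h1 h2 hc1 hc2 heq
    apply hyimg
    rw [himg, Finset.mem_image]
    refine ⟨(⟨t₁, h1⟩, ⟨t₂, h2⟩), Finset.mem_product.2 ⟨hSmem ⟨t₁, h1⟩ hc1, hSmem ⟨t₂, h2⟩ hc2⟩, ?_⟩
    exact Subtype.ext heq
  have hcore := D.two_core hab hfrob hM hm2 hCN hd t ht2 hquad y hy1' hnconj
    (hprod (y : G) y.2 hy1 hyt)
  -- values on `X`
  have hXt : ∀ χ ∈ T \ D.Yf, (χ : G → ℂ) (t : G) = ((-D.a₀ χ : ℤ) : ℂ) := by
    intro χ hχ
    have hχ' := Finset.mem_sdiff.1 hχ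
    exact D.val_X hab hfrob hM χ ((hTmem χ).1 hχ'.1) hχ'.2 (t : G) (t : G) htP t.2 ht1
  have hsq1 : ∀ χ ∈ T \ D.Yf, (D.a₀ χ : ℂ) ^ 2 = 1 := by
    intro χ hχ
    rcases hpm χ hχ with h | h <;> rw [h] <;> norm_num
  have hsumsq : ∑ χ ∈ T \ D.Yf, (D.a₀ χ : ℂ) ^ 2 = 3 := by
    rw [Finset.sum_congr rfl hsq1, Finset.sum_const, hX3]
    norm_num
  refine ⟨fun χ => -D.a₀ χ, 3 * D.ε, ?_, ?_, ?_, ?_, ?_⟩
  · show -D.a₀ (trivIrr G) = 1
    rw [htriv]; norm_num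
  · intro χ hχ hχ1
    exact val_lt_degree χ hχ1 (t : G) htn _ (hXt χ hχ)
  · intro η hη
    have h1 : D.ζ ψ₁ ≠ trivIrr G := fun h => htrivY (h ▸ (D.mem_Yf _).2 ⟨ψ₁, hψ₁, rfl⟩)
    have h2 := val_lt_degree (D.ζ ψ₁) h1 (t : G) htn _ hval₁
    rw [D.degree_Yf hM (D.ζ ψ₁) η ((D.mem_Yf _).2 ⟨ψ₁, hψ₁, rfl⟩) hη] at h2
    exact h2
  · have h1 : ∑ χ ∈ T \ D.Yf, (D.a₀ χ : ℂ) * (((-D.a₀ χ : ℤ)) : ℂ) = -3 := by
      rw [← hsumsq, ← Finset.sum_neg_distrib]
      refine Finset.sum_congr rfl fun χ _ => ?_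
      push_cast
      ring
    rw [h1]
    push_cast
    linear_combination 3 * hε2
  · exact hcore

end BLData

end m3

end Cfsg.Agent.Helper46.BL
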