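import Mathlib
import Cfsg.Prelude.Def_Blocks
import Cfsg.Agent.Lib.Helper46.BL10

/-!
# Brauer–Leonard (helper46), part 12: from the relations at an involution to the signs and
the square
-/

set_option autoImplicit false
set_option linter.unusedSectionVars false
set_option linter.style.haveILetI false
set_option maxHeartbeats 1600000
set_option linter.unusedSimpArgs false

namespace Cfsg.Agent.Helper46.BL

open Cfsg
open Cfsg.Agent.Helper77 Cfsg.Agent.Helper16 Cfsg.Agent.Helper78 Cfsg.Agent.Helper79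
open Cfsg.Agent.Helper46.BSQ
open Cfsg.Agent.Helper74.Lin
open Cfsg.Agent.Helper45.BLGT Cfsg.Agent.Helper2.BLLattice
open scoped ComplexConjugate

universe u

/-- the arithmetic statement used below -/
def SignsSquare : Prop :=
  ∀ (e₂ e₃ e₄ : ℤ) (_ : e₂ = 1 ∨ e₂ = -1) (_ : e₃ = 1 ∨ e₃ = -1)
    (_ : e₄ = 1 ∨ e₄ = -1) (f₂ f₃ f₄ : ℕ) (v₂ v₃ v₄ : ℤ)
    (_ : v₂ < (f₂ : ℤ)) (_ : v₃ < (f₃ : ℤ)) (_ : v₄ < (f₄ : ℤ))
    (_ : 0 < f₂) (_ : 0 < f₃) (_ : 0 < f₄)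
    (_ : 1 + e₂ * (f₂ : ℤ) + e₃ * (f₃ : ℤ) + e₄ * (f₄ : ℤ) = 0)
    (_ : 1 + e₂ * v₂ + e₃ * v₃ + e₄ * v₄ = 0)
    (_ : (1 : ℚ) + (e₂ : ℚ) * (v₂ : ℚ) ^ 2 / (f₂ : ℚ) + (e₃ : ℚ) * (v₃ : ℚ) ^ 2 / (f₃ : ℚ) +
      (e₄ : ℚ) * (v₄ : ℚ) ^ 2 / (f₄ : ℚ) = 0),
    ((if e₂ = -1 then 1 else 0) + (if e₃ = -1 then 1 else 0) + (if e₄ = -1 then 1 else 0) =
      (2 : ℕ)) ∧ IsSquare (f₂ * f₃ * f₄)

section m3

variable {G : Type u} [Group G] [Fintype G] {p : ℕ} [hpf : Fact p.Prime] {M : Ideal AlgInt}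
  {P : Sylow p G} [Fintype ↥(P : Subgroup G)] [Fintype (↥(P : Subgroup G) →* ℂˣ)]
  [Fintype ↥(Subgroup.normalizer ((P : Subgroup G) : Set G))]
  (hab : IsMulCommutative P)
  (hfrob : ∀ y : G, y ∈ (P : Subgroup G) → y ≠ 1 →
    Subgroup.centralizer ({y} : Set G) ⊓ Subgroup.normalizer ((P : Subgroup G) : Set G) =
      Subgroup.centralizer ((P : Subgroup G) : Set G))

namespace BLData

variable (D : BLData P M)

include hab hfrob in
theorem m3_final (alg : SignsSquare) (hM : IsPModular p M)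
    (hm2 : 3 + 1 < Nat.card ↥(P : Subgroup G))
    (hCN : (Subgroup.centralizer ((P : Subgroup G) : Set G)).relIndex
      (Subgroup.normalizer ((P : Subgroup G) : Set G)) = 3) (hd : D.d₀ = 0)
    (v : IrrCharacter G → ℤ) (v₄ : ℤ) (hrel : D.InvolRel v v₄) :
    (((Set.toFinite (principalBlock M G)).toFinset \ D.Yf).filter
        (fun χ => χ ≠ trivIrr G ∧ -D.a₀ χ = -1)).card + (if D.ε = 1 then 1 else 0) = 2 ∧
      ∀ η ∈ D.Yf, IsSquare (charDegree (η : G → ℂ) *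
        ∏ χ ∈ ((Set.toFinite (principalBlock M G)).toFinset \ D.Yf).erase (trivIrr G),
          charDegree (χ : G → ℂ)) := by
  haveI := isPrime_of_isPModular hM
  set T := (Set.toFinite (principalBlock M G)).toFinset with hT
  have hTmem : ∀ χ, χ ∈ T ↔ χ ∈ principalBlock M G := fun χ => Set.Finite.mem_toFinset _
  have hP1 : Nat.card ↥(P : Subgroup G) ≠ 1 := by omega
  obtain ⟨hX3, hpm⟩ := D.m3_X hab hfrob hM hm2 hCN hd
  have htriv := D.a₀_triv hab hfrob hM 3 hm2 hCN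
  have htrivX : trivIrr G ∈ T \ D.Yf :=
    Finset.mem_sdiff.2 ⟨(hTmem _).2 (trivIrr_mem_principalBlock M),
      D.triv_not_mem_Yf hab hfrob hM 3 hm2 hCN⟩
  have hE2 : ((T \ D.Yf).erase (trivIrr G)).card = 2 := by
    rw [Finset.card_erase_of_mem htrivX, hX3]
  obtain ⟨χ₂, χ₃, hne, hE⟩ := Finset.card_eq_two.1 hE2
  have hχ₂E : χ₂ ∈ (T \ D.Yf).erase (trivIrr G) := by rw [hE]; simp
  have hχ₃E : χ₃ ∈ (T \ D.Yf).erase (trivIrr G) := by rw [hE]; simp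
  have hχ₂X := Finset.mem_of_mem_erase hχ₂E
  have hχ₃X := Finset.mem_of_mem_erase hχ₃E
  have hχ₂1 := Finset.ne_of_mem_erase hχ₂E
  have hχ₃1 := Finset.ne_of_mem_erase hχ₃E
  have hsumX : ∀ f : IrrCharacter G → ℂ,
      ∑ χ ∈ T \ D.Yf, f χ = f (trivIrr G) + (f χ₂ + f χ₃) := by
    intro f
    rw [← Finset.insert_erase htrivX, Finset.sum_insert (Finset.notMem_erase _ _), hE,
      Finset.sum_pair hne]
  obtain ⟨hv1, hvlt, hv4, hR2, hR3⟩ := hrel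
  obtain ⟨ψ₀, hψ₀⟩ := exists_nontrivial_hom P hab hfrob hP1
  have hη₀ : D.ζ ψ₀ ∈ D.Yf := (D.mem_Yf _).2 ⟨ψ₀, hψ₀, rfl⟩
  -- the relation of the degrees
  have h1ord : ¬ p ∣ orderOf (1 : G) := by
    rw [orderOf_one]; exact fun h => hpf.out.one_lt.ne' (Nat.dvd_one.1 h)
  have hR1 := D.reg hM 1 h1ord ψ₀ hψ₀
  rw [D.sum_split_zero hd (fun χ => (χ : G → ℂ) 1), hsumX, htriv, trivIrr_apply,
    (irr_one_eq χ₂).1, (irr_one_eq χ₃).1, (irr_one_eq (D.ζ ψ₀)).1] at hR1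
  rw [hsumX, htriv, hv1] at hR2
  have key : ∀ η ∈ D.Yf,
      ((if -D.a₀ χ₂ = -1 then 1 else 0) + (if -D.a₀ χ₃ = -1 then 1 else 0) +
        (if -D.ε = -1 then 1 else 0) = (2 : ℕ)) ∧
      IsSquare (charDegree (χ₂ : G → ℂ) * charDegree (χ₃ : G → ℂ) * charDegree (η : G → ℂ)) := by
    intro η hη
    have hdeg := D.degree_Yf hM (D.ζ ψ₀) η hη₀ hη
    have hR3' := hR3 η hη
    rw [hsumX, htriv, hv1, (show charDegree ((trivIrr G : IrrCharacter G) : G → ℂ) = 1 from by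
      have := (irr_one_eq (trivIrr G)).1
      rw [trivIrr_apply] at this
      exact_mod_cast this.symm)] at hR3'
    refine alg (-D.a₀ χ₂) (-D.a₀ χ₃) (-D.ε) ?_ ?_ ?_ (charDegree (χ₂ : G → ℂ))
      (charDegree (χ₃ : G → ℂ)) (charDegree (η : G → ℂ)) (v χ₂) (v χ₃) v₄
      (hvlt χ₂ hχ₂X hχ₂1) (hvlt χ₃ hχ₃X hχ₃1) (hv4 η hη)
      (irr_one_eq χ₂).2 (irr_one_eq χ₃).2 (irr_one_eq η).2 ?_ ?_ ?_
    · rcases hpm χ₂ hχ₂X with h | h <;> rw [h] <;> norm_num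
    · rcases hpm χ₃ hχ₃X with h | h <;> rw [h] <;> norm_num
    · rcases D.hε with h | h <;> rw [h] <;> norm_num
    · rw [hdeg] at hR1
      have : (((1 + -D.a₀ χ₂ * (charDegree (χ₂ : G → ℂ) : ℤ) +
          -D.a₀ χ₃ * (charDegree (χ₃ : G → ℂ) : ℤ) +
          -D.ε * (charDegree (η : G → ℂ) : ℤ) : ℤ)) : ℂ) = 0 := by
        push_cast
        push_cast at hR1
        linear_combination -hR1
      exact_mod_cast this
    · have : (((1 + -D.a₀ χ₂ * v χ₂ + -D.a₀ χ₃ * v χ₃ + -D.ε * v₄ : ℤ)) : ℂ) = 0 := by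
        push_cast
        push_cast at hR2
        linear_combination -hR2
      exact_mod_cast this
    · have : ((((1 : ℚ) + ((-D.a₀ χ₂ : ℤ) : ℚ) * (v χ₂ : ℚ) ^ 2 / (charDegree (χ₂ : G → ℂ) : ℚ) +
          ((-D.a₀ χ₃ : ℤ) : ℚ) * (v χ₃ : ℚ) ^ 2 / (charDegree (χ₃ : G → ℂ) : ℚ) +
          ((-D.ε : ℤ) : ℚ) * (v₄ : ℚ) ^ 2 / (charDegree (η : G → ℂ) : ℚ) : ℚ)) : ℂ) = 0 := by
        push_cast
        push_cast at hR3'
        linear_combination -hR3'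
      exact_mod_cast this
  constructor
  · have hk := (key _ hη₀).1
    have hfil : (T \ D.Yf).filter (fun χ => χ ≠ trivIrr G ∧ -D.a₀ χ = -1) =
        ({χ₂, χ₃} : Finset (IrrCharacter G)).filter (fun χ => -D.a₀ χ = -1) := by
      rw [← hE]
      ext χ
      simp only [Finset.mem_filter, Finset.mem_erase]
      tauto
    rw [hfil]
    have hcard : (({χ₂, χ₃} : Finset (IrrCharacter G)).filter (fun χ => -D.a₀ χ = -1)).card =
        (if -D.a₀ χ₂ = -1 then 1 else 0) + (if -D.a₀ χ₃ = -1 then 1 else 0) := by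
      rw [Finset.filter_insert, Finset.filter_singleton]
      by_cases h2 : -D.a₀ χ₂ = -1 <;> by_cases h3 : -D.a₀ χ₃ = -1
      · rw [if_pos h2, if_pos h3, if_pos h2, if_pos h3, Finset.card_pair hne]
      · rw [if_pos h2, if_neg h3, if_pos h2, if_neg h3]; simp
      · rw [if_neg h2, if_pos h3, if_neg h2, if_pos h3]; simp
      · rw [if_neg h2, if_neg h3, if_neg h2, if_neg h3]; simp
    rw [hcard]
    have hε : (if -D.ε = -1 then 1 else 0) = (if D.ε = 1 then 1 else 0 : ℕ) := by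
      by_cases h : D.ε = 1
      · rw [if_pos h, if_pos (by rw [h])]
      · rw [if_neg h, if_neg (fun h' => h (by omega))]
    rw [← hε]
    exact hk
  · intro η hη
    have hk := (key η hη).2
    rw [hE, Finset.prod_pair hne, mul_comm]
    exact hk

end BLData

end m3

end Cfsg.Agent.Helper46.BL
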