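import Mathlib

/-!
# Brauer–Leonard (helper46), part 13: the arithmetic of the three relations
-/

set_option autoImplicit false
set_option maxHeartbeats 1600000

namespace Cfsg.Agent.Helper46.BL

/-- exactly one negative sign is impossible -/
theorem signs_aux1 (wj wk wl fj fk fl : ℤ) (hwj : 0 < wj) (hwk : 0 < wk)
    (hfj : 0 < fj) (hfk : 0 < fk)
    (hw : wl = wj + wk) (hf : fl = 1 + fj + fk)
    (hB : wj ^ 2 * fk * fl + wk ^ 2 * fj * fl = wl ^ 2 * fj * fk) : False := by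
  subst hw hf
  have h1 : wj ^ 2 * fk + wk ^ 2 * fj + (wj * fk - wk * fj) ^ 2 = 0 := by
    linear_combination hB
  have h2 : 0 < wj ^ 2 * fk := by positivity
  have h3 : 0 < wk ^ 2 * fj := by positivity
  have h4 : 0 ≤ (wj * fk - wk * fj) ^ 2 := sq_nonneg _
  linarith

/-- exactly two negative signs give a square -/
theorem signs_aux2 (wj wk wl fj fk fl : ℤ) (hwk : 0 < wk) (hwl : 0 < wl)
    (hfk : 0 < fk) (hfl : 0 < fl)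
    (hw : wj = wk + wl) (hf : fj = fk + fl - 1)
    (hB : wj ^ 2 * fk * fl = wk ^ 2 * fj * fl + wl ^ 2 * fj * fk) :
    IsSquare (fj * fk * fl) := by
  subst hw hf
  set c : ℤ := wl * fk - wk * fl with hc
  have h1 : wk ^ 2 * fl + wl ^ 2 * fk = c ^ 2 := by
    rw [hc]
    linear_combination hB
  have hc0 : c ≠ 0 := by
    intro h0
    rw [h0] at h1
    have h2 : 0 < wk ^ 2 * fl := by positivity
    have h3 : 0 < wl ^ 2 * fk := by positivity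
    nlinarith
  have h2 : ((wk + wl) * fk * fl) ^ 2 = (fk + fl - 1) * fk * fl * c ^ 2 := by
    rw [← h1]
    linear_combination (fk * fl) * hB
  have hdvd : c ∣ (wk + wl) * fk * fl := by
    rw [← Int.pow_dvd_pow_iff (n := 2) (by norm_num), h2]
    exact dvd_mul_left _ _
  obtain ⟨k, hk⟩ := hdvd
  refine ⟨k, ?_⟩
  have hc2 : c ^ 2 ≠ 0 := pow_ne_zero 2 hc0
  have h3 : c ^ 2 * ((fk + fl - 1) * fk * fl) = c ^ 2 * (k * k) := by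
    rw [hk] at h2
    linear_combination -h2
  exact mul_left_cancel₀ hc2 h3

/-- **The arithmetic of the three relations.** -/
theorem bl_signs_square (e₂ e₃ e₄ : ℤ) (he₂ : e₂ = 1 ∨ e₂ = -1) (he₃ : e₃ = 1 ∨ e₃ = -1)
    (he₄ : e₄ = 1 ∨ e₄ = -1) (f₂ f₃ f₄ : ℕ) (v₂ v₃ v₄ : ℤ)
    (hv₂ : v₂ < (f₂ : ℤ)) (hv₃ : v₃ < (f₃ : ℤ)) (hv₄ : v₄ < (f₄ : ℤ))
    (hf₂ : 0 < f₂) (hf₃ : 0 < f₃) (hf₄ : 0 < f₄)
    (h1 : 1 + e₂ * (f₂ : ℤ) + e₃ * (f₃ : ℤ) + e₄ * (f₄ : ℤ) = 0)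
    (h2 : 1 + e₂ * v₂ + e₃ * v₃ + e₄ * v₄ = 0)
    (h3 : (1 : ℚ) + (e₂ : ℚ) * (v₂ : ℚ) ^ 2 / (f₂ : ℚ) + (e₃ : ℚ) * (v₃ : ℚ) ^ 2 / (f₃ : ℚ) +
      (e₄ : ℚ) * (v₄ : ℚ) ^ 2 / (f₄ : ℚ) = 0) :
    ((if e₂ = -1 then 1 else 0) + (if e₃ = -1 then 1 else 0) + (if e₄ = -1 then 1 else 0) =
      (2 : ℕ)) ∧ IsSquare (f₂ * f₃ * f₄) := by
  have hF₂ : (0 : ℤ) < (f₂ : ℤ) := by exact_mod_cast hf₂
  have hF₃ : (0 : ℤ) < (f₃ : ℤ) := by exact_mod_cast hf₃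
  have hF₄ : (0 : ℤ) < (f₄ : ℤ) := by exact_mod_cast hf₄
  set w₂ : ℤ := (f₂ : ℤ) - v₂ with hw₂
  set w₃ : ℤ := (f₃ : ℤ) - v₃ with hw₃
  set w₄ : ℤ := (f₄ : ℤ) - v₄ with hw₄
  have hW₂ : 0 < w₂ := by rw [hw₂]; linarith
  have hW₃ : 0 < w₃ := by rw [hw₃]; linarith
  have hW₄ : 0 < w₄ := by rw [hw₄]; linarith
  have hA : e₂ * w₂ + e₃ * w₃ + e₄ * w₄ = 0 := by
    rw [hw₂, hw₃, hw₄]
    linear_combination h1 - h2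
  -- the quadratic relation, denominators cleared
  have hB : e₂ * w₂ ^ 2 * f₃ * f₄ + e₃ * w₃ ^ 2 * f₂ * f₄ + e₄ * w₄ ^ 2 * f₂ * f₃ = 0 := by
    have hq₂ : ((f₂ : ℤ) : ℚ) ≠ 0 := by exact_mod_cast hF₂.ne'
    have hq₃ : ((f₃ : ℤ) : ℚ) ≠ 0 := by exact_mod_cast hF₃.ne'
    have hq₄ : ((f₄ : ℤ) : ℚ) ≠ 0 := by exact_mod_cast hF₄.ne'
    have h1q : (1 : ℚ) + (e₂ : ℚ) * ((f₂ : ℤ) : ℚ) + (e₃ : ℚ) * ((f₃ : ℤ) : ℚ) +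
        (e₄ : ℚ) * ((f₄ : ℤ) : ℚ) = 0 := by exact_mod_cast congrArg (Int.cast (R := ℚ)) h1
    have h2q : (1 : ℚ) + (e₂ : ℚ) * (v₂ : ℚ) + (e₃ : ℚ) * (v₃ : ℚ) + (e₄ : ℚ) * (v₄ : ℚ) = 0 := by
      exact_mod_cast congrArg (Int.cast (R := ℚ)) h2
    have h3' : (1 : ℚ) + (e₂ : ℚ) * (v₂ : ℚ) ^ 2 / ((f₂ : ℤ) : ℚ) +
        (e₃ : ℚ) * (v₃ : ℚ) ^ 2 / ((f₃ : ℤ) : ℚ) +
        (e₄ : ℚ) * (v₄ : ℚ) ^ 2 / ((f₄ : ℤ) : ℚ) = 0 := by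
      push_cast
      exact h3
    have key : ((e₂ * w₂ ^ 2 * f₃ * f₄ + e₃ * w₃ ^ 2 * f₂ * f₄ + e₄ * w₄ ^ 2 * f₂ * f₃ : ℤ) : ℚ)
        = 0 := by
      rw [hw₂, hw₃, hw₄]
      push_cast
      have e : ∀ (e v f : ℚ), f ≠ 0 → e * (f - v) ^ 2 = f * (e * v ^ 2 / f - 2 * e * v + e * f) := by
        intro e v f hf
        field_simp
        ring
      have hsum : (e₂ : ℚ) * (v₂ : ℚ) ^ 2 / ((f₂ : ℤ) : ℚ) - 2 * (e₂ : ℚ) * (v₂ : ℚ) +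
          (e₂ : ℚ) * ((f₂ : ℤ) : ℚ) +
          ((e₃ : ℚ) * (v₃ : ℚ) ^ 2 / ((f₃ : ℤ) : ℚ) - 2 * (e₃ : ℚ) * (v₃ : ℚ) +
          (e₃ : ℚ) * ((f₃ : ℤ) : ℚ)) +
          ((e₄ : ℚ) * (v₄ : ℚ) ^ 2 / ((f₄ : ℤ) : ℚ) - 2 * (e₄ : ℚ) * (v₄ : ℚ) +
          (e₄ : ℚ) * ((f₄ : ℤ) : ℚ)) = 0 := by
        linear_combination h3' - 2 * h2q + h1q
      have e2 := e (e₂ : ℚ) (v₂ : ℚ) ((f₂ : ℤ) : ℚ) hq₂
      have e3 := e (e₃ : ℚ) (v₃ : ℚ) ((f₃ : ℤ) : ℚ) hq₃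
      have e4 := e (e₄ : ℚ) (v₄ : ℚ) ((f₄ : ℤ) : ℚ) hq₄
      push_cast at e2 e3 e4 hsum
      -- multiply `hsum` by `f₂ f₃ f₄`
      have : (e₂ : ℚ) * ((f₂ : ℚ) - (v₂ : ℚ)) ^ 2 * (f₃ : ℚ) * (f₄ : ℚ) +
          (e₃ : ℚ) * ((f₃ : ℚ) - (v₃ : ℚ)) ^ 2 * (f₂ : ℚ) * (f₄ : ℚ) +
          (e₄ : ℚ) * ((f₄ : ℚ) - (v₄ : ℚ)) ^ 2 * (f₂ : ℚ) * (f₃ : ℚ) = 0 := by
        rw [e2, e3, e4]
        linear_combination ((f₂ : ℚ) * (f₃ : ℚ) * (f₄ : ℚ)) * hsum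
      exact this
    exact_mod_cast key
  rcases he₂ with r₂ | r₂ <;> rcases he₃ with r₃ | r₃ <;> rcases he₄ with r₄ | r₄ <;>
    subst r₂ r₃ r₄
  · exfalso; linarith
  · -- (+,+,-)
    exfalso
    exact signs_aux1 w₂ w₃ w₄ f₂ f₃ f₄ hW₂ hW₃ hF₂ hF₃ (by linarith) (by linarith)
      (by linear_combination hB)
  · -- (+,-,+)
    exfalso
    exact signs_aux1 w₂ w₄ w₃ f₂ f₄ f₃ hW₂ hW₄ hF₂ hF₄ (by linarith) (by linarith)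
      (by linear_combination hB)
  · -- (+,-,-)
    refine ⟨by norm_num, ?_⟩
    rw [← Int.isSquare_natCast_iff]
    push_cast
    exact signs_aux2 w₂ w₃ w₄ f₂ f₃ f₄ hW₃ hW₄ hF₃ hF₄ (by linarith) (by linarith)
      (by linear_combination hB)
  · -- (-,+,+)
    exfalso
    exact signs_aux1 w₃ w₄ w₂ f₃ f₄ f₂ hW₃ hW₄ hF₃ hF₄ (by linarith) (by linarith)
      (by linear_combination hB)
  · -- (-,+,-)
    refine ⟨by norm_num, ?_⟩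
    rw [← Int.isSquare_natCast_iff]
    push_cast
    have := signs_aux2 w₃ w₂ w₄ f₃ f₂ f₄ hW₂ hW₄ hF₂ hF₄ (by linarith) (by linarith)
      (by linear_combination hB)
    rw [show (f₂ : ℤ) * f₃ * f₄ = (f₃ : ℤ) * f₂ * f₄ by ring]
    exact this
  · -- (-,-,+)
    refine ⟨by norm_num, ?_⟩
    rw [← Int.isSquare_natCast_iff]
    push_cast
    have := signs_aux2 w₄ w₂ w₃ f₄ f₂ f₃ hW₂ hW₃ hF₂ hF₃ (by linarith) (by linarith)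
      (by linear_combination hB)
    rw [show (f₂ : ℤ) * f₃ * f₄ = (f₄ : ℤ) * f₂ * f₃ by ring]
    exact this
  · exfalso; linarith

end Cfsg.Agent.Helper46.BL
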