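import Mathlib
import Cfsg.Prelude.Def_Blocks
import Cfsg.Agent.Lib.Helper46.BL11
import Cfsg.Agent.Lib.Helper46.BL12
import Cfsg.Agent.Lib.Helper74.DefectZero

/-!
# Brauer–Leonard (helper46), part 14: an abelian Sylow `2`-subgroup of exponent at least `4`
with `|N : C| = 3` lies in a proper normal subgroup
-/

set_option autoImplicit false
set_option linter.unusedSectionVars false
set_option linter.style.haveILetI false
set_option maxHeartbeats 3200000
set_option linter.unusedSimpArgs false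

namespace Cfsg.Agent.Helper46.BL

open Cfsg
open Cfsg.Agent.Helper77 Cfsg.Agent.Helper16 Cfsg.Agent.Helper78 Cfsg.Agent.Helper79
open Cfsg.Agent.Helper46.BSQ
open Cfsg.Agent.Helper74.Lin
open Cfsg.Agent.Helper45.BLGT Cfsg.Agent.Helper2.BLLattice
open scoped ComplexConjugate

universe u

/-- the arithmetic behind the key claim -/
theorem key_arith (q : ℤ) (hq : 16 ≤ q) (a₂ a₃ ε : ℤ) (ha₂ : a₂ = 1 ∨ a₂ = -1)
    (ha₃ : a₃ = 1 ∨ a₃ = -1) (hε : ε = 1 ∨ ε = -1) (x₂ x₃ D : ℤ) (hx₂ : 0 < x₂) (hx₃ : 0 < x₃)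
    (hD : 0 < D) (hc₂ : q ∣ x₂ - a₂) (hc₃ : q ∣ x₃ - a₃)
    (h1 : 1 + a₂ * x₂ + a₃ * x₃ = ε * D)
    (h3 : (x₂ * x₃ + a₂ * x₃ + a₃ * x₂) * D = 9 * ε * (x₂ * x₃)) :
    a₂ = 1 ∧ x₂ = 1 := by
  have hε2 : ε * ε = 1 := by rcases hε with h | h <;> rw [h] <;> norm_num
  -- the product relation
  have hC : (x₂ * x₃ + a₂ * x₃ + a₃ * x₂) * (1 + a₂ * x₂ + a₃ * x₃) = 9 * (x₂ * x₃) := by
    rw [h1]
    linear_combination ε * h3 + 9 * x₂ * x₃ * hε2
  have hbig : ∀ x : ℤ, 0 < x → q ∣ x - (-1) → 15 ≤ x := by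
    intro x hx hdvd
    have h1 : q ≤ x - (-1) := Int.le_of_dvd (by linarith) hdvd
    linarith
  rcases ha₂ with r₂ | r₂ <;> rcases ha₃ with r₃ | r₃ <;> subst r₂ r₃
  · -- (1,1)
    refine ⟨rfl, ?_⟩
    have h0 : (x₂ - 1) ^ 2 * x₃ + (x₃ - 1) ^ 2 * x₂ + (x₂ - x₃) ^ 2 = 0 := by
      linear_combination hC
    have t1 : 0 ≤ (x₂ - 1) ^ 2 * x₃ := by positivity
    have t2 : 0 ≤ (x₃ - 1) ^ 2 * x₂ := by positivity
    have t3 : 0 ≤ (x₂ - x₃) ^ 2 := sq_nonneg _
    have t4 : (x₂ - 1) ^ 2 * x₃ = 0 := by linarith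
    rcases mul_eq_zero.1 t4 with h | h
    · have := pow_eq_zero_iff (two_ne_zero) |>.1 h
      linarith
    · linarith
  · -- (1,-1)
    exfalso
    have hv := hbig x₃ hx₃ hc₃
    set E := 1 + 1 * x₂ + -1 * x₃ with hE
    have hfac : 0 < x₂ * x₃ + 1 * x₃ + -1 * x₂ := by nlinarith
    have hEpos : 0 < E := by
      by_contra hneg
      have : E ≤ 0 := by linarith
      have h9 : 0 < 9 * (x₂ * x₃) := by positivity
      nlinarith
    have hrel : x₂ * x₃ * (E - 9) = E * (E - 1) := by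
      rw [hE]
      linear_combination hC
    have hE10 : 10 ≤ E := by
      by_contra hlt
      have hle : E ≤ 9 := by linarith
      have h2 : x₂ * x₃ * (E - 9) ≤ 0 := by
        have : 0 < x₂ * x₃ := by positivity
        nlinarith
      have h3' : 0 ≤ E * (E - 1) := by nlinarith
      have h4 : E * (E - 1) = 0 := by linarith
      have h5 : E = 1 := by
        rcases mul_eq_zero.1 h4 with h | h <;> linarith
      rw [h5] at hrel
      have : 0 < x₂ * x₃ := by positivity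
      linarith
    have hu : E ≤ x₂ := by rw [hE]; linarith
    have h5 : 15 * E * (E - 9) ≤ x₂ * x₃ * (E - 9) := by
      have h6 : 15 * E ≤ x₂ * x₃ := by nlinarith
      have h7 : 0 ≤ E - 9 := by linarith
      nlinarith
    nlinarith
  · -- (-1,1)
    exfalso
    have hv := hbig x₂ hx₂ hc₂
    set E := 1 + -1 * x₂ + 1 * x₃ with hE
    have hfac : 0 < x₂ * x₃ + -1 * x₃ + 1 * x₂ := by nlinarith
    have hEpos : 0 < E := by
      by_contra hneg
      have : E ≤ 0 := by linarith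
      have h9 : 0 < 9 * (x₂ * x₃) := by positivity
      nlinarith
    have hrel : x₂ * x₃ * (E - 9) = E * (E - 1) := by
      rw [hE]
      linear_combination hC
    have hE10 : 10 ≤ E := by
      by_contra hlt
      have hle : E ≤ 9 := by linarith
      have h2 : x₂ * x₃ * (E - 9) ≤ 0 := by
        have : 0 < x₂ * x₃ := by positivity
        nlinarith
      have h3' : 0 ≤ E * (E - 1) := by nlinarith
      have h4 : E * (E - 1) = 0 := by linarith
      have h5 : E = 1 := by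
        rcases mul_eq_zero.1 h4 with h | h <;> linarith
      rw [h5] at hrel
      have : 0 < x₂ * x₃ := by positivity
      linarith
    have hu : E ≤ x₃ := by rw [hE]; linarith
    have h5 : 15 * E * (E - 9) ≤ x₂ * x₃ * (E - 9) := by
      have h6 : 15 * E ≤ x₂ * x₃ := by nlinarith
      have h7 : 0 ≤ E - 9 := by linarith
      nlinarith
    nlinarith
  · -- (-1,-1)
    exfalso
    have hv₂ := hbig x₂ hx₂ hc₂
    have hv₃ := hbig x₃ hx₃ hc₃
    have hfac : 0 < x₂ * x₃ + -1 * x₃ + -1 * x₂ := by nlinarith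
    have hneg : 1 + -1 * x₂ + -1 * x₃ < 0 := by linarith
    have h9 : 0 < 9 * (x₂ * x₃) := by positivity
    nlinarith

section key

variable {G : Type u} [Group G] [Fintype G] {p : ℕ} [hpf : Fact p.Prime] {M : Ideal AlgInt}
  {P : Sylow p G} [Fintype ↥(P : Subgroup G)] [Fintype (↥(P : Subgroup G) →* ℂˣ)]
  [Fintype ↥(Subgroup.normalizer ((P : Subgroup G) : Set G))]
  (hab : IsMulCommutative P)
  (hfrob : ∀ y : G, y ∈ (P : Subgroup G) → y ≠ 1 →
    Subgroup.centralizer ({y} : Set G) ⊓ Subgroup.normalizer ((P : Subgroup G) : Set G) =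
      Subgroup.centralizer ((P : Subgroup G) : Set G))

namespace BLData

variable (D : BLData P M)

include hab hfrob in
/-- the degrees of the non-exceptional characters modulo `|P|` -/
theorem degree_congr (hM : IsPModular p M) (χ : IrrCharacter G) (hχ : χ ∈ principalBlock M G)
    (hχY : χ ∉ D.Yf) :
    (Nat.card ↥(P : Subgroup G) : ℤ) ∣ (charDegree (χ : G → ℂ) : ℤ) - (-D.a₀ χ) := by
  classical
  have hζc : IsCharacter G (χ : G → ℂ) := Cfsg.Agent.Helper80.isCharacter_of_irr χ.2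
  have hres := Cfsg.Agent.Helper81.isCharacter_restrict (P : Subgroup G) hζc
  obtain ⟨n, hn⟩ := Cfsg.Agent.Helper3.classInner_isCharacter_nat hres
    (Cfsg.Agent.Helper80.isCharacter_of_irr (trivIrr ↥(P : Subgroup G)).2)
  unfold classInner at hn
  have hP : (Nat.card ↥(P : Subgroup G) : ℂ) ≠ 0 := by
    have : 0 < Nat.card ↥(P : Subgroup G) := Nat.card_pos
    exact_mod_cast this.ne'
  have hsum : ∑ w : ↥(P : Subgroup G), (χ : G → ℂ) (w : G) * conj ((trivIrr ↥(P : Subgroup G) :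
      ↥(P : Subgroup G) → ℂ) w) = (charDegree (χ : G → ℂ) : ℂ) -
        (D.a₀ χ : ℂ) * ((Nat.card ↥(P : Subgroup G) : ℂ) - 1) := by
    have h1 : ∀ w : ↥(P : Subgroup G), (χ : G → ℂ) (w : G) * conj ((trivIrr ↥(P : Subgroup G) :
        ↥(P : Subgroup G) → ℂ) w) = -(D.a₀ χ : ℂ) +
          (if w = 1 then (charDegree (χ : G → ℂ) : ℂ) + (D.a₀ χ : ℂ) else 0) := by
      intro w
      rw [trivIrr_apply, map_one, mul_one]
      by_cases hw : w = 1
      · rw [if_pos hw, hw, Subgroup.coe_one, (irr_one_eq χ).1]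
        ring
      · rw [if_neg hw, add_zero]
        have hw1 : (w : G) ≠ 1 := fun h => hw (Subtype.ext h)
        rw [D.val_X hab hfrob hM χ hχ hχY (w : G) (w : G)
          (isPPart_self_p (w : G) (pelement_of_mem P w.2)) w.2 hw1]
        push_cast
        rfl
    rw [Finset.sum_congr rfl (fun w _ => h1 w), Finset.sum_add_distrib, Finset.sum_const,
      Finset.sum_ite_eq' Finset.univ (1 : ↥(P : Subgroup G)), if_pos (Finset.mem_univ _),
      Finset.card_univ, nsmul_eq_mul, ← Nat.card_eq_fintype_card]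
    ring
  rw [hsum] at hn
  have h2 : (charDegree (χ : G → ℂ) : ℂ) + (D.a₀ χ : ℂ) =
      (Nat.card ↥(P : Subgroup G) : ℂ) * ((n : ℂ) + (D.a₀ χ : ℂ)) := by
    field_simp at hn
    linear_combination hn
  refine ⟨(n : ℤ) + D.a₀ χ, ?_⟩
  have : (((charDegree (χ : G → ℂ) : ℤ) - (-D.a₀ χ) : ℤ) : ℂ) =
      (((Nat.card ↥(P : Subgroup G) : ℤ) * ((n : ℤ) + D.a₀ χ) : ℤ) : ℂ) := by
    push_cast
    linear_combination h2
  exact_mod_cast this

end BLData

end key

end Cfsg.Agent.Helper46.BL
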