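import Mathlib
import Cfsg.Prelude.Def_Blocks
import Cfsg.Agent.Lib.Helper46.BL14
import Cfsg.Agent.Lib.Helper23.BLNoInvolProd
import Cfsg.Agent.Lib.Helper16.BLRot

/-!
# Brauer–Leonard (helper46), part 15: the key step of Brauer's theorem on Sylow `2`-subgroups
of type `(2^m, 2^m)`

An abelian Sylow `2`-subgroup `P` containing an element of order `4`, with `|N(P) : C(P)| = 3`
acting without fixed points, lies in a proper normal subgroup (the kernel of a nontrivial linear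
character of the principal `2`-block).
-/

set_option autoImplicit false
set_option linter.unusedSectionVars false
set_option linter.style.haveILetI false
set_option maxHeartbeats 3200000
set_option linter.unusedSimpArgs false

namespace Cfsg.Agent.Helper46.BL

open Cfsg
open Cfsg.Agent.Helper77 Cfsg.Agent.Helper16 Cfsg.Agent.Helper78 Cfsg.Agent.Helper79
open Cfsg.Agent.Helper46.BSQ
open Cfsg.Agent.Helper74.Lin
open Cfsg.Agent.Helper45.BLGT Cfsg.Agent.Helper2.BLLattice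
open scoped ComplexConjugate

universe u

/-- **Key step of Brauer's theorem on Sylow `2`-subgroups of type `(2^m, 2^m)`.** -/
theorem exists_proper_normal_of_order_four {G : Type u} [Group G] [Finite G] (P : Sylow 2 G)
    (hab : IsMulCommutative P) (hm2 : 3 + 1 < Nat.card ↥(P : Subgroup G))
    (hCN : (Subgroup.centralizer ((P : Subgroup G) : Set G)).relIndex
      (Subgroup.normalizer ((P : Subgroup G) : Set G)) = 3)
    (hfrob : ∀ y : G, y ∈ (P : Subgroup G) → y ≠ 1 →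
      Subgroup.centralizer ({y} : Set G) ⊓ Subgroup.normalizer ((P : Subgroup G) : Set G) =
        Subgroup.centralizer ((P : Subgroup G) : Set G))
    (y₄ : G) (hy₄ : y₄ ∈ (P : Subgroup G)) (ho : orderOf y₄ = 4) :
    ∃ K : Subgroup G, K.Normal ∧ K ≠ ⊤ ∧ (P : Subgroup G) ≤ K := by
  classical
  obtain ⟨M, hM⟩ := Cfsg.Agent.Helper74.DZ.exists_isPModular 2 Nat.prime_two
  haveI : Fintype G := Fintype.ofFinite G
  haveI : Fintype ↥(P : Subgroup G) := Fintype.ofFinite _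
  haveI : Fintype ↥(Subgroup.normalizer ((P : Subgroup G) : Set G)) := Fintype.ofFinite _
  haveI hfinHom : Finite (↥(P : Subgroup G) →* ℂˣ) := by
    apply Nat.finite_of_card_ne_zero
    rw [card_hom_sylow 2 P hab hfrob]
    exact Nat.card_pos.ne'
  haveI : Fintype (↥(P : Subgroup G) →* ℂˣ) := Fintype.ofFinite _
  haveI := isPrime_of_isPModular hM
  have hP1 : Nat.card ↥(P : Subgroup G) ≠ 1 := by omega
  obtain ⟨D₀⟩ := exists_blData P hab hfrob hM hP1 3 hm2 hCN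
  obtain ⟨D, hd⟩ := D₀.exists_d₀_zero hab hfrob hM hm2 hCN
  set T := (Set.toFinite (principalBlock M G)).toFinset with hT
  have hTmem : ∀ χ, χ ∈ T ↔ χ ∈ principalBlock M G := fun χ => Set.Finite.mem_toFinset _
  obtain ⟨hX3, hpm⟩ := D.m3_X hab hfrob hM hm2 hCN hd
  have htriv := D.a₀_triv hab hfrob hM 3 hm2 hCN
  have htrivX : trivIrr G ∈ T \ D.Yf :=
    Finset.mem_sdiff.2 ⟨(hTmem _).2 (trivIrr_mem_principalBlock M),
      D.triv_not_mem_Yf hab hfrob hM 3 hm2 hCN⟩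
  have hE2 : ((T \ D.Yf).erase (trivIrr G)).card = 2 := by
    rw [Finset.card_erase_of_mem htrivX, hX3]
  obtain ⟨χ₂, χ₃, hne, hE⟩ := Finset.card_eq_two.1 hE2
  have hχ₂E : χ₂ ∈ (T \ D.Yf).erase (trivIrr G) := by rw [hE]; simp
  have hχ₃E : χ₃ ∈ (T \ D.Yf).erase (trivIrr G) := by rw [hE]; simp
  have hχ₂X := Finset.mem_of_mem_erase hχ₂E
  have hχ₃X := Finset.mem_of_mem_erase hχ₃E
  have hχ₂1 := Finset.ne_of_mem_erase hχ₂E
  have hsumX : ∀ f : IrrCharacter G → ℂ,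
      ∑ χ ∈ T \ D.Yf, f χ = f (trivIrr G) + (f χ₂ + f χ₃) := by
    intro f
    rw [← Finset.insert_erase htrivX, Finset.sum_insert (Finset.notMem_erase _ _), hE,
      Finset.sum_pair hne]
  obtain ⟨ψ₀, hψ₀⟩ := exists_nontrivial_hom P hab hfrob hP1
  have hη₀ : D.ζ ψ₀ ∈ D.Yf := (D.mem_Yf _).2 ⟨ψ₀, hψ₀, rfl⟩
  -- the order of `P`
  have hcard := D.card_Yf hab hfrob 3 hCN
  have hP16 : 16 ≤ Nat.card ↥(P : Subgroup G) := by
    obtain ⟨n, hn⟩ := (P.isPGroup').exists_card_eq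
    have hn3 : 3 ≤ n := by
      by_contra hlt
      have : n ≤ 2 := by omega
      have := Nat.pow_le_pow_right (show 0 < 2 by norm_num) this
      omega
    rcases Nat.lt_or_ge n 4 with h4 | h4
    · have : n = 3 := by omega
      rw [this] at hn
      omega
    · have := Nat.pow_le_pow_right (show 0 < 2 by norm_num) h4
      omega
  -- the involution `t = y₄²`
  have ht2 : orderOf (y₄ ^ 2) = 2 := by
    rw [orderOf_pow_of_dvd (by norm_num) (by rw [ho]; norm_num), ho]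
  have htmem : y₄ ^ 2 ∈ (P : Subgroup G) := Subgroup.pow_mem _ hy₄ 2
  have hy1 : y₄ ≠ 1 := by
    intro h
    rw [h, orderOf_one] at ho
    omega
  have hy1' : (⟨y₄, hy₄⟩ : ↥(P : Subgroup G)) ≠ 1 := fun h => hy1 (congrArg Subtype.val h)
  obtain ⟨c, -, hcprod, -, -, hcls⟩ := Cfsg.Agent.Helper16.BLRot.exists_rot 2 P hab hCN hfrob
  have hquad := D.two_quad hab hfrob hM hm2 hd c hcprod hcls ⟨y₄ ^ 2, htmem⟩ ht2
  have hnconj : ¬ IsConj (y₄ ^ 2) y₄ := by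
    intro h
    obtain ⟨g, hg⟩ := isConj_iff.1 h
    have h1 : orderOf (g * y₄ ^ 2 * g⁻¹) = orderOf (y₄ ^ 2) :=
      MulEquiv.orderOf_eq (MulAut.conj g) (y₄ ^ 2)
    rw [hg, ht2, ho] at h1
    omega
  have hyt : ∀ t₁ t₂ : G, t₁ ∈ (P : Subgroup G) → t₂ ∈ (P : Subgroup G) → IsConj (y₄ ^ 2) t₁ →
      IsConj (y₄ ^ 2) t₂ → t₁ * t₂ ≠ y₄ := by
    intro t₁ t₂ h1 h2 hc1 hc2 heq
    have ho1 : t₁ * t₁ = 1 := by
      obtain ⟨g, hg⟩ := isConj_iff.1 hc1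
      rw [← hg]
      have : y₄ ^ 2 * y₄ ^ 2 = 1 := by
        have := pow_orderOf_eq_one (y₄ ^ 2)
        rw [ht2, pow_two] at this
        exact this
      calc g * y₄ ^ 2 * g⁻¹ * (g * y₄ ^ 2 * g⁻¹) = g * (y₄ ^ 2 * y₄ ^ 2) * g⁻¹ := by group
        _ = 1 := by rw [this]; group
    have ho2 : t₂ * t₂ = 1 := by
      obtain ⟨g, hg⟩ := isConj_iff.1 hc2
      rw [← hg]
      have : y₄ ^ 2 * y₄ ^ 2 = 1 := by
        have := pow_orderOf_eq_one (y₄ ^ 2)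
        rw [ht2, pow_two] at this
        exact this
      calc g * y₄ ^ 2 * g⁻¹ * (g * y₄ ^ 2 * g⁻¹) = g * (y₄ ^ 2 * y₄ ^ 2) * g⁻¹ := by group
        _ = 1 := by rw [this]; group
    have hcomm : t₂ * t₁ = t₁ * t₂ := by
      have := comm_of_hab P hab ⟨t₂, h2⟩ ⟨t₁, h1⟩
      exact congrArg Subtype.val this
    have hy2 : y₄ ^ 2 = 1 := by
      rw [pow_two, ← heq]
      calc t₁ * t₂ * (t₁ * t₂) = t₁ * (t₂ * t₁) * t₂ := by group
        _ = t₁ * (t₁ * t₂) * t₂ := by rw [hcomm]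
        _ = (t₁ * t₁) * (t₂ * t₂) := by group
        _ = 1 := by rw [ho1, ho2, one_mul]
    rw [hy2, orderOf_one] at ht2
    omega
  have hcore := D.two_core hab hfrob hM hm2 hCN hd ⟨y₄ ^ 2, htmem⟩ ht2 hquad ⟨y₄, hy₄⟩ hy1'
    hnconj (fun a b x hx => Cfsg.Agent.Helper23.BLNoInvolProd.no_invol_prod 2 P hab hCN hfrob
      (y₄ ^ 2) ht2 y₄ hy₄ hy1 hyt a b x hx) (D.ζ ψ₀) hη₀
  -- the relation of the degrees
  have h1ord : ¬ 2 ∣ orderOf (1 : G) := by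
    rw [orderOf_one]; norm_num
  have hR1 := D.reg hM 1 h1ord ψ₀ hψ₀
  rw [D.sum_split_zero hd (fun χ => (χ : G → ℂ) 1), hsumX, htriv, trivIrr_apply,
    (irr_one_eq χ₂).1, (irr_one_eq χ₃).1, (irr_one_eq (D.ζ ψ₀)).1] at hR1
  rw [hsumX, htriv, (show charDegree ((trivIrr G : IrrCharacter G) : G → ℂ) = 1 from by
      have := (irr_one_eq (trivIrr G)).1
      rw [trivIrr_apply] at this
      exact_mod_cast this.symm)] at hcore
  set x₂ : ℤ := (charDegree (χ₂ : G → ℂ) : ℤ) with hx₂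
  set x₃ : ℤ := (charDegree (χ₃ : G → ℂ) : ℤ) with hx₃
  set Dη : ℤ := (charDegree (D.ζ ψ₀ : G → ℂ) : ℤ) with hDη
  have hx₂pos : 0 < x₂ := by rw [hx₂]; exact_mod_cast (irr_one_eq χ₂).2
  have hx₃pos : 0 < x₃ := by rw [hx₃]; exact_mod_cast (irr_one_eq χ₃).2
  have hDpos : 0 < Dη := by rw [hDη]; exact_mod_cast (irr_one_eq (D.ζ ψ₀)).2
  have hsq₂ : D.a₀ χ₂ ^ 2 = 1 := by rcases hpm χ₂ hχ₂X with h | h <;> rw [h] <;> norm_num
  have hsq₃ : D.a₀ χ₃ ^ 2 = 1 := by rcases hpm χ₃ hχ₃X with h | h <;> rw [h] <;> norm_num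
  have hε2 : D.ε ^ 2 = 1 := by rcases D.hε with h | h <;> rw [h] <;> norm_num
  have h1 : 1 + -D.a₀ χ₂ * x₂ + -D.a₀ χ₃ * x₃ = D.ε * Dη := by
    have : (((1 + -D.a₀ χ₂ * x₂ + -D.a₀ χ₃ * x₃ : ℤ)) : ℂ) = ((D.ε * Dη : ℤ) : ℂ) := by
      rw [hx₂, hx₃, hDη]
      push_cast
      push_cast at hR1
      linear_combination -hR1
    exact_mod_cast this
  have h3 : (x₂ * x₃ + -D.a₀ χ₂ * x₃ + -D.a₀ χ₃ * x₂) * Dη = 9 * D.ε * (x₂ * x₃) := by
    have hx₂0 : (x₂ : ℂ) ≠ 0 := by exact_mod_cast hx₂pos.ne'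
    have hx₃0 : (x₃ : ℂ) ≠ 0 := by exact_mod_cast hx₃pos.ne'
    have hD0 : (Dη : ℂ) ≠ 0 := by exact_mod_cast hDpos.ne'
    have hsq₂C : (D.a₀ χ₂ : ℂ) ^ 2 = 1 := by exact_mod_cast hsq₂
    have hsq₃C : (D.a₀ χ₃ : ℂ) ^ 2 = 1 := by exact_mod_cast hsq₃
    have hε2C : (D.ε : ℂ) ^ 2 = 1 := by exact_mod_cast hε2
    have hcore' : -1 + (D.a₀ χ₂ : ℂ) / (x₂ : ℂ) + (D.a₀ χ₃ : ℂ) / (x₃ : ℂ) +
        9 * (D.ε : ℂ) / (Dη : ℂ) = 0 := by
      rw [hx₂, hx₃, hDη]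
      push_cast
      push_cast at hcore
      have e2 : (D.a₀ χ₂ : ℂ) * ((-(D.a₀ χ₂ : ℂ)) ^ 2 / (charDegree (χ₂ : G → ℂ) : ℂ)) =
          (D.a₀ χ₂ : ℂ) / (charDegree (χ₂ : G → ℂ) : ℂ) := by
        rw [neg_sq, hsq₂C]; ring
      have e3 : (D.a₀ χ₃ : ℂ) * ((-(D.a₀ χ₃ : ℂ)) ^ 2 / (charDegree (χ₃ : G → ℂ) : ℂ)) =
          (D.a₀ χ₃ : ℂ) / (charDegree (χ₃ : G → ℂ) : ℂ) := by
        rw [neg_sq, hsq₃C]; ring
      have e4 : (D.ε : ℂ) * ((3 * (D.ε : ℂ)) ^ 2 / (charDegree (D.ζ ψ₀ : G → ℂ) : ℂ)) =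
          9 * (D.ε : ℂ) / (charDegree (D.ζ ψ₀ : G → ℂ) : ℂ) := by
        rw [mul_pow, hε2C]; ring
      rw [e2, e3, e4] at hcore
      linear_combination hcore
    have : ((((x₂ * x₃ + -D.a₀ χ₂ * x₃ + -D.a₀ χ₃ * x₂) * Dη : ℤ)) : ℂ) =
        ((9 * D.ε * (x₂ * x₃) : ℤ) : ℂ) := by
      push_cast
      field_simp at hcore'
      linear_combination -hcore'
    exact_mod_cast this
  have hχ₂mem := Finset.mem_sdiff.1 hχ₂X
  have hχ₃mem := Finset.mem_sdiff.1 hχ₃X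
  have hc₂ := D.degree_congr hab hfrob hM χ₂ ((hTmem χ₂).1 hχ₂mem.1) hχ₂mem.2
  have hc₃ := D.degree_congr hab hfrob hM χ₃ ((hTmem χ₃).1 hχ₃mem.1) hχ₃mem.2
  obtain ⟨ha₂, hx₂1⟩ := key_arith (Nat.card ↥(P : Subgroup G) : ℤ) (by exact_mod_cast hP16)
    (-D.a₀ χ₂) (-D.a₀ χ₃) D.ε
    (by rcases hpm χ₂ hχ₂X with h | h <;> rw [h] <;> norm_num)
    (by rcases hpm χ₃ hχ₃X with h | h <;> rw [h] <;> norm_num)
    D.hε x₂ x₃ Dη hx₂pos hx₃pos hDpos hc₂ hc₃ h1 h3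
  -- the kernel of `χ₂`
  refine ⟨irrKer χ₂, inferInstance, ?_, ?_⟩
  · intro htop
    apply hχ₂1
    apply eq_trivIrr_of_const
    intro g
    have : g ∈ irrKer χ₂ := by rw [htop]; exact Subgroup.mem_top g
    exact (mem_irrKer χ₂ g).1 this
  · intro w hw
    rw [mem_irrKer]
    by_cases hw1 : w = 1
    · rw [hw1]
    · rw [D.val_X hab hfrob hM χ₂ ((hTmem χ₂).1 hχ₂mem.1) hχ₂mem.2 w w
        (isPPart_self_p w (pelement_of_mem P hw)) hw hw1, (irr_one_eq χ₂).1, ha₂]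
      have : (charDegree (χ₂ : G → ℂ) : ℤ) = 1 := hx₂1
      have h' : charDegree (χ₂ : G → ℂ) = 1 := by exact_mod_cast this
      rw [h']
      push_cast
      rfl

end Cfsg.Agent.Helper46.BL
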