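import Mathlib
import Cfsg.Agent.Lib.Helper1.CD3.Defs
import Cfsg.Agent.S0173
import Cfsg.Agent.S4127

/-!
# CD3B project (S4460), piece P5: a `p`-element fixing every irreducible character of the
normal `p'`-subgroup `R` centralises `R`
-/

set_option autoImplicit false

namespace Cfsg.Agent.Helper46.CD3B

open Cfsg Cfsg.Agent.Helper81 Cfsg.Agent.Helper1.CD3

universe u

/-- an automorphism of a finite group fixing all irreducible characters fixes all classes
(Brauer's permutation lemma, S0173) -/
theorem h46_classes_fixed {R : Type u} [Group R] [Finite R] (α : R ≃* R)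
    (h : ∀ χ : Cfsg.IrrCharacter R, (χ : R → ℂ) ∘ α = (χ : R → ℂ)) (r : R) :
    IsConj (α r) r := by
  classical
  have h1 := Cfsg.Agent.S0173.result α
  have h2 := Cfsg.Agent.S0173.result (MulEquiv.refl R)
  have e1 : Nat.card {χ : Cfsg.IrrCharacter R // (χ : R → ℂ) ∘ α = (χ : R → ℂ)} =
      Nat.card (Cfsg.IrrCharacter R) :=
    Nat.card_congr (Equiv.subtypeUnivEquiv h)
  have e2 : Nat.card {χ : Cfsg.IrrCharacter R //
      (χ : R → ℂ) ∘ (MulEquiv.refl R) = (χ : R → ℂ)} = Nat.card (Cfsg.IrrCharacter R) :=
    Nat.card_congr (Equiv.subtypeUnivEquiv (fun _ => rfl))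
  have e3 : Nat.card {C : ConjClasses R //
      ConjClasses.map (MulEquiv.refl R).toMonoidHom C = C} = Nat.card (ConjClasses R) :=
    Nat.card_congr (Equiv.subtypeUnivEquiv (fun C => by
      induction C using Quotient.inductionOn' with
      | h a => rfl))
  have e4 : Nat.card {C : ConjClasses R // ConjClasses.map α.toMonoidHom C = C} =
      Nat.card (ConjClasses R) := by
    rw [h1, e1, ← e2, ← h2, e3]
  have hall : ∀ C : ConjClasses R, ConjClasses.map α.toMonoidHom C = C := by
    by_contra hne
    rw [not_forall] at hne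
    obtain ⟨C, hC⟩ := hne
    have : Fintype (ConjClasses R) := Fintype.ofFinite _
    have hlt := Fintype.card_subtype_lt
      (p := fun C : ConjClasses R => ConjClasses.map α.toMonoidHom C = C) hC
    rw [← Nat.card_eq_fintype_card, ← Nat.card_eq_fintype_card, e4] at hlt
    exact lt_irrefl _ hlt
  have h3 := hall (ConjClasses.mk r)
  exact ConjClasses.mk_eq_mk_iff_isConj.mp h3

/-- (P5) -/
theorem p_central {Φ : Type u} [Group Φ] [Finite Φ] (p : ℕ) [Fact p.Prime]
    (R : Subgroup Φ) (hR : R.Normal) (hRc : (Nat.card R).Coprime p)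
    (x : Φ) (hx : ∃ k : ℕ, orderOf x = p ^ k)
    (hfix : ∀ ρ : R → ℂ, IsIrrCharacter R ρ → conjFun R hR ρ x = ρ) :
    ∀ r ∈ R, x * r = r * x := by
  classical
  have := hR
  have hconj : ∀ m : R, IsConj (MulAut.conjNormal x m) m := by
    apply h46_classes_fixed (MulAut.conjNormal x : R ≃* R)
    intro χ
    have h := hfix χ.1 χ.2
    funext n
    have h' := congrFun h n
    rw [conjFun_apply] at h'
    rw [Function.comp_apply, ← h']
    congr 1
  -- the subgroup of elements of `Φ` fixing all classes of `R`
  let T : Subgroup Φ :=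
    { carrier := {g | ∀ m : R, IsConj (MulAut.conjNormal g m) m}
      one_mem' := by
        intro m
        rw [map_one]
        exact IsConj.refl m
      mul_mem' := by
        intro a b ha hb m
        rw [map_mul]
        exact (ha (MulAut.conjNormal b m)).trans (hb m)
      inv_mem' := by
        intro a ha m
        have h := ha (MulAut.conjNormal a⁻¹ m)
        rw [← MulAut.mul_apply, ← map_mul, mul_inv_cancel, map_one] at h
        exact h.symm }
  have hZT : Subgroup.zpowers x ≤ T := (Subgroup.zpowers_le).mpr hconj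
  have hZ : IsPGroup p (Subgroup.zpowers x) := by
    obtain ⟨k, hk⟩ := hx
    exact IsPGroup.of_card (n := k) (by rw [Nat.card_zpowers, hk])
  let act : MulAction (Subgroup.zpowers x) R :=
    MulAction.compHom R ((MulAut.conjNormal (H := R)).comp (Subgroup.zpowers x).subtype)
  have hsmul : ∀ (z : Subgroup.zpowers x) (n : R), z • n = MulAut.conjNormal (z : Φ) n :=
    fun _ _ => rfl
  -- the centraliser of `x` in `R`
  let C : Subgroup R :=
    { carrier := {n | x * (n : Φ) = (n : Φ) * x}
      one_mem' := by simp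
      mul_mem' := by
        intro a b ha hb
        change x * (a : Φ) = (a : Φ) * x at ha
        change x * (b : Φ) = (b : Φ) * x at hb
        change x * ((a * b : R) : Φ) = ((a * b : R) : Φ) * x
        rw [Subgroup.coe_mul, ← mul_assoc, ha, mul_assoc, hb, mul_assoc]
      inv_mem' := by
        intro a ha
        change x * (a : Φ) = (a : Φ) * x at ha
        change x * ((a⁻¹ : R) : Φ) = ((a⁻¹ : R) : Φ) * x
        rw [Subgroup.coe_inv]
        calc x * (a : Φ)⁻¹ = (a : Φ)⁻¹ * ((a : Φ) * x) * (a : Φ)⁻¹ := by group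
          _ = (a : Φ)⁻¹ * (x * (a : Φ)) * (a : Φ)⁻¹ := by rw [ha]
          _ = (a : Φ)⁻¹ * x := by group }
  have hcover : ∀ g : R, ∃ c : R, c⁻¹ * g * c ∈ C := by
    intro g
    let S : SubMulAction (Subgroup.zpowers x) R :=
      { carrier := MulAction.orbit (ConjAct R) g
        smul_mem' := by
          intro z n hn
          rw [ConjAct.mem_orbit_conjAct] at hn ⊢
          rw [hsmul]
          exact (hZT z.2 n).trans hn }
    have hcard : ¬ p ∣ Nat.card S := by
      have h1 : Nat.card S = (MulAction.orbit (ConjAct R) g).ncard :=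
        Nat.card_coe_set_eq (MulAction.orbit (ConjAct R) g)
      have h2 := MulAction.index_stabilizer (ConjAct R) g
      have h3 : (MulAction.stabilizer (ConjAct R) g).index ∣ Nat.card (ConjAct R) :=
        Subgroup.index_dvd_card _
      have h4 : Nat.card (ConjAct R) = Nat.card R := rfl
      rw [h1, ← h2]
      intro hp
      have h5 : p ∣ Nat.card R := h4 ▸ hp.trans h3
      have h6 := Nat.Coprime.eq_one_of_dvd hRc.symm h5
      exact (Fact.out : p.Prime).one_lt.ne' h6
    obtain ⟨s, hs⟩ := hZ.nonempty_fixed_point_of_prime_not_dvd_card S hcard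
    have hsx : x * ((s : R) : Φ) = ((s : R) : Φ) * x := by
      have h1 := hs ⟨x, Subgroup.mem_zpowers x⟩
      have h2 : (MulAut.conjNormal x (s : R) : R) = (s : R) := congrArg Subtype.val h1
      have h3 := congrArg Subtype.val h2
      rw [MulAut.conjNormal_apply] at h3
      calc x * ((s : R) : Φ) = (x * ((s : R) : Φ) * x⁻¹) * x := by group
        _ = ((s : R) : Φ) * x := by rw [h3]
    have hsg : IsConj (s : R) g := ConjAct.mem_orbit_conjAct.mp s.2
    obtain ⟨c, hc⟩ := isConj_iff.mp hsg
    refine ⟨c, ?_⟩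
    have h7 : c⁻¹ * g * c = (s : R) := by rw [← hc]; group
    rw [h7]
    exact hsx
  have hCtop := Cfsg.Agent.S4127.eq_top_of_conj_cover C hcover
  intro r hr
  have h8 : (⟨r, hr⟩ : R) ∈ C := by rw [hCtop]; exact Subgroup.mem_top _
  exact h8

end Cfsg.Agent.Helper46.CD3B
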