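import Mathlib
import Cfsg.Prelude.Def_LocalEven
import Cfsg.Agent.Lib.Helper46.PCore

set_option autoImplicit false

namespace Cfsg.Agent.Helper46

open Cfsg

variable {G : Type*} [Group G] {p : ℕ}

/-- A subgroup all of whose `p'`-elements are trivial is a `p`-group. -/
theorem isPGroup_of_coprime_eq_one [Finite G] [Fact p.Prime] {C : Subgroup G}
    (h : ∀ x ∈ C, (orderOf x).Coprime p → x = 1) : IsPGroup p C := by
  rw [isPGroup_subgroup_iff]
  intro c hc
  have hpos : orderOf c ≠ 0 := (orderOf_pos c).ne'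
  obtain ⟨k, m, hm, hkm⟩ := Nat.exists_eq_pow_mul_and_not_dvd hpos p (Fact.out : p.Prime).ne_one
  refine ⟨k, ?_⟩
  apply h _ (C.pow_mem hc _)
  have hord : orderOf (c ^ p ^ k) = m := by
    rw [orderOf_pow' c (pow_ne_zero k (Fact.out : p.Prime).ne_zero), hkm,
      Nat.gcd_eq_right (Dvd.intro _ rfl)]
    exact Nat.mul_div_cancel_left m (pow_pos (Fact.out : p.Prime).pos k)
  rw [hord]
  exact ((Fact.out : p.Prime).coprime_iff_not_dvd.mpr hm).symm

/-- Stability-group argument: in a finite group of characteristic `p`, a `p'`-element `x` of a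
normal subgroup `N` that centralizes a subgroup `P` containing `O_p(G) ∩ N` is trivial. -/
theorem eq_one_of_coprime_of_centralizes [Finite G] [Fact p.Prime]
    (hchar : Subgroup.centralizer (pCore p G : Set G) ≤ pCore p G) {N : Subgroup G}
    (hN : N.Normal) {P : Subgroup G} (hP : pCore p G ⊓ N ≤ P) {x : G} (hxN : x ∈ N)
    (hx : (orderOf x).Coprime p) (hxP : x ∈ Subgroup.centralizer (P : Set G)) : x = 1 := by
  have hQn : (pCore p G).Normal := pCore_normal p G
  have hxQ : x ∈ Subgroup.centralizer (pCore p G : Set G) := by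
    rw [Subgroup.mem_centralizer_iff]
    intro q hq
    set r := q⁻¹ * (x * q * x⁻¹) with hr
    have hrQ : r ∈ pCore p G := Subgroup.mul_mem _ (Subgroup.inv_mem _ hq) (hQn.conj_mem q hq x)
    have hrN : r ∈ N := by
      have h1 : q⁻¹ * x * q⁻¹⁻¹ ∈ N := hN.conj_mem x hxN q⁻¹
      have h2 : r = (q⁻¹ * x * q⁻¹⁻¹) * x⁻¹ := by rw [hr]; group
      rw [h2]; exact N.mul_mem h1 (N.inv_mem hxN)
    have hrP : r ∈ P := hP (Subgroup.mem_inf.mpr ⟨hrQ, hrN⟩)
    have hxr : r * x = x * r := Subgroup.mem_centralizer_iff.mp hxP r hrP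
    have hxq : x * q * x⁻¹ = q * r := by rw [hr]; group
    have key : ∀ k : ℕ, x ^ k * q * (x ^ k)⁻¹ = q * r ^ k := by
      intro k
      induction k with
      | zero => simp
      | succ k ih =>
        have hc : Commute x r := hxr.symm
        calc x ^ (k + 1) * q * (x ^ (k + 1))⁻¹ = x * (x ^ k * q * (x ^ k)⁻¹) * x⁻¹ := by
              rw [pow_succ']; group
          _ = x * (q * r ^ k) * x⁻¹ := by rw [ih]
          _ = (x * q * x⁻¹) * (x * r ^ k * x⁻¹) := by group
          _ = q * r * r ^ k := by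
              rw [hxq, (hc.pow_right k).eq, mul_inv_cancel_right]
          _ = q * r ^ (k + 1) := by rw [pow_succ', mul_assoc]
    have h1 := key (orderOf x)
    rw [pow_orderOf_eq_one, one_mul, inv_one, mul_one] at h1
    have h2 : r ^ orderOf x = 1 := by
      have := mul_left_cancel (a := q) (b := 1) (c := r ^ orderOf x) (by rw [mul_one]; exact h1)
      exact this.symm
    obtain ⟨j, hj⟩ := pCore_pow_eq_one hrQ
    have h3 : orderOf r ∣ orderOf x := orderOf_dvd_of_pow_eq_one h2
    have h4 : orderOf r ∣ p ^ j := orderOf_dvd_of_pow_eq_one hj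
    have h5 : orderOf r = 1 :=
      Nat.eq_one_of_dvd_coprimes (hx.pow_right j) h3 h4
    have h6 : r = 1 := orderOf_eq_one_iff.mp h5
    rw [h6, mul_one] at hxq
    calc q * x = (x * q * x⁻¹) * x := by rw [hxq]
      _ = x * q := by group
  have hxQ' : x ∈ pCore p G := hchar hxQ
  obtain ⟨j, hj⟩ := pCore_pow_eq_one hxQ'
  have h4 : orderOf x ∣ p ^ j := orderOf_dvd_of_pow_eq_one hj
  have h5 : orderOf x = 1 := Nat.eq_one_of_dvd_coprimes (hx.pow_right j) dvd_rfl h4
  exact orderOf_eq_one_iff.mp h5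

end Cfsg.Agent.Helper46
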