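import Mathlib
import Cfsg.Prelude.Def_LocalEven
import Cfsg.Agent.Lib.Helper46.PCore
import Cfsg.Agent.Lib.Helper46.CharP

set_option autoImplicit false

namespace Cfsg.Agent.Helper46

open Cfsg

variable {G : Type*} [Group G] {p : ℕ}

/-- Let `G` be finite of characteristic `p`, `H ≤ G`, and `N ≤ H` a normal subgroup of `G` that
contains every `p'`-element of `C_H(O_p(H))`. Then `H` has characteristic `p`. -/
theorem charP_of_normal_of_coprime_mem [Finite G] [Fact p.Prime]
    (hchar : Subgroup.centralizer (pCore p G : Set G) ≤ pCore p G) (H : Subgroup G)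
    {N : Subgroup G} (hN : N.Normal) (hNH : N ≤ H)
    (hmem : ∀ c : H, c ∈ Subgroup.centralizer (pCore p ↥H : Set ↥H) →
      (orderOf c).Coprime p → (c : G) ∈ N) :
    Subgroup.centralizer (pCore p ↥H : Set ↥H) ≤ pCore p ↥H := by
  have hCn : (Subgroup.centralizer (pCore p ↥H : Set ↥H)).Normal := Subgroup.normal_centralizer
  apply le_pCore hCn
  apply isPGroup_of_coprime_eq_one
  intro c hc hco
  apply Subtype.ext
  rw [Subgroup.coe_one]
  have hP : pCore p G ⊓ N ≤ (pCore p ↥H).map H.subtype := by
    intro z hz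
    have hzH : z ∈ H := hNH (Subgroup.mem_inf.mp hz).2
    have hn : ((pCore p G ⊓ N).subgroupOf H).Normal := by
      have : (pCore p G ⊓ N).Normal := inferInstance
      exact this.subgroupOf H
    have hp : IsPGroup p ((pCore p G ⊓ N).subgroupOf H) :=
      (isPGroup_pCore.to_le inf_le_left).comap_subtype
    have := le_pCore hn hp
    exact ⟨⟨z, hzH⟩, this hz, rfl⟩
  apply eq_one_of_coprime_of_centralizes hchar hN hP (hmem c hc hco)
  · rwa [Subgroup.orderOf_coe]
  · rw [Subgroup.mem_centralizer_iff]
    rintro y ⟨y0, hy0, rfl⟩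
    have := Subgroup.mem_centralizer_iff.mp hc y0 hy0
    exact congrArg Subtype.val this

/-- Normal subgroups of groups of characteristic `p` have characteristic `p`. -/
theorem charP_of_normal [Finite G] [Fact p.Prime]
    (hchar : Subgroup.centralizer (pCore p G : Set G) ≤ pCore p G) (H : Subgroup G)
    (hH : H.Normal) : Subgroup.centralizer (pCore p ↥H : Set ↥H) ≤ pCore p ↥H :=
  charP_of_normal_of_coprime_mem hchar H hH le_rfl (fun c _ _ => c.2)

end Cfsg.Agent.Helper46
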