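import Mathlib
import Cfsg.Prelude.Def_LocalEven
import Cfsg.Agent.Lib.Helper46.PCore
import Cfsg.Agent.Lib.Helper46.Amalgam2
import Cfsg.Agent.Lib.Helper30.Cores

set_option autoImplicit false

namespace Cfsg.Agent.Helper46

open Cfsg
open scoped commutatorElement

variable {G : Type*} [Group G] {p : ℕ}

/-- Stability: if `x q x⁻¹ = q r` with `x` commuting with `r` and `x ^ m = 1`, then `r ^ m = 1`. -/
theorem pow_eq_one_of_conj_eq_mul {x q r : G} {m : ℕ} (hxq : x * q * x⁻¹ = q * r)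
    (hxr : x * r = r * x) (hm : x ^ m = 1) : r ^ m = 1 := by
  have key : ∀ k : ℕ, x ^ k * q * (x ^ k)⁻¹ = q * r ^ k := by
    intro k
    induction k with
    | zero => simp
    | succ k ih =>
      have hc : Commute x r := hxr
      calc x ^ (k + 1) * q * (x ^ (k + 1))⁻¹ = x * (x ^ k * q * (x ^ k)⁻¹) * x⁻¹ := by
            rw [pow_succ']; group
        _ = x * (q * r ^ k) * x⁻¹ := by rw [ih]
        _ = (x * q * x⁻¹) * (x * r ^ k * x⁻¹) := by group
        _ = q * r * r ^ k := by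
            rw [hxq, (hc.pow_right k).eq, mul_inv_cancel_right]
        _ = q * r ^ (k + 1) := by rw [pow_succ', mul_assoc]
  have h1 := key m
  rw [hm, one_mul, inv_one, mul_one] at h1
  have := mul_left_cancel (a := q) (b := 1) (c := r ^ m) (by rw [mul_one]; exact h1)
  exact this.symm

/-- An element of `p`-power order killed by an exponent coprime to `p` is trivial. -/
theorem eq_one_of_pow_eq_one_of_coprime [Fact p.Prime] {r : G} {m j : ℕ} (hm : r ^ m = 1)
    (hj : r ^ p ^ j = 1) (hco : m.Coprime p) : r = 1 := by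
  have h3 : orderOf r ∣ m := orderOf_dvd_of_pow_eq_one hm
  have h4 : orderOf r ∣ p ^ j := orderOf_dvd_of_pow_eq_one hj
  exact orderOf_eq_one_iff.mp (Nat.eq_one_of_dvd_coprimes (hco.pow_right j) h3 h4)

/-- Coprime action on an abelian `p`-group: if `w = [v, x]` and all `[w, x ^ i]` lie in `H`,
then `w ∈ H`. -/
theorem commutator_mem_of_coprime [Fact p.Prime] {V H : Subgroup G} {x v : G}
    (hVc : ∀ a ∈ V, ∀ b ∈ V, a * b = b * a) (hxV : ∀ u ∈ V, x * u * x⁻¹ ∈ V) (hv : v ∈ V)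
    (hH : ∀ i : ℕ, ⁅⁅v, x⁆, x ^ i⁆ ∈ H) (hx : (orderOf x).Coprime p) (hxo : orderOf x ≠ 0)
    (hVp : ∀ u ∈ V, ∃ j : ℕ, u ^ p ^ j = 1) : ⁅v, x⁆ ∈ H := by
  set w := ⁅v, x⁆ with hw
  have hxiV : ∀ (i : ℕ) (u : G), u ∈ V → x ^ i * u * (x ^ i)⁻¹ ∈ V := by
    intro i
    induction i with
    | zero => intro u hu; simpa using hu
    | succ i ih =>
      intro u hu
      have : x ^ (i + 1) * u * (x ^ (i + 1))⁻¹ = x * (x ^ i * u * (x ^ i)⁻¹) * x⁻¹ := by
        rw [pow_succ']; group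
      rw [this]; exact hxV _ (ih u hu)
  have hwV : w ∈ V := by
    have : w = v * (x * v⁻¹ * x⁻¹) := by rw [hw, commutatorElement_def]; group
    rw [this]; exact V.mul_mem hv (hxV _ (V.inv_mem hv))
  -- T i := v * (x^i v x^-i)⁻¹
  have hT : ∀ i : ℕ, (v * (x ^ i * v * (x ^ i)⁻¹)⁻¹)⁻¹ * w ^ i ∈ H := by
    intro i
    induction i with
    | zero => simp
    | succ i ih =>
      -- T (i+1) = T i * σ^i w
      have hσw : x ^ i * w * (x ^ i)⁻¹ ∈ V := hxiV i w hwV
      have hTi : v * (x ^ i * v * (x ^ i)⁻¹)⁻¹ ∈ V :=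
        V.mul_mem hv (V.inv_mem (hxiV i v hv))
      have h1 : v * (x ^ (i + 1) * v * (x ^ (i + 1))⁻¹)⁻¹ =
          (v * (x ^ i * v * (x ^ i)⁻¹)⁻¹) * (x ^ i * w * (x ^ i)⁻¹) := by
        rw [hw, commutatorElement_def, pow_succ]; group
      have h2 : ⁅w, x ^ i⁆ = w * (x ^ i * w * (x ^ i)⁻¹)⁻¹ := by
        rw [commutatorElement_def]; group
      have h3 := hH i
      rw [h2] at h3
      -- rearrangement in abelian V
      set a := v * (x ^ i * v * (x ^ i)⁻¹)⁻¹ with ha
      set s := x ^ i * w * (x ^ i)⁻¹ with hs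
      have hwi : w ^ i ∈ V := V.pow_mem hwV i
      have e1 : (a * s)⁻¹ * w ^ (i + 1) = (a⁻¹ * w ^ i) * (w * s⁻¹) := by
        rw [mul_inv_rev, pow_succ]
        have c1 : s⁻¹ * a⁻¹ = a⁻¹ * s⁻¹ := hVc _ (V.inv_mem hσw) _ (V.inv_mem hTi)
        have c2 : s⁻¹ * (w ^ i * w) = (w ^ i * w) * s⁻¹ :=
          hVc _ (V.inv_mem hσw) _ (V.mul_mem hwi hwV)
        calc s⁻¹ * a⁻¹ * (w ^ i * w) = a⁻¹ * (s⁻¹ * (w ^ i * w)) := by rw [c1, mul_assoc]
          _ = a⁻¹ * ((w ^ i * w) * s⁻¹) := by rw [c2]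
          _ = a⁻¹ * w ^ i * (w * s⁻¹) := by group
      rw [h1, e1]
      exact H.mul_mem ih h3
  have h5 := hT (orderOf x)
  rw [pow_orderOf_eq_one, one_mul, inv_one, mul_one, mul_inv_cancel, inv_one, one_mul] at h5
  obtain ⟨j, hj⟩ := hVp w hwV
  have hco : (orderOf x).Coprime (orderOf w) :=
    Nat.Coprime.coprime_dvd_right (orderOf_dvd_of_pow_eq_one hj) (hx.pow_right j)
  obtain ⟨n, hn⟩ := exists_pow_eq_self_of_coprime hco
  rw [← hn]
  exact H.pow_mem h5 n

section subnormal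

theorem conj_mem_pCore_map (H : Subgroup G) (k : G)
    (hk : k ∈ Subgroup.normalizer (H : Set G)) (x : G)
    (hx : x ∈ (pCore p ↥H).map H.subtype) :
    k * x * k⁻¹ ∈ (pCore p ↥H).map H.subtype := by
  obtain ⟨y, hy, rfl⟩ := hx
  refine ⟨Cfsg.Agent.Helper30.conjAut H k hk y, ?_, rfl⟩
  have := pCore_map_mulEquiv (p := p) (Cfsg.Agent.Helper30.conjAut H k hk)
  rw [← this]
  exact ⟨y, hy, rfl⟩

/-- The `p`-core of a subnormal subgroup lies in the `p`-core of the group. -/
theorem pCore_subnormal_map_le {K : Subgroup G} (hK : K.IsSubnormal) :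
    (pCore p ↥K).map K.subtype ≤ pCore p G := by
  induction hK with
  | top =>
    exact pCore_map_le_of_mulEquiv (Subgroup.topEquiv : (⊤ : Subgroup G) ≃* G)
  | step H K hle hKsub hN ih =>
    set OH : Subgroup G := (pCore p ↥H).map H.subtype with hOH
    have hOHH : OH ≤ H := Subgroup.map_subtype_le _
    have hOHK : OH ≤ K := hOHH.trans hle
    have hKN : K ≤ Subgroup.normalizer (H : Set G) :=
      (Subgroup.normal_subgroupOf_iff_le_normalizer hle).mp hN
    have hnorm : (OH.subgroupOf K).Normal := by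
      rw [Subgroup.normal_subgroupOf_iff_le_normalizer hOHK, Subgroup.le_normalizer_iff]
      intro k hk x hx
      exact conj_mem_pCore_map H k (hKN hk) x hx
    have hp : IsPGroup p (OH.subgroupOf K) := (isPGroup_pCore.map _).comap_subtype
    have hle2 : OH.subgroupOf K ≤ pCore p ↥K := le_pCore hnorm hp
    have hOHeq : OH = (OH.subgroupOf K).map K.subtype := by
      rw [Subgroup.map_subgroupOf_eq_of_le hOHK]
    rw [hOHeq]
    exact (Subgroup.map_mono hle2).trans ih

/-- A subnormal `p`-subgroup lies in the `p`-core. -/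
theorem subnormal_le_pCore {H : Subgroup G} (hH : H.IsSubnormal) (hp : IsPGroup p H) :
    H ≤ pCore p G := by
  have htop : (⊤ : Subgroup ↥H) ≤ pCore p ↥H :=
    le_pCore inferInstance (by
      rw [isPGroup_subgroup_iff]
      intro y _
      exact hp y)
  have h1 : (⊤ : Subgroup ↥H).map H.subtype ≤ pCore p G :=
    (Subgroup.map_mono htop).trans (pCore_subnormal_map_le hH)
  rw [← MonoidHom.range_eq_map, Subgroup.range_subtype] at h1
  exact h1

end subnormal

end Cfsg.Agent.Helper46
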