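import Mathlib
import Cfsg.Agent.Lib.Helper52.FCDefs

set_option autoImplicit false

/-!
FC lemma server (helper52, S3816), piece (A3) `exists_chief`, by helper46.
-/

namespace Cfsg.Agent.Helper46.FC

open Subgroup Cfsg.Agent.Helper52.FC
open scoped commutatorElement

universe u

variable {G : Type u} [Group G]

/-- conjugation-invariance passes to sups -/
theorem h46a3_sup_conj {g : G} {A B : Subgroup G} (hA : ∀ x ∈ A, g * x * g⁻¹ ∈ A)
    (hB : ∀ x ∈ B, g * x * g⁻¹ ∈ B) : ∀ x ∈ A ⊔ B, g * x * g⁻¹ ∈ A ⊔ B := by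
  intro x hx
  have h1 : (A ⊔ B).map (MulAut.conj g).toMonoidHom ≤ A ⊔ B := by
    rw [Subgroup.map_sup]
    apply sup_le_sup
    · rintro _ ⟨y, hy, rfl⟩; exact hA y hy
    · rintro _ ⟨y, hy, rfl⟩; exact hB y hy
  exact h1 ⟨x, hx, rfl⟩

/-- conjugation-invariance passes to commutators -/
theorem h46a3_comm_conj {g : G} {A B : Subgroup G} (hA : ∀ x ∈ A, g * x * g⁻¹ ∈ A)
    (hB : ∀ x ∈ B, g * x * g⁻¹ ∈ B) : ∀ x ∈ ⁅A, B⁆, g * x * g⁻¹ ∈ ⁅A, B⁆ := by
  intro x hx
  have h1 : (⁅A, B⁆).map (MulAut.conj g).toMonoidHom ≤ ⁅A, B⁆ := by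
    rw [Subgroup.map_commutator]
    apply Subgroup.commutator_mono
    · rintro _ ⟨y, hy, rfl⟩; exact hA y hy
    · rintro _ ⟨y, hy, rfl⟩; exact hB y hy
  exact h1 ⟨x, hx, rfl⟩

/-- an `a`-invariant subgroup is invariant under all powers of `a` -/
theorem h46a3_inv_pow {a : G} {X : Subgroup G} (hX : Inv a X) (k : ℕ) :
    ∀ x ∈ X, a ^ k * x * (a ^ k)⁻¹ ∈ X := by
  induction k with
  | zero => intro x hx; simpa using hx
  | succ k ih =>
    intro x hx
    have h1 := hX _ (ih x hx)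
    have : a * (a ^ k * x * (a ^ k)⁻¹) * a⁻¹ = a ^ (k + 1) * x * (a ^ (k + 1))⁻¹ := by
      rw [pow_succ']
      group
    rw [← this]
    exact h1

/-- in a solvable group, a proper normal subgroup together with the derived subgroup is proper -/
theorem h46a3_sup_commutator_ne_top {K : Type*} [Group K] [Group.IsSolvable K] (Z : Subgroup K)
    [Z.Normal] (hZ : Z ≠ ⊤) : Z ⊔ commutator K ≠ ⊤ := by
  intro h
  haveI : Nontrivial (K ⧸ Z) := by
    rw [← not_subsingleton_iff_nontrivial]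
    intro hs
    exact hZ (QuotientGroup.subgroup_eq_top_of_subsingleton Z hs)
  have h1 := Group.IsSolvable.commutator_lt_top_of_nontrivial (K ⧸ Z)
  have h2 : commutator (K ⧸ Z) = (commutator K).map (QuotientGroup.mk' Z) := by
    rw [commutator_def, commutator_def, Subgroup.map_commutator, ← MonoidHom.range_eq_map,
      QuotientGroup.range_mk']
  have h3 : (Z ⊔ commutator K).map (QuotientGroup.mk' Z) = ⊤ := by
    rw [h, ← MonoidHom.range_eq_map, QuotientGroup.range_mk']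
  rw [Subgroup.map_sup, QuotientGroup.map_mk'_self, bot_sup_eq] at h3
  rw [h2, h3] at h1
  exact lt_irrefl _ h1

/-- decomposition of elements of a sup of two elementwise commuting subgroups -/
theorem h46a3_mem_sup {A B : Subgroup G} (hcomm : ∀ z ∈ A, ∀ k ∈ B, z * k = k * z) :
    ∀ x ∈ A ⊔ B, ∃ z ∈ A, ∃ k ∈ B, x = z * k := by
  intro x hx
  rw [Subgroup.sup_eq_closure] at hx
  induction hx using Subgroup.closure_induction with
  | mem y hy =>
    rcases hy with hy | hy
    · exact ⟨y, hy, 1, B.one_mem, by simp⟩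
    · exact ⟨1, A.one_mem, y, hy, by simp⟩
  | one => exact ⟨1, A.one_mem, 1, B.one_mem, by simp⟩
  | mul y1 y2 _ _ ih1 ih2 =>
    obtain ⟨z1, hz1, k1, hk1, rfl⟩ := ih1
    obtain ⟨z2, hz2, k2, hk2, rfl⟩ := ih2
    refine ⟨z1 * z2, A.mul_mem hz1 hz2, k1 * k2, B.mul_mem hk1 hk2, ?_⟩
    have := hcomm z2 hz2 k1 hk1
    calc z1 * k1 * (z2 * k2) = z1 * (k1 * z2) * k2 := by group
      _ = z1 * (z2 * k1) * k2 := by rw [this]
      _ = z1 * z2 * (k1 * k2) := by group
  | inv y _ ih =>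
    obtain ⟨z, hz, k, hk, rfl⟩ := ih
    refine ⟨z⁻¹, A.inv_mem hz, k⁻¹, B.inv_mem hk, ?_⟩
    have := hcomm z hz k hk
    rw [this]
    group

/-- the `p`-th power trick: a `p'`-element `z` commuting with `a` with `z a` conjugate to `a` is trivial -/
theorem h46a3_eq_one {p : ℕ} {a : G} {H : Subgroup G} (hyp : Hyp p a H) {z g : G} (hzH : z ∈ H)
    (hza : a * z = z * a) (h : g * a * g⁻¹ = z * a) : z = 1 := by
  have h1 : (z * a) ^ p = z ^ p * a ^ p := Commute.mul_pow (show Commute z a from hza.symm) p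
  have h2 : (g * a * g⁻¹) ^ p = 1 := by rw [conj_pow, hyp.pow]; group
  rw [h, h1, hyp.pow, mul_one] at h2
  have h3 : orderOf z ∣ p := orderOf_dvd_of_pow_eq_one h2
  have h4 : orderOf z ∣ Nat.card H := Subgroup.orderOf_dvd_natCard H hzH
  have h5 : orderOf z = 1 :=
    Nat.Coprime.eq_one_of_dvd (Nat.Coprime.coprime_dvd_left h4 hyp.cop) h3
  exact orderOf_eq_one_iff.mp h5

/-- (A3) -/
theorem exists_chief [Finite G] {p : ℕ} {a : G} {H : Subgroup G} (mx : MCX p G a H)
    (hA1 : ∀ V : Subgroup G, V ≤ H → NormBy H V → V ≤ Fix a → V ≤ ZZ a H) :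
    ∃ N : Subgroup G, Chief a H N := by
  classical
  have hyp := mx.mc.hyp
  have hInvH : Inv a H := hyp.inv
  have hZH : ZZ a H ≤ H := fun x hx => hx.1.1
  have hZF : ZZ a H ≤ Fix a := fun x hx => hx.1.2
  have hZC : ∀ z ∈ ZZ a H, ∀ h ∈ H, h * z = z * h := fun z hz h hh =>
    (Subgroup.mem_centralizer_iff.mp hz.2) h hh
  have hFixa : ∀ z ∈ Fix a, a * z = z * a := fun z hz =>
    (Subgroup.mem_centralizer_iff.mp hz) a rfl
  have hZconj : ∀ h ∈ H, ∀ z ∈ ZZ a H, h * z * h⁻¹ ∈ ZZ a H := by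
    intro h hh z hz
    have : h * z * h⁻¹ = z := by rw [hZC z hz h hh]; group
    rw [this]; exact hz
  have hZa : Inv a (ZZ a H) := by
    intro z hz
    have : a * z * a⁻¹ = z := by rw [hFixa z (hZF hz)]; group
    rw [this]; exact hz
  -- (a) some element of `H` is not fixed
  obtain ⟨h0, hh0, hh0F⟩ : ∃ h ∈ H, h ∉ Fix a := by
    by_contra hcon
    push Not at hcon
    have hbot : comm a H ≤ ⊥ := by
      unfold Cfsg.Agent.Helper52.FC.comm
      rw [Subgroup.closure_le]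
      rintro c ⟨h, hh, i, rfl⟩
      have h1 : a * h = h * a := hFixa h (hcon h hh)
      have h2 : a ^ i * h = h * a ^ i := (Commute.pow_left (show Commute a h from h1) i).eq
      rw [h2]
      simp
    have hHbot : H = ⊥ := le_bot_iff.mp (le_of_eq_of_le mx.comm_eq.symm hbot)
    have h3 : Lh a 1 ≤ H := mx.Lh_le H hInvH 1 H.one_mem
    exact mx.no_gen 1 H.one_mem (le_antisymm h3 (by rw [hHbot]; exact bot_le))
  have hZne : ZZ a H ≠ H := fun h => hh0F (hZF (by rw [h]; exact hh0))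
  -- (b) a minimal `N`
  let P : Subgroup G → Prop := fun N =>
    N ≤ H ∧ NormBy H N ∧ Inv a N ∧ ZZ a H ≤ N ∧ N ≠ ZZ a H
  have hPH : P H := ⟨le_rfl, fun h hh n hn => H.mul_mem (H.mul_mem hh hn) (H.inv_mem hh),
    hInvH, hZH, hZne.symm⟩
  obtain ⟨N, hN⟩ := exists_minimal_of_wellFoundedLT P ⟨H, hPH⟩
  obtain ⟨hNH, hNn, hNa, hZN, hNZ⟩ := hN.prop
  have hmin : ∀ W : Subgroup G, ZZ a H ≤ W → W ≤ N → NormBy H W → Inv a W →
      W = ZZ a H ∨ W = N := by
    intro W hZW hWN hWn hWa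
    by_cases hW : W = ZZ a H
    · exact Or.inl hW
    · exact Or.inr (le_antisymm hWN (hN.le_of_le ⟨hWN.trans hNH, hWn, hWa, hZW, hW⟩ hWN))
  -- (c) `act`
  have hact : ¬ (⁅N, Subgroup.zpowers a⁆ ≤ ZZ a H) := by
    intro hle
    have hNF : N ≤ Fix a := by
      intro n hn
      have hz : ⁅n, a⁆ ∈ ZZ a H :=
        hle (Subgroup.commutator_mem_commutator hn (Subgroup.mem_zpowers a))
      have hz1 : ⁅n, a⁆ = 1 := by
        refine h46a3_eq_one hyp (g := n) (hZH hz) (hFixa _ (hZF hz)) ?_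
        rw [commutatorElement_def]; group
      have hc : Commute n a := commutatorElement_eq_one_iff_commute.mp hz1
      unfold Cfsg.Agent.Helper52.FC.Fix
      rw [Subgroup.mem_centralizer_iff]
      intro x hx
      rw [Set.mem_singleton_iff] at hx
      subst hx
      exact hc.eq.symm
    exact hNZ (le_antisymm (hA1 N hNH hNn hNF) hZN)
  -- (d) `neH`
  have hneH : N ≠ H := by
    intro hNeq
    have hminH : ∀ W : Subgroup G, ZZ a H ≤ W → W ≤ H → NormBy H W → Inv a W →
        W = ZZ a H ∨ W = H := by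
      intro W h1 h2 h3 h4
      have := hmin W h1 (by rw [hNeq]; exact h2) h3 h4
      rwa [hNeq] at this
    -- the derived subgroup lies in `Z`
    have hHconj : ∀ h ∈ H, ∀ x ∈ H, h * x * h⁻¹ ∈ H := fun h hh x hx =>
      H.mul_mem (H.mul_mem hh hx) (H.inv_mem hh)
    have hDH : ⁅H, H⁆ ≤ H := by
      rw [Subgroup.commutator_le]
      intro x hx y hy
      rw [commutatorElement_def]
      exact H.mul_mem (H.mul_mem (H.mul_mem hx hy) (H.inv_mem hx)) (H.inv_mem hy)
    have hDn : NormBy H ⁅H, H⁆ := fun h hh => h46a3_comm_conj (hHconj h hh) (hHconj h hh)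
    have hDa : Inv a ⁅H, H⁆ := h46a3_comm_conj hInvH hInvH
    have hDZ : ⁅H, H⁆ ≤ ZZ a H := by
      have hWn : NormBy H (ZZ a H ⊔ ⁅H, H⁆) := fun h hh =>
        h46a3_sup_conj (hZconj h hh) (hDn h hh)
      have hWa : Inv a (ZZ a H ⊔ ⁅H, H⁆) := h46a3_sup_conj hZa hDa
      rcases hminH (ZZ a H ⊔ ⁅H, H⁆) le_sup_left (sup_le hZH hDH) hWn hWa with hW | hW
      · rw [← hW]; exact le_sup_right
      · exfalso
        haveI : Group.IsSolvable H := hyp.sol
        haveI : ((ZZ a H).subgroupOf H).Normal := ⟨fun z hz h => by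
          have : h * z * h⁻¹ = z := by
            apply Subtype.ext
            have h5 := hZC (z : G) (Subgroup.mem_subgroupOf.mp hz) (h : G) h.2
            simp only [Subgroup.coe_mul, Subgroup.coe_inv]
            rw [h5]; group
          rw [this]; exact hz⟩
        have hZ'ne : (ZZ a H).subgroupOf H ≠ ⊤ := fun h =>
          hZne (le_antisymm hZH (Subgroup.subgroupOf_eq_top.mp h))
        apply h46a3_sup_commutator_ne_top ((ZZ a H).subgroupOf H) hZ'ne
        apply Subgroup.map_injective H.subtype_injective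
        rw [Subgroup.map_sup, Subgroup.map_subgroupOf_eq_of_le hZH, commutator_def,
          Subgroup.map_commutator, ← MonoidHom.range_eq_map, Subgroup.range_subtype]
        exact hW
    -- the subgroup generated by `Z` and `[h0, P]`
    have hKH : Lh a h0 ≤ H := mx.Lh_le H hInvH h0 hh0
    have hW2H : ZZ a H ⊔ Lh a h0 ≤ H := sup_le hZH hKH
    have hW2n : NormBy H (ZZ a H ⊔ Lh a h0) := by
      intro x hx w hw
      have h1 : x * w * x⁻¹ = ⁅x, w⁆ * w := by rw [commutatorElement_def]; group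
      rw [h1]
      exact Subgroup.mul_mem _
        ((le_sup_left : ZZ a H ≤ ZZ a H ⊔ Lh a h0)
          (hDZ (Subgroup.commutator_mem_commutator hx (hW2H hw)))) hw
    have hW2a : Inv a (ZZ a H ⊔ Lh a h0) := h46a3_sup_conj hZa (mx.Lh_inv h0)
    rcases hminH _ le_sup_left hW2H hW2n hW2a with hW | hW
    · -- `[h0,P] ≤ Z`: then `h0` is fixed
      have hKZ : Lh a h0 ≤ ZZ a H := by rw [← hW]; exact le_sup_right
      have hgen : h0⁻¹ * (a ^ 1 * h0 * (a ^ 1)⁻¹) ∈ Lh a h0 :=
        Subgroup.subset_closure ⟨1, rfl⟩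
      have hz := hKZ hgen
      have hz1 : h0⁻¹ * (a ^ 1 * h0 * (a ^ 1)⁻¹) = 1 := by
        refine h46a3_eq_one hyp (g := h0⁻¹) (hZH hz) (hFixa _ (hZF hz)) ?_
        rw [pow_one]; group
      apply hh0F
      unfold Cfsg.Agent.Helper52.FC.Fix
      rw [Subgroup.mem_centralizer_iff]
      intro x hx
      rw [Set.mem_singleton_iff] at hx
      subst hx
      rw [pow_one] at hz1
      have h2 : x * h0 * x⁻¹ = h0 := by
        have := congrArg (fun t => h0 * t) hz1
        simpa [mul_assoc] using this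
      calc x * h0 = x * h0 * x⁻¹ * x := by group
        _ = h0 * x := by rw [h2]
    · -- `Z ⊔ [h0,P] = H`: then `[H,P] ≤ [h0,P]`
      have hle : comm a H ≤ Lh a h0 := by
        unfold Cfsg.Agent.Helper52.FC.comm
        rw [Subgroup.closure_le]
        rintro c ⟨x, hx, i, rfl⟩
        rw [← hW] at hx
        obtain ⟨z, hz, k, hk, rfl⟩ :=
          h46a3_mem_sup (fun z hz k hk => (hZC z hz k (hKH hk)).symm) x hx
        have hk' : a ^ i * k * (a ^ i)⁻¹ ∈ Lh a h0 := h46a3_inv_pow (mx.Lh_inv h0) i k hk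
        have hzi : a ^ i * z = z * a ^ i :=
          (Commute.pow_left (show Commute a z from hFixa z (hZF hz)) i).eq
        have h1 : (z * k)⁻¹ * (a ^ i * (z * k) * (a ^ i)⁻¹) = k⁻¹ * (a ^ i * k * (a ^ i)⁻¹) := by
          have : a ^ i * (z * k) * (a ^ i)⁻¹ = z * (a ^ i * k * (a ^ i)⁻¹) := by
            calc a ^ i * (z * k) * (a ^ i)⁻¹ = (a ^ i * z) * k * (a ^ i)⁻¹ := by group
              _ = (z * a ^ i) * k * (a ^ i)⁻¹ := by rw [hzi]
              _ = z * (a ^ i * k * (a ^ i)⁻¹) := by group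
          rw [this]; group
        rw [SetLike.mem_coe, h1]
        exact Subgroup.mul_mem _ (Subgroup.inv_mem _ hk) hk'
      have hKeq : Lh a h0 = H := le_antisymm hKH (le_of_eq_of_le mx.comm_eq.symm hle)
      exact mx.no_gen h0 hh0 hKeq
  exact ⟨N, ⟨hNH, hNn, hNa, hZN, hNZ, hneH, hmin, hact⟩⟩

end Cfsg.Agent.Helper46.FC
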