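import Mathlib
import Cfsg.Agent.Lib.Helper52.FCDefs

set_option autoImplicit false

/-!
FC lemma server (helper52, S3816), piece (R1b) `exists_central_mod`, by helper46.
-/

namespace Cfsg.Agent.Helper46.FC

open Subgroup Cfsg.Agent.Helper52.FC
open scoped commutatorElement

universe u

variable {G : Type u} [Group G]

/-- an `a`-invariant subgroup is invariant under all powers of `a` -/
theorem h46_inv_pow {a : G} {X : Subgroup G} (hX : Inv a X) (k : ℕ) :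
    ∀ x ∈ X, a ^ k * x * (a ^ k)⁻¹ ∈ X := by
  induction k with
  | zero => intro x hx; simpa using hx
  | succ k ih =>
    intro x hx
    have h1 := hX _ (ih x hx)
    have : a * (a ^ k * x * (a ^ k)⁻¹) * a⁻¹ = a ^ (k + 1) * x * (a ^ (k + 1))⁻¹ := by
      rw [pow_succ']
      group
    rw [← this]
    exact h1

/-- an `a`-invariant subgroup of a finite group is `a⁻¹`-invariant -/
theorem h46_inv_inv [Finite G] {a : G} {X : Subgroup G} (hX : Inv a X) :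
    ∀ x ∈ X, a⁻¹ * x * a ∈ X := by
  intro x hx
  have h1 := h46_inv_pow hX (orderOf a - 1) x hx
  have hpos : 0 < orderOf a := orderOf_pos a
  have hinv : a ^ (orderOf a - 1) = a⁻¹ := by
    apply eq_inv_of_mul_eq_one_left
    rw [← pow_succ, Nat.sub_add_cancel hpos, pow_orderOf_eq_one]
  rw [hinv, inv_inv] at h1
  exact h1

/-- (R1b) -/
theorem exists_central_mod [Finite G] (a : G) (V L : Subgroup G) (hLa : Inv a L) (hVa : Inv a V) (hLV : ∀ y ∈ L, ∀ v ∈ V, y * v * y⁻¹ ∈ V)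
    (s : ℕ) (hs : s.Prime) (hLs : IsPGroup s L) (hnc : ∃ v ∈ V, ∃ y ∈ L, v * y ≠ y * v) :
    ∃ A₀ : Subgroup G, A₀ ≤ L ∧ Inv a A₀ ∧ NormBy L A₀ ∧ (∀ x ∈ A₀, ∀ y ∈ L, ∀ v ∈ V, (x * y * x⁻¹ * y⁻¹) * v = v * (x * y * x⁻¹ * y⁻¹)) ∧
      (∀ x ∈ A₀, ∀ x' ∈ A₀, ∀ v ∈ V, (x * x' * x⁻¹ * x'⁻¹) * v = v * (x * x' * x⁻¹ * x'⁻¹)) ∧ ∃ x ∈ A₀, ∃ v ∈ V, x * v ≠ v * x := by
  classical
  haveI : Fact s.Prime := ⟨hs⟩
  -- `K = C_L(V)`
  set K : Subgroup G := L ⊓ Subgroup.centralizer (V : Set G) with hK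
  have hKmem : ∀ k, k ∈ K ↔ k ∈ L ∧ ∀ v ∈ V, k * v = v * k := by
    intro k
    rw [hK, Subgroup.mem_inf, Subgroup.mem_centralizer_iff]
    constructor
    · rintro ⟨h1, h2⟩
      exact ⟨h1, fun v hv => (h2 v hv).symm⟩
    · rintro ⟨h1, h2⟩
      exact ⟨h1, fun v hv => (h2 v hv).symm⟩
  have hKL : K ≤ L := inf_le_left
  -- `K` is normalised by `L`
  have hKn : ∀ y ∈ L, ∀ k ∈ K, y * k * y⁻¹ ∈ K := by
    intro y hy k hk
    rw [hKmem] at hk ⊢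
    refine ⟨L.mul_mem (L.mul_mem hy hk.1) (L.inv_mem hy), ?_⟩
    intro v hv
    have hv' : y⁻¹ * v * y ∈ V := by
      have := hLV y⁻¹ (L.inv_mem hy) v hv
      rwa [inv_inv] at this
    have h2 := hk.2 _ hv'
    calc y * k * y⁻¹ * v = y * (k * (y⁻¹ * v * y)) * y⁻¹ := by group
      _ = y * ((y⁻¹ * v * y) * k) * y⁻¹ := by rw [h2]
      _ = v * (y * k * y⁻¹) := by group
  -- `K` is `a`-invariant
  have hKa : ∀ k ∈ K, a * k * a⁻¹ ∈ K := by
    intro k hk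
    rw [hKmem] at hk ⊢
    refine ⟨hLa k hk.1, ?_⟩
    intro v hv
    have hv' : a⁻¹ * v * a ∈ V := h46_inv_inv hVa v hv
    have h2 := hk.2 _ hv'
    calc a * k * a⁻¹ * v = a * (k * (a⁻¹ * v * a)) * a⁻¹ := by group
      _ = a * ((a⁻¹ * v * a) * k) * a⁻¹ := by rw [h2]
      _ = v * (a * k * a⁻¹) := by group
  -- the subgroup `A₀`
  let A₀ : Subgroup G :=
    { carrier := {x | x ∈ L ∧ ∀ y ∈ L, x * y * x⁻¹ * y⁻¹ ∈ K}
      one_mem' := ⟨L.one_mem, fun y _ => by simpa using K.one_mem⟩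
      mul_mem' := by
        rintro x1 x2 ⟨h1, h1'⟩ ⟨h2, h2'⟩
        refine ⟨L.mul_mem h1 h2, fun y hy => ?_⟩
        have e : x1 * x2 * y * (x1 * x2)⁻¹ * y⁻¹ =
            (x1 * (x2 * y * x2⁻¹ * y⁻¹) * x1⁻¹) * (x1 * y * x1⁻¹ * y⁻¹) := by group
        rw [e]
        exact K.mul_mem (hKn x1 h1 _ (h2' y hy)) (h1' y hy)
      inv_mem' := by
        rintro x ⟨h1, h1'⟩
        refine ⟨L.inv_mem h1, fun y hy => ?_⟩
        have e : x⁻¹ * y * x⁻¹⁻¹ * y⁻¹ = x⁻¹ * (x * y * x⁻¹ * y⁻¹)⁻¹ * x⁻¹⁻¹ := by group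
        rw [e]
        exact hKn x⁻¹ (L.inv_mem h1) _ (K.inv_mem (h1' y hy)) }
  have hAmem : ∀ x, x ∈ A₀ ↔ x ∈ L ∧ ∀ y ∈ L, x * y * x⁻¹ * y⁻¹ ∈ K := fun x => Iff.rfl
  have hAL : A₀ ≤ L := fun x hx => ((hAmem x).1 hx).1
  refine ⟨A₀, hAL, ?_, ?_, ?_, ?_, ?_⟩
  · -- `a`-invariance
    intro x hx
    rw [hAmem] at hx ⊢
    refine ⟨hLa x hx.1, fun y hy => ?_⟩
    have hy' : a⁻¹ * y * a ∈ L := h46_inv_inv hLa y hy
    have h1 := hKa _ (hx.2 _ hy')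
    have e : a * x * a⁻¹ * y * (a * x * a⁻¹)⁻¹ * y⁻¹ =
        a * (x * (a⁻¹ * y * a) * x⁻¹ * (a⁻¹ * y * a)⁻¹) * a⁻¹ := by group
    rw [e]
    exact h1
  · -- normalised by `L`
    intro z hz x hx
    rw [hAmem] at hx ⊢
    refine ⟨L.mul_mem (L.mul_mem hz hx.1) (L.inv_mem hz), fun y hy => ?_⟩
    have hy' : z⁻¹ * y * z ∈ L := L.mul_mem (L.mul_mem (L.inv_mem hz) hy) hz
    have h1 := hKn z hz _ (hx.2 _ hy')
    have e : z * x * z⁻¹ * y * (z * x * z⁻¹)⁻¹ * y⁻¹ =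
        z * (x * (z⁻¹ * y * z) * x⁻¹ * (z⁻¹ * y * z)⁻¹) * z⁻¹ := by group
    rw [e]
    exact h1
  · intro x hx y hy v hv
    exact ((hKmem _).1 (((hAmem x).1 hx).2 y hy)).2 v hv
  · intro x hx x' hx' v hv
    exact ((hKmem _).1 (((hAmem x).1 hx).2 x' (hAL hx'))).2 v hv
  · -- a non-central element: the centre of `L / K` is nontrivial
    have hN : (K.subgroupOf L).Normal := by
      constructor
      intro k hk y
      rw [Subgroup.mem_subgroupOf] at hk ⊢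
      exact hKn y.1 y.2 k.1 hk
    obtain ⟨v0, hv0, y0, hy0, hne0⟩ := hnc
    have hy0K : y0 ∉ K := by
      intro h
      exact hne0 (((hKmem y0).1 h).2 v0 hv0).symm
    have hQp : IsPGroup s (↥L ⧸ K.subgroupOf L) := hLs.to_quotient _
    haveI : Nontrivial (↥L ⧸ K.subgroupOf L) := by
      refine ⟨⟨QuotientGroup.mk ⟨y0, hy0⟩, 1, ?_⟩⟩
      intro h
      rw [QuotientGroup.eq_one_iff, Subgroup.mem_subgroupOf] at h
      exact hy0K h
    haveI : Finite (↥L ⧸ K.subgroupOf L) := inferInstance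
    haveI := hQp.center_nontrivial
    obtain ⟨z, hz1⟩ := exists_ne (1 : Subgroup.center (↥L ⧸ K.subgroupOf L))
    obtain ⟨x, hx⟩ := QuotientGroup.mk_surjective (z : ↥L ⧸ K.subgroupOf L)
    have hxK : x.1 ∉ K := by
      intro h
      apply hz1
      apply Subtype.ext
      rw [← hx]
      change (QuotientGroup.mk x : ↥L ⧸ K.subgroupOf L) = 1
      rw [QuotientGroup.eq_one_iff, Subgroup.mem_subgroupOf]
      exact h
    have hxA : x.1 ∈ A₀ := by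
      rw [hAmem]
      refine ⟨x.2, fun y hy => ?_⟩
      have hc : (QuotientGroup.mk x : ↥L ⧸ K.subgroupOf L) * QuotientGroup.mk ⟨y, hy⟩ =
          QuotientGroup.mk ⟨y, hy⟩ * QuotientGroup.mk x := by
        rw [hx]
        exact (Subgroup.mem_center_iff.1 z.2 _).symm
      have h1 : (QuotientGroup.mk (x * ⟨y, hy⟩ * x⁻¹ * (⟨y, hy⟩ : ↥L)⁻¹) : ↥L ⧸ K.subgroupOf L) = 1 := by
        rw [QuotientGroup.mk_mul, QuotientGroup.mk_mul, QuotientGroup.mk_mul, hc, QuotientGroup.mk_inv,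
          QuotientGroup.mk_inv]
        group
      rw [QuotientGroup.eq_one_iff, Subgroup.mem_subgroupOf] at h1
      exact h1
    have hxc : ¬ ∀ v ∈ V, x.1 * v = v * x.1 := fun h => hxK ((hKmem _).2 ⟨x.2, h⟩)
    push Not at hxc
    obtain ⟨v, hv, hne⟩ := hxc
    exact ⟨x.1, hxA, v, hv, hne⟩

end Cfsg.Agent.Helper46.FC
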