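import Mathlib
import Cfsg.Agent.Lib.Helper52.FLDefs

/-!
# FL project (S3822), piece BAD (core): if `B_v ∩ V ≤ D` then `v ∈ S₁ S₂`,
with (DNOR), (INT), (GENV), (CC2) as hypotheses
-/

set_option autoImplicit false

namespace Cfsg.Agent.Helper46.FL

open Cfsg.Agent.Helper52.FL
open scoped Pointwise

variable {G : Type*} [Group G] [Finite G]

section CTX
variable {A Q V : Subgroup G} {r s : ℕ} [Fact r.Prime] [Fact s.Prime]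

omit [Finite G] in
/-- `A` normalises `D = C_V(Q)` -/
theorem h46_A_le_normalizer_D (hAQ : A ≤ Subgroup.normalizer (Q : Set G))
    (hAV : A ≤ Subgroup.normalizer (V : Set G)) :
    A ≤ Subgroup.normalizer (Dsub Q V : Set G) := by
  have key : ∀ α ∈ A, ∀ d ∈ Dsub Q V, α * d * α⁻¹ ∈ Dsub Q V := by
    intro α hα d hd
    have hd' : d ∈ V ∧ d ∈ Subgroup.centralizer (Q : Set G) := hd
    refine Subgroup.mem_inf.mpr ⟨((Subgroup.mem_normalizer_iff.mp (hAV hα)) d).mp hd'.1,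
      Subgroup.mem_centralizer_iff.mpr ?_⟩
    intro q hq
    have hq' : α⁻¹ * q * α ∈ Q := by
      have h1 := (Subgroup.mem_normalizer_iff.mp (hAQ (A.inv_mem hα))) q
      rw [inv_inv] at h1
      exact h1.mp hq
    have h2 := (Subgroup.mem_centralizer_iff.mp hd'.2) _ hq'
    calc q * (α * d * α⁻¹) = α * ((α⁻¹ * q * α) * d) * α⁻¹ := by group
      _ = α * (d * (α⁻¹ * q * α)) * α⁻¹ := by rw [h2]
      _ = α * d * α⁻¹ * q := by group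
  intro α hα
  rw [Subgroup.mem_normalizer_iff]
  intro d
  refine ⟨fun hd => key α hα d hd, fun hd => ?_⟩
  have h1 := key α⁻¹ (A.inv_mem hα) _ hd
  have h2 : α⁻¹ * (α * d * α⁻¹) * α⁻¹⁻¹ = d := by group
  rwa [h2] at h1

omit [Finite G] in
/-- `(A ⊔ D) ∩ V ≤ D` when `A ∩ V ≤ D ≤ V` and `A` normalises `D` -/
theorem h46_sup_inf_le (D : Subgroup G) (hDV : D ≤ V)
    (hAD : A ≤ Subgroup.normalizer (D : Set G)) (hint : A ⊓ V ≤ D) :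
    ∀ x, x ∈ A ⊔ D → x ∈ V → x ∈ D := by
  intro x hx hxV
  have h1 : x ∈ ((A ⊔ D : Subgroup G) : Set G) := hx
  rw [Subgroup.coe_mul_of_left_le_normalizer_right A D hAD, Set.mem_mul] at h1
  obtain ⟨α, hα, d, hd, rfl⟩ := h1
  have hαV : α ∈ V := by
    have h2 := V.mul_mem hxV (V.inv_mem (hDV hd))
    rwa [mul_inv_cancel_right] at h2
  exact D.mul_mem (hint ⟨hα, hαV⟩) hd

omit [Finite G] [Fact r.Prime] [Fact s.Prime] in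
/-- **(BAD)**, with (DNOR), (INT), (GENV), (CC2) as hypotheses -/
theorem h46_bad_mem_of (h : Ctx A Q V r s) (P : Subgroup G) (a : G) (ha : a ∈ A) (hgen : A = P ⊔ cj a P)
    (v : G) (hv : v ∈ V) (hbad : (P ⊔ cj (v * a) P) ⊓ V ≤ Dsub Q V)
    (hnor : V ≤ Subgroup.normalizer (Dsub Q V : Set G))
    (hint : A ⊓ V ≤ Dsub Q V)
    (hgenV : (P ⊔ cj (v * a) P) ⊔ V = A ⊔ V)
    (hcc2 : ∀ B : Subgroup G, B ≤ A ⊔ V → B ⊔ V = A ⊔ V → B ⊓ V ≤ Dsub Q V →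
      ∃ w ∈ V, B ≤ cj w (A ⊔ Dsub Q V)) :
    ∃ w₁ ∈ S1 P V (Dsub Q V), ∃ w₂ ∈ S1 (cj a P) V (Dsub Q V), v = w₁ * w₂ := by
  have hPA : P ≤ A := by
    have h1 : P ≤ P ⊔ cj a P := le_sup_left
    rwa [← hgen] at h1
  have hcPA : cj a P ≤ A := by
    have h1 : cj a P ≤ P ⊔ cj a P := le_sup_right
    rwa [← hgen] at h1
  have hDV : Dsub Q V ≤ V := inf_le_left
  have hAD := h46_A_le_normalizer_D h.hAQ h.hAV
  have hkey := h46_sup_inf_le (Dsub Q V) hDV hAD hint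
  -- B ≤ A ⊔ V
  have hBY : P ⊔ cj (v * a) P ≤ A ⊔ V := by
    apply sup_le (hPA.trans le_sup_left)
    intro x hx
    rw [mem_cj] at hx
    have h1 : a * ((v * a)⁻¹ * x * (v * a)) * a⁻¹ ∈ A :=
      A.mul_mem (A.mul_mem ha (hPA hx)) (A.inv_mem ha)
    have h2 : x = v * (a * ((v * a)⁻¹ * x * (v * a)) * a⁻¹) * v⁻¹ := by group
    rw [h2]
    exact Subgroup.mul_mem _ (Subgroup.mul_mem _ (Subgroup.mem_sup_right hv)
      (Subgroup.mem_sup_left h1)) (Subgroup.inv_mem _ (Subgroup.mem_sup_right hv))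
  obtain ⟨w, hwV, hBw⟩ := hcc2 _ hBY hgenV hbad
  have hnV : ∀ g ∈ A, ∀ u ∈ V, g * u * g⁻¹ ∈ V := fun g hg u hu =>
    ((Subgroup.mem_normalizer_iff.mp (h.hAV hg)) u).mp hu
  have hnD : ∀ g ∈ V, ∀ d ∈ Dsub Q V, g * d * g⁻¹ ∈ Dsub Q V := fun g hg d hd =>
    ((Subgroup.mem_normalizer_iff.mp (hnor hg)) d).mp hd
  -- first factor
  have hc1 : ∀ y ∈ P, y⁻¹ * w⁻¹ * y * w ∈ Dsub Q V := by
    intro y hy
    have h1 : w⁻¹ * y * w ∈ A ⊔ Dsub Q V := mem_cj.mp (hBw (Subgroup.mem_sup_left hy))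
    have h2 : y⁻¹ * (w⁻¹ * y * w) ∈ A ⊔ Dsub Q V :=
      Subgroup.mul_mem _ (Subgroup.mem_sup_left (A.inv_mem (hPA hy))) h1
    have h3 : y⁻¹ * w⁻¹ * y⁻¹⁻¹ ∈ V := hnV _ (A.inv_mem (hPA hy)) _ (V.inv_mem hwV)
    have h4 : y⁻¹ * (w⁻¹ * y * w) ∈ V := by
      have h5 : y⁻¹ * (w⁻¹ * y * w) = (y⁻¹ * w⁻¹ * y⁻¹⁻¹) * w := by group
      rw [h5]
      exact V.mul_mem h3 hwV
    have h6 := hkey _ h2 h4
    have h7 : y⁻¹ * (w⁻¹ * y * w) = y⁻¹ * w⁻¹ * y * w := by group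
    rwa [h7] at h6
  have hw1 : w ∈ S1 P V (Dsub Q V) := by
    refine ⟨hwV, fun y hy => ?_⟩
    have h1 := hc1 y⁻¹ (P.inv_mem hy)
    have h2 := hnD w hwV _ ((Dsub Q V).inv_mem h1)
    have h3 : w * (y⁻¹⁻¹ * w⁻¹ * y⁻¹ * w)⁻¹ * w⁻¹ = y * w * y⁻¹ * w⁻¹ := by group
    rwa [h3] at h2
  -- second factor
  have hw2V : w⁻¹ * v ∈ V := V.mul_mem (V.inv_mem hwV) hv
  have hw2 : w⁻¹ * v ∈ S1 (cj a P) V (Dsub Q V) := by
    refine ⟨hw2V, fun y' hy' => ?_⟩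
    have hz : v * y' * v⁻¹ ∈ cj (v * a) P := by
      rw [mem_cj]
      have h1 : (v * a)⁻¹ * (v * y' * v⁻¹) * (v * a) = a⁻¹ * y' * a := by group
      rw [h1]
      exact mem_cj.mp hy'
    have h1 : w⁻¹ * (v * y' * v⁻¹) * w ∈ A ⊔ Dsub Q V :=
      mem_cj.mp (hBw (Subgroup.mem_sup_right hz))
    have h2 : (w⁻¹ * (v * y' * v⁻¹) * w) * y'⁻¹ ∈ A ⊔ Dsub Q V :=
      Subgroup.mul_mem _ h1 (Subgroup.mem_sup_left (A.inv_mem (hcPA hy')))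
    have h3 : y' * (w⁻¹ * v)⁻¹ * y'⁻¹ ∈ V := hnV _ (hcPA hy') _ (V.inv_mem hw2V)
    have h4 : (w⁻¹ * (v * y' * v⁻¹) * w) * y'⁻¹ ∈ V := by
      have h5 : (w⁻¹ * (v * y' * v⁻¹) * w) * y'⁻¹ = (w⁻¹ * v) * (y' * (w⁻¹ * v)⁻¹ * y'⁻¹) := by
        group
      rw [h5]
      exact V.mul_mem hw2V h3
    have h6 := (Dsub Q V).inv_mem (hkey _ h2 h4)
    have h7 : ((w⁻¹ * (v * y' * v⁻¹) * w) * y'⁻¹)⁻¹ = y' * (w⁻¹ * v) * y'⁻¹ * (w⁻¹ * v)⁻¹ := by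
      group
    rwa [h7] at h6
  exact ⟨w, hw1, w⁻¹ * v, hw2, by group⟩

end CTX

end Cfsg.Agent.Helper46.FL
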