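import Mathlib
import Cfsg.Agent.Lib.Helper52.FLDefs

/-!
# FL project (S3822), piece DCEN (core): `D = C_V(Q)` is central in `V`,
with (COMM) and (DNOR) as hypotheses
-/

set_option autoImplicit false

namespace Cfsg.Agent.Helper46.FL

open Cfsg.Agent.Helper52.FL
open scoped commutatorElement

variable {G : Type*} [Group G] [Finite G]

section CTX
variable {A Q V : Subgroup G} {r s : ℕ} [Fact r.Prime] [Fact s.Prime]

omit [Finite G] [Fact r.Prime] [Fact s.Prime] in
/-- (DCEN), with (COMM) and (DNOR) as hypotheses -/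
theorem h46_D_central_of (hcomm : ⁅V, Q⁆ = V)
    (hnor : V ≤ Subgroup.normalizer (Dsub Q V : Set G)) :
    Dsub Q V ≤ Subgroup.centralizer (V : Set G) := by
  have hD_le : Dsub Q V ≤ Subgroup.centralizer (Q : Set G) := inf_le_right
  have h1 : ⁅Q, Dsub Q V⁆ = ⊥ := by
    rw [Subgroup.commutator_eq_bot_iff_le_centralizer]
    exact Subgroup.le_centralizer_iff.mp hD_le
  have h1' : ⁅Dsub Q V, Q⁆ = ⊥ := by rw [Subgroup.commutator_comm]; exact h1
  have h2 : ⁅Dsub Q V, V⁆ ≤ Dsub Q V := by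
    rw [Subgroup.commutator_le]
    intro d hd v hv
    have hv' := hnor hv
    rw [Subgroup.mem_normalizer_iff] at hv'
    have h3 : v * d⁻¹ * v⁻¹ ∈ Dsub Q V := (hv' d⁻¹).mp ((Dsub Q V).inv_mem hd)
    have h4 : ⁅d, v⁆ = d * (v * d⁻¹ * v⁻¹) := by
      rw [commutatorElement_def]; group
    rw [h4]
    exact (Dsub Q V).mul_mem hd h3
  have h5 : ⁅⁅Dsub Q V, V⁆, Q⁆ = ⊥ := by
    rw [eq_bot_iff, ← h1']
    exact Subgroup.commutator_mono h2 le_rfl
  have h6 : ⁅⁅Q, Dsub Q V⁆, V⁆ = ⊥ := by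
    rw [h1, Subgroup.commutator_bot_left]
  have h7 := Subgroup.commutator_commutator_eq_bot_of_rotate h6 h5
  rw [hcomm, Subgroup.commutator_eq_bot_iff_le_centralizer] at h7
  exact Subgroup.le_centralizer_iff.mp h7

end CTX

end Cfsg.Agent.Helper46.FL
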