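import Mathlib
import Cfsg.Prelude.Def_FusionComponents
import Cfsg.Agent.Lib.Helper46.FusInd8
import Cfsg.Agent.Lib.Helper11.DLA2

/-!
# Fusion systems of `Qd(p)`-free groups: `Z(J(S))` is normal in the system

* `pullConj`: conjugation by an element of an overgroup, pulled back along an injective homomorphism.
* `isNormal_comap_ZJ`: if a fusion system `E` over (the top subgroup of) `S'` is the system induced by a finite
  `Qd(p)`-free group `Q` through an injective `ι : S' →* Q` onto a Sylow `p`-subgroup, then the preimage of `Z(J(ι S'))`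
  is normal in `E`.
-/

set_option autoImplicit false
set_option linter.unusedSectionVars false

namespace Cfsg.Agent.Helper46

open Cfsg Cfsg.Agent.Helper11.ZJ

universe u v

section PullConj

variable {S' : Type*} {Q : Type*} [Group S'] [Group Q]

/-- Conjugation by `n`, pulled back along the injective homomorphism `ι`, on a subgroup `B'` that `n` conjugates into
the image of `ι`. -/
noncomputable def pullConj (ι : S' →* Q) (hι : Function.Injective ι) (B' : Subgroup S') (n : Q)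
    (h : ∀ y ∈ B', n * ι y * n⁻¹ ∈ ι.range) : B' →* S' :=
  (MonoidHom.ofInjective hι).symm.toMonoidHom.comp
    (((MulAut.conj n).toMonoidHom.comp (ι.comp B'.subtype)).codRestrict ι.range (fun y => h y y.2))

theorem pullConj_spec (ι : S' →* Q) (hι : Function.Injective ι) (B' : Subgroup S') (n : Q)
    (h : ∀ y ∈ B', n * ι y * n⁻¹ ∈ ι.range) (y : B') :
    ι (pullConj ι hι B' n h y) = n * ι y * n⁻¹ := by
  unfold pullConj
  simp only [MonoidHom.comp_apply, MulEquiv.coe_toMonoidHom]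
  rw [MonoidHom.apply_ofInjective_symm]
  rfl

end PullConj

section Abstract

variable {S' : Type v} {Q : Type u} [Group S'] [Group Q] [Finite Q] {p : ℕ} [Fact p.Prime]

theorem isNormal_comap_ZJ (hp : p ≠ 2) (hfree : ¬ Involves ↥(Cfsg.qd p) Q) (ι : S' →* Q)
    (hι : Function.Injective ι) (Pbar : Sylow p Q) (hrange : ι.range = (Pbar : Subgroup Q))
    (E : FusionSystem (⊤ : Subgroup S'))
    (hE : ∀ (P' : Subgroup S') (φ' : P' →* S'),
      φ' ∈ E.Hom P' ↔ ∃ g : Q, ∀ x : P', ι (φ' x) = g * ι x * g⁻¹) :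
    E.IsNormal ((centerThompsonAOf (Pbar : Subgroup Q)).comap ι) := by
  have hscP : IsStronglyClosed (Pbar : Subgroup Q) (Pbar : Subgroup Q) := ⟨le_rfl, fun _ _ _ h => h⟩
  have hctrl := (control_of_qdFree (Cfsg.Agent.Helper11.QP.dlHyp p hp) hp Pbar (Pbar : Subgroup Q)
    hscP hfree).1
  set Zb : Subgroup Q := centerThompsonAOf (Pbar : Subgroup Q) with hZb
  have hZbP : Zb ≤ Pbar := by rw [hZb, centerThompsonAOf_eq_W]; exact W_le goodAx_comm _
  refine ⟨le_top, fun P' φ' hφ' => ?_⟩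
  obtain ⟨g, hg⟩ := (hE P' φ').mp hφ'
  -- the set `ι(P')`
  have hA : (ι '' (P' : Set S')) ⊆ ((Pbar : Subgroup Q) : Set Q) := by
    rintro _ ⟨y, -, rfl⟩
    rw [← hrange]; exact ⟨y, rfl⟩
  obtain ⟨-, hc⟩ := hctrl (ι '' (P' : Set S')) hA
  have hgA : (fun a => g * a * g⁻¹) '' (ι '' (P' : Set S')) ⊆ ((Pbar : Subgroup Q) : Set Q) := by
    rintro _ ⟨_, ⟨y, hy, rfl⟩, rfl⟩
    show g * ι y * g⁻¹ ∈ (Pbar : Subgroup Q)
    rw [← hg ⟨y, hy⟩, ← hrange]
    exact ⟨_, rfl⟩
  obtain ⟨n, hnN, hn⟩ := hc g hgA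
  have hnP' : ∀ y ∈ P', n * ι y * n⁻¹ = g * ι y * g⁻¹ := fun y hy => (hn (ι y) ⟨y, hy, rfl⟩).symm
  have hnZ : ∀ z : Q, z ∈ Zb ↔ n * z * n⁻¹ ∈ Zb := fun z => (Subgroup.mem_normalizer_iff.mp hnN) z
  -- `n` conjugates `ι(P' ⊔ Q')` into the range of `ι`
  have hB : ∀ y ∈ P' ⊔ Zb.comap ι, n * ι y * n⁻¹ ∈ ι.range := by
    have hle : P' ⊔ Zb.comap ι ≤ (ι.range.comap ((MulAut.conj n).toMonoidHom)).comap ι := by
      apply sup_le
      · intro y hy
        show n * ι y * n⁻¹ ∈ ι.range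
        rw [hnP' y hy, ← hg ⟨y, hy⟩]
        exact ⟨_, rfl⟩
      · intro y hy
        show n * ι y * n⁻¹ ∈ ι.range
        rw [hrange]
        exact hZbP ((hnZ _).mp hy)
    intro y hy
    exact hle hy
  refine ⟨pullConj ι hι (P' ⊔ Zb.comap ι) n hB, ?_, ?_, ?_⟩
  · rw [hE]
    exact ⟨n, fun x => pullConj_spec ι hι _ n hB x⟩
  · intro x
    apply hι
    rw [pullConj_spec, hg x]
    exact hnP' x x.2
  · ext z
    constructor
    · rintro ⟨y, hy, rfl⟩
      show ι _ ∈ Zb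
      rw [pullConj_spec]
      exact (hnZ _).mp hy
    · intro hz
      have hz' : ι z ∈ Zb := hz
      have h1 : n⁻¹ * ι z * n ∈ Zb := by
        rw [hnZ]
        have : n * (n⁻¹ * ι z * n) * n⁻¹ = ι z := by group
        rw [this]; exact hz'
      have h2 : n⁻¹ * ι z * n ∈ ι.range := by rw [hrange]; exact hZbP h1
      obtain ⟨y, hy⟩ := h2
      have hyQ : y ∈ Zb.comap ι := by show ι y ∈ Zb; rw [hy]; exact h1
      refine ⟨⟨y, Subgroup.mem_sup_right hyQ⟩, hyQ, ?_⟩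
      apply hι
      rw [pullConj_spec]
      show n * ι y * n⁻¹ = ι z
      rw [hy]; group

theorem core_ne_bot_of_realized (hp : p ≠ 2) (hfree : ¬ Involves ↥(Cfsg.qd p) Q) (ι : S' →* Q)
    (hι : Function.Injective ι) (Pbar : Sylow p Q) (hrange : ι.range = (Pbar : Subgroup Q))
    (hne : (Pbar : Subgroup Q) ≠ ⊥)
    (E : FusionSystem (⊤ : Subgroup S'))
    (hE : ∀ (P' : Subgroup S') (φ' : P' →* S'),
      φ' ∈ E.Hom P' ↔ ∃ g : Q, ∀ x : P', ι (φ' x) = g * ι x * g⁻¹) :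
    E.core ≠ ⊥ := by
  have hnorm := isNormal_comap_ZJ hp hfree ι hι Pbar hrange E hE
  set Zb : Subgroup Q := centerThompsonAOf (Pbar : Subgroup Q) with hZb
  have hZbP : Zb ≤ Pbar := by rw [hZb, centerThompsonAOf_eq_W]; exact W_le goodAx_comm _
  have hZb_ne : Zb ≠ ⊥ := by
    rw [hZb, centerThompsonAOf_eq_W]; exact ZJ_ne_bot Pbar.isPGroup' hne
  obtain ⟨z, hz, hz1⟩ := (Subgroup.ne_bot_iff_exists_ne_one (H := Zb)).mp hZb_ne |> fun ⟨z, hz⟩ =>
    (⟨(z : Q), z.2, fun h => hz (Subtype.ext h)⟩ : ∃ z : Q, z ∈ Zb ∧ z ≠ 1)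
  have hzr : z ∈ ι.range := by rw [hrange]; exact hZbP hz
  obtain ⟨y, rfl⟩ := hzr
  intro hcore
  have hy : y ∈ Zb.comap ι := hz
  have hle : Zb.comap ι ≤ E.core := le_sSup hnorm
  have := hle hy
  rw [hcore, Subgroup.mem_bot] at this
  exact hz1 (by rw [this, map_one])

end Abstract

end Cfsg.Agent.Helper46
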