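import Mathlib
import Cfsg.Prelude.Def_FusionComponents
import Cfsg.Agent.Lib.Helper46.FusSolv1

/-!
# The factor system of `F_S(G)` modulo a strongly closed subgroup `R` is induced by `N_G(R)/R`
-/

set_option autoImplicit false
set_option linter.unusedSectionVars false

namespace Cfsg.Agent.Helper46

open Cfsg

universe u

section

variable {G : Type u} [Group G]

theorem isStronglyClosed_of_fs (S R : Subgroup G) (h : (groupFusionSystem S).StronglyClosed R) :
    IsStronglyClosed R S := by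
  refine ⟨h.1, fun x hx g hg => ?_⟩
  have hz : Subgroup.zpowers x ≤ R := by rw [Subgroup.zpowers_le]; exact hx
  have hmem : conjHom (Subgroup.zpowers x) g ∈ (groupFusionSystem S).Hom (Subgroup.zpowers x) := by
    refine ⟨hz.trans h.1, fun y => ?_, g, fun y => rfl⟩
    obtain ⟨k, hk⟩ := Subgroup.mem_zpowers_iff.mp y.2
    show g * (y : G) * g⁻¹ ∈ S
    rw [← hk]
    have : g * x ^ k * g⁻¹ = (g * x * g⁻¹) ^ k := by simp [conj_zpow]
    rw [this]; exact S.zpow_mem hg k
  exact h.2 _ hz _ hmem ⟨x, Subgroup.mem_zpowers x⟩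

theorem mem_preimageAlong {Ω : Type*} {Ω' : Type*} [Group Ω] [Group Ω'] {S : Subgroup Ω} (α : S →* Ω')
    (P' : Subgroup Ω') (x : Ω) :
    x ∈ FusionSystem.preimageAlong α P' ↔ ∃ hx : x ∈ S, α ⟨x, hx⟩ ∈ P' := by
  unfold FusionSystem.preimageAlong
  constructor
  · rintro ⟨y, hy, rfl⟩
    exact ⟨y.2, hy⟩
  · rintro ⟨hx, h⟩
    exact ⟨⟨x, hx⟩, h, rfl⟩

theorem mem_normalizer_of_forall_conj_mem [Finite G] (R : Subgroup G) (g : G)
    (h : ∀ r ∈ R, g * r * g⁻¹ ∈ R) : g ∈ Subgroup.normalizer (R : Set G) := by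
  rw [Subgroup.mem_normalizer_iff]
  intro x
  refine ⟨h x, fun hx => ?_⟩
  let f : R → R := fun r => ⟨g * r * g⁻¹, h r r.2⟩
  have hf : Function.Injective f := by
    intro a b hab
    have := congrArg Subtype.val hab
    simp only [f] at this
    exact Subtype.ext (mul_left_cancel (mul_right_cancel this))
  obtain ⟨r, hr⟩ := (Finite.injective_iff_surjective.mp hf) ⟨g * x * g⁻¹, hx⟩
  have := congrArg Subtype.val hr
  simp only [f] at this
  have hxr : (r : G) = x := mul_left_cancel (mul_right_cancel this)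
  rw [← hxr]; exact r.2

end

section Main

variable {G : Type u} [Group G] [Finite G] {p : ℕ} [Fact p.Prime]

/-- **Qd(p)-free groups have solvable fusion systems** (one strongly closed subgroup at a time): the factor system of
`F_P(G)` modulo a proper strongly closed subgroup has a nontrivial normal subgroup. -/
theorem core_factorSystem_ne_bot (hp : p ≠ 2) (hqd : ¬ Involves ↥(Cfsg.qd p) G) (P : Sylow p G)
    (R : Subgroup G) (hR : (groupFusionSystem (P : Subgroup G)).StronglyClosed R)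
    (hne : R ≠ (P : Subgroup G)) [hRn : (R.subgroupOf (P : Subgroup G)).Normal]
    (E : FusionSystem (⊤ : Subgroup (↥(P : Subgroup G) ⧸ R.subgroupOf (P : Subgroup G))))
    (hE : (groupFusionSystem (P : Subgroup G)).IsFactorSystem R
      (QuotientGroup.mk' (R.subgroupOf (P : Subgroup G))) E) : E.core ≠ ⊥ := by
  classical
  have hsc : IsStronglyClosed R (P : Subgroup G) := isStronglyClosed_of_fs _ R hR
  have hRS : R ≤ (P : Subgroup G) := hsc.1
  have hSN : (P : Subgroup G) ≤ Subgroup.normalizer (R : Set G) :=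
    Subgroup.le_normalizer_of_normal_subgroupOf hRS
  -- the maps
  let θ : ↥(P : Subgroup G) →* (↥(P : Subgroup G) ⧸ R.subgroupOf (P : Subgroup G)) :=
    QuotientGroup.mk' (R.subgroupOf (P : Subgroup G))
  let π : ↥(Subgroup.normalizer (R : Set G)) →*
      (↥(Subgroup.normalizer (R : Set G)) ⧸ R.subgroupOf (Subgroup.normalizer (R : Set G))) :=
    QuotientGroup.mk' (R.subgroupOf (Subgroup.normalizer (R : Set G)))
  let ι : (↥(P : Subgroup G) ⧸ R.subgroupOf (P : Subgroup G)) →*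
      (↥(Subgroup.normalizer (R : Set G)) ⧸ R.subgroupOf (Subgroup.normalizer (R : Set G))) :=
    QuotientGroup.map (R.subgroupOf (P : Subgroup G)) (R.subgroupOf (Subgroup.normalizer (R : Set G)))
      (Subgroup.inclusion hSN) (fun x hx => hx)
  have hιθ : ∀ (x : G) (hx : x ∈ (P : Subgroup G)), ι (θ ⟨x, hx⟩) = π ⟨x, hSN hx⟩ := fun x hx => rfl
  have hπeq : ∀ (a b : G) (ha : a ∈ Subgroup.normalizer (R : Set G))
      (hb : b ∈ Subgroup.normalizer (R : Set G)), π ⟨a, ha⟩ = π ⟨b, hb⟩ ↔ a⁻¹ * b ∈ R := by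
    intro a b ha hb
    show (QuotientGroup.mk (⟨a, ha⟩ : ↥(Subgroup.normalizer (R : Set G))) :
      ↥(Subgroup.normalizer (R : Set G)) ⧸ R.subgroupOf (Subgroup.normalizer (R : Set G))) =
        QuotientGroup.mk ⟨b, hb⟩ ↔ _
    rw [QuotientGroup.eq, Subgroup.mem_subgroupOf]
    rfl
  have hι : Function.Injective ι := by
    rw [injective_iff_map_eq_one]
    intro y hy
    obtain ⟨s, rfl⟩ := QuotientGroup.mk'_surjective _ y
    have h1 : π ⟨(s : G), hSN s.2⟩ = π ⟨1, Subgroup.one_mem _⟩ := by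
      rw [← hιθ (s : G) s.2]
      exact hy.trans (map_one π).symm
    rw [hπeq] at h1
    have h2 : (s : G) ∈ R := by
      have := R.inv_mem h1
      simpa using this
    exact (QuotientGroup.eq_one_iff s).mpr (Subgroup.mem_subgroupOf.mpr h2)
  -- the Sylow subgroup of the quotient
  let P1 : Sylow p ↥(Subgroup.normalizer (R : Set G)) := P.subtype hSN
  let Pbar : Sylow p (↥(Subgroup.normalizer (R : Set G)) ⧸ R.subgroupOf (Subgroup.normalizer (R : Set G))) :=
    P1.mapSurjective (QuotientGroup.mk'_surjective _)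
  have hPbar : ∀ z, z ∈ (Pbar : Subgroup _) ↔ ∃ (x : G) (hx : x ∈ (P : Subgroup G)), π ⟨x, hSN hx⟩ = z := by
    intro z
    show z ∈ ((P1 : Subgroup _).map π) ↔ _
    constructor
    · rintro ⟨m, hm, rfl⟩
      have hm' : (m : G) ∈ (P : Subgroup G) := by
        have : m ∈ (P : Subgroup G).subgroupOf (Subgroup.normalizer (R : Set G)) := by
          rw [← Sylow.coe_subtype]; exact hm
        exact Subgroup.mem_subgroupOf.mp this
      exact ⟨(m : G), hm', rfl⟩
    · rintro ⟨x, hx, rfl⟩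
      refine ⟨⟨x, hSN hx⟩, ?_, rfl⟩
      have : (⟨x, hSN hx⟩ : ↥(Subgroup.normalizer (R : Set G))) ∈
          (P : Subgroup G).subgroupOf (Subgroup.normalizer (R : Set G)) := Subgroup.mem_subgroupOf.mpr hx
      rw [← Sylow.coe_subtype] at this
      exact this
  have hrange : ι.range = (Pbar : Subgroup _) := by
    ext z
    rw [hPbar]
    constructor
    · rintro ⟨y, rfl⟩
      obtain ⟨s, rfl⟩ := QuotientGroup.mk'_surjective _ y
      exact ⟨(s : G), s.2, (hιθ _ _).symm⟩
    · rintro ⟨x, hx, rfl⟩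
      exact ⟨θ ⟨x, hx⟩, hιθ x hx⟩
  -- membership in `P` can be read off in the quotient
  have hmemS : ∀ (m : G) (hm : m ∈ Subgroup.normalizer (R : Set G)), π ⟨m, hm⟩ ∈ (Pbar : Subgroup _) →
      m ∈ (P : Subgroup G) := by
    intro m hm h
    obtain ⟨x, hx, hxm⟩ := (hPbar _).mp h
    rw [hπeq] at hxm
    have : m = x * (x⁻¹ * m) := by group
    rw [this]
    exact (P : Subgroup G).mul_mem hx (hRS hxm)
  have hfree' : ¬ Involves ↥(Cfsg.qd p)
      (↥(Subgroup.normalizer (R : Set G)) ⧸ R.subgroupOf (Subgroup.normalizer (R : Set G))) := by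
    intro hinv
    apply hqd
    have h1 : Involves ↥(Cfsg.qd p) ↥(Subgroup.normalizer (R : Set G)) :=
      involves_of_involves_quotient π (QuotientGroup.mk'_surjective _) hinv
    exact involves_of_involves_subgroup _ h1
  have hPbar_ne : Pbar.toSubgroup ≠ ⊥ := by
    intro hbot
    apply hne
    apply le_antisymm hRS
    intro x hx
    have h1 : π ⟨x, hSN hx⟩ ∈ (Pbar : Subgroup _) := (hPbar _).mpr ⟨x, hx, rfl⟩
    rw [hbot, Subgroup.mem_bot] at h1
    have h2 : π ⟨x, hSN hx⟩ = π ⟨1, Subgroup.one_mem _⟩ := h1.trans (map_one π).symm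
    rw [hπeq] at h2
    have := R.inv_mem h2
    simpa using this
  obtain ⟨-, hker, -, hHom⟩ := hE
  apply core_ne_bot_of_realized hp hfree' ι hι Pbar hrange hPbar_ne E
  intro P' φ'
  rw [hHom P' φ']
  constructor
  · rintro ⟨-, φ, ⟨hAS, hφS, g, hg⟩, hPS, hφS', hP', hind⟩
    -- `g` normalizes `R`
    have hRA : ∀ r ∈ R, r ∈ FusionSystem.preimageAlong θ P' := by
      intro r hr
      rw [mem_preimageAlong]
      refine ⟨hRS hr, ?_⟩
      have : θ ⟨r, hRS hr⟩ = 1 := (hker ⟨r, hRS hr⟩).mpr hr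
      rw [this]; exact P'.one_mem
    have hgN : g ∈ Subgroup.normalizer (R : Set G) := by
      apply mem_normalizer_of_forall_conj_mem
      intro r hr
      apply hsc.2 r hr g
      rw [← hg ⟨r, hRA r hr⟩]
      exact hφS _
    refine ⟨π ⟨g, hgN⟩, fun x => ?_⟩
    obtain ⟨s, hs⟩ := QuotientGroup.mk'_surjective (R.subgroupOf (P : Subgroup G)) (x : _ ⧸ _)
    have hsA : (s : G) ∈ FusionSystem.preimageAlong θ P' := by
      rw [mem_preimageAlong]
      refine ⟨s.2, ?_⟩
      show θ s ∈ P'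
      rw [show θ s = (x : _ ⧸ _) from hs]; exact x.2
    have h1 := hind ⟨(s : G), hsA⟩
    have hx : x = ⟨θ ⟨(s : G), hPS hsA⟩, hP' ⟨(s : G), hsA⟩⟩ := Subtype.ext hs.symm
    rw [hx, h1]
    have h2 : ι (θ ⟨(s : G), hPS hsA⟩) = π ⟨(s : G), hSN s.2⟩ := hιθ _ _
    rw [hιθ]
    show _ = π ⟨g, hgN⟩ * ι (θ ⟨(s : G), hPS hsA⟩) * (π ⟨g, hgN⟩)⁻¹
    rw [h2, ← map_inv, ← map_mul, ← map_mul]
    apply congrArg π
    apply Subtype.ext
    show φ ⟨(s : G), hsA⟩ = g * (s : G) * g⁻¹
    exact hg _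
  · rintro ⟨nb, hnb⟩
    obtain ⟨n, rfl⟩ := QuotientGroup.mk'_surjective (R.subgroupOf (Subgroup.normalizer (R : Set G))) nb
    refine ⟨le_top, ?_⟩
    have hAS : FusionSystem.preimageAlong θ P' ≤ (P : Subgroup G) := by
      intro x hx
      exact ((mem_preimageAlong θ P' x).mp hx).1
    have hmemP' : ∀ x : ↥(FusionSystem.preimageAlong θ P'), θ ⟨(x : G), hAS x.2⟩ ∈ P' := by
      intro x
      exact ((mem_preimageAlong θ P' x).mp x.2).2
    have hkey : ∀ x : ↥(FusionSystem.preimageAlong θ P'),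
        ι (φ' ⟨θ ⟨(x : G), hAS x.2⟩, hmemP' x⟩) =
          π ⟨(n : G) * (x : G) * (n : G)⁻¹, (Subgroup.normalizer (R : Set G)).mul_mem
            ((Subgroup.normalizer (R : Set G)).mul_mem n.2 (hSN (hAS x.2)))
            ((Subgroup.normalizer (R : Set G)).inv_mem n.2)⟩ := by
      intro x
      rw [hnb ⟨θ ⟨(x : G), hAS x.2⟩, hmemP' x⟩]
      show π n * ι (θ ⟨(x : G), hAS x.2⟩) * (π n)⁻¹ = _
      rw [hιθ, ← map_inv, ← map_mul, ← map_mul]
      rfl
    have hconjS : ∀ x : ↥(FusionSystem.preimageAlong θ P'), (n : G) * (x : G) * (n : G)⁻¹ ∈ (P : Subgroup G) := by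
      intro x
      apply hmemS _ _
      rw [← hkey x, ← hrange]
      exact ⟨_, rfl⟩
    refine ⟨conjHom (FusionSystem.preimageAlong θ P') (n : G), ⟨hAS, hconjS, (n : G), fun x => rfl⟩,
      hAS, hconjS, hmemP', fun x => ?_⟩
    apply hι
    rw [hkey x]
    exact (hιθ _ (hconjS x)).symm

end Main

end Cfsg.Agent.Helper46
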