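import Mathlib

set_option autoImplicit false

namespace Cfsg.Agent.Helper46

open MulAction

section abstract

variable {G M : Type*} [Group G] [CommGroup M] [MulDistribMulAction G M]

/-- The product of the elements of the `X`-orbit of `z` in a commutative group. -/
noncomputable def orbProd (X : Subgroup G) (z : M) : M := ∏ᶠ y ∈ orbit X z, y

theorem orbit_finite' (X : Subgroup G) [Finite X] (z : M) : (orbit X z).Finite :=
  Set.finite_range _

theorem smul_orbProd (X : Subgroup G) [Finite X] (z : M) {x : G} (hx : x ∈ X) :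
    x • orbProd X z = orbProd X z := by
  unfold orbProd
  have h1 : x • (∏ᶠ y ∈ orbit X z, y) = ∏ᶠ y ∈ orbit X z, x • y :=
    (MulDistribMulAction.toMonoidHom M x).map_finprod_mem _ (orbit_finite' X z)
  rw [h1]
  have h2 : (fun y : M => x • y) '' orbit X z = orbit X z := by
    have := MulAction.smul_orbit (⟨x, hx⟩ : X) z
    rw [← Set.image_smul] at this
    exact this
  conv_rhs => rw [← h2]
  rw [finprod_mem_image (fun a _ b _ h => by simpa using h)]

theorem orbProd_eq (X : Subgroup G) [Finite X] (z : M) :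
    orbProd X z = z ^ (orbit X z).ncard * ∏ᶠ y ∈ orbit X z, z⁻¹ * y := by
  unfold orbProd
  have h1 : ∏ᶠ y ∈ orbit X z, y = ∏ᶠ y ∈ orbit X z, z * (z⁻¹ * y) := by
    congr 1; ext y; congr 1; ext _; rw [mul_inv_cancel_left]
  rw [h1, finprod_mem_mul_distrib (orbit_finite' X z)]
  congr 1
  rw [finprod_mem_eq_finite_toFinset_prod _ (orbit_finite' X z), Finset.prod_const,
    Set.ncard_eq_toFinset_card _ (orbit_finite' X z)]

theorem ncard_orbit_dvd_relIndex (X S : Subgroup G) (z : M)
    (hS : ∀ s ∈ S, s • z = z) : (orbit X z).ncard ∣ S.relIndex X := by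
  rw [← MulAction.index_stabilizer ↥X z, Subgroup.relIndex]
  apply Subgroup.index_dvd_of_le
  intro s hs
  rw [MulAction.mem_stabilizer_iff]
  exact hS s hs

theorem orbit_smul_of_normalizes (X : Subgroup G) (z : M) (t : G)
    (ht : ∀ x ∈ X, t⁻¹ * x * t ∈ X) (ht' : ∀ x ∈ X, t * x * t⁻¹ ∈ X) :
    orbit X (t • z) = (fun y : M => t • y) '' orbit X z := by
  ext y
  constructor
  · rintro ⟨x, rfl⟩
    refine ⟨(⟨t⁻¹ * x * t, ht x x.2⟩ : X) • z, ⟨_, rfl⟩, ?_⟩
    change t • ((t⁻¹ * (x : G) * t) • z) = (x : G) • t • z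
    rw [smul_smul, smul_smul]
    congr 1
    group
  · rintro ⟨_, ⟨x, rfl⟩, rfl⟩
    refine ⟨(⟨t * x * t⁻¹, ht' x x.2⟩ : X), ?_⟩
    change (t * (x : G) * t⁻¹) • t • z = t • ((x : G) • z)
    rw [smul_smul, smul_smul]
    congr 1
    group

theorem orbProd_smul_of_normalizes (X : Subgroup G) [Finite X] (z : M) (t : G)
    (ht : ∀ x ∈ X, t⁻¹ * x * t ∈ X) (ht' : ∀ x ∈ X, t * x * t⁻¹ ∈ X) :
    orbProd X (t • z) = t • orbProd X z := by
  unfold orbProd
  rw [orbit_smul_of_normalizes X z t ht ht',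
    finprod_mem_image (fun a _ b _ h => by simpa using h)]
  exact ((MulDistribMulAction.toMonoidHom M t).map_finprod_mem _ (orbit_finite' X z)).symm

theorem ncard_orbit_smul_of_normalizes (X : Subgroup G) (z : M) (t : G)
    (ht : ∀ x ∈ X, t⁻¹ * x * t ∈ X) (ht' : ∀ x ∈ X, t * x * t⁻¹ ∈ X) :
    (orbit X (t • z)).ncard = (orbit X z).ncard := by
  rw [orbit_smul_of_normalizes X z t ht ht']
  exact Set.ncard_image_of_injective _ (MulAction.injective t)

theorem orbit_mul_fixed (X : Subgroup G) (z u : M) (hu : ∀ x ∈ X, x • u = u) :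
    orbit X (z * u) = (fun y : M => y * u) '' orbit X z := by
  ext y
  constructor
  · rintro ⟨x, rfl⟩
    refine ⟨x • z, ⟨x, rfl⟩, ?_⟩
    change (x : G) • z * u = (x : G) • (z * u)
    rw [smul_mul', hu x x.2]
  · rintro ⟨_, ⟨x, rfl⟩, rfl⟩
    refine ⟨x, ?_⟩
    change (x : G) • (z * u) = (x : G) • z * u
    rw [smul_mul', hu x x.2]

theorem ncard_orbit_mul_fixed (X : Subgroup G) (z u : M) (hu : ∀ x ∈ X, x • u = u) :
    (orbit X (z * u)).ncard = (orbit X z).ncard := by
  rw [orbit_mul_fixed X z u hu]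
  exact Set.ncard_image_of_injective _ (mul_left_injective u)

theorem orbProd_mul_fixed (X : Subgroup G) [Finite X] (z u : M) (hu : ∀ x ∈ X, x • u = u) :
    orbProd X (z * u) = orbProd X z * u ^ (orbit X z).ncard := by
  unfold orbProd
  rw [orbit_mul_fixed X z u hu, finprod_mem_image (fun a _ b _ h => mul_left_injective u h),
    finprod_mem_mul_distrib (orbit_finite' X z)]
  congr 1
  rw [finprod_mem_eq_finite_toFinset_prod _ (orbit_finite' X z), Finset.prod_const,
    Set.ncard_eq_toFinset_card _ (orbit_finite' X z)]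

/-- The "defect" `z ^ m * (orbProd X z)⁻¹` is fixed by an element `t` normalizing `X` such that
`t • z = z * u` with `u` fixed by `X`. -/
theorem smul_defect_eq (X : Subgroup G) [Finite X] (z u : M) (t : G)
    (ht : ∀ x ∈ X, t⁻¹ * x * t ∈ X) (ht' : ∀ x ∈ X, t * x * t⁻¹ ∈ X)
    (hu : ∀ x ∈ X, x • u = u) (htz : t • z = z * u) :
    t • (z ^ (orbit X z).ncard * (orbProd X z)⁻¹) = z ^ (orbit X z).ncard * (orbProd X z)⁻¹ := by
  rw [smul_mul', smul_inv', smul_pow', ← orbProd_smul_of_normalizes X z t ht ht', htz,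
    orbProd_mul_fixed X z u hu, mul_pow, mul_inv]
  rw [mul_mul_mul_comm, mul_inv_cancel, mul_one]

end abstract

end Cfsg.Agent.Helper46
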