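import Mathlib
import Cfsg.Prelude.Def_LocalEven
import Cfsg.Agent.Lib.Helper46.OrbitProd
import Cfsg.Agent.Lib.Helper46.PCore
import Cfsg.Agent.Lib.Helper46.SylowLemmas
import Cfsg.Agent.Lib.Helper46.CharPNormal
import Cfsg.Agent.Lib.Helper46.Coprime

set_option autoImplicit false

namespace Cfsg.Agent.Helper46

open Cfsg MulAction

section concrete

variable {H : Type*} [Group H]

/-- Commutative group structure on a commutative subgroup. -/
@[reducible] def commGroupOfComm (A : Subgroup H) (hA : ∀ a ∈ A, ∀ b ∈ A, a * b = b * a) :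
    CommGroup ↥A :=
  { (inferInstance : Group ↥A) with mul_comm := fun a b => Subtype.ext (hA a a.2 b b.2) }

/-- Conjugation action of the group on a commutative normal subgroup. -/
@[reducible] def conjMDMA (A : Subgroup H) [hn : A.Normal]
    (hA : ∀ a ∈ A, ∀ b ∈ A, a * b = b * a) :
    @MulDistribMulAction H ↥A _ (commGroupOfComm A hA).toMonoid :=
  letI := commGroupOfComm A hA
  { smul := fun h a => ⟨h * a * h⁻¹, hn.conj_mem a a.2 h⟩
    one_smul := fun a => Subtype.ext (by change (1 : H) * a * (1 : H)⁻¹ = a; simp)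
    mul_smul := fun g h a => Subtype.ext (by
      change (g * h) * a * (g * h)⁻¹ = g * (h * a * h⁻¹) * g⁻¹; group)
    smul_mul := fun g a b => Subtype.ext (by
      change g * (a * b) * g⁻¹ = (g * a * g⁻¹) * (g * b * g⁻¹); group)
    smul_one := fun g => Subtype.ext (by change g * 1 * g⁻¹ = 1; simp) }

theorem kieler_dir1_aux [Finite H] {p : ℕ} [Fact p.Prime] (A : Subgroup H) [A.Normal]
    (hA : ∀ a ∈ A, ∀ b ∈ A, a * b = b * a) (L : Subgroup H) [hL : L.Normal] (S D : Subgroup H)
    (hSD : S ≤ D) (hDL : D ≤ L) (hp : ¬ p ∣ S.relIndex D)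
    (hcent : ∀ w ∈ A, w ∈ L → w ^ p = 1 → (∀ s ∈ S, s * w = w * s) → ∀ d ∈ D, d * w = w * d)
    (z : H) (hz : z ∈ A) (hzp : z ^ p = 1) (hzS : ∀ s ∈ S, s * z = z * s) :
    ∀ d ∈ D, d * z = z * d := by
  letI := commGroupOfComm A hA
  letI := conjMDMA A hA
  set zA : ↥A := ⟨z, hz⟩ with hzA
  have hsm : ∀ (h : H) (a : ↥A), ((h • a : ↥A) : H) = h * a * h⁻¹ := fun _ _ => rfl
  set m := (orbit D zA).ncard with hm
  set N := orbProd D zA with hN
  set w := ∏ᶠ y ∈ orbit D zA, zA⁻¹ * y with hw
  have h1 : N = zA ^ m * w := orbProd_eq D zA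
  have h2 : ∀ d ∈ D, d • N = N := fun d hd => smul_orbProd D zA hd
  have hfix : ∀ s ∈ S, s • zA = zA := by
    intro s hs
    apply Subtype.ext
    rw [hsm]
    change s * z * s⁻¹ = z
    rw [hzS s hs, mul_inv_cancel_right]
  have h3 : m ∣ S.relIndex D := ncard_orbit_dvd_relIndex D S zA hfix
  have hmp : m.Coprime p := by
    rw [Nat.coprime_comm, Nat.Prime.coprime_iff_not_dvd Fact.out]
    exact fun h => hp (h.trans h3)
  have hzAp : zA ^ p = 1 := Subtype.ext (by simpa using hzp)
  -- properties of w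
  have hwprop : (w : H) ∈ L ∧ w ^ p = 1 := by
    rw [hw]
    apply finprod_mem_induction (fun a : ↥A => (a : H) ∈ L ∧ a ^ p = 1)
    · exact ⟨L.one_mem, one_pow _⟩
    · rintro a b ⟨ha1, ha2⟩ ⟨hb1, hb2⟩
      exact ⟨L.mul_mem ha1 hb1, by rw [mul_pow, ha2, hb2, one_mul]⟩
    · rintro y ⟨d, rfl⟩
      constructor
      · change z⁻¹ * ((d : H) * z * (d : H)⁻¹) ∈ L
        have : z⁻¹ * ((d : H) * z * (d : H)⁻¹) = (z⁻¹ * (d : H) * z⁻¹⁻¹) * (d : H)⁻¹ := by group
        rw [this]
        exact L.mul_mem (hL.conj_mem _ (hDL d.2) _) (L.inv_mem (hDL d.2))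
      · have h' : (d • zA) ^ p = 1 := by
          change ((d : H) • zA) ^ p = 1
          rw [← smul_pow', hzAp, smul_one]
        rw [mul_pow, inv_pow, hzAp, h', inv_one, one_mul]
  have hwS : ∀ s ∈ S, s • w = w := by
    intro s hs
    have hw' : w = (zA ^ m)⁻¹ * N := by rw [h1, inv_mul_cancel_left]
    rw [hw', smul_mul', smul_inv', smul_pow', hfix s hs, h2 s (hSD hs)]
  have hwD : ∀ d ∈ D, d • w = w := by
    intro d hd
    apply Subtype.ext
    rw [hsm]
    have := hcent (w : H) w.2 hwprop.1 (by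
      have := congrArg (Subtype.val) hwprop.2
      simpa using this) (by
      intro s hs
      have := congrArg Subtype.val (hwS s hs)
      rw [hsm] at this
      calc s * (w : H) = (s * (w : H) * s⁻¹) * s := by group
        _ = (w : H) * s := by rw [this]
      ) d hd
    rw [this, mul_inv_cancel_right]
  have hzm : ∀ d ∈ D, d • (zA ^ m) = zA ^ m := by
    intro d hd
    have : zA ^ m = N * w⁻¹ := by rw [h1, mul_inv_cancel_right]
    rw [this, smul_mul', smul_inv', h2 d hd, hwD d hd]
  intro d hd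
  have hco : m.Coprime (orderOf zA) :=
    Nat.Coprime.coprime_dvd_right (orderOf_dvd_of_pow_eq_one hzAp) hmp
  obtain ⟨j, hj⟩ := exists_pow_eq_self_of_coprime hco
  have hfin : d • zA = zA := by
    rw [← hj, smul_pow', hzm d hd]
  have := congrArg Subtype.val hfin
  rw [hsm] at this
  change d * z * d⁻¹ = z at this
  calc d * z = (d * z * d⁻¹) * d := by group
    _ = z * d := by rw [this]

theorem kieler_dir2_aux [Finite H] {p : ℕ} [Fact p.Prime] (A : Subgroup H) [A.Normal]
    (hA : ∀ a ∈ A, ∀ b ∈ A, a * b = b * a) (T : Subgroup H) (hT : IsPGroup p T)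
    (X S : Subgroup H)
    (hTS : ∀ t ∈ T, ∀ s ∈ S, t * s * t⁻¹ ∈ S) (hTX : ∀ t ∈ T, ∀ x ∈ X, t * x * t⁻¹ ∈ X)
    (hp : ¬ p ∣ S.relIndex X) (hAT : A ≤ T)
    (hcent : ∀ w ∈ A, w ^ p = 1 → (∀ t ∈ T, t * w = w * t) → ∀ x ∈ X, x * w = w * x) :
    ∀ y ∈ A, y ^ p = 1 → (∀ s ∈ S, s * y = y * s) → ∀ x ∈ X, x * y = y * x := by
  letI := commGroupOfComm A hA
  letI := conjMDMA A hA
  have hsm : ∀ (h : H) (a : ↥A), ((h • a : ↥A) : H) = h * a * h⁻¹ := fun _ _ => rfl
  have hcomm_of_smul : ∀ (h : H) (a : ↥A), h • a = a → h * (a : H) = a * h := by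
    intro h a ha
    have := congrArg Subtype.val ha
    rw [hsm] at this
    calc h * (a : H) = (h * (a : H) * h⁻¹) * h := by group
      _ = (a : H) * h := by rw [this]
  have hsmul_of_comm : ∀ (h : H) (a : ↥A), h * (a : H) = a * h → h • a = a := by
    intro h a ha
    apply Subtype.ext
    rw [hsm, ha, mul_inv_cancel_right]
  have hnil : Group.IsNilpotent ↥T := hT.isNilpotent
  obtain ⟨n, hn⟩ := hnil.nilpotent
  have key : ∀ k : ℕ, ∀ y : ↥T, y ∈ Subgroup.upperCentralSeries ↥T k → (y : H) ∈ A → (y : H) ^ p = 1 →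
      (∀ s ∈ S, s * (y : H) = y * s) → ∀ x ∈ X, x * (y : H) = y * x := by
    intro k
    induction k with
    | zero =>
      intro y hy _ _ _ x _
      rw [Subgroup.upperCentralSeries_zero, Subgroup.mem_bot] at hy
      rw [hy]; simp
    | succ k ih =>
      intro y hy hyA hyp hyS
      rw [Subgroup.mem_upperCentralSeries_succ_iff] at hy
      set yA : ↥A := ⟨y, hyA⟩ with hyAdef
      set m := (orbit X yA).ncard with hm
      have hyAp : yA ^ p = 1 := Subtype.ext (by simpa using hyp)
      have hfix : ∀ s ∈ S, s • yA = yA := fun s hs => hsmul_of_comm s yA (hyS s hs)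
      have h3 : m ∣ S.relIndex X := ncard_orbit_dvd_relIndex X S yA hfix
      have hmp : m.Coprime p := by
        rw [Nat.coprime_comm, Nat.Prime.coprime_iff_not_dvd Fact.out]
        exact fun h => hp (h.trans h3)
      -- the defect is fixed by T
      have hdef : ∀ t ∈ T, t • (yA ^ m * (orbProd X yA)⁻¹) = yA ^ m * (orbProd X yA)⁻¹ := by
        intro t ht
        set u : ↥A := yA⁻¹ * (t • yA) with hu
        have htz : t • yA = yA * u := by rw [hu, mul_inv_cancel_left]
        have hup : u ^ p = 1 := by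
          rw [hu, mul_pow, inv_pow, hyAp, ← smul_pow', hyAp, smul_one, inv_one, one_mul]
        have huT : (u : H) ∈ T := hAT u.2
        have huZ : (⟨(u : H), huT⟩ : ↥T) ∈ Subgroup.upperCentralSeries ↥T k := by
          have h5 := inv_mem (hy ⟨t, ht⟩)
          have h6 : (y * ⟨t, ht⟩ * y⁻¹ * (⟨t, ht⟩ : ↥T)⁻¹)⁻¹ = (⟨(u : H), huT⟩ : ↥T) := by
            apply Subtype.ext
            have h7 : ((t • yA : ↥A) : H) * (yA⁻¹ : ↥A) = (yA⁻¹ : ↥A) * ((t • yA : ↥A) : H) :=
              hA _ (t • yA).2 _ (yA⁻¹).2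
            change ((y : H) * t * (y : H)⁻¹ * t⁻¹)⁻¹ = (y : H)⁻¹ * (t * (y : H) * t⁻¹)
            change (t * (y : H) * t⁻¹) * (y : H)⁻¹ = (y : H)⁻¹ * (t * (y : H) * t⁻¹) at h7
            rw [← h7]
            group
          rw [commutatorElement_def, h6] at h5
          exact h5
        have huS : ∀ s ∈ S, s * (u : H) = u * s := by
          intro s hs
          have h8 : t⁻¹ * s * t ∈ S := by
            have := hTS t⁻¹ (T.inv_mem ht) s hs
            rwa [inv_inv] at this
          have h9 := hyS _ h8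
          have h10 := hyS s hs
          change s * ((y : H)⁻¹ * (t * (y : H) * t⁻¹)) = ((y : H)⁻¹ * (t * (y : H) * t⁻¹)) * s
          have h11 : s * (y : H)⁻¹ = (y : H)⁻¹ * s :=
            (Commute.inv_right (show Commute s (y : H) from h10)).eq
          have h12 : s * (t * (y : H) * t⁻¹) = (t * (y : H) * t⁻¹) * s := by
            calc s * (t * (y : H) * t⁻¹) = t * ((t⁻¹ * s * t) * (y : H)) * t⁻¹ := by group
              _ = t * ((y : H) * (t⁻¹ * s * t)) * t⁻¹ := by rw [h9]
              _ = (t * (y : H) * t⁻¹) * s := by group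
          calc s * ((y : H)⁻¹ * (t * (y : H) * t⁻¹)) = (s * (y : H)⁻¹) * (t * (y : H) * t⁻¹) := by
                group
            _ = ((y : H)⁻¹ * s) * (t * (y : H) * t⁻¹) := by rw [h11]
            _ = (y : H)⁻¹ * (s * (t * (y : H) * t⁻¹)) := by group
            _ = (y : H)⁻¹ * ((t * (y : H) * t⁻¹) * s) := by rw [h12]
            _ = ((y : H)⁻¹ * (t * (y : H) * t⁻¹)) * s := by group
        have hupH : (u : H) ^ p = 1 := by
          have := congrArg Subtype.val hup
          simpa using this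
        have huX : ∀ x ∈ X, x • u = u := by
          intro x hx
          exact hsmul_of_comm x u (ih ⟨(u : H), huT⟩ huZ u.2 hupH huS x hx)
        have hnt : ∀ x ∈ X, t⁻¹ * x * t ∈ X := by
          intro x hx
          have := hTX t⁻¹ (T.inv_mem ht) x hx
          rwa [inv_inv] at this
        exact smul_defect_eq X yA u t hnt (hTX t ht) huX htz
      set y' : ↥A := yA ^ m * (orbProd X yA)⁻¹ with hy'
      have hNp : (orbProd X yA) ^ p = 1 := by
        unfold orbProd
        apply finprod_mem_induction (fun a : ↥A => a ^ p = 1)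
        · exact one_pow _
        · intro a b ha hb
          rw [mul_pow, ha, hb, one_mul]
        · rintro _ ⟨x, rfl⟩
          change ((x : H) • yA) ^ p = 1
          rw [← smul_pow', hyAp, smul_one]
      have hy'p : y' ^ p = 1 := by
        rw [hy', mul_pow, inv_pow, hNp, inv_one, mul_one, ← pow_mul, mul_comm, pow_mul, hyAp,
          one_pow]
      have hy'pH : (y' : H) ^ p = 1 := by
        have := congrArg Subtype.val hy'p
        simpa using this
      have hy'X : ∀ x ∈ X, x • y' = y' := by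
        intro x hx
        apply hsmul_of_comm
        exact hcent (y' : H) y'.2 hy'pH (fun t ht => hcomm_of_smul t y' (hdef t ht)) x hx
      have hzm : ∀ x ∈ X, x • (yA ^ m) = yA ^ m := by
        intro x hx
        have : yA ^ m = y' * orbProd X yA := by rw [hy', inv_mul_cancel_right]
        rw [this, smul_mul', hy'X x hx, smul_orbProd X yA hx]
      intro x hx
      have hco : m.Coprime (orderOf yA) :=
        Nat.Coprime.coprime_dvd_right (orderOf_dvd_of_pow_eq_one hyAp) hmp
      obtain ⟨j, hj⟩ := exists_pow_eq_self_of_coprime hco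
      have hfin : x • yA = yA := by
        rw [← hj, smul_pow', hzm x hx]
      exact hcomm_of_smul x yA hfin
  intro y hyA hyp hyS x hx
  have hyT : y ∈ T := hAT hyA
  have hmem : (⟨y, hyT⟩ : ↥T) ∈ Subgroup.upperCentralSeries ↥T n := by rw [hn]; exact Subgroup.mem_top _
  exact key n ⟨y, hyT⟩ hmem hyA hyp hyS x hx

end concrete

section normalcase

variable {H : Type*} [Group H] {p : ℕ}

theorem mem_centralizer_omegaOne {K : Subgroup H} {d : H} :
    d ∈ Subgroup.centralizer (omegaOne p K : Set H) ↔ ∀ g ∈ K, g ^ p = 1 → g * d = d * g := by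
  constructor
  · intro hd g hg hgp
    exact Subgroup.mem_centralizer_iff.mp hd g (Subgroup.subset_closure ⟨hg, hgp⟩)
  · intro h
    rw [Subgroup.mem_centralizer_iff]
    have hle : omegaOne p K ≤ Subgroup.centralizer ({d} : Set H) := by
      unfold omegaOne
      rw [Subgroup.closure_le]
      rintro g ⟨hg, hgp⟩
      rw [SetLike.mem_coe, Subgroup.mem_centralizer_iff]
      intro e he
      rw [Set.mem_singleton_iff] at he
      rw [he]
      exact (h g hg hgp).symm
    intro g hg
    have := Subgroup.mem_centralizer_iff.mp (hle hg) d (Set.mem_singleton d)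
    exact this.symm

theorem centerOf_comm (R : Subgroup H) : ∀ a ∈ R ⊓ Subgroup.centralizer (R : Set H),
    ∀ b ∈ R ⊓ Subgroup.centralizer (R : Set H), a * b = b * a :=
  fun a ha b hb =>
    Subgroup.mem_centralizer_iff.mp (Subgroup.mem_inf.mp hb).2 a (Subgroup.mem_inf.mp ha).1

theorem pCoreOf_normal_of_normal (L : Subgroup H) [hL : L.Normal] :
    ((pCore p ↥L).map L.subtype).Normal := by
  constructor
  intro x hx h
  have hh : h ∈ Subgroup.normalizer (L : Set H) := by
    rw [Subgroup.normalizer_eq_top]; exact Subgroup.mem_top h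
  exact conj_mem_pCore_map L h hh x hx

theorem kieler_normal [Finite H] [Fact p.Prime]
    (hH : Subgroup.centralizer (pCore p H : Set H) ≤ pCore p H) (T : Sylow p H)
    (L : Subgroup H) [hL : L.Normal] :
    L ⊓ Subgroup.centralizer ((omegaOne p ((T : Subgroup H) ⊓
        Subgroup.centralizer ((T : Subgroup H) : Set H))) : Set H) =
    L ⊓ Subgroup.centralizer ((omegaOne p (((T : Subgroup H) ⊓ L) ⊓
        Subgroup.centralizer ((((T : Subgroup H) ⊓ L) : Subgroup H) : Set H))) : Set H) := by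
  set S : Subgroup H := (T : Subgroup H) ⊓ L with hS
  have hSL : ¬ p ∣ S.relIndex L := by
    rw [hS, Subgroup.inf_relIndex_right]
    exact not_dvd_relIndex_normal T L
  have hQT : pCore p H ≤ (T : Subgroup H) := pCore_le_sylow T
  apply le_antisymm
  · -- direction 2
    intro x hx
    obtain ⟨hxL, hxC⟩ := Subgroup.mem_inf.mp hx
    refine Subgroup.mem_inf.mpr ⟨hxL, ?_⟩
    rw [mem_centralizer_omegaOne]
    intro y hy hyp
    obtain ⟨hyS, hyC⟩ := Subgroup.mem_inf.mp hy
    set R : Subgroup H := (pCore p ↥L).map L.subtype with hR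
    haveI hRn : R.Normal := pCoreOf_normal_of_normal L
    have hRL : R ≤ L := Subgroup.map_subtype_le _
    have hRQ : R ≤ pCore p H := pCore_subnormal_map_le hL.isSubnormal
    have hRS : R ≤ S := le_inf (hRQ.trans hQT) hRL
    set A : Subgroup H := R ⊓ Subgroup.centralizer (R : Set H) with hAdef
    haveI hAn : A.Normal := inferInstance
    set X : Subgroup H := L ⊓ Subgroup.centralizer ((omegaOne p ((T : Subgroup H) ⊓
        Subgroup.centralizer ((T : Subgroup H) : Set H))) : Set H) with hX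
    have hTC : (T : Subgroup H) ≤ Subgroup.centralizer ((omegaOne p ((T : Subgroup H) ⊓
        Subgroup.centralizer ((T : Subgroup H) : Set H))) : Set H) := by
      intro t ht
      rw [mem_centralizer_omegaOne]
      intro g hg _
      exact (Subgroup.mem_centralizer_iff.mp (Subgroup.mem_inf.mp hg).2 t ht).symm
    have hSX : S ≤ X := fun s hs =>
      Subgroup.mem_inf.mpr ⟨(Subgroup.mem_inf.mp hs).2, hTC (Subgroup.mem_inf.mp hs).1⟩
    have hXL : X ≤ L := inf_le_left
    have hpX : ¬ p ∣ S.relIndex X := by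
      intro h
      apply hSL
      rw [← Subgroup.relIndex_mul_relIndex S X L hSX hXL]
      exact h.mul_right _
    have hAT : A ≤ (T : Subgroup H) := fun a ha => hQT (hRQ (Subgroup.mem_inf.mp ha).1)
    have hyA : y ∈ A := by
      have hyR : y ∈ Subgroup.centralizer (R : Set H) :=
        Subgroup.centralizer_le (SetLike.coe_subset_coe.mpr hRS) hyC
      refine Subgroup.mem_inf.mpr ⟨?_, hyR⟩
      have hyL : y ∈ L := (Subgroup.mem_inf.mp hyS).2
      have hchar := charP_of_normal hH L hL
      have hmem : (⟨y, hyL⟩ : ↥L) ∈ Subgroup.centralizer (pCore p ↥L : Set ↥L) := by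
        rw [Subgroup.mem_centralizer_iff]
        intro h hh
        apply Subtype.ext
        have : (h : H) ∈ R := ⟨h, hh, rfl⟩
        exact Subgroup.mem_centralizer_iff.mp hyR (h : H) this
      exact ⟨⟨y, hyL⟩, hchar hmem, rfl⟩
    have := kieler_dir2_aux A (centerOf_comm R) (T : Subgroup H) T.isPGroup' X S
      (fun t ht s hs => Subgroup.mem_inf.mpr
        ⟨(T : Subgroup H).mul_mem ((T : Subgroup H).mul_mem ht (Subgroup.mem_inf.mp hs).1)
          ((T : Subgroup H).inv_mem ht), hL.conj_mem s (Subgroup.mem_inf.mp hs).2 t⟩)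
      (fun t ht x hx => Subgroup.mem_inf.mpr
        ⟨hL.conj_mem x (Subgroup.mem_inf.mp hx).1 t,
          Subgroup.mul_mem _ (Subgroup.mul_mem _ (hTC ht) (Subgroup.mem_inf.mp hx).2)
            (Subgroup.inv_mem _ (hTC ht))⟩)
      hpX hAT
      (fun w hw hwp hwT x hx => by
        have hwZ : w ∈ (T : Subgroup H) ⊓ Subgroup.centralizer ((T : Subgroup H) : Set H) :=
          Subgroup.mem_inf.mpr ⟨hAT hw, Subgroup.mem_centralizer_iff.mpr hwT⟩
        exact (mem_centralizer_omegaOne.mp (Subgroup.mem_inf.mp hx).2 w hwZ hwp).symm)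
      y hyA hyp (fun s hs => Subgroup.mem_centralizer_iff.mp hyC s hs) x hx
    exact this.symm
  · -- direction 1
    intro d hd
    obtain ⟨hdL, hdC⟩ := Subgroup.mem_inf.mp hd
    refine Subgroup.mem_inf.mpr ⟨hdL, ?_⟩
    rw [mem_centralizer_omegaOne]
    intro g hg hgp
    obtain ⟨hgT, hgC⟩ := Subgroup.mem_inf.mp hg
    set Q : Subgroup H := pCore p H with hQ
    set A : Subgroup H := Q ⊓ Subgroup.centralizer (Q : Set H) with hAdef
    haveI hAn : A.Normal := inferInstance
    set D : Subgroup H := L ⊓ Subgroup.centralizer ((omegaOne p (S ⊓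
        Subgroup.centralizer (S : Set H))) : Set H) with hD
    have hSD : S ≤ D := by
      intro s hs
      refine Subgroup.mem_inf.mpr ⟨(Subgroup.mem_inf.mp hs).2, ?_⟩
      rw [mem_centralizer_omegaOne]
      intro e he _
      exact (Subgroup.mem_centralizer_iff.mp (Subgroup.mem_inf.mp he).2 s hs).symm
    have hDL : D ≤ L := inf_le_left
    have hpD : ¬ p ∣ S.relIndex D := by
      intro h
      apply hSL
      rw [← Subgroup.relIndex_mul_relIndex S D L hSD hDL]
      exact h.mul_right _
    have hgQ : g ∈ Subgroup.centralizer (Q : Set H) :=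
      Subgroup.centralizer_le (SetLike.coe_subset_coe.mpr hQT) hgC
    have hgA : g ∈ A := Subgroup.mem_inf.mpr ⟨hH hgQ, hgQ⟩
    have := kieler_dir1_aux A (centerOf_comm Q) L S D hSD hDL hpD
      (fun w hw hwL hwp hwS d hd => by
        have hwS' : w ∈ S ⊓ Subgroup.centralizer (S : Set H) :=
          Subgroup.mem_inf.mpr ⟨Subgroup.mem_inf.mpr ⟨hQT (Subgroup.mem_inf.mp hw).1, hwL⟩,
            Subgroup.mem_centralizer_iff.mpr hwS⟩
        exact (mem_centralizer_omegaOne.mp (Subgroup.mem_inf.mp hd).2 w hwS' hwp).symm)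
      g hgA hgp (fun s hs => Subgroup.mem_centralizer_iff.mp hgC s (Subgroup.mem_inf.mp hs).1)
      d hd
    exact this.symm

end normalcase

section transfer

variable {H : Type*} [Group H] {p : ℕ}

theorem charP_of_mulEquiv {G₁ G₂ : Type*} [Group G₁] [Group G₂] (e : G₁ ≃* G₂)
    (h : Subgroup.centralizer (pCore p G₁ : Set G₁) ≤ pCore p G₁) :
    Subgroup.centralizer (pCore p G₂ : Set G₂) ≤ pCore p G₂ := by
  intro x hx
  have h1 : e.symm x ∈ Subgroup.centralizer (pCore p G₁ : Set G₁) := by
    rw [Subgroup.mem_centralizer_iff]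
    intro q hq
    have hq2 : e q ∈ pCore p G₂ := by
      rw [← pCore_map_mulEquiv (p := p) e]
      exact ⟨q, hq, rfl⟩
    have := Subgroup.mem_centralizer_iff.mp hx (e q) hq2
    apply e.injective
    rw [map_mul, map_mul, e.apply_symm_apply]
    exact this
  have h2 := h h1
  rw [← pCore_map_mulEquiv (p := p) e]
  exact ⟨e.symm x, h2, e.apply_symm_apply x⟩

theorem transfer_centralizer_omegaZ (K : Subgroup H) (P : Subgroup ↥K) (x : ↥K) :
    x ∈ Subgroup.centralizer
      (omegaOne p (P ⊓ Subgroup.centralizer (P : Set ↥K)) : Set ↥K) ↔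
    (x : H) ∈ Subgroup.centralizer
      (omegaOne p (P.map K.subtype ⊓ Subgroup.centralizer (P.map K.subtype : Set H)) : Set H) := by
  rw [mem_centralizer_omegaOne, mem_centralizer_omegaOne]
  constructor
  · intro h g hg hgp
    obtain ⟨hg1, hg2⟩ := Subgroup.mem_inf.mp hg
    obtain ⟨g', hg', rfl⟩ := hg1
    have hc : g' ∈ Subgroup.centralizer (P : Set ↥K) := by
      rw [Subgroup.mem_centralizer_iff]
      intro h' hh'
      apply Subtype.ext
      exact Subgroup.mem_centralizer_iff.mp hg2 (h' : H) ⟨h', hh', rfl⟩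
    have hp' : g' ^ p = 1 := by
      apply Subtype.ext
      simpa using hgp
    have := h g' (Subgroup.mem_inf.mpr ⟨hg', hc⟩) hp'
    exact congrArg Subtype.val this
  · intro h g' hg' hgp
    obtain ⟨hg1, hg2⟩ := Subgroup.mem_inf.mp hg'
    have hc : (g' : H) ∈ Subgroup.centralizer (P.map K.subtype : Set H) := by
      rw [Subgroup.mem_centralizer_iff]
      rintro _ ⟨h', hh', rfl⟩
      exact congrArg Subtype.val (Subgroup.mem_centralizer_iff.mp hg2 h' hh')
    have hp' : (g' : H) ^ p = 1 := by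
      have := congrArg Subtype.val hgp
      simpa using this
    apply Subtype.ext
    exact h (g' : H) (Subgroup.mem_inf.mpr ⟨⟨g', hg1, rfl⟩, hc⟩) hp'

theorem kieler_all [Finite H] [Fact p.Prime]
    (hH : Subgroup.centralizer (pCore p H : Set H) ≤ pCore p H) (T : Sylow p H)
    (L : Subgroup H) (hL : L.IsSubnormal) :
    Subgroup.centralizer (pCore p ↥L : Set ↥L) ≤ pCore p ↥L ∧
    ¬ p ∣ (T : Subgroup H).relIndex L ∧
    L ⊓ Subgroup.centralizer ((omegaOne p ((T : Subgroup H) ⊓
        Subgroup.centralizer ((T : Subgroup H) : Set H))) : Set H) =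
    L ⊓ Subgroup.centralizer ((omegaOne p (((T : Subgroup H) ⊓ L) ⊓
        Subgroup.centralizer ((((T : Subgroup H) ⊓ L) : Subgroup H) : Set H))) : Set H) := by
  induction hL with
  | top =>
    refine ⟨charP_of_mulEquiv (Subgroup.topEquiv (G := H)).symm hH, ?_, ?_⟩
    · rw [Subgroup.relIndex_top_right]
      exact T.not_dvd_index
    · rw [inf_top_eq]
  | step L K hle hK hN ih =>
    obtain ⟨ihc, ihp, ihk⟩ := ih
    set L' : Subgroup ↥K := L.subgroupOf K with hL'
    have hTKp : IsPGroup p ((T : Subgroup H).subgroupOf K) := T.isPGroup'.comap_subtype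
    set TK : Sylow p ↥K := hTKp.toSylow ihp with hTK
    have hTKcoe : (TK : Subgroup ↥K) = (T : Subgroup H).subgroupOf K := rfl
    refine ⟨?_, ?_, ?_⟩
    · exact charP_of_mulEquiv (Subgroup.subgroupOfEquivOfLe hle) (charP_of_normal ihc L' hN)
    · have := @not_dvd_relIndex_normal ↥K _ p _ _ TK L' hN
      rw [hTKcoe, hL', Subgroup.relIndex_subgroupOf hle] at this
      exact this
    · have hnorm := @kieler_normal ↥K _ p _ _ ihc TK L' hN
      have hmap1 : (TK : Subgroup ↥K).map K.subtype = (T : Subgroup H) ⊓ K := by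
        rw [hTKcoe, Subgroup.subgroupOf_map_subtype]
      have hmap2 : ((TK : Subgroup ↥K) ⊓ L').map K.subtype = (T : Subgroup H) ⊓ L := by
        rw [hTKcoe, hL']
        ext x
        constructor
        · rintro ⟨x', hx', rfl⟩
          exact hx'
        · intro hx
          exact ⟨⟨x, hle (Subgroup.mem_inf.mp hx).2⟩, hx, rfl⟩
      ext x
      constructor
      · intro hx
        obtain ⟨hxL, hxC⟩ := Subgroup.mem_inf.mp hx
        refine Subgroup.mem_inf.mpr ⟨hxL, ?_⟩
        have hxK : x ∈ K := hle hxL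
        have h1 : x ∈ K ⊓ Subgroup.centralizer ((omegaOne p ((T : Subgroup H) ⊓
            Subgroup.centralizer ((T : Subgroup H) : Set H))) : Set H) :=
          Subgroup.mem_inf.mpr ⟨hxK, hxC⟩
        rw [ihk] at h1
        have h2 := (Subgroup.mem_inf.mp h1).2
        rw [← hmap1] at h2
        have h3 := (transfer_centralizer_omegaZ K (TK : Subgroup ↥K) ⟨x, hxK⟩).mpr h2
        have h4 : (⟨x, hxK⟩ : ↥K) ∈ L' ⊓ Subgroup.centralizer
            ((omegaOne p ((TK : Subgroup ↥K) ⊓
              Subgroup.centralizer ((TK : Subgroup ↥K) : Set ↥K))) : Set ↥K) :=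
          Subgroup.mem_inf.mpr ⟨hxL, h3⟩
        rw [hnorm] at h4
        have h5 := (transfer_centralizer_omegaZ K ((TK : Subgroup ↥K) ⊓ L') ⟨x, hxK⟩).mp
          (Subgroup.mem_inf.mp h4).2
        rw [hmap2] at h5
        exact h5
      · intro hx
        obtain ⟨hxL, hxC⟩ := Subgroup.mem_inf.mp hx
        refine Subgroup.mem_inf.mpr ⟨hxL, ?_⟩
        have hxK : x ∈ K := hle hxL
        rw [← hmap2] at hxC
        have h3 := (transfer_centralizer_omegaZ K ((TK : Subgroup ↥K) ⊓ L') ⟨x, hxK⟩).mpr hxC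
        have h4 : (⟨x, hxK⟩ : ↥K) ∈ L' ⊓ Subgroup.centralizer
            ((omegaOne p (((TK : Subgroup ↥K) ⊓ L') ⊓
              Subgroup.centralizer ((((TK : Subgroup ↥K) ⊓ L') : Subgroup ↥K) : Set ↥K))) : Set ↥K) :=
          Subgroup.mem_inf.mpr ⟨hxL, h3⟩
        rw [← hnorm] at h4
        have h5 := (transfer_centralizer_omegaZ K (TK : Subgroup ↥K) ⟨x, hxK⟩).mp
          (Subgroup.mem_inf.mp h4).2
        rw [hmap1] at h5
        have h6 : x ∈ K ⊓ Subgroup.centralizer ((omegaOne p (((T : Subgroup H) ⊓ K) ⊓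
            Subgroup.centralizer ((((T : Subgroup H) ⊓ K) : Subgroup H) : Set H))) : Set H) :=
          Subgroup.mem_inf.mpr ⟨hxK, h5⟩
        rw [← ihk] at h6
        exact (Subgroup.mem_inf.mp h6).2

end transfer

end Cfsg.Agent.Helper46
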