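import Mathlib
import Cfsg.Prelude.Def_LocalEven
import Cfsg.Agent.Lib.Helper46.NatSL2

set_option autoImplicit false

namespace Cfsg.Agent.Helper46

open Cfsg

/-- Normalised data of a natural `SL₂(F)`-module `V` for `L` (acting faithfully by conjugation),
with `T` the preimage of the upper unitriangular group. -/
structure NatData {G : Type*} [Group G] (F : Type*) [Field F] (V L T : Subgroup G) where
  hLV : L ≤ Subgroup.normalizer (V : Set G)
  hTL : T ≤ L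
  ρ : L →* Matrix.SpecialLinearGroup (Fin 2) F
  φ : G → (Fin 2 → F)
  φ_mul : ∀ x ∈ V, ∀ y ∈ V, φ (x * y) = φ x + φ y
  φ_inj : ∀ x ∈ V, ∀ y ∈ V, φ x = φ y → x = y
  φ_surj : ∀ w, ∃ x ∈ V, φ x = w
  ρ_surj : Function.Surjective ρ
  ρ_inj : Function.Injective ρ
  φ_conj : ∀ (l : L) (x : G), x ∈ V → φ ((l : G) * x * (l : G)⁻¹) = ρ l • φ x
  mem_T : ∀ l : L, (l : G) ∈ T ↔ ρ l ∈ upperU F

theorem exists_natData {G : Type*} [Group G] [Finite G] {p : ℕ} [Fact p.Prime] {F : Type*} [Field F]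
    [Fintype F] (n : ℕ) (hF : Fintype.card F = p ^ n) (V L : Subgroup G)
    (hnat : Cfsg.IsNaturalSL2Module F V L) (hf : L ⊓ Subgroup.centralizer (V : Set G) = ⊥)
    (S : Sylow p ↥L) (T : Subgroup G) (hT : T = ((S : Subgroup ↥L).map L.subtype)) :
    CharP F p ∧ Nonempty (NatData F V L T) := by
  classical
  obtain ⟨hLV, ρ, ψ, hsurj, hker, hact⟩ := hnat
  haveI : CharP F p := charP_of_card_eq_prime_pow hF
  refine ⟨inferInstance, ?_⟩
  have hinj : Function.Injective ρ := by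
    rw [← MonoidHom.ker_eq_bot_iff, hker, Subgroup.subgroupOf_eq_bot, disjoint_iff, inf_comm]
    exact hf
  have hP : IsPGroup p ((S : Subgroup L).map ρ) := S.isPGroup'.map ρ
  obtain ⟨h, hh⟩ := exists_conj_le_upperU _ hP
  let ρ' : L →* Matrix.SpecialLinearGroup (Fin 2) F := (MulAut.conj h⁻¹).toMonoidHom.comp ρ
  have hρ' : ∀ l, ρ' l = h⁻¹ * ρ l * h := by
    intro l
    simp [ρ', MulAut.conj_apply]
  have hinj' : Function.Injective ρ' := by
    intro a b hab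
    rw [hρ', hρ'] at hab
    apply hinj
    have := mul_right_cancel hab
    exact mul_left_cancel this
  have hsurj' : Function.Surjective ρ' := by
    intro g
    obtain ⟨l, hl⟩ := hsurj (h * g * h⁻¹)
    refine ⟨l, ?_⟩
    rw [hρ', hl]
    group
  -- the preimage of the unitriangular group is S
  have hS' : (upperU F).comap ρ' = (S : Subgroup L) := by
    apply S.is_maximal'
    · intro g
      refine ⟨1, ?_⟩
      have hg : ρ' g.1 ∈ upperU F := g.2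
      have := upperU_pow_eq_one (p := p) hg
      apply Subtype.ext
      apply hinj'
      rw [pow_one, Subgroup.coe_pow, map_pow, this, Subgroup.coe_one, map_one]
    · intro l hl
      rw [Subgroup.mem_comap, hρ']
      exact hh _ (Subgroup.mem_map_of_mem ρ hl)
  let φ : G → (Fin 2 → F) := fun g => if hg : g ∈ V then h⁻¹ • ψ (Additive.ofMul ⟨g, hg⟩) else 0
  have hφ : ∀ (g : G) (hg : g ∈ V), φ g = h⁻¹ • ψ (Additive.ofMul ⟨g, hg⟩) := by
    intro g hg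
    simp only [φ, dif_pos hg]
  refine ⟨{
    hLV := hLV
    hTL := ?_
    ρ := ρ'
    φ := φ
    φ_mul := ?_
    φ_inj := ?_
    φ_surj := ?_
    ρ_surj := hsurj'
    ρ_inj := hinj'
    φ_conj := ?_
    mem_T := ?_ }⟩
  · rw [hT]
    rintro x ⟨y, -, rfl⟩
    exact y.2
  · intro x hx y hy
    rw [hφ x hx, hφ y hy, hφ (x * y) (V.mul_mem hx hy), ← smul_add, ← map_add]
    rfl
  · intro x hx y hy hxy
    rw [hφ x hx, hφ y hy] at hxy
    have h1 := smul_left_cancel _ hxy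
    have h2 := ψ.injective h1
    have h3 : (⟨x, hx⟩ : V) = ⟨y, hy⟩ := Additive.ofMul.injective h2
    exact congrArg Subtype.val h3
  · intro w
    refine ⟨((ψ.symm (h • w)).toMul : V), ((ψ.symm (h • w)).toMul : V).2, ?_⟩
    rw [hφ _ ((ψ.symm (h • w)).toMul : V).2]
    have : (Additive.ofMul (⟨(((ψ.symm (h • w)).toMul : V) : G), ((ψ.symm (h • w)).toMul : V).2⟩ : V)) = ψ.symm (h • w) := rfl
    rw [this, AddEquiv.apply_symm_apply, inv_smul_smul]
  · intro l x hx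
    obtain ⟨w, hw, hψ⟩ := hact l ⟨x, hx⟩
    have hmem : (l : G) * x * (l : G)⁻¹ ∈ V := by
      rw [← hw]; exact w.2
    rw [hφ _ hmem, hφ x hx, hρ']
    have hw' : (⟨(l : G) * x * (l : G)⁻¹, hmem⟩ : V) = w := Subtype.ext hw.symm
    rw [hw', hψ, mul_smul, mul_smul, smul_inv_smul]
    rfl
  · intro l
    rw [hT, ← hS']
    change L.subtype l ∈ _ ↔ _
    rw [Subgroup.mem_map_iff_mem L.subtype_injective, Subgroup.mem_comap]

namespace NatData

variable {G : Type*} [Group G] {F : Type*} [Field F] {V L T : Subgroup G} (d : NatData F V L T)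

include d

theorem φ_one : d.φ 1 = 0 := by
  have h := d.φ_mul 1 V.one_mem 1 V.one_mem
  rw [mul_one] at h
  exact left_eq_add.mp h

theorem φ_inv {x : G} (hx : x ∈ V) : d.φ x⁻¹ = - d.φ x := by
  have h := d.φ_mul x hx x⁻¹ (V.inv_mem hx)
  rw [mul_inv_cancel, d.φ_one] at h
  exact (neg_eq_of_add_eq_zero_right h.symm).symm

theorem eq_one_of_φ {x : G} (hx : x ∈ V) (h : d.φ x = 0) : x = 1 :=
  d.φ_inj x hx 1 V.one_mem (by rw [h, d.φ_one])

theorem comm {x y : G} (hx : x ∈ V) (hy : y ∈ V) : x * y = y * x :=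
  d.φ_inj _ (V.mul_mem hx hy) _ (V.mul_mem hy hx) (by rw [d.φ_mul x hx y hy, d.φ_mul y hy x hx, add_comm])

theorem conj_mem (l : L) {x : G} (hx : x ∈ V) : (l : G) * x * (l : G)⁻¹ ∈ V :=
  (Subgroup.mem_normalizer_iff.mp (d.hLV l.2) x).mp hx

theorem commutes_iff (l : L) {x : G} (hx : x ∈ V) : (l : G) * x = x * (l : G) ↔ d.ρ l • d.φ x = d.φ x := by
  rw [← d.φ_conj l x hx]
  constructor
  · intro h
    rw [h, mul_inv_cancel_right]
  · intro h
    have := d.φ_inj _ (d.conj_mem l hx) _ hx h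
    have h2 := congrArg (· * (l : G)) this
    simpa using h2

theorem ext_φ {x y : G} (hx : x ∈ V) (hy : y ∈ V) (h0 : (d.φ x) 0 = (d.φ y) 0) (h1 : (d.φ x) 1 = (d.φ y) 1) :
    x = y := by
  apply d.φ_inj x hx y hy
  funext i
  fin_cases i
  · exact h0
  · exact h1

/-- an element of `T` with prescribed upper right entry -/
theorem exists_T (b : F) : ∃ l : L, (l : G) ∈ T ∧ d.ρ l ∈ upperU F ∧ ((d.ρ l : Matrix.SpecialLinearGroup (Fin 2) F) : Matrix (Fin 2) (Fin 2) F) 0 1 = b := by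
  obtain ⟨l, hl⟩ := d.ρ_surj (unip b)
  refine ⟨l, (d.mem_T l).mpr (hl ▸ unip_mem b), hl ▸ unip_mem b, ?_⟩
  rw [hl, unip_zero_one]

theorem exists_V (a b : F) : ∃ x ∈ V, (d.φ x) 0 = a ∧ (d.φ x) 1 = b := by
  obtain ⟨x, hx, hφ⟩ := d.φ_surj ![a, b]
  exact ⟨x, hx, by rw [hφ]; rfl, by rw [hφ]; rfl⟩

theorem mem_cent_T_iff {x : G} (hx : x ∈ V) :
    x ∈ Subgroup.centralizer (T : Set G) ↔ (d.φ x) 1 = 0 := by
  rw [Subgroup.mem_centralizer_iff]
  constructor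
  · intro h
    obtain ⟨l, hlT, hlU, hb⟩ := d.exists_T 1
    have h1 := h l hlT
    rw [d.commutes_iff l hx, upperU_smul_eq_iff hlU, hb, one_mul] at h1
    exact h1
  · intro h t ht
    have h1 := (d.commutes_iff ⟨t, d.hTL ht⟩ hx)
    change t * x = x * t ↔ _ at h1
    rw [h1, upperU_smul_eq_iff ((d.mem_T ⟨t, d.hTL ht⟩).mp ht), h, mul_zero]

theorem b_ne_zero {s : G} (hs : s ∈ T) (hs1 : s ≠ 1) :
    ((d.ρ ⟨s, d.hTL hs⟩ : Matrix.SpecialLinearGroup (Fin 2) F) : Matrix (Fin 2) (Fin 2) F) 0 1 ≠ 0 := by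
  intro h0
  have hU := (d.mem_T ⟨s, d.hTL hs⟩).mp hs
  have h1 := upperU_eq_one_of_zero hU h0
  rw [← map_one d.ρ] at h1
  have := d.ρ_inj h1
  exact hs1 (congrArg Subtype.val this)

theorem mem_cent_singleton_iff {s : G} (hs : s ∈ T) (hs1 : s ≠ 1) {x : G} (hx : x ∈ V) :
    x ∈ Subgroup.centralizer ({s} : Set G) ↔ (d.φ x) 1 = 0 := by
  rw [Subgroup.mem_centralizer_singleton_iff]
  have h1 := (d.commutes_iff ⟨s, d.hTL hs⟩ hx)
  change s * x = x * s ↔ _ at h1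
  rw [eq_comm, h1, upperU_smul_eq_iff ((d.mem_T ⟨s, d.hTL hs⟩).mp hs)]
  constructor
  · intro h
    rcases mul_eq_zero.mp h with h | h
    · exact absurd h (d.b_ne_zero hs hs1)
    · exact h
  · intro h
    rw [h, mul_zero]

theorem comm_mem (l : L) {v : G} (hv : v ∈ V) : v * (l : G) * v⁻¹ * (l : G)⁻¹ ∈ V := by
  have : v * (l : G) * v⁻¹ * (l : G)⁻¹ = v * ((l : G) * v⁻¹ * (l : G)⁻¹) := by group
  rw [this]
  exact V.mul_mem hv (d.conj_mem l (V.inv_mem hv))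

theorem φ_comm (l : L) {v : G} (hv : v ∈ V) :
    d.φ (v * (l : G) * v⁻¹ * (l : G)⁻¹) = d.φ v - d.ρ l • d.φ v := by
  have : v * (l : G) * v⁻¹ * (l : G)⁻¹ = v * ((l : G) * v⁻¹ * (l : G)⁻¹) := by group
  rw [this, d.φ_mul v hv _ (d.conj_mem l (V.inv_mem hv)), d.φ_conj l _ (V.inv_mem hv), d.φ_inv hv, smul_neg,
    sub_eq_add_neg]

theorem φ_comm_zero (l : L) (hl : d.ρ l ∈ upperU F) {v : G} (hv : v ∈ V) :
    (d.φ (v * (l : G) * v⁻¹ * (l : G)⁻¹)) 0 = - (((d.ρ l : Matrix.SpecialLinearGroup (Fin 2) F) : Matrix (Fin 2) (Fin 2) F) 0 1 * (d.φ v) 1) := by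
  rw [d.φ_comm l hv, Pi.sub_apply, upperU_smul_zero hl]
  ring

theorem φ_comm_one (l : L) (hl : d.ρ l ∈ upperU F) {v : G} (hv : v ∈ V) :
    (d.φ (v * (l : G) * v⁻¹ * (l : G)⁻¹)) 1 = 0 := by
  rw [d.φ_comm l hv, Pi.sub_apply, upperU_smul_one hl]
  ring

theorem eq_comm_of {w : G} (hw : w ∈ V) (hw1 : (d.φ w) 1 = 0) (l : L) (hl : d.ρ l ∈ upperU F) {v : G}
    (hv : v ∈ V)
    (h : ((d.ρ l : Matrix.SpecialLinearGroup (Fin 2) F) : Matrix (Fin 2) (Fin 2) F) 0 1 * (d.φ v) 1 = - (d.φ w) 0) :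
    w = v * (l : G) * v⁻¹ * (l : G)⁻¹ := by
  apply d.ext_φ hw (d.comm_mem l hv)
  · rw [d.φ_comm_zero l hl hv, h, neg_neg]
  · rw [d.φ_comm_one l hl hv, hw1]

theorem mem_CVT_iff {x : G} :
    x ∈ V ⊓ Subgroup.centralizer (T : Set G) ↔ x ∈ V ∧ (d.φ x) 1 = 0 := by
  rw [Subgroup.mem_inf]
  constructor
  · rintro ⟨h1, h2⟩
    exact ⟨h1, (d.mem_cent_T_iff h1).mp h2⟩
  · rintro ⟨h1, h2⟩
    exact ⟨h1, (d.mem_cent_T_iff h1).mpr h2⟩

theorem comm_elt_mem_CVT {v t : G} (hv : v ∈ V) (ht : t ∈ T) :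
    v * t * v⁻¹ * t⁻¹ ∈ V ⊓ Subgroup.centralizer (T : Set G) := by
  have hU := (d.mem_T ⟨t, d.hTL ht⟩).mp ht
  rw [d.mem_CVT_iff]
  exact ⟨d.comm_mem ⟨t, d.hTL ht⟩ hv, d.φ_comm_one ⟨t, d.hTL ht⟩ hU hv⟩

theorem comm_VT_le : ⁅V, T⁆ ≤ V ⊓ Subgroup.centralizer (T : Set G) := by
  rw [Subgroup.commutator_le]
  intro v hv t ht
  rw [commutatorElement_def]
  exact d.comm_elt_mem_CVT hv ht

theorem card_V [Fintype F] {p n : ℕ} (hF : Fintype.card F = p ^ n) : Nat.card V = p ^ (2 * n) := by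
  have hbij : Function.Bijective (fun x : V => d.φ (x : G)) := by
    constructor
    · intro x y hxy
      exact Subtype.ext (d.φ_inj _ x.2 _ y.2 hxy)
    · intro w
      obtain ⟨x, hx, hw⟩ := d.φ_surj w
      exact ⟨⟨x, hx⟩, hw⟩
  rw [Nat.card_eq_of_bijective _ hbij, Nat.card_eq_fintype_card, Fintype.card_fun, hF, Fintype.card_fin, pow_mul']

theorem card_CVT [Fintype F] {p n : ℕ} (hF : Fintype.card F = p ^ n) :
    Nat.card ↥(V ⊓ Subgroup.centralizer (T : Set G)) = p ^ n := by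
  have hbij : Function.Bijective (fun x : ↥(V ⊓ Subgroup.centralizer (T : Set G)) => (d.φ (x : G)) 0) := by
    constructor
    · intro x y hxy
      have hx := d.mem_CVT_iff.mp x.2
      have hy := d.mem_CVT_iff.mp y.2
      exact Subtype.ext (d.ext_φ hx.1 hy.1 hxy (by rw [hx.2, hy.2]))
    · intro c
      obtain ⟨x, hx, h0, h1⟩ := d.exists_V c 0
      exact ⟨⟨x, d.mem_CVT_iff.mpr ⟨hx, h1⟩⟩, h0⟩
  rw [Nat.card_eq_of_bijective _ hbij, Nat.card_eq_fintype_card, hF]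

theorem concl2779 [Fintype F] {p n : ℕ} (hF : Fintype.card F = p ^ n) :
    ⁅⁅V, T⁆, T⁆ = ⊥ ∧ Nat.card V = p ^ (2 * n) ∧ Nat.card ↥(V ⊓ Subgroup.centralizer ((T : Subgroup G) : Set G)) = p ^ n ∧ ∀ s ∈ T, s ≠ 1 → (V ⊓ Subgroup.centralizer ({s} : Set G)) = (V ⊓ Subgroup.centralizer ((T : Subgroup G) : Set G)) ∧ ⁅V, T⁆ = (V ⊓ Subgroup.centralizer ((T : Subgroup G) : Set G)) ∧ ⁅V, Subgroup.zpowers s⁆ = (V ⊓ Subgroup.centralizer ((T : Subgroup G) : Set G)) ∧ ∀ v ∈ V, v ∉ Subgroup.centralizer (T : Set G) → Subgroup.closure {x : G | ∃ t ∈ T, x = v * t * v⁻¹ * t⁻¹} = (V ⊓ Subgroup.centralizer ((T : Subgroup G) : Set G)) := by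
  refine ⟨?_, d.card_V hF, d.card_CVT hF, ?_⟩
  · rw [Subgroup.commutator_eq_bot_iff_le_centralizer]
    exact d.comm_VT_le.trans inf_le_right
  intro s hs hs1
  refine ⟨?_, ?_, ?_, ?_⟩
  · ext x
    rw [Subgroup.mem_inf, Subgroup.mem_inf]
    constructor
    · rintro ⟨hxV, hx⟩
      exact ⟨hxV, (d.mem_cent_T_iff hxV).mpr ((d.mem_cent_singleton_iff hs hs1 hxV).mp hx)⟩
    · rintro ⟨hxV, hx⟩
      exact ⟨hxV, (d.mem_cent_singleton_iff hs hs1 hxV).mpr ((d.mem_cent_T_iff hxV).mp hx)⟩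
  · apply le_antisymm d.comm_VT_le
    intro w hw
    rw [d.mem_CVT_iff] at hw
    obtain ⟨v, hv, -, hv1⟩ := d.exists_V 0 1
    obtain ⟨l, hlT, hlU, hb⟩ := d.exists_T (-(d.φ w) 0)
    have := d.eq_comm_of hw.1 hw.2 l hlU hv (by rw [hb, hv1, mul_one])
    rw [this, ← commutatorElement_def]
    exact Subgroup.commutator_mem_commutator hv hlT
  · apply le_antisymm ((Subgroup.commutator_mono le_rfl ((Subgroup.zpowers_le).mpr hs)).trans d.comm_VT_le)
    intro w hw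
    rw [d.mem_CVT_iff] at hw
    have hb := d.b_ne_zero hs hs1
    obtain ⟨v, hv, -, hv1⟩ := d.exists_V 0 (-(d.φ w) 0 / ((d.ρ ⟨s, d.hTL hs⟩ : Matrix.SpecialLinearGroup (Fin 2) F) : Matrix (Fin 2) (Fin 2) F) 0 1)
    have := d.eq_comm_of hw.1 hw.2 ⟨s, d.hTL hs⟩ ((d.mem_T ⟨s, d.hTL hs⟩).mp hs) hv (by rw [hv1, mul_div_cancel₀ _ hb])
    rw [this, ← commutatorElement_def]
    exact Subgroup.commutator_mem_commutator hv (Subgroup.mem_zpowers s)
  · intro v hv hvT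
    have hv1 : (d.φ v) 1 ≠ 0 := fun h => hvT ((d.mem_cent_T_iff hv).mpr h)
    apply le_antisymm
    · rw [Subgroup.closure_le]
      rintro x ⟨t, ht, rfl⟩
      exact d.comm_elt_mem_CVT hv ht
    · intro w hw
      rw [d.mem_CVT_iff] at hw
      obtain ⟨l, hlT, hlU, hb⟩ := d.exists_T (-(d.φ w) 0 / (d.φ v) 1)
      have := d.eq_comm_of hw.1 hw.2 l hlU hv (by rw [hb, div_mul_cancel₀ _ hv1])
      apply Subgroup.subset_closure
      exact ⟨l, hlT, this⟩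

end NatData

end Cfsg.Agent.Helper46
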