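import Mathlib
import Cfsg.Prelude.Def_LocalEven
import Cfsg.Prelude.Def_TwoFusion
import Cfsg.Agent.Lib.Helper46.NatSL2b

set_option autoImplicit false

namespace Cfsg.Agent.Helper46

open Cfsg

namespace NatData

variable {G : Type*} [Group G] {F : Type*} [Field F] {V L T : Subgroup G} (d : NatData F V L T)

include d

theorem conj_mem_T (l : L) (hl : d.ρ l ∈ borelB F) {h : G} (hh : h ∈ T) : (l : G) * h * (l : G)⁻¹ ∈ T := by
  have h1 : ((l * ⟨h, d.hTL hh⟩ * l⁻¹ : L) : G) = (l : G) * h * (l : G)⁻¹ := rfl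
  rw [← h1, d.mem_T, map_mul, map_mul, map_inv]
  exact borel_conj_mem hl ((d.mem_T ⟨h, d.hTL hh⟩).mp hh)

theorem mem_normalizer_of_borel (l : L) (hl : d.ρ l ∈ borelB F) :
    (l : G) ∈ Subgroup.normalizer (T : Set G) := by
  rw [Subgroup.mem_normalizer_iff]
  intro h
  constructor
  · exact fun hh => d.conj_mem_T l hl hh
  · intro hh
    have hl' : d.ρ l⁻¹ ∈ borelB F := by
      rw [map_inv]; exact (borelB F).inv_mem hl
    have := d.conj_mem_T l⁻¹ hl' hh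
    have h2 : ((l⁻¹ : L) : G) * ((l : G) * h * (l : G)⁻¹) * ((l⁻¹ : L) : G)⁻¹ = h := by
      rw [Subgroup.coe_inv]; group
    rwa [h2] at this

theorem mem_cent_conj_iff (l : L) {x : G} (hx : x ∈ V) :
    x ∈ Subgroup.centralizer ((T.map (MulAut.conj (l : G)).toMonoidHom : Subgroup G) : Set G) ↔
      ((d.ρ l : Matrix.SpecialLinearGroup (Fin 2) F) : Matrix (Fin 2) (Fin 2) F) 0 0 * (d.φ x) 1 -
        ((d.ρ l : Matrix.SpecialLinearGroup (Fin 2) F) : Matrix (Fin 2) (Fin 2) F) 1 0 * (d.φ x) 0 = 0 := by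
  have hx' : ((l⁻¹ : L) : G) * x * ((l⁻¹ : L) : G)⁻¹ ∈ V := d.conj_mem l⁻¹ hx
  have hφ : d.φ (((l⁻¹ : L) : G) * x * ((l⁻¹ : L) : G)⁻¹) = (d.ρ l)⁻¹ • d.φ x := by
    rw [d.φ_conj l⁻¹ x hx, map_inv]
  rw [← inv_smul_apply_one, ← hφ, ← d.mem_cent_T_iff hx', Subgroup.mem_centralizer_iff,
    Subgroup.mem_centralizer_iff]
  constructor
  · intro h t ht
    have key := h ((l : G) * t * (l : G)⁻¹) (Subgroup.mem_map.mpr ⟨t, ht, by simp [MulAut.conj_apply]⟩)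
    rw [Subgroup.coe_inv]
    calc t * ((l : G)⁻¹ * x * (l : G)⁻¹⁻¹) = (l : G)⁻¹ * ((l : G) * t * (l : G)⁻¹ * x) * (l : G) := by group
      _ = (l : G)⁻¹ * (x * ((l : G) * t * (l : G)⁻¹)) * (l : G) := by rw [key]
      _ = (l : G)⁻¹ * x * (l : G)⁻¹⁻¹ * t := by group
  · intro h y hy
    obtain ⟨t, ht, rfl⟩ := Subgroup.mem_map.mp hy
    have key := h t ht
    rw [Subgroup.coe_inv] at key
    simp only [MulEquiv.coe_toMonoidHom, MulAut.conj_apply]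
    calc (l : G) * t * (l : G)⁻¹ * x = (l : G) * (t * ((l : G)⁻¹ * x * (l : G)⁻¹⁻¹)) * (l : G)⁻¹ := by group
      _ = (l : G) * ((l : G)⁻¹ * x * (l : G)⁻¹⁻¹ * t) * (l : G)⁻¹ := by rw [key]
      _ = x * ((l : G) * t * (l : G)⁻¹) := by group

theorem decomp (l : L) (hl : (l : G) ∉ Subgroup.normalizer (T : Set G)) :
    Cfsg.IsInternalDirectProduct (V ⊓ Subgroup.centralizer ((T : Subgroup G) : Set G))
      (V ⊓ Subgroup.centralizer ((T.map (MulAut.conj (l : G)).toMonoidHom : Subgroup G) : Set G)) V := by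
  set a := ((d.ρ l : Matrix.SpecialLinearGroup (Fin 2) F) : Matrix (Fin 2) (Fin 2) F) 0 0 with ha
  set c := ((d.ρ l : Matrix.SpecialLinearGroup (Fin 2) F) : Matrix (Fin 2) (Fin 2) F) 1 0 with hc
  have hc0 : c ≠ 0 := fun h => hl (d.mem_normalizer_of_borel l h)
  refine ⟨inf_le_left, inf_le_left, fun x hx y hy => d.comm hx.1 hy.1, ?_, ?_⟩
  · rw [eq_bot_iff]
    intro x hx
    have hxV : x ∈ V := hx.1.1
    have hx1 : x ∈ Subgroup.centralizer (T : Set G) := hx.1.2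
    have hx2 : x ∈ Subgroup.centralizer ((T.map (MulAut.conj (l : G)).toMonoidHom : Subgroup G) : Set G) := hx.2.2
    rw [d.mem_cent_T_iff hxV] at hx1
    rw [d.mem_cent_conj_iff l hxV, hx1, mul_zero, zero_sub, neg_eq_zero] at hx2
    have hx0 : (d.φ x) 0 = 0 := by
      rcases mul_eq_zero.mp hx2 with h | h
      · exact absurd h hc0
      · exact h
    rw [Subgroup.mem_bot]
    apply d.eq_one_of_φ hxV
    funext i
    fin_cases i
    · exact hx0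
    · exact hx1
  · apply le_antisymm (sup_le inf_le_left inf_le_left)
    intro v hv
    obtain ⟨v₂, hv₂, h20, h21⟩ := d.exists_V ((d.φ v) 1 * a / c) ((d.φ v) 1)
    obtain ⟨v₁, hv₁, h10, h11⟩ := d.exists_V ((d.φ v) 0 - (d.φ v) 1 * a / c) 0
    have hvv : v = v₁ * v₂ := by
      apply d.ext_φ hv (V.mul_mem hv₁ hv₂)
      · rw [d.φ_mul _ hv₁ _ hv₂, Pi.add_apply, h10, h20]; ring
      · rw [d.φ_mul _ hv₁ _ hv₂, Pi.add_apply, h11, h21]; ring
    rw [hvv]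
    apply Subgroup.mul_mem_sup
    · exact d.mem_CVT_iff.mpr ⟨hv₁, h11⟩
    · refine ⟨hv₂, (d.mem_cent_conj_iff l hv₂).mpr ?_⟩
      rw [h20, h21]
      field_simp
      ring

theorem fixed_point_free [Fintype F] {p : ℕ} [Fact p.Prime] [CharP F p] {x : G} (hxL : x ∈ L) (hx1 : x ≠ 1)
    (hcop : (orderOf x).Coprime p) : V ⊓ Subgroup.centralizer ({x} : Set G) = ⊥ := by
  rw [eq_bot_iff]
  intro v hv
  rw [Subgroup.mem_bot]
  by_contra hv1
  have hvV : v ∈ V := hv.1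
  have hvx : v ∈ Subgroup.centralizer ({x} : Set G) := hv.2
  rw [Subgroup.mem_centralizer_singleton_iff] at hvx
  have hfix : d.ρ ⟨x, hxL⟩ • d.φ v = d.φ v := (d.commutes_iff ⟨x, hxL⟩ hvV).mp hvx.symm
  have hφ0 : d.φ v ≠ 0 := fun h => hv1 (d.eq_one_of_φ hvV h)
  obtain ⟨h, -, -, hh⟩ := exists_conj_mem_upperU_of_fixed hφ0
  have hU := hh _ hfix
  have hpow := upperU_pow_eq_one (p := p) hU
  have h2 : (d.ρ ⟨x, hxL⟩) ^ p = 1 := by
    have : d.ρ ⟨x, hxL⟩ = h * (h⁻¹ * d.ρ ⟨x, hxL⟩ * h) * h⁻¹ := by group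
    rw [this, conj_pow, hpow]
    group
  rw [← map_pow, ← map_one d.ρ] at h2
  have h3 := congrArg Subtype.val (d.ρ_inj h2)
  rw [Subgroup.coe_pow, Subgroup.coe_one] at h3
  have h4 : orderOf x ∣ p := orderOf_dvd_of_pow_eq_one h3
  have h5 := Nat.Coprime.eq_one_of_dvd hcop h4
  exact hx1 (orderOf_eq_one_iff.mp h5)

theorem exists_diag (a : F) (ha : a ≠ 0) :
    ∃ l : L, (l : G) ∈ L ⊓ Subgroup.normalizer (T : Set G) ∧ ∀ x ∈ V,
      (d.φ ((l : G) * x * (l : G)⁻¹)) 0 = a * (d.φ x) 0 ∧ (d.φ ((l : G) * x * (l : G)⁻¹)) 1 = a⁻¹ * (d.φ x) 1 := by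
  obtain ⟨l, hl⟩ := d.ρ_surj (diagD a ha)
  refine ⟨l, ⟨l.2, d.mem_normalizer_of_borel l (hl ▸ diagD_mem a ha)⟩, fun x hx => ?_⟩
  rw [d.φ_conj l x hx, hl, diagD_smul_zero, diagD_smul_one]
  exact ⟨rfl, rfl⟩

theorem irred_CVT (U : Subgroup G) (hU : U ≤ V ⊓ Subgroup.centralizer (T : Set G))
    (hN : L ⊓ Subgroup.normalizer (T : Set G) ≤ Subgroup.normalizer (U : Set G)) :
    U = ⊥ ∨ U = V ⊓ Subgroup.centralizer (T : Set G) := by
  by_cases hbot : U = ⊥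
  · exact Or.inl hbot
  right
  obtain ⟨u, hu, hu1⟩ := (Subgroup.ne_bot_iff_exists_ne_one.mp hbot : ∃ u : U, u ≠ 1) |>.imp (fun u h => h) |> fun ⟨u, h⟩ => (⟨u.1, u.2, fun h' => h (Subtype.ext h')⟩ : ∃ u : G, u ∈ U ∧ u ≠ 1)
  have huC := d.mem_CVT_iff.mp (hU hu)
  have hu0 : (d.φ u) 0 ≠ 0 := by
    intro h0
    apply hu1
    apply d.eq_one_of_φ huC.1
    funext i
    fin_cases i
    · exact h0
    · exact huC.2
  apply le_antisymm hU
  intro w hw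
  have hwC := d.mem_CVT_iff.mp hw
  by_cases hw0 : (d.φ w) 0 = 0
  · have : w = 1 := by
      apply d.eq_one_of_φ hwC.1
      funext i
      fin_cases i
      · exact hw0
      · exact hwC.2
    rw [this]; exact U.one_mem
  · obtain ⟨l, hlN, hl⟩ := d.exists_diag ((d.φ w) 0 / (d.φ u) 0) (div_ne_zero hw0 hu0)
    have hmem : (l : G) * u * (l : G)⁻¹ ∈ U := (Subgroup.mem_normalizer_iff.mp (hN hlN) u).mp hu
    obtain ⟨h0, h1⟩ := hl u huC.1
    have : w = (l : G) * u * (l : G)⁻¹ := by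
      apply d.ext_φ hwC.1 (d.conj_mem l huC.1)
      · rw [h0, div_mul_cancel₀ _ hu0]
      · rw [h1, huC.2, hwC.2, mul_zero]
    rw [this]; exact hmem

theorem irred_quot (U : Subgroup G) (hU : V ⊓ Subgroup.centralizer (T : Set G) ≤ U) (hUV : U ≤ V)
    (hN : L ⊓ Subgroup.normalizer (T : Set G) ≤ Subgroup.normalizer (U : Set G)) :
    U = V ⊓ Subgroup.centralizer (T : Set G) ∨ U = V := by
  by_cases hle : U ≤ V ⊓ Subgroup.centralizer (T : Set G)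
  · exact Or.inl (le_antisymm hle hU)
  right
  obtain ⟨u, hu, huC⟩ := SetLike.not_le_iff_exists.mp hle
  have huV := hUV hu
  have hu1 : (d.φ u) 1 ≠ 0 := fun h => huC (d.mem_CVT_iff.mpr ⟨huV, h⟩)
  apply le_antisymm hUV
  intro w hw
  by_cases hw1 : (d.φ w) 1 = 0
  · exact hU (d.mem_CVT_iff.mpr ⟨hw, hw1⟩)
  · obtain ⟨l, hlN, hl⟩ := d.exists_diag ((d.φ u) 1 / (d.φ w) 1) (div_ne_zero hu1 hw1)
    have hmem : (l : G) * u * (l : G)⁻¹ ∈ U := (Subgroup.mem_normalizer_iff.mp (hN hlN) u).mp hu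
    obtain ⟨h0, h1⟩ := hl u huV
    obtain ⟨z, hz, hz0, hz1⟩ := d.exists_V ((d.φ w) 0 - (d.φ u) 1 / (d.φ w) 1 * (d.φ u) 0) 0
    have hzU : z ∈ U := hU (d.mem_CVT_iff.mpr ⟨hz, hz1⟩)
    have : w = (l : G) * u * (l : G)⁻¹ * z := by
      apply d.ext_φ hw (V.mul_mem (d.conj_mem l huV) hz)
      · rw [d.φ_mul _ (d.conj_mem l huV) _ hz, Pi.add_apply, h0, hz0]; ring
      · rw [d.φ_mul _ (d.conj_mem l huV) _ hz, Pi.add_apply, h1, hz1]
        field_simp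
        ring
    rw [this]; exact U.mul_mem hmem hzU

end NatData

end Cfsg.Agent.Helper46
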