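import Mathlib
import Cfsg.Agent.Lib.Helper17.Sieve
import Cfsg.Agent.Lib.Helper17.Counting
import Cfsg.Agent.Lib.Helper9.ONSSYL
import Cfsg.Agent.Lib.Helper82.ONSGEN

/-!
# O19 (S4274, helper46): the reduction

`T m` : every group of order `19 * m` has a normal Sylow `19`-subgroup.  If no nonabelian simple group has order
`19 * m` for the proper divisors `m` of `9240`, then `T m` holds for all of them, and a group of order `19 * 9240` is
simple or has a normal Sylow `19`-subgroup.
-/

set_option autoImplicit false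
set_option linter.style.haveILetI false
set_option linter.unusedVariables false

namespace Cfsg.Agent.Helper46.O19

open Cfsg.Agent.Helper17 Cfsg.Agent.Helper17.Sieve

universe u

/-- an element of order dividing `19` normalising a subgroup of order `< 19` centralises it -/
theorem h46_fix {G : Type u} [Group G] (R : Subgroup G) [Finite R] (s : G) (hs : s ^ 19 = 1)
    (hR : ∀ x ∈ R, s * x * s⁻¹ ∈ R) (hcard : Nat.card R < 19) :
    ∀ x ∈ R, s * x * s⁻¹ = x := by
  classical
  haveI := Fintype.ofFinite R
  let f : Function.End ↥R := fun x => ⟨s * x * s⁻¹, hR x x.2⟩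
  have hpow : ∀ n : ℕ, ∀ x : R, ((f ^ n) x : G) = s ^ n * x * (s ^ n)⁻¹ := by
    intro n
    induction n with
    | zero => intro x; simp only [pow_zero, one_mul, inv_one, mul_one]; rfl
    | succ n ih =>
      intro x
      rw [pow_succ]
      show ((f ^ n) (f x) : G) = _
      rw [ih]
      show s ^ n * (s * x * s⁻¹) * (s ^ n)⁻¹ = s ^ (n + 1) * x * (s ^ (n + 1))⁻¹
      rw [pow_succ]; group
  have hf19 : f ^ 19 ^ 1 = 1 := by
    rw [pow_one]
    funext x
    apply Subtype.ext
    rw [hpow, hs]; simp only [one_mul, inv_one, mul_one]; rfl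
  haveI : Fact (Nat.Prime 19) := ⟨by norm_num⟩
  have hmod := Equiv.Perm.card_fixedPoints_modEq (p := 19) (n := 1) hf19
  let C : Subgroup ↥R :=
    { carrier := {x | s * (x : G) * s⁻¹ = x}
      mul_mem' := by
        intro a b ha hb
        show s * ((a * b : R) : G) * s⁻¹ = ((a * b : R) : G)
        have ha' : s * (a : G) * s⁻¹ = a := ha
        have hb' : s * (b : G) * s⁻¹ = b := hb
        rw [Subgroup.coe_mul]
        calc s * ((a : G) * b) * s⁻¹ = (s * a * s⁻¹) * (s * b * s⁻¹) := by group
          _ = a * b := by rw [ha', hb']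
      one_mem' := by
        show s * ((1 : R) : G) * s⁻¹ = ((1 : R) : G)
        simp
      inv_mem' := by
        intro a ha
        show s * ((a⁻¹ : R) : G) * s⁻¹ = ((a⁻¹ : R) : G)
        have ha' : s * (a : G) * s⁻¹ = a := ha
        rw [Subgroup.coe_inv]
        calc s * (a : G)⁻¹ * s⁻¹ = (s * a * s⁻¹)⁻¹ := by group
          _ = (a : G)⁻¹ := by rw [ha'] }
  have hCfix : Fintype.card (Function.fixedPoints f) = Nat.card C := by
    rw [← Nat.card_eq_fintype_card]
    apply Nat.card_congr
    exact Equiv.subtypeEquivRight (fun x => by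
      show f x = x ↔ s * (x : G) * s⁻¹ = x
      constructor
      · intro h; exact congrArg Subtype.val h
      · intro h; exact Subtype.ext h)
  have hCle : Nat.card C ≤ Nat.card R := Nat.le_of_dvd Nat.card_pos (Subgroup.card_subgroup_dvd_card C)
  have hEq : Nat.card C = Nat.card R := by
    have h1 : Nat.card R % 19 = Nat.card C % 19 := by
      rw [← hCfix, Nat.card_eq_fintype_card]
      exact hmod
    rw [Nat.mod_eq_of_lt hcard, Nat.mod_eq_of_lt (lt_of_le_of_lt hCle hcard)] at h1
    exact h1.symm
  have hCtop : C = ⊤ := Subgroup.eq_top_of_card_eq C hEq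
  intro x hx
  have : (⟨x, hx⟩ : R) ∈ C := by rw [hCtop]; trivial
  exact this

/-- a prime power dividing `9240` is `< 19` -/
theorem h46_prime_pow_lt (r k : ℕ) (hr : r.Prime) (h : r ^ k ∣ 9240) : r ^ k < 19 := by
  rcases Nat.eq_zero_or_pos k with rfl | hk
  · simp
  have hpp : IsPrimePow (r ^ k) := hr.isPrimePow.pow hk.ne'
  have h1 : r ^ k ∣ 8 ∨ r ^ k ∣ 3 ∨ r ^ k ∣ 5 ∨ r ^ k ∣ 7 ∨ r ^ k ∣ 11 := by
    have e : (9240 : ℕ) = 8 * (3 * (5 * (7 * 11))) := by norm_num
    rw [e] at h
    rcases (Nat.Coprime.isPrimePow_dvd_mul (by norm_num) hpp).1 h with h | h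
    · exact Or.inl h
    rcases (Nat.Coprime.isPrimePow_dvd_mul (by norm_num) hpp).1 h with h | h
    · exact Or.inr (Or.inl h)
    rcases (Nat.Coprime.isPrimePow_dvd_mul (by norm_num) hpp).1 h with h | h
    · exact Or.inr (Or.inr (Or.inl h))
    rcases (Nat.Coprime.isPrimePow_dvd_mul (by norm_num) hpp).1 h with h | h
    · exact Or.inr (Or.inr (Or.inr (Or.inl h)))
    · exact Or.inr (Or.inr (Or.inr (Or.inr h)))
  rcases h1 with h | h | h | h | h <;>
    · have := Nat.le_of_dvd (by norm_num) h
      omega

/-- an element of order dividing `19` centralises a normal subgroup of order dividing `9240` -/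
theorem h46_centralizes {G : Type u} [Group G] [Finite G] (N : Subgroup G) [N.Normal] (s : G)
    (hs : s ^ 19 = 1) (hN : Nat.card N ∣ 9240) : ∀ x ∈ N, s * x * s⁻¹ = x := by
  classical
  have h19 : ¬ 19 ∣ Nat.card N := fun h => by
    have := h.trans hN
    norm_num at this
  set C : Subgroup G := N ⊓ Subgroup.centralizer ({s} : Set G) with hCdef
  have hCN : C = N := by
    apply Cfsg.Agent.Helper82.ONS.eq_of_contains_sylows N C inf_le_left
    intro r hr
    obtain ⟨P, hP⟩ := Cfsg.Agent.Helper9.ONS.exists_invariant_sylow N s hs h19 r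
    refine ⟨P, ?_⟩
    have hcardR : Nat.card ((P : Subgroup N).map N.subtype) < 19 := by
      rw [Subgroup.card_map_of_injective N.subtype_injective, Sylow.card_eq_multiplicity P]
      apply h46_prime_pow_lt r _ hr.out
      exact (Nat.ordProj_dvd _ _).trans hN
    have hfix := h46_fix ((P : Subgroup N).map N.subtype) s hs hP hcardR
    intro x hx
    refine ⟨?_, ?_⟩
    · obtain ⟨y, _, rfl⟩ := hx
      exact y.2
    · show x ∈ Subgroup.centralizer ({s} : Set G)
      rw [Subgroup.mem_centralizer_iff]
      intro h hh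
      rw [Set.mem_singleton_iff] at hh
      subst hh
      have := hfix x hx
      calc h * x = h * x * h⁻¹ * h := by group
        _ = x * h := by rw [this]
  intro x hx
  rw [← hCN] at hx
  have h2 := (Subgroup.mem_centralizer_iff.mp hx.2) s rfl
  calc s * x * s⁻¹ = x * s * s⁻¹ := by rw [h2]
    _ = x := by group

/-- the Sylow `19`-subgroups of a group of order `19 * m`, `m ∣ 9240`, have order `19` -/
theorem h46_sylow_card {X : Type u} [Group X] [Finite X] {m : ℕ} (hm : m ∣ 9240)
    (hX : Nat.card X = 19 * m) (P : Sylow 19 X) : Nat.card (P : Subgroup X) = 19 := by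
  haveI : Fact (Nat.Prime 19) := ⟨by norm_num⟩
  have h19m : ¬ 19 ∣ m := fun h => by
    have := h.trans hm
    norm_num at this
  have := sylow_card_eq P (k := 1) (m := m) (by rw [hX, pow_one]) h19m
  rwa [pow_one] at this

/-- a normal subgroup of order `19` forces all Sylow `19`-subgroups to be normal -/
theorem h46_normal_of_normal_card {X : Type u} [Group X] [Finite X] {m : ℕ} (hm : m ∣ 9240)
    (hX : Nat.card X = 19 * m) (K : Subgroup X) [hKn : K.Normal] (hK : Nat.card K = 19) :
    ∀ P : Sylow 19 X, (P : Subgroup X).Normal := by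
  haveI : Fact (Nat.Prime 19) := ⟨by norm_num⟩
  have hKp : IsPGroup 19 K := IsPGroup.of_card (n := 1) (by rw [hK, pow_one])
  obtain ⟨P0, hP0⟩ := hKp.exists_le_sylow
  have hP0c := h46_sylow_card hm hX P0
  have hEq : K = (P0 : Subgroup X) := Subgroup.eq_of_le_of_card_ge hP0 (by rw [hP0c, hK])
  have hP0n : (P0 : Subgroup X).Normal := hEq ▸ hKn
  haveI := Sylow.unique_of_normal P0 hP0n
  intro P
  rw [Subsingleton.elim P P0]
  exact hP0n

/-- the inductive step -/
theorem h46_step {X : Type u} [Group X] [Finite X] (m : ℕ) (hm : m ∣ 9240)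
    (hX : Nat.card X = 19 * m) (N : Subgroup X) [N.Normal] (hN1 : N ≠ ⊥) (hN2 : N ≠ ⊤)
    (ih : ∀ m', m' ∣ m → m' ≠ m → ∀ (Y : Type u) [Group Y] [Finite Y], Nat.card Y = 19 * m' →
      ∀ Q : Sylow 19 Y, (Q : Subgroup Y).Normal) :
    ∀ P : Sylow 19 X, (P : Subgroup X).Normal := by
  classical
  haveI : Fact (Nat.Prime 19) := ⟨by norm_num⟩
  have hm0 : 0 < m := Nat.pos_of_dvd_of_pos hm (by norm_num)
  have hNdvd : Nat.card N ∣ 19 * m := by rw [← hX]; exact Subgroup.card_subgroup_dvd_card N
  by_cases h19 : 19 ∣ Nat.card N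
  · -- `19 ∣ |N|`
    obtain ⟨m', hm'⟩ := h19
    have hm'm : m' ∣ m := by
      rw [hm'] at hNdvd
      exact Nat.dvd_of_mul_dvd_mul_left (by norm_num) hNdvd
    have hm'ne : m' ≠ m := by
      intro h
      apply hN2
      apply Subgroup.eq_top_of_card_eq
      rw [hm', h, hX]
    have ihN := ih m' hm'm hm'ne ↥N hm'
    obtain ⟨Q⟩ : Nonempty (Sylow 19 ↥N) := inferInstance
    have hQn := ihN Q
    haveI hQc : (Q : Subgroup N).Characteristic := Sylow.characteristic_of_normal Q hQn
    have hQcard : Nat.card (Q : Subgroup N) = 19 := h46_sylow_card (hm'm.trans hm) hm' Q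
    haveI hKn : ((Q : Subgroup N).map N.subtype).Normal := inferInstance
    exact h46_normal_of_normal_card hm hX ((Q : Subgroup N).map N.subtype)
      (by rw [Subgroup.card_map_of_injective N.subtype_injective, hQcard])
  · -- `19 ∤ |N|`
    have hcop : Nat.Coprime (Nat.card N) 19 :=
      Nat.Coprime.symm ((Nat.Prime.coprime_iff_not_dvd (by norm_num)).2 h19)
    have hNm : Nat.card N ∣ m := hcop.dvd_of_dvd_mul_left hNdvd
    obtain ⟨m'', hm''⟩ := hNm
    have hN9240 : Nat.card N ∣ 9240 := (Dvd.intro _ hm''.symm).trans hm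
    have hcardN1 : Nat.card N ≠ 1 := fun h => hN1 (Subgroup.card_eq_one.mp h)
    have hNpos : 0 < Nat.card N := Nat.card_pos
    have hm''m : m'' ∣ m := ⟨Nat.card N, by rw [hm'']; ring⟩
    have hm''pos : 0 < m'' := Nat.pos_of_dvd_of_pos hm''m hm0
    have hm''ne : m'' ≠ m := by
      intro h
      rw [h] at hm''
      have h2 : Nat.card N * m = 1 * m := by rw [one_mul]; exact hm''.symm
      exact hcardN1 (Nat.eq_of_mul_eq_mul_right hm0 h2)
    have hYcard : Nat.card (X ⧸ N) = 19 * m'' := by
      have h1 := Subgroup.card_eq_card_quotient_mul_card_subgroup N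
      rw [hX, hm''] at h1
      have : Nat.card (X ⧸ N) * Nat.card N = (19 * m'') * Nat.card N := by rw [← h1]; ring
      exact Nat.eq_of_mul_eq_mul_right hNpos this
    have ihY := ih m'' hm''m hm''ne (X ⧸ N) hYcard
    intro P
    have hPc := h46_sylow_card hm hX P
    -- `P` centralises `N`
    have hPcent : ∀ s ∈ (P : Subgroup X), ∀ x ∈ N, s * x * s⁻¹ = x := by
      intro s hs
      have hs19 : s ^ 19 = 1 := by
        have h1 : orderOf s ∣ 19 := by
          rw [← hPc]; exact Subgroup.orderOf_dvd_natCard _ hs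
        exact orderOf_dvd_iff_pow_eq_one.mp h1
      exact h46_centralizes N s hs19 hN9240
    -- the preimage `M` of a normal Sylow subgroup of the quotient
    have hPbar : IsPGroup 19 ((P : Subgroup X).map (QuotientGroup.mk' N)) := P.isPGroup'.map _
    obtain ⟨Qbar, hQbar⟩ := hPbar.exists_le_sylow
    haveI hQn : (Qbar : Subgroup (X ⧸ N)).Normal := ihY Qbar
    have hQc : Nat.card (Qbar : Subgroup (X ⧸ N)) = 19 :=
      h46_sylow_card (hm''m.trans hm) hYcard Qbar
    set M : Subgroup X := (Qbar : Subgroup (X ⧸ N)).comap (QuotientGroup.mk' N) with hMdef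
    haveI hMn : M.Normal := by rw [hMdef]; infer_instance
    have hPM : (P : Subgroup X) ≤ M := by
      intro x hx
      rw [hMdef, Subgroup.mem_comap]
      exact hQbar ⟨x, hx, rfl⟩
    have hNM : N ≤ M := by
      intro x hx
      rw [hMdef, Subgroup.mem_comap]
      have : (QuotientGroup.mk' N) x = 1 := (QuotientGroup.eq_one_iff x).2 hx
      rw [this]
      exact Subgroup.one_mem _
    have hMcard : Nat.card M = 19 * Nat.card N := by
      have h1 : M.index = (Qbar : Subgroup (X ⧸ N)).index := by
        rw [hMdef]; exact Subgroup.index_comap_of_surjective _ (QuotientGroup.mk'_surjective N)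
      have h2 := Subgroup.card_mul_index (Qbar : Subgroup (X ⧸ N))
      rw [hQc, hYcard] at h2
      have h3 : (Qbar : Subgroup (X ⧸ N)).index = m'' :=
        Nat.eq_of_mul_eq_mul_left (by norm_num) h2
      have h4 := Subgroup.card_mul_index M
      rw [h1, h3, hX, hm''] at h4
      have : Nat.card M * m'' = (19 * Nat.card N) * m'' := by rw [h4]; ring
      exact Nat.eq_of_mul_eq_mul_right hm''pos this
    have hsup : (P : Subgroup X) ⊔ N = M := by
      apply Subgroup.eq_of_le_of_card_ge (sup_le hPM hNM)
      rw [card_sup_of_normal_coprime (P : Subgroup X) N (by rw [hPc]; exact hcop.symm), hMcard,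
        hPc]
      exact le_of_eq (by ring)
    -- `M` normalises `P`
    have hNnorm : N ≤ Subgroup.normalizer ((P : Subgroup X) : Set X) := by
      intro n hn
      have hcomm : ∀ h ∈ (P : Subgroup X), n * h * n⁻¹ = h := by
        intro h hh
        have h1 := hPcent h hh n hn
        -- h n h⁻¹ = n
        calc n * h * n⁻¹ = (h * n * h⁻¹) * h * n⁻¹ := by rw [h1]
          _ = h := by group
      rw [Subgroup.mem_normalizer_iff]
      intro h
      constructor
      · intro hh
        rw [hcomm h hh]; exact hh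
      · intro hh
        have h2 := hcomm _ hh
        -- n (n h n⁻¹) n⁻¹ = n h n⁻¹ ⇒ n h n⁻¹ = h
        have h3 : n * h * n⁻¹ = h := by
          have := congrArg (fun t => n⁻¹ * t * n) h2
          beta_reduce at this
          have e1 : n⁻¹ * (n * (n * h * n⁻¹) * n⁻¹) * n = n * h * n⁻¹ := by group
          have e2 : n⁻¹ * (n * h * n⁻¹) * n = h := by group
          rw [e1, e2] at this
          exact this
        rw [← h3]; exact hh
    have hMnorm : M ≤ Subgroup.normalizer ((P : Subgroup X) : Set X) := by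
      rw [← hsup]
      exact sup_le Subgroup.le_normalizer hNnorm
    have hP'n : ((P : Subgroup X).subgroupOf M).Normal :=
      Subgroup.normal_subgroupOf_of_le_normalizer hMnorm
    have hP'n2 : ((P.subtype hPM : Sylow 19 M) : Subgroup M).Normal := by
      rw [Sylow.coe_subtype]; exact hP'n
    haveI hchar : ((P.subtype hPM : Sylow 19 M) : Subgroup M).Characteristic :=
      Sylow.characteristic_of_normal _ hP'n2
    have hfin : (((P.subtype hPM : Sylow 19 M) : Subgroup M).map M.subtype).Normal := inferInstance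
    rw [Sylow.coe_subtype, Subgroup.map_subgroupOf_eq_of_le hPM] at hfin
    exact hfin

/-- a finite group that is not simple but nontrivial has a proper nontrivial normal subgroup -/
theorem h46_exists_normal {X : Type u} [Group X] [Nontrivial X] (h : ¬ IsSimpleGroup X) :
    ∃ N : Subgroup X, N.Normal ∧ N ≠ ⊥ ∧ N ≠ ⊤ := by
  by_contra hcon
  push Not at hcon
  apply h
  exact { eq_bot_or_eq_top_of_normal := fun H hH => by
            by_cases hb : H = ⊥
            · exact Or.inl hb
            · exact Or.inr (hcon H hH hb) }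

/-- `T m` for all proper divisors `m` of `9240` -/
theorem h46_T (hNS : ∀ m, m ∣ 9240 → m ≠ 9240 → NoSimple.{u} (19 * m)) :
    ∀ m, m ∣ 9240 → m ≠ 9240 → ∀ (X : Type u) [Group X] [Finite X], Nat.card X = 19 * m →
      ∀ P : Sylow 19 X, (P : Subgroup X).Normal := by
  intro m
  induction m using Nat.strong_induction_on with
  | _ m IH =>
    intro hm hne X _ _ hX
    have hm0 : 0 < m := Nat.pos_of_dvd_of_pos hm (by norm_num)
    by_cases hsimple : IsSimpleGroup X
    · by_cases hcomm : IsMulCommutative X
      · intro P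
        refine ⟨fun n hn g => ?_⟩
        have : g * n * g⁻¹ = n := by
          rw [hcomm.is_comm.comm g n]; group
        rw [this]; exact hn
      · exact absurd hX (hNS m hm hne X hcomm)
    · haveI : Nontrivial X := by
        rw [← Finite.one_lt_card_iff_nontrivial, hX]
        omega
      obtain ⟨N, hNn, hN1, hN2⟩ := h46_exists_normal hsimple
      haveI := hNn
      refine h46_step m hm hX N hN1 hN2 (fun m' hm'm hm'ne => ?_)
      have hlt : m' < m := lt_of_le_of_ne (Nat.le_of_dvd hm0 hm'm) hm'ne
      have hle : m ≤ 9240 := Nat.le_of_dvd (by norm_num) hm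
      exact IH m' hlt (hm'm.trans hm) (by omega)

/-- the main reduction: `S4274` from `NoSimple (19 * m)` for the proper divisors `m` of `9240` -/
theorem h46_main (hNS : ∀ m, m ∣ 9240 → m ≠ 9240 → NoSimple.{u} (19 * m)) (G : Type u) [Group G]
    [Finite G] (hG : Nat.card G = 175560) :
    IsSimpleGroup G ∨ ∀ P : Sylow 19 G, (P : Subgroup G).Normal := by
  by_cases hsimple : IsSimpleGroup G
  · exact Or.inl hsimple
  · right
    haveI : Nontrivial G := by
      rw [← Finite.one_lt_card_iff_nontrivial, hG]
      omega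
    obtain ⟨N, hNn, hN1, hN2⟩ := h46_exists_normal hsimple
    haveI := hNn
    exact h46_step 9240 dvd_rfl (by rw [hG]) N hN1 hN2
      (fun m' h1 h2 => h46_T hNS m' h1 h2)

end Cfsg.Agent.Helper46.O19
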