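import Mathlib
import Cfsg.Agent.Lib.Helper17.Sieve
import Cfsg.Agent.Lib.Helper75.FixKill
import Cfsg.Agent.Lib.Helper75.SVOrdersA

/-!
# O19 (S4274, helper46): no nonabelian simple group of order `19 * m` for the proper divisors `m` of `9240`
killed by helper17's sieve certificate (54 orders), by helper75's fixed-point certificate (11704, 15960, 29260),
or already on main (5852, helper75).
-/

set_option autoImplicit false

namespace Cfsg.Agent.Helper46.O19

open Cfsg.Agent.Helper17.Sieve Cfsg.Agent.Helper75.FixKill

set_option maxRecDepth 100000 in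
theorem h46_cert_19 : Cert 19 19 1 0 2 0 := by decide +kernel

theorem h46_no_19.{u} : NoSimple.{u} 19 := cert_sound h46_cert_19

set_option maxRecDepth 100000 in
theorem h46_cert_38 : Cert 38 2 1 0 19 1 := by decide +kernel

theorem h46_no_38.{u} : NoSimple.{u} 38 := cert_sound h46_cert_38

set_option maxRecDepth 100000 in
theorem h46_cert_57 : Cert 57 3 1 0 19 1 := by decide +kernel

theorem h46_no_57.{u} : NoSimple.{u} 57 := cert_sound h46_cert_57

set_option maxRecDepth 100000 in
theorem h46_cert_76 : Cert 76 2 2 0 19 1 := by decide +kernel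

theorem h46_no_76.{u} : NoSimple.{u} 76 := cert_sound h46_cert_76

set_option maxRecDepth 100000 in
theorem h46_cert_95 : Cert 95 5 1 0 19 1 := by decide +kernel

theorem h46_no_95.{u} : NoSimple.{u} 95 := cert_sound h46_cert_95

set_option maxRecDepth 100000 in
theorem h46_cert_114 : Cert 114 19 1 6 0 0 := by decide +kernel

theorem h46_no_114.{u} : NoSimple.{u} 114 := cert_sound h46_cert_114

set_option maxRecDepth 100000 in
theorem h46_cert_133 : Cert 133 7 1 0 19 1 := by decide +kernel

theorem h46_no_133.{u} : NoSimple.{u} 133 := cert_sound h46_cert_133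

set_option maxRecDepth 100000 in
theorem h46_cert_152 : Cert 152 2 3 0 19 1 := by decide +kernel

theorem h46_no_152.{u} : NoSimple.{u} 152 := cert_sound h46_cert_152

set_option maxRecDepth 100000 in
theorem h46_cert_190 : Cert 190 19 1 10 0 0 := by decide +kernel

theorem h46_no_190.{u} : NoSimple.{u} 190 := cert_sound h46_cert_190

set_option maxRecDepth 100000 in
theorem h46_cert_209 : Cert 209 11 1 0 19 1 := by decide +kernel

theorem h46_no_209.{u} : NoSimple.{u} 209 := cert_sound h46_cert_209

set_option maxRecDepth 100000 in
theorem h46_cert_228 : Cert 228 19 1 12 0 0 := by decide +kernel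

theorem h46_no_228.{u} : NoSimple.{u} 228 := cert_sound h46_cert_228

set_option maxRecDepth 100000 in
theorem h46_cert_266 : Cert 266 19 1 14 0 0 := by decide +kernel

theorem h46_no_266.{u} : NoSimple.{u} 266 := cert_sound h46_cert_266

set_option maxRecDepth 100000 in
theorem h46_cert_285 : Cert 285 19 1 15 0 0 := by decide +kernel

theorem h46_no_285.{u} : NoSimple.{u} 285 := cert_sound h46_cert_285

set_option maxRecDepth 100000 in
theorem h46_cert_380 : Cert 380 19 1 20 0 0 := by decide +kernel

theorem h46_no_380.{u} : NoSimple.{u} 380 := cert_sound h46_cert_380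

set_option maxRecDepth 100000 in
theorem h46_cert_399 : Cert 399 19 1 21 0 0 := by decide +kernel

theorem h46_no_399.{u} : NoSimple.{u} 399 := cert_sound h46_cert_399

set_option maxRecDepth 100000 in
theorem h46_cert_418 : Cert 418 19 1 22 0 0 := by decide +kernel

theorem h46_no_418.{u} : NoSimple.{u} 418 := cert_sound h46_cert_418

set_option maxRecDepth 100000 in
theorem h46_cert_456 : Cert 456 19 1 24 0 0 := by decide +kernel

theorem h46_no_456.{u} : NoSimple.{u} 456 := cert_sound h46_cert_456

set_option maxRecDepth 100000 in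
theorem h46_cert_532 : Cert 532 19 1 28 0 0 := by decide +kernel

theorem h46_no_532.{u} : NoSimple.{u} 532 := cert_sound h46_cert_532

set_option maxRecDepth 100000 in
theorem h46_cert_570 : Cert 570 19 1 30 0 0 := by decide +kernel

theorem h46_no_570.{u} : NoSimple.{u} 570 := cert_sound h46_cert_570

set_option maxRecDepth 100000 in
theorem h46_cert_627 : Cert 627 19 1 33 0 0 := by decide +kernel

theorem h46_no_627.{u} : NoSimple.{u} 627 := cert_sound h46_cert_627

set_option maxRecDepth 100000 in
theorem h46_cert_665 : Cert 665 19 1 35 0 0 := by decide +kernel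

theorem h46_no_665.{u} : NoSimple.{u} 665 := cert_sound h46_cert_665

set_option maxRecDepth 100000 in
theorem h46_cert_760 : Cert 760 19 1 40 0 0 := by decide +kernel

theorem h46_no_760.{u} : NoSimple.{u} 760 := cert_sound h46_cert_760

set_option maxRecDepth 100000 in
theorem h46_cert_798 : Cert 798 19 1 42 0 0 := by decide +kernel

theorem h46_no_798.{u} : NoSimple.{u} 798 := cert_sound h46_cert_798

set_option maxRecDepth 100000 in
theorem h46_cert_836 : Cert 836 19 1 44 0 0 := by decide +kernel

theorem h46_no_836.{u} : NoSimple.{u} 836 := cert_sound h46_cert_836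

set_option maxRecDepth 100000 in
theorem h46_cert_1045 : Cert 1045 19 1 55 0 0 := by decide +kernel

theorem h46_no_1045.{u} : NoSimple.{u} 1045 := cert_sound h46_cert_1045

set_option maxRecDepth 100000 in
theorem h46_cert_1064 : Cert 1064 19 1 56 0 0 := by decide +kernel

theorem h46_no_1064.{u} : NoSimple.{u} 1064 := cert_sound h46_cert_1064

set_option maxRecDepth 100000 in
theorem h46_cert_1140 : Cert 1140 5 1 228 0 0 := by decide +kernel

theorem h46_no_1140.{u} : NoSimple.{u} 1140 := cert_sound h46_cert_1140

set_option maxRecDepth 100000 in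
theorem h46_cert_1254 : Cert 1254 19 1 66 0 0 := by decide +kernel

theorem h46_no_1254.{u} : NoSimple.{u} 1254 := cert_sound h46_cert_1254

set_option maxRecDepth 100000 in
theorem h46_cert_1330 : Cert 1330 19 1 70 0 0 := by decide +kernel

theorem h46_no_1330.{u} : NoSimple.{u} 1330 := cert_sound h46_cert_1330

set_option maxRecDepth 100000 in
theorem h46_cert_1463 : Cert 1463 19 1 77 0 0 := by decide +kernel

theorem h46_no_1463.{u} : NoSimple.{u} 1463 := cert_sound h46_cert_1463

set_option maxRecDepth 100000 in
theorem h46_cert_1596 : Cert 1596 19 1 84 0 0 := by decide +kernel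

theorem h46_no_1596.{u} : NoSimple.{u} 1596 := cert_sound h46_cert_1596

set_option maxRecDepth 100000 in
theorem h46_cert_1672 : Cert 1672 19 1 88 0 0 := by decide +kernel

theorem h46_no_1672.{u} : NoSimple.{u} 1672 := cert_sound h46_cert_1672

set_option maxRecDepth 100000 in
theorem h46_cert_1995 : Cert 1995 19 1 105 0 0 := by decide +kernel

theorem h46_no_1995.{u} : NoSimple.{u} 1995 := cert_sound h46_cert_1995

set_option maxRecDepth 100000 in
theorem h46_cert_2090 : Cert 2090 19 1 110 0 0 := by decide +kernel

theorem h46_no_2090.{u} : NoSimple.{u} 2090 := cert_sound h46_cert_2090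

set_option maxRecDepth 100000 in
theorem h46_cert_2280 : Cert 2280 19 1 120 0 0 := by decide +kernel

theorem h46_no_2280.{u} : NoSimple.{u} 2280 := cert_sound h46_cert_2280

set_option maxRecDepth 100000 in
theorem h46_cert_2508 : Cert 2508 19 1 132 0 0 := by decide +kernel

theorem h46_no_2508.{u} : NoSimple.{u} 2508 := cert_sound h46_cert_2508

set_option maxRecDepth 100000 in
theorem h46_cert_2660 : Cert 2660 19 1 140 0 0 := by decide +kernel

theorem h46_no_2660.{u} : NoSimple.{u} 2660 := cert_sound h46_cert_2660

set_option maxRecDepth 100000 in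
theorem h46_cert_2926 : Cert 2926 7 1 418 0 0 := by decide +kernel

theorem h46_no_2926.{u} : NoSimple.{u} 2926 := cert_sound h46_cert_2926

set_option maxRecDepth 100000 in
theorem h46_cert_3135 : Cert 3135 19 1 165 0 0 := by decide +kernel

theorem h46_no_3135.{u} : NoSimple.{u} 3135 := cert_sound h46_cert_3135

set_option maxRecDepth 100000 in
theorem h46_cert_3192 : Cert 3192 19 1 168 0 0 := by decide +kernel

theorem h46_no_3192.{u} : NoSimple.{u} 3192 := cert_sound h46_cert_3192

set_option maxRecDepth 100000 in
theorem h46_cert_3990 : Cert 3990 19 1 210 0 0 := by decide +kernel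

theorem h46_no_3990.{u} : NoSimple.{u} 3990 := cert_sound h46_cert_3990

set_option maxRecDepth 100000 in
theorem h46_cert_4180 : Cert 4180 19 1 220 0 0 := by decide +kernel

theorem h46_no_4180.{u} : NoSimple.{u} 4180 := cert_sound h46_cert_4180

set_option maxRecDepth 100000 in
theorem h46_cert_4389 : Cert 4389 11 1 399 0 0 := by decide +kernel

theorem h46_no_4389.{u} : NoSimple.{u} 4389 := cert_sound h46_cert_4389

set_option maxRecDepth 100000 in
theorem h46_cert_5016 : Cert 5016 19 1 264 0 0 := by decide +kernel

theorem h46_no_5016.{u} : NoSimple.{u} 5016 := cert_sound h46_cert_5016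

set_option maxRecDepth 100000 in
theorem h46_cert_5320 : Cert 5320 19 1 280 0 0 := by decide +kernel

theorem h46_no_5320.{u} : NoSimple.{u} 5320 := cert_sound h46_cert_5320

set_option maxRecDepth 100000 in
theorem h46_cert_6270 : Cert 6270 19 1 330 0 0 := by decide +kernel

theorem h46_no_6270.{u} : NoSimple.{u} 6270 := cert_sound h46_cert_6270

set_option maxRecDepth 100000 in
theorem h46_cert_7315 : Cert 7315 19 1 385 0 0 := by decide +kernel

theorem h46_no_7315.{u} : NoSimple.{u} 7315 := cert_sound h46_cert_7315

set_option maxRecDepth 100000 in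
theorem h46_cert_8360 : Cert 8360 19 1 440 0 0 := by decide +kernel

theorem h46_no_8360.{u} : NoSimple.{u} 8360 := cert_sound h46_cert_8360

set_option maxRecDepth 100000 in
theorem h46_cert_8778 : Cert 8778 2 1 4389 0 0 := by decide +kernel

theorem h46_no_8778.{u} : NoSimple.{u} 8778 := cert_sound h46_cert_8778

set_option maxRecDepth 100000 in
theorem h46_cert_12540 : Cert 12540 19 1 660 0 0 := by decide +kernel

theorem h46_no_12540.{u} : NoSimple.{u} 12540 := cert_sound h46_cert_12540

set_option maxRecDepth 100000 in
theorem h46_cert_14630 : Cert 14630 7 1 2090 0 0 := by decide +kernel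

theorem h46_no_14630.{u} : NoSimple.{u} 14630 := cert_sound h46_cert_14630

set_option maxRecDepth 100000 in
theorem h46_cert_21945 : Cert 21945 7 1 3135 0 0 := by decide +kernel

theorem h46_no_21945.{u} : NoSimple.{u} 21945 := cert_sound h46_cert_21945

set_option maxRecDepth 100000 in
theorem h46_cert_25080 : Cert 25080 19 1 1320 0 0 := by decide +kernel

theorem h46_no_25080.{u} : NoSimple.{u} 25080 := cert_sound h46_cert_25080

set_option maxRecDepth 100000 in
theorem h46_cert_43890 : Cert 43890 2 1 21945 0 0 := by decide +kernel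

theorem h46_no_43890.{u} : NoSimple.{u} 43890 := cert_sound h46_cert_43890

set_option maxRecDepth 100000 in
theorem h46_fixcert_11704 : FixCert 7 1672 := by decide +kernel

theorem h46_no_11704.{u} : NoSimple.{u} 11704 :=
  fix_kill (p := 7) (m := 1672) (by norm_num) (by norm_num) (by norm_num) h46_fixcert_11704

set_option maxRecDepth 100000 in
theorem h46_fixcert_15960 : FixCert 19 840 := by decide +kernel

theorem h46_no_15960.{u} : NoSimple.{u} 15960 :=
  fix_kill (p := 19) (m := 840) (by norm_num) (by norm_num) (by norm_num) h46_fixcert_15960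

set_option maxRecDepth 100000 in
theorem h46_fixcert_29260 : FixCert 7 4180 := by decide +kernel

theorem h46_no_29260.{u} : NoSimple.{u} 29260 :=
  fix_kill (p := 7) (m := 4180) (by norm_num) (by norm_num) (by norm_num) h46_fixcert_29260

theorem h46_no_5852.{u} : NoSimple.{u} 5852 := Cfsg.Agent.Helper75.SV.no_5852.{u}

end Cfsg.Agent.Helper46.O19
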