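import Mathlib
import Cfsg.Agent.Lib.Helper46.O19Tab
import Cfsg.Agent.Lib.Helper46.O19Red

/-!
# O19 (S4274, helper46): assembly of the reduction with the order table, the five long orders as hypotheses
-/

set_option autoImplicit false

namespace Cfsg.Agent.Helper46.O19

open Cfsg.Agent.Helper17.Sieve

universe u

set_option maxRecDepth 100000 in
theorem h46_div : ∀ m ∈ List.range 9241, m ∣ 9240 → m ≠ 9240 →
    m ∈ ([1, 2, 3, 4, 5, 6, 7, 8, 10, 11, 12, 14, 15, 20, 21, 22, 24, 28, 30, 33, 35, 40, 42, 44, 55, 56, 60, 66, 70, 77, 84, 88, 105, 110, 120, 132, 140, 154, 165, 168, 210, 220, 231, 264, 280, 308, 330, 385, 420, 440, 462, 616, 660, 770, 840, 924, 1155, 1320, 1540, 1848, 2310, 3080, 4620] : List ℕ) := by decide +kernel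

theorem h46_all (h7980 : NoSimple.{u} 7980) (h17556 : NoSimple.{u} 17556) (h35112 : NoSimple.{u} 35112)
    (h58520 : NoSimple.{u} 58520) (h87780 : NoSimple.{u} 87780) :
    ∀ m, m ∣ 9240 → m ≠ 9240 → NoSimple.{u} (19 * m) := by
  intro m hm hne
  have hle : m ≤ 9240 := Nat.le_of_dvd (by norm_num) hm
  have hmem := h46_div m (List.mem_range.2 (by omega)) hm hne
  simp only [List.mem_cons, List.not_mem_nil, or_false] at hmem
  rcases hmem with rfl | rfl | rfl | rfl | rfl | rfl | rfl | rfl | rfl | rfl | rfl | rfl | rfl | rfl | rfl | rfl | rfl | rfl | rfl | rfl | rfl | rfl | rfl | rfl | rfl | rfl | rfl | rfl | rfl | rfl | rfl | rfl | rfl | rfl | rfl | rfl | rfl | rfl | rfl | rfl | rfl | rfl | rfl | rfl | rfl | rfl | rfl | rfl | rfl | rfl | rfl | rfl | rfl | rfl | rfl | rfl | rfl | rfl | rfl | rfl | rfl | rfl | rfl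
  · exact h46_no_19.{u}
  · exact h46_no_38.{u}
  · exact h46_no_57.{u}
  · exact h46_no_76.{u}
  · exact h46_no_95.{u}
  · exact h46_no_114.{u}
  · exact h46_no_133.{u}
  · exact h46_no_152.{u}
  · exact h46_no_190.{u}
  · exact h46_no_209.{u}
  · exact h46_no_228.{u}
  · exact h46_no_266.{u}
  · exact h46_no_285.{u}
  · exact h46_no_380.{u}
  · exact h46_no_399.{u}
  · exact h46_no_418.{u}
  · exact h46_no_456.{u}
  · exact h46_no_532.{u}
  · exact h46_no_570.{u}
  · exact h46_no_627.{u}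
  · exact h46_no_665.{u}
  · exact h46_no_760.{u}
  · exact h46_no_798.{u}
  · exact h46_no_836.{u}
  · exact h46_no_1045.{u}
  · exact h46_no_1064.{u}
  · exact h46_no_1140.{u}
  · exact h46_no_1254.{u}
  · exact h46_no_1330.{u}
  · exact h46_no_1463.{u}
  · exact h46_no_1596.{u}
  · exact h46_no_1672.{u}
  · exact h46_no_1995.{u}
  · exact h46_no_2090.{u}
  · exact h46_no_2280.{u}
  · exact h46_no_2508.{u}
  · exact h46_no_2660.{u}
  · exact h46_no_2926.{u}
  · exact h46_no_3135.{u}
  · exact h46_no_3192.{u}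
  · exact h46_no_3990.{u}
  · exact h46_no_4180.{u}
  · exact h46_no_4389.{u}
  · exact h46_no_5016.{u}
  · exact h46_no_5320.{u}
  · exact h46_no_5852.{u}
  · exact h46_no_6270.{u}
  · exact h46_no_7315.{u}
  · exact h7980
  · exact h46_no_8360.{u}
  · exact h46_no_8778.{u}
  · exact h46_no_11704.{u}
  · exact h46_no_12540.{u}
  · exact h46_no_14630.{u}
  · exact h46_no_15960.{u}
  · exact h17556
  · exact h46_no_21945.{u}
  · exact h46_no_25080.{u}
  · exact h46_no_29260.{u}
  · exact h35112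
  · exact h46_no_43890.{u}
  · exact h58520
  · exact h87780

theorem h46_final (h7980 : NoSimple.{u} 7980) (h17556 : NoSimple.{u} 17556) (h35112 : NoSimple.{u} 35112)
    (h58520 : NoSimple.{u} 58520) (h87780 : NoSimple.{u} 87780) (G : Type u) [Group G] [Finite G]
    (hG : Nat.card G = 175560) : IsSimpleGroup G ∨ ∀ P : Sylow 19 G, (P : Subgroup G).Normal :=
  h46_main (h46_all h7980 h17556 h35112 h58520 h87780) G hG

end Cfsg.Agent.Helper46.O19
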