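import Mathlib
import Cfsg.Prelude.Def_Blocks
import Cfsg.Agent.Lib.Helper55.O2520Defs

/-!
O2520 lemma server (helper55, row S0984), piece (REP) `rep_fix`, by helper46.
-/

set_option autoImplicit false

namespace Cfsg.Agent.Helper46.O2520

open Cfsg Cfsg.Agent.Helper55.O2520
open scoped Classical

universe u

/-- the subspace of vectors fixed by the subgroup `X` -/
def h46Fix {G : Type u} [Group G] {V : Type*} [AddCommGroup V] [Module ℂ V]
    (ρ : Representation ℂ G V) (X : Subgroup G) : Submodule ℂ V where
  carrier := {v | ∀ g ∈ X, ρ g v = v}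
  add_mem' := by
    intro a b ha hb g hg
    rw [map_add, ha g hg, hb g hg]
  zero_mem' := by
    intro g _
    exact map_zero _
  smul_mem' := by
    intro c a ha g hg
    rw [map_smul, ha g hg]

theorem h46_mem_Fix {G : Type u} [Group G] {V : Type*} [AddCommGroup V] [Module ℂ V]
    (ρ : Representation ℂ G V) (X : Subgroup G) (v : V) :
    v ∈ h46Fix ρ X ↔ ∀ g ∈ X, ρ g v = v := Iff.rfl

theorem h46_Fix_anti {G : Type u} [Group G] {V : Type*} [AddCommGroup V] [Module ℂ V]
    (ρ : Representation ℂ G V) {X Y : Subgroup G} (h : X ≤ Y) : h46Fix ρ Y ≤ h46Fix ρ X :=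
  fun _ hv g hg => hv g (h hg)

/-- the sum formula -/
theorem h46_sum_formula {G : Type u} [Group G] [Fintype G] {V : Type*} [AddCommGroup V] [Module ℂ V]
    [FiniteDimensional ℂ V] (ρ : Representation ℂ G V) (X : Subgroup G) :
    ∑ g : G, (if g ∈ X then ρ.character g else 0) =
      (Nat.card X : ℂ) * (Module.finrank ℂ (h46Fix ρ X) : ℂ) := by
  classical
  set σ : Representation ℂ X V := ρ.comp X.subtype with hσ
  have hne : (Nat.card X : ℂ) ≠ 0 := by
    have : 0 < Nat.card X := Nat.card_pos
    exact_mod_cast this.ne'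
  haveI : Invertible (Nat.card X : ℂ) := invertibleOfNonzero hne
  have h1 := Representation.card_inv_mul_sum_char_eq_finrank σ
  have h2 : ∑ g : G, (if g ∈ X then ρ.character g else 0) = ∑ x : X, σ.character x := by
    rw [← Finset.sum_filter]
    have : ∑ x : X, σ.character x = ∑ x : X, ρ.character (x : G) := by
      apply Finset.sum_congr rfl
      intro x _
      rfl
    rw [this]
    exact (Finset.sum_subtype (Finset.univ.filter (· ∈ X)) (fun g => by simp) (fun g => ρ.character g))
  have h3 : Module.finrank ℂ (Representation.invariants σ) = Module.finrank ℂ (h46Fix ρ X) := by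
    have : Representation.invariants σ = h46Fix ρ X := by
      ext v
      constructor
      · intro hv g hg
        exact hv ⟨g, hg⟩
      · intro hv g
        exact hv g.1 g.2
    rw [this]
  rw [h2, ← h3, ← h1]
  field_simp

theorem rep_fix {G : Type u} [Group G] [Fintype G] {n : ℕ}
    (ρ : Representation ℂ G (Fin n → ℂ)) (hirr : ρ.IsIrreducible) (hn : 2 ≤ n) :
    ∃ f : Subgroup G → ℕ,
      (∀ X : Subgroup G, ∑ g : G, (if g ∈ X then ρ.character g else 0) =
        (Nat.card X : ℂ) * (f X : ℂ)) ∧
      (∀ X Y : Subgroup G, X ≤ Y → f Y ≤ f X) ∧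
      (∀ X : Subgroup G, f X ≤ n) ∧
      (∀ X : Subgroup G, f X = n → ∀ g ∈ X, ρ g = 1) ∧
      (∀ A Y : Subgroup G, f (A ⊓ Y) < f A + f Y → A ⊔ Y ≠ ⊤) := by
  have hfr : Module.finrank ℂ (Fin n → ℂ) = n := by simp
  refine ⟨fun X => Module.finrank ℂ (h46Fix ρ X), ?_, ?_, ?_, ?_, ?_⟩
  · intro X
    exact h46_sum_formula ρ X
  · intro X Y h
    exact Submodule.finrank_mono (h46_Fix_anti ρ h)
  · intro X
    have := Submodule.finrank_le (h46Fix ρ X)
    rw [hfr] at this
    exact this
  · intro X hX g hg
    have htop : h46Fix ρ X = ⊤ := by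
      apply Submodule.eq_top_of_finrank_eq
      rw [hfr]
      exact hX
    apply LinearMap.ext
    intro v
    have hv : v ∈ h46Fix ρ X := by rw [htop]; trivial
    rw [hv g hg]
    rfl
  · intro A Y hlt htop
    have hle : h46Fix ρ A ⊔ h46Fix ρ Y ≤ h46Fix ρ (A ⊓ Y) :=
      sup_le (h46_Fix_anti ρ inf_le_left) (h46_Fix_anti ρ inf_le_right)
    have h1 := Submodule.finrank_sup_add_finrank_inf_eq (h46Fix ρ A) (h46Fix ρ Y)
    have h2 := Submodule.finrank_mono hle
    have hpos : 0 < Module.finrank ℂ (h46Fix ρ A ⊓ h46Fix ρ Y : Submodule ℂ (Fin n → ℂ)) := by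
      simp only at hlt
      omega
    have hne : (h46Fix ρ A ⊓ h46Fix ρ Y : Submodule ℂ (Fin n → ℂ)) ≠ ⊥ := by
      intro hbot
      rw [hbot, finrank_bot] at hpos
      exact lt_irrefl _ hpos
    obtain ⟨v, hv, hv0⟩ := Submodule.exists_mem_ne_zero_of_ne_bot hne
    rw [Submodule.mem_inf] at hv
    -- the stabilizer of v
    let S : Subgroup G :=
      { carrier := {g | ρ g v = v}
        mul_mem' := by
          intro a b ha hb
          change ρ (a * b) v = v
          rw [map_mul, Module.End.mul_apply, hb, ha]
        one_mem' := by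
          change ρ 1 v = v
          rw [map_one]; rfl
        inv_mem' := by
          intro a ha
          change ρ a⁻¹ v = v
          have : ρ a⁻¹ (ρ a v) = v := by
            rw [← Module.End.mul_apply, ← map_mul, inv_mul_cancel, map_one]; rfl
          rw [ha] at this
          exact this }
    have hAS : A ≤ S := fun g hg => hv.1 g hg
    have hYS : Y ≤ S := fun g hg => hv.2 g hg
    have hS : S = ⊤ := top_le_iff.mp (htop ▸ sup_le hAS hYS)
    have hfix : ∀ g : G, ρ g v = v := fun g => by
      have : g ∈ S := by rw [hS]; trivial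
      exact this
    -- the line spanned by v is a subrepresentation
    let W : Subrepresentation ρ :=
      { toSubmodule := Submodule.span ℂ {v}
        apply_mem_toSubmodule := by
          intro g w hw
          rw [Submodule.mem_span_singleton] at hw ⊢
          obtain ⟨c, rfl⟩ := hw
          exact ⟨c, by rw [map_smul, hfix g]⟩ }
    have := hirr
    rcases eq_bot_or_eq_top W with hW | hW
    · have : v ∈ W.toSubmodule := Submodule.mem_span_singleton_self v
      rw [hW] at this
      exact hv0 ((Submodule.mem_bot ℂ).mp this)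
    · have h3 : W.toSubmodule = ⊤ := by rw [hW]; rfl
      have h4 : Module.finrank ℂ (Submodule.span ℂ {v} : Submodule ℂ (Fin n → ℂ)) = n := by
        change Module.finrank ℂ W.toSubmodule = n
        rw [h3, finrank_top, hfr]
      rw [finrank_span_singleton hv0] at h4
      omega

end Cfsg.Agent.Helper46.O2520
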