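import Mathlib

set_option autoImplicit false

/-!
O4320 lemma server (helper50, S0977), piece (B2f1) `b2_arith`, by helper46: finset bookkeeping
reducing the character identities to the four-degree arithmetic statement (B2f2).
-/

namespace Cfsg.Agent.Helper46.O4320

universe u

/-- (B2f1) -/
theorem b2_arith {I : Type u} [Fintype I] [DecidableEq I] (d : I → ℕ) (c s : I → ℤ) (T : ℕ) (i0 : I)
    (hd0 : d i0 = 1) (hc0 : c i0 = 1) (hs0 : s i0 = 1) (huniq : ∀ i, d i = 1 → i = i0)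
    (hdvd : ∀ i, d i ∣ 4320) (hsq : ∑ i, (d i : ℤ) ^ 2 = 4320)
    (h5 : ∀ i, (5 : ℤ) ∣ (d i : ℤ) - c i) (hc2 : ∑ i, c i ^ 2 = 5) (hdc : ∑ i, (d i : ℤ) * c i = 0)
    (hm : ∀ i, ∃ m₁ m₂ : ℕ, 10 * (m₁ : ℤ) = (d i : ℤ) + 4 * c i + 5 * s i ∧
      10 * (m₂ : ℤ) = (d i : ℤ) + 4 * c i - 5 * s i)
    (hs2 : ∑ i, s i ^ 2 = (T : ℤ))
    (hmul : 5 * (T : ℚ) ^ 2 = 4320 * ∑ i, (s i : ℚ) ^ 2 * (c i : ℚ) / (d i : ℚ))
    (hnum : ∀ (d1 d2 d3 d4 : ℕ) (c1 c2 c3 c4 s1 s2 s3 s4 : ℤ) (T : ℕ),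
      d1 ∣ 4320 → d2 ∣ 4320 → d3 ∣ 4320 → d4 ∣ 4320 → 1 < d1 → 1 < d2 → 1 < d3 → 1 < d4 →
      (c1 = 1 ∨ c1 = -1) → (c2 = 1 ∨ c2 = -1) → (c3 = 1 ∨ c3 = -1) → (c4 = 1 ∨ c4 = -1) →
      (5 : ℤ) ∣ (d1 : ℤ) - c1 → (5 : ℤ) ∣ (d2 : ℤ) - c2 → (5 : ℤ) ∣ (d3 : ℤ) - c3 → (5 : ℤ) ∣ (d4 : ℤ) - c4 →
      1 + (d1 : ℤ) * c1 + (d2 : ℤ) * c2 + (d3 : ℤ) * c3 + (d4 : ℤ) * c4 = 0 →
      1 + d1 ^ 2 + d2 ^ 2 + d3 ^ 2 + d4 ^ 2 ≤ 4320 →
      (∃ m₁ m₂ : ℕ, 10 * (m₁ : ℤ) = (d1 : ℤ) + 4 * c1 + 5 * s1 ∧ 10 * (m₂ : ℤ) = (d1 : ℤ) + 4 * c1 - 5 * s1) →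
      (∃ m₁ m₂ : ℕ, 10 * (m₁ : ℤ) = (d2 : ℤ) + 4 * c2 + 5 * s2 ∧ 10 * (m₂ : ℤ) = (d2 : ℤ) + 4 * c2 - 5 * s2) →
      (∃ m₁ m₂ : ℕ, 10 * (m₁ : ℤ) = (d3 : ℤ) + 4 * c3 + 5 * s3 ∧ 10 * (m₂ : ℤ) = (d3 : ℤ) + 4 * c3 - 5 * s3) →
      (∃ m₁ m₂ : ℕ, 10 * (m₁ : ℤ) = (d4 : ℤ) + 4 * c4 + 5 * s4 ∧ 10 * (m₂ : ℤ) = (d4 : ℤ) + 4 * c4 - 5 * s4) →
      1 + s1 ^ 2 + s2 ^ 2 + s3 ^ 2 + s4 ^ 2 ≤ (T : ℤ) →
      5 * (T : ℚ) ^ 2 = 4320 * (1 + (s1 : ℚ) ^ 2 * c1 / d1 + (s2 : ℚ) ^ 2 * c2 / d2 +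
        (s3 : ℚ) ^ 2 * c3 / d3 + (s4 : ℚ) ^ 2 * c4 / d4) → False) : False := by
  classical
  set S : Finset I := Finset.univ.filter (fun i => i ≠ i0 ∧ c i ≠ 0) with hS
  have hmemS : ∀ i, i ∈ S ↔ i ≠ i0 ∧ c i ≠ 0 := by
    intro i; simp [hS]
  have hi0S : i0 ∉ S := by
    intro h; exact ((hmemS i0).1 h).1 rfl
  have hout : ∀ i, i ∉ insert i0 S → c i = 0 := by
    intro i hi
    by_contra h
    apply hi
    by_cases hii : i = i0
    · rw [hii]; exact Finset.mem_insert_self _ _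
    · exact Finset.mem_insert_of_mem ((hmemS i).2 ⟨hii, h⟩)
  -- splitting sums of functions vanishing where `c` vanishes
  have hsplit : ∀ (M : Type) [AddCommMonoid M] (f : I → M), (∀ i, c i = 0 → f i = 0) →
      ∑ i, f i = f i0 + ∑ i ∈ S, f i := by
    intro M _ f hf
    rw [← Finset.sum_subset (Finset.subset_univ (insert i0 S))
      (fun i _ hi => hf i (hout i hi)), Finset.sum_insert hi0S]
  -- lower bounds for sums of nonnegative functions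
  have hlow : ∀ f : I → ℤ, (∀ i, 0 ≤ f i) → f i0 + ∑ i ∈ S, f i ≤ ∑ i, f i := by
    intro f hf
    rw [← Finset.sum_insert hi0S]
    exact Finset.sum_le_sum_of_subset_of_nonneg (Finset.subset_univ _) (fun i _ _ => hf i)
  have hcS : ∑ i ∈ S, c i ^ 2 = 4 := by
    have := hsplit ℤ (fun i => c i ^ 2) (fun i hi => by simp [hi])
    rw [hc2, hc0] at this
    linarith
  have hpos : ∀ i ∈ S, 1 ≤ c i ^ 2 := by
    intro i hi
    have h0 : c i ≠ 0 := ((hmemS i).1 hi).2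
    have : 0 < c i ^ 2 := by positivity
    linarith [Int.add_one_le_iff.2 this]
  have hdpos : ∀ i, 0 < d i := by
    intro i
    exact Nat.pos_of_ne_zero (fun h => by have := hdvd i; rw [h] at this; omega)
  have hdS : ∀ i ∈ S, 1 < d i := by
    intro i hi
    have h1 : d i ≠ 1 := fun h => ((hmemS i).1 hi).1 (huniq i h)
    have := hdpos i
    omega
  by_cases hbig : ∃ i ∈ S, 4 ≤ c i ^ 2
  · -- one coefficient `±2`: parity
    obtain ⟨i1, hi1, h4⟩ := hbig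
    have hadd : c i1 ^ 2 + ∑ i ∈ S.erase i1, c i ^ 2 = ∑ i ∈ S, c i ^ 2 :=
      Finset.add_sum_erase S (fun i => c i ^ 2) hi1
    have hrest : (S.erase i1).card • (1 : ℤ) ≤ ∑ i ∈ S.erase i1, c i ^ 2 :=
      Finset.card_nsmul_le_sum _ _ _ (fun i hi => hpos i (Finset.mem_of_mem_erase hi))
    have hcard0 : (S.erase i1).card = 0 := by
      have h : ((S.erase i1).card : ℤ) ≤ 0 := by
        have : ((S.erase i1).card : ℤ) = (S.erase i1).card • (1 : ℤ) := by simp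
        linarith
      exact_mod_cast le_antisymm h (by positivity)
    have hemp : S.erase i1 = ∅ := Finset.card_eq_zero.1 hcard0
    have hc4 : c i1 ^ 2 = 4 := by
      rw [hemp, Finset.sum_empty] at hadd
      linarith
    have hdc' := hsplit ℤ (fun i => (d i : ℤ) * c i) (fun i hi => by simp [hi])
    rw [hdc, ← Finset.add_sum_erase S _ hi1, hemp, Finset.sum_empty, hd0, hc0] at hdc'
    have hc : c i1 = 2 ∨ c i1 = -2 := by
      have h : (c i1 - 2) * (c i1 + 2) = 0 := by ring_nf; linarith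
      rcases mul_eq_zero.1 h with h | h
      · left; linarith
      · right; linarith
    rcases hc with hc | hc
    · rw [hc] at hdc'; push_cast at hdc'; omega
    · rw [hc] at hdc'; push_cast at hdc'; omega
  · -- four coefficients `±1`
    have hc1 : ∀ i ∈ S, c i = 1 ∨ c i = -1 := by
      intro i hi
      have h1 := hpos i hi
      have h2 : c i ^ 2 < 4 := by
        by_contra h
        exact hbig ⟨i, hi, not_lt.1 h⟩
      have h3 : -2 < c i := by nlinarith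
      have h4 : c i < 2 := by nlinarith
      have h0 : c i ≠ 0 := ((hmemS i).1 hi).2
      omega
    have hcard : S.card = 4 := by
      have h : ∑ i ∈ S, c i ^ 2 = ∑ i ∈ S, (1 : ℤ) := by
        apply Finset.sum_congr rfl
        intro i hi
        rcases hc1 i hi with h | h <;> rw [h] <;> norm_num
      rw [hcS, Finset.sum_const, nsmul_eq_mul, mul_one] at h
      exact_mod_cast h.symm
    let e : Fin 4 ≃ S := (S.equivFinOfCardEq hcard).symm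
    have hS4 : ∀ (M : Type) [AddCommMonoid M] (f : I → M),
        ∑ i ∈ S, f i = f (e 0) + f (e 1) + f (e 2) + f (e 3) := by
      intro M _ f
      rw [← Finset.sum_coe_sort S f, ← Equiv.sum_comp e (fun i : S => f i), Fin.sum_univ_four]
    have hk : ∀ k : Fin 4, ((e k : S) : I) ∈ S := fun k => (e k).2
    -- the hypotheses of `hnum`
    have hdc' := hsplit ℤ (fun i => (d i : ℤ) * c i) (fun i hi => by simp [hi])
    rw [hdc, hS4 ℤ, hd0, hc0] at hdc'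
    have hsq' := hlow (fun i => (d i : ℤ) ^ 2) (fun i => by positivity)
    rw [hsq, hS4 ℤ, hd0] at hsq'
    have hs2' := hlow (fun i => s i ^ 2) (fun i => by positivity)
    rw [hs2, hS4 ℤ, hs0] at hs2'
    have hmul' := hsplit ℚ (fun i => (s i : ℚ) ^ 2 * (c i : ℚ) / (d i : ℚ))
      (fun i hi => by simp [hi])
    rw [hS4 ℚ, hd0, hc0, hs0] at hmul'
    refine hnum (d (e 0)) (d (e 1)) (d (e 2)) (d (e 3)) (c (e 0)) (c (e 1)) (c (e 2)) (c (e 3))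
      (s (e 0)) (s (e 1)) (s (e 2)) (s (e 3)) T (hdvd _) (hdvd _) (hdvd _) (hdvd _)
      (hdS _ (hk 0)) (hdS _ (hk 1)) (hdS _ (hk 2)) (hdS _ (hk 3))
      (hc1 _ (hk 0)) (hc1 _ (hk 1)) (hc1 _ (hk 2)) (hc1 _ (hk 3))
      (h5 _) (h5 _) (h5 _) (h5 _) ?_ ?_ (hm _) (hm _) (hm _) (hm _) ?_ ?_
    · push_cast at hdc'
      linarith
    · have : (1 : ℤ) + (d (e 0) : ℤ) ^ 2 + (d (e 1) : ℤ) ^ 2 + (d (e 2) : ℤ) ^ 2 + (d (e 3) : ℤ) ^ 2
          ≤ 4320 := by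
        push_cast at hsq'
        linarith
      exact_mod_cast this
    · linarith
    · rw [hmul, hmul']
      push_cast
      ring

end Cfsg.Agent.Helper46.O4320
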