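import Mathlib

set_option autoImplicit false

/-!
O4320 lemma server (helper50, S0977), piece (B2f2) `b2_numeric`, by helper46: pure arithmetic.
-/

namespace Cfsg.Agent.Helper46.O4320

/-- the admissible pairs `(d, c)` -/
def h46_dc : List (ℕ × ℤ) := [(4, -1), (6, 1), (9, -1), (16, 1), (24, -1), (36, 1), (54, -1)]

/-- the admissible values of `s ^ 2` for a given degree -/
def h46_ts (d : ℕ) : List ℤ :=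
  if d = 4 then [0] else if d = 6 then [0, 4] else if d = 9 then [1]
  else if d = 16 then [0, 4, 16] else if d = 24 then [0, 4, 16]
  else if d = 36 then [0, 4, 16, 36, 64] else [0, 4, 16, 36, 64, 100]

set_option maxRecDepth 100000 in
/-- the finite check -/
theorem h46_core : ∀ q1 ∈ h46_dc, ∀ q2 ∈ h46_dc, ∀ q3 ∈ h46_dc, ∀ q4 ∈ h46_dc,
    1 + (q1.1 : ℤ) * q1.2 + (q2.1 : ℤ) * q2.2 + (q3.1 : ℤ) * q3.2 + (q4.1 : ℤ) * q4.2 = 0 →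
    ∀ t1 ∈ h46_ts q1.1, ∀ t2 ∈ h46_ts q2.1, ∀ t3 ∈ h46_ts q3.1, ∀ t4 ∈ h46_ts q4.1,
      4320 + t1 * q1.2 * ((4320 / q1.1 : ℕ) : ℤ) + t2 * q2.2 * ((4320 / q2.1 : ℕ) : ℤ) +
          t3 * q3.2 * ((4320 / q3.1 : ℕ) : ℤ) + t4 * q4.2 * ((4320 / q4.1 : ℕ) : ℤ) < 12500 ∧
      ∀ T : ℕ, T < 50 → 1 + t1 + t2 + t3 + t4 ≤ (T : ℤ) →
        5 * ((T : ℤ) * (T : ℤ)) ≠
          4320 + t1 * q1.2 * ((4320 / q1.1 : ℕ) : ℤ) + t2 * q2.2 * ((4320 / q2.1 : ℕ) : ℤ) +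
            t3 * q3.2 * ((4320 / q3.1 : ℕ) : ℤ) + t4 * q4.2 * ((4320 / q4.1 : ℕ) : ℤ) := by
  decide +kernel

/-- classification of a single degree -/
theorem h46_classify (d : ℕ) (c s : ℤ) (hd : d ∣ 4320) (h1 : 1 < d) (hle : d ≤ 65)
    (hc : c = 1 ∨ c = -1) (h5 : (5 : ℤ) ∣ (d : ℤ) - c)
    (hm : ∃ m₁ m₂ : ℕ, 10 * (m₁ : ℤ) = (d : ℤ) + 4 * c + 5 * s ∧
      10 * (m₂ : ℤ) = (d : ℤ) + 4 * c - 5 * s) :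
    (d, c) ∈ h46_dc ∧ s ^ 2 ∈ h46_ts d := by
  obtain ⟨m₁, m₂, hm1, hm2⟩ := hm
  interval_cases d
  all_goals
    first
    | omega
    | (rcases hc with rfl | rfl
       all_goals
         first
         | omega
         | (have hs1 : -10 ≤ s := by omega
            have hs2 : s ≤ 10 := by omega
            interval_cases s
            all_goals first | omega | decide))

/-- (B2f2) -/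
theorem b2_numeric (d1 d2 d3 d4 : ℕ) (c1 c2 c3 c4 s1 s2 s3 s4 : ℤ) (T : ℕ)
    (hd1 : d1 ∣ 4320) (hd2 : d2 ∣ 4320) (hd3 : d3 ∣ 4320) (hd4 : d4 ∣ 4320)
    (h1 : 1 < d1) (h2 : 1 < d2) (h3 : 1 < d3) (h4 : 1 < d4)
    (hc1 : c1 = 1 ∨ c1 = -1) (hc2 : c2 = 1 ∨ c2 = -1) (hc3 : c3 = 1 ∨ c3 = -1) (hc4 : c4 = 1 ∨ c4 = -1)
    (h51 : (5 : ℤ) ∣ (d1 : ℤ) - c1) (h52 : (5 : ℤ) ∣ (d2 : ℤ) - c2) (h53 : (5 : ℤ) ∣ (d3 : ℤ) - c3)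
    (h54 : (5 : ℤ) ∣ (d4 : ℤ) - c4)
    (hdc : 1 + (d1 : ℤ) * c1 + (d2 : ℤ) * c2 + (d3 : ℤ) * c3 + (d4 : ℤ) * c4 = 0)
    (hsq : 1 + d1 ^ 2 + d2 ^ 2 + d3 ^ 2 + d4 ^ 2 ≤ 4320)
    (hm1 : ∃ m₁ m₂ : ℕ, 10 * (m₁ : ℤ) = (d1 : ℤ) + 4 * c1 + 5 * s1 ∧ 10 * (m₂ : ℤ) = (d1 : ℤ) + 4 * c1 - 5 * s1)
    (hm2 : ∃ m₁ m₂ : ℕ, 10 * (m₁ : ℤ) = (d2 : ℤ) + 4 * c2 + 5 * s2 ∧ 10 * (m₂ : ℤ) = (d2 : ℤ) + 4 * c2 - 5 * s2)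
    (hm3 : ∃ m₁ m₂ : ℕ, 10 * (m₁ : ℤ) = (d3 : ℤ) + 4 * c3 + 5 * s3 ∧ 10 * (m₂ : ℤ) = (d3 : ℤ) + 4 * c3 - 5 * s3)
    (hm4 : ∃ m₁ m₂ : ℕ, 10 * (m₁ : ℤ) = (d4 : ℤ) + 4 * c4 + 5 * s4 ∧ 10 * (m₂ : ℤ) = (d4 : ℤ) + 4 * c4 - 5 * s4)
    (hT : 1 + s1 ^ 2 + s2 ^ 2 + s3 ^ 2 + s4 ^ 2 ≤ (T : ℤ))
    (hmul : 5 * (T : ℚ) ^ 2 = 4320 * (1 + (s1 : ℚ) ^ 2 * c1 / d1 + (s2 : ℚ) ^ 2 * c2 / d2 +
      (s3 : ℚ) ^ 2 * c3 / d3 + (s4 : ℚ) ^ 2 * c4 / d4)) : False := by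
  have hb1 : d1 ≤ 65 := by nlinarith
  have hb2 : d2 ≤ 65 := by nlinarith
  have hb3 : d3 ≤ 65 := by nlinarith
  have hb4 : d4 ≤ 65 := by nlinarith
  obtain ⟨hq1, ht1⟩ := h46_classify d1 c1 s1 hd1 h1 hb1 hc1 h51 hm1
  obtain ⟨hq2, ht2⟩ := h46_classify d2 c2 s2 hd2 h2 hb2 hc2 h52 hm2
  obtain ⟨hq3, ht3⟩ := h46_classify d3 c3 s3 hd3 h3 hb3 hc3 h53 hm3
  obtain ⟨hq4, ht4⟩ := h46_classify d4 c4 s4 hd4 h4 hb4 hc4 h54 hm4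
  have e : ∀ d : ℕ, d ∣ 4320 → 1 < d → ((4320 / d : ℕ) : ℚ) = 4320 / (d : ℚ) := by
    intro d hd h
    have hd0 : (d : ℚ) ≠ 0 := by positivity
    rw [Nat.cast_div hd hd0]
    norm_num
  obtain ⟨e1, he1⟩ : ∃ e1 : ℕ, e1 = 4320 / d1 := ⟨_, rfl⟩
  obtain ⟨e2, he2⟩ : ∃ e2 : ℕ, e2 = 4320 / d2 := ⟨_, rfl⟩
  obtain ⟨e3, he3⟩ : ∃ e3 : ℕ, e3 = 4320 / d3 := ⟨_, rfl⟩
  obtain ⟨e4, he4⟩ : ∃ e4 : ℕ, e4 = 4320 / d4 := ⟨_, rfl⟩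
  have hKq : 5 * ((T : ℚ) * (T : ℚ)) =
      4320 + (s1 : ℚ) ^ 2 * c1 * (e1 : ℚ) + (s2 : ℚ) ^ 2 * c2 * (e2 : ℚ) +
        (s3 : ℚ) ^ 2 * c3 * (e3 : ℚ) + (s4 : ℚ) ^ 2 * c4 * (e4 : ℚ) := by
    rw [he1, he2, he3, he4, e d1 hd1 h1, e d2 hd2 h2, e d3 hd3 h3, e d4 hd4 h4, ← sq, hmul]
    ring
  have hK' : 5 * ((T : ℤ) * (T : ℤ)) =
      4320 + s1 ^ 2 * c1 * (e1 : ℤ) + s2 ^ 2 * c2 * (e2 : ℤ) +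
        s3 ^ 2 * c3 * (e3 : ℤ) + s4 ^ 2 * c4 * (e4 : ℤ) := by
    apply Int.cast_injective (α := ℚ)
    push_cast
    linarith [hKq]
  have hK : 5 * ((T : ℤ) * (T : ℤ)) =
      4320 + s1 ^ 2 * c1 * ((4320 / d1 : ℕ) : ℤ) + s2 ^ 2 * c2 * ((4320 / d2 : ℕ) : ℤ) +
        s3 ^ 2 * c3 * ((4320 / d3 : ℕ) : ℤ) + s4 ^ 2 * c4 * ((4320 / d4 : ℕ) : ℤ) := by
    rw [← he1, ← he2, ← he3, ← he4]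
    exact hK'
  obtain ⟨hlt, hne⟩ := h46_core (d1, c1) hq1 (d2, c2) hq2 (d3, c3) hq3 (d4, c4) hq4 hdc
    (s1 ^ 2) ht1 (s2 ^ 2) ht2 (s3 ^ 2) ht3 (s4 ^ 2) ht4
  have hT50 : T < 50 := by
    by_contra hcon
    have h50 : (50 : ℤ) ≤ (T : ℤ) := by exact_mod_cast not_lt.1 hcon
    have : (5 : ℤ) * ((T : ℤ) * (T : ℤ)) ≥ 12500 := by nlinarith
    rw [hK] at this
    simp only at hlt
    omega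
  exact hne T hT50 hT hK

end Cfsg.Agent.Helper46.O4320
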