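import Mathlib
import Cfsg.Agent.Lib.Helper74.M11Defs
import Cfsg.Agent.S1017
import Cfsg.Agent.Lib.Helper17.PrimeSylow
import Cfsg.Agent.Lib.Helper17.FixedCount
import Cfsg.Agent.Lib.Helper17.ConjCount

set_option autoImplicit false
set_option linter.unusedSectionVars false

/-!
# O5040 (C112) for helper74's server (S0978): `n_7 = 36`, an involution with `|C(u)| = 112`
-/

namespace Cfsg.Agent.Helper46.O5040

open Cfsg.Agent.Helper74.M11

variable {G : Type*} [Group G] [Finite G]

theorem h46_sigma_ext {p : ℕ} (H : Subgroup G)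
    (P Q : {Q : Sylow p G // (Q : Subgroup G) ≤ H})
    (x : {x : ↥(P.1 : Subgroup G) // x ≠ 1}) (y : {y : ↥(Q.1 : Subgroup G) // y ≠ 1}) (hPQ : P = Q)
    (hxy : (x.1.1 : G) = y.1.1) :
    (⟨P, x⟩ : Σ P : {Q : Sylow p G // (Q : Subgroup G) ≤ H},
      {x : ↥(P.1 : Subgroup G) // x ≠ 1}) = ⟨Q, y⟩ := by
  subst hPQ
  congr
  exact Subtype.ext (Subtype.ext hxy)

/-- the number of elements of order `p` inside `H`, if Sylow `p`-subgroups have order `p` -/
theorem h46_card_orderOf_in {p : ℕ} [hp : Fact p.Prime] (H : Subgroup G)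
    (h : ∀ P : Sylow p G, Nat.card (P : Subgroup G) = p) :
    Nat.card {g : G // g ∈ H ∧ orderOf g = p} =
      Nat.card {Q : Sylow p G // (Q : Subgroup G) ≤ H} * (p - 1) := by
  classical
  have := Fintype.ofFinite {Q : Sylow p G // (Q : Subgroup G) ≤ H}
  have hp1 : p ≠ 1 := hp.out.one_lt.ne'
  have hne : ∀ g : {g : G // g ∈ H ∧ orderOf g = p}, g.1 ≠ 1 := by
    intro g h2
    have h3 := g.2.2
    rw [h2, orderOf_one] at h3
    exact hp1 h3.symm
  let e : {g : G // g ∈ H ∧ orderOf g = p} ≃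
      Σ P : {Q : Sylow p G // (Q : Subgroup G) ≤ H}, {x : ↥(P.1 : Subgroup G) // x ≠ 1} :=
    { toFun := fun g =>
        ⟨⟨Classical.choose (Cfsg.Agent.Helper17.exists_sylow_mem_of_orderOf g.1 g.2.2), by
            have hQ := Classical.choose_spec
              (Cfsg.Agent.Helper17.exists_sylow_mem_of_orderOf g.1 g.2.2)
            rw [← (Cfsg.Agent.Helper17.zpowers_eq_of_card_prime _ (h _) g.1 hQ (hne g)).1]
            exact (Subgroup.zpowers_le).2 g.2.1⟩,
          ⟨⟨g.1, Classical.choose_spec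
            (Cfsg.Agent.Helper17.exists_sylow_mem_of_orderOf g.1 g.2.2)⟩, by
            intro h1
            exact hne g (congrArg Subtype.val h1)⟩⟩
      invFun := fun x =>
        ⟨x.2.1.1, x.1.2 x.2.1.2,
          (Cfsg.Agent.Helper17.zpowers_eq_of_card_prime _ (h x.1.1) x.2.1.1 x.2.1.2 (by
            intro h1
            apply x.2.2
            exact Subtype.ext h1)).2⟩
      left_inv := fun g => rfl
      right_inv := by
        rintro ⟨⟨P, hPH⟩, ⟨⟨x, hx⟩, hx1⟩⟩
        have hx1' : x ≠ 1 := fun h1 => hx1 (Subtype.ext h1)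
        have hord : orderOf x = p :=
          (Cfsg.Agent.Helper17.zpowers_eq_of_card_prime _ (h P) x hx hx1').2
        have hQ := Classical.choose_spec (Cfsg.Agent.Helper17.exists_sylow_mem_of_orderOf x hord)
        have hPQ : Classical.choose (Cfsg.Agent.Helper17.exists_sylow_mem_of_orderOf x hord) = P := by
          apply Sylow.ext
          rw [← (Cfsg.Agent.Helper17.zpowers_eq_of_card_prime _ (h P) x hx hx1').1,
            ← (Cfsg.Agent.Helper17.zpowers_eq_of_card_prime _ (h _) x hQ hx1').1]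
        exact h46_sigma_ext H _ _ _ _ (Subtype.ext hPQ) rfl }
  rw [Nat.card_congr e, Nat.card_sigma]
  have : ∀ P : {Q : Sylow p G // (Q : Subgroup G) ≤ H},
      Nat.card {x : ↥(P.1 : Subgroup G) // x ≠ 1} = p - 1 := by
    intro P
    rw [Cfsg.Agent.Helper17.card_ne_subtype, h P.1]
  simp only [this, Finset.sum_const, Finset.card_univ, smul_eq_mul, Nat.card_eq_fintype_card]

/-- disjointness count: conjugates of `u` in `H`, the identity, the elements of order 7 and their
products with the central involution `u` -/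
theorem h46_bound (H : Subgroup G) (u : G) (hu : orderOf u = 2) (huH : u ∈ H)
    (huc : ∀ h ∈ H, h * u = u * h) :
    Nat.card {g : G // IsConj u g ∧ g ∈ H} + 1 +
      (Nat.card {g : G // g ∈ H ∧ orderOf g = 7} + Nat.card {g : G // g ∈ H ∧ orderOf g = 7}) ≤
      Nat.card H := by
  classical
  have hu2 : u ^ 2 = 1 := by rw [← hu]; exact pow_orderOf_eq_one u
  have hu1 : u ≠ 1 := by
    intro h; rw [h, orderOf_one] at hu; omega
  have hu7 : u ^ 7 = u := by
    have : u ^ 7 = (u ^ 2) ^ 3 * u := by rw [← pow_mul, ← pow_succ]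
    rw [this, hu2, one_pow, one_mul]
  have ht : ∀ t : {g : G // IsConj u g ∧ g ∈ H}, t.1 ^ 2 = 1 ∧ t.1 ≠ 1 := by
    intro t
    have ho : orderOf t.1 = 2 := by
      rw [← Cfsg.Agent.Helper17.orderOf_eq_of_isConj t.2.1]; exact hu
    refine ⟨by rw [← ho]; exact pow_orderOf_eq_one _, ?_⟩
    intro h; rw [h, orderOf_one] at ho; omega
  have ha : ∀ a : {g : G // g ∈ H ∧ orderOf g = 7}, a.1 ^ 7 = 1 ∧ a.1 ^ 2 ≠ 1 ∧ a.1 ≠ 1 := by
    intro a
    refine ⟨by have h7 := pow_orderOf_eq_one a.1; rwa [a.2.2] at h7, ?_, ?_⟩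
    · intro h
      have := orderOf_dvd_of_pow_eq_one h
      rw [a.2.2] at this
      omega
    · intro h
      have := a.2.2
      rw [h, orderOf_one] at this
      omega
  have hua : ∀ a : {g : G // g ∈ H ∧ orderOf g = 7},
      (u * a.1) ^ 7 = u ∧ (u * a.1) ^ 2 = a.1 ^ 2 := by
    intro a
    have hc : Commute u a.1 := (huc a.1 a.2.1).symm
    refine ⟨by rw [hc.mul_pow, hu7, (ha a).1, mul_one], by rw [hc.mul_pow, hu2, one_mul]⟩
  let F : {g : G // IsConj u g ∧ g ∈ H} ⊕ (Unit ⊕ ({g : G // g ∈ H ∧ orderOf g = 7} ⊕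
      {g : G // g ∈ H ∧ orderOf g = 7})) → G := fun s => match s with
    | Sum.inl t => t.1
    | Sum.inr (Sum.inl _) => 1
    | Sum.inr (Sum.inr (Sum.inl a)) => a.1
    | Sum.inr (Sum.inr (Sum.inr a)) => u * a.1
  have hFH : ∀ s, F s ∈ H := by
    rintro (t | _ | a | a)
    · exact t.2.2
    · exact H.one_mem
    · exact a.2.1
    · exact H.mul_mem huH a.2.1
  have hF : Function.Injective F := by
    rintro (t | _ | a | a) (t' | _ | a' | a') h
    · exact congrArg Sum.inl (Subtype.ext h)
    · exact absurd h (ht t).2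
    · exfalso
      have h1 : t.1 = a'.1 := h
      exact (ha a').2.1 (h1 ▸ (ht t).1)
    · exfalso
      have h1 : t.1 = u * a'.1 := h
      have h2 := (ht t).1
      rw [h1, (hua a').2] at h2
      exact (ha a').2.1 h2
    · exact absurd h.symm (ht t').2
    · rfl
    · exfalso
      have h1 : (1 : G) = a'.1 := h
      exact (ha a').2.2 h1.symm
    · exfalso
      have h1 : (1 : G) = u * a'.1 := h
      have h2 := (hua a').2
      rw [← h1, one_pow] at h2
      exact (ha a').2.1 h2.symm
    · exfalso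
      have h1 : a.1 = t'.1 := h
      exact (ha a).2.1 (h1 ▸ (ht t').1)
    · exfalso
      have h1 : a.1 = (1 : G) := h
      exact (ha a).2.2 h1
    · have h1 : a.1 = a'.1 := h
      exact congrArg (fun z => Sum.inr (Sum.inr (Sum.inl z))) (Subtype.ext h1)
    · exfalso
      have h1 : a.1 = u * a'.1 := h
      have h2 := (ha a).1
      rw [h1, (hua a').1] at h2
      exact hu1 h2
    · exfalso
      have h1 : u * a.1 = t'.1 := h
      have h2 := (ht t').1
      rw [← h1, (hua a).2] at h2
      exact (ha a).2.1 h2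
    · exfalso
      have h1 : u * a.1 = (1 : G) := h
      have h2 := (hua a).2
      rw [h1, one_pow] at h2
      exact (ha a).2.1 h2.symm
    · exfalso
      have h1 : u * a.1 = a'.1 := h
      have h2 := (ha a').1
      rw [← h1, (hua a).1] at h2
      exact hu1 h2
    · have h1 : u * a.1 = u * a'.1 := h
      exact congrArg (fun z => Sum.inr (Sum.inr (Sum.inr z))) (Subtype.ext (mul_left_cancel h1))
  have hinj : Function.Injective (fun s => (⟨F s, hFH s⟩ : H)) := by
    intro s s' h
    exact hF (congrArg Subtype.val h)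
  have hle := Nat.card_le_card_of_injective _ hinj
  rw [Nat.card_sum, Nat.card_sum, Nat.card_sum] at hle
  have h1 : Nat.card Unit = 1 := Nat.card_unique
  omega

theorem h46_invol_unique {K : Type*} [Group K] [Finite K] [IsCyclic K] (a b : K)
    (ha : a ^ 2 = 1) (hb : b ^ 2 = 1) (ha1 : a ≠ 1) (hb1 : b ≠ 1) : a = b := by
  classical
  have := Fintype.ofFinite K
  by_contra hab
  have h := IsCyclic.card_pow_eq_one_le (α := K) (n := 2) (by norm_num)
  have hsub : ({1, a, b} : Finset K) ⊆ Finset.univ.filter (fun x => x ^ 2 = 1) := by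
    intro z hz
    simp only [Finset.mem_insert, Finset.mem_singleton] at hz
    rcases hz with rfl | rfl | rfl <;> simp [ha, hb]
  have hcard : ({1, a, b} : Finset K).card = 3 := by
    rw [Finset.card_insert_of_notMem, Finset.card_insert_of_notMem, Finset.card_singleton]
    · simpa using hab
    · simp only [Finset.mem_insert, Finset.mem_singleton, not_or]
      exact ⟨fun h => ha1 h.symm, fun h => hb1 h.symm⟩
  have := Finset.card_le_card hsub
  omega

/-! ### (C112) -/
theorem false_of_112 [IsSimpleGroup G] (hG : Nat.card G = 5040) (P : Sylow 7 G)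
    (hiso : ∀ (S : Sylow 2 G) (u : G), orderOf u = 2 → u ∈ S →
      (∀ g : G, g * u * g⁻¹ ∈ S → g * u * g⁻¹ = u) → False)
    (u : G) (hu : orderOf u = 2) (huP : u ∈ CenS (P : Subgroup G))
    (hC : Nat.card (Cen u) = 112)
    (hNC : Nat.card (NorS (P : Subgroup G) ⊓ Cen u : Subgroup G) = 14) : False := by
  classical
  have h7all : ∀ Q : Sylow 7 G, Nat.card (Q : Subgroup G) = 7 := fun Q => by
    have := Cfsg.Agent.S1017.sylow_card_eq Q 1 720 (by rw [hG]; norm_num) (by norm_num)
    simpa using this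
  have hu2 : u ^ 2 = 1 := by rw [← hu]; exact pow_orderOf_eq_one u
  have hu1 : u ≠ 1 := by
    intro h; rw [h, orderOf_one] at hu; omega
  set H : Subgroup G := Cen u with hH
  have hmemH : ∀ y : G, y ∈ H ↔ u * y = y * u := by
    intro y
    rw [hH, Subgroup.mem_centralizer_iff]
    constructor
    · intro h; exact h u (Set.mem_singleton u)
    · intro h z hz; rw [Set.mem_singleton_iff.mp hz]; exact h
  have huH : u ∈ H := (hmemH u).2 rfl
  have huc : ∀ h ∈ H, h * u = u * h := fun h hh => ((hmemH h).1 hh).symm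
  have hPu : ∀ y ∈ (P : Subgroup G), y * u = u * y := fun y hy =>
    (Subgroup.mem_centralizer_iff.mp huP) y hy
  have hPH : (P : Subgroup G) ≤ H := fun y hy => (hmemH y).2 (hPu y hy).symm
  -- m = 8
  have hm := Cfsg.Agent.S1017.card_eq_card_mul H P hPH
  have hNC' : Nat.card ↥(Subgroup.normalizer ((P : Subgroup G) : Set G) ⊓ H) = 14 := hNC
  rw [hC, hNC'] at hm
  have hm8 : Nat.card {Q : Sylow 7 G // (Q : Subgroup G) ≤ H} = 8 := by omega
  have hA := h46_card_orderOf_in H h7all
  rw [hm8] at hA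
  have hbound := h46_bound H u hu huH huc
  rw [hA, hC] at hbound
  have hc15 : Nat.card {g : G // IsConj u g ∧ g ∈ H} ≤ 15 := by omega
  have hidx : H.index = 45 := by
    have := Subgroup.card_mul_index H
    rw [hC, hG] at this
    omega
  have hα : Nat.card (G ⧸ H) = 45 := by rw [← Subgroup.index_eq_card]; exact hidx
  have hcls : Nat.card {g : G // IsConj u g} = 45 := by
    have h1 := Cfsg.Agent.Helper17.card_carrier_mul_card_centralizer u
    have h2 : Nat.card (ConjClasses.mk u).carrier = Nat.card {g : G // IsConj u g} := by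
      apply Nat.card_congr
      exact Equiv.subtypeEquivRight (fun g => by
        rw [ConjClasses.mem_carrier_iff_mk_eq, ConjClasses.mk_eq_mk_iff_isConj]
        exact isConj_comm)
    have h3 : Nat.card (Subgroup.centralizer ({u} : Set G)) = 112 := hC
    rw [h2, h3, hG] at h1
    omega
  have hf := Cfsg.Agent.Helper17.card_fixedBy_mul_card_conj H u
  rw [hcls, hidx] at hf
  have hfc : Nat.card (MulAction.fixedBy (G ⧸ H) u) =
      Nat.card {g : G // IsConj u g ∧ g ∈ H} := by omega
  have h4 := Cfsg.Agent.S1017.card_fixedBy_mod_four (by rw [hG]; norm_num) (α := G ⧸ H) u hu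
  -- a generator of P
  obtain ⟨x, hxP, hx1⟩ : ∃ x ∈ (P : Subgroup G), x ≠ 1 := by
    by_contra hcon
    push Not at hcon
    have hbot : (P : Subgroup G) = ⊥ := (Subgroup.eq_bot_iff_forall _).2 hcon
    have := h7all P
    rw [hbot, Subgroup.card_bot] at this
    omega
  have hx := Cfsg.Agent.Helper17.zpowers_eq_of_card_prime _ (h7all P) x hxP hx1
  have hxu : Commute x u := hPu x hxP
  have hxH : x ∈ H := hPH hxP
  have h7 := Cfsg.Agent.S1017.card_fixedBy_modEq_inter (α := G ⧸ H) x u hxu hx.2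
  -- the group K = N(P) ⊓ H is cyclic of order 14
  set K : Subgroup G := Subgroup.normalizer ((P : Subgroup G) : Set G) ⊓ H with hK
  have hxK : x ∈ K := ⟨Subgroup.le_normalizer hxP, hxH⟩
  have huK : u ∈ K := ⟨Subgroup.centralizer_le_normalizer _ huP, huH⟩
  have hxuK : x * u ∈ K := K.mul_mem hxK huK
  have hord : orderOf (x * u) = 14 := by
    rw [hxu.orderOf_mul_eq_mul_orderOf_of_coprime (by rw [hx.2, hu]; norm_num), hx.2, hu]
  have hcyc : IsCyclic ↥K := by
    apply isCyclic_of_orderOf_eq_card (⟨x * u, hxuK⟩ : ↥K)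
    rw [Subgroup.orderOf_mk, hord, hNC']
  -- the fixed points
  have hinter : MulAction.fixedBy (G ⧸ H) u ∩ MulAction.fixedBy (G ⧸ H) x =
      {((1 : G) : G ⧸ H)} := by
    ext q
    constructor
    · rintro ⟨hqu, hqx⟩
      obtain ⟨g, rfl⟩ := QuotientGroup.mk_surjective q
      rw [MulAction.mem_fixedBy] at hqu hqx
      have hgx : g⁻¹ * x * g ∈ H := (Cfsg.Agent.Helper17.smul_mk_eq_iff H x g).1 hqx
      have hQH : (((g⁻¹ • P : Sylow 7 G)) : Subgroup G) ≤ H := by
        intro y hy
        rw [Cfsg.Agent.S1017.mem_smul_sylow_iff, inv_inv] at hy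
        rw [← hx.1] at hy
        obtain ⟨k, hk⟩ := Subgroup.mem_zpowers_iff.mp hy
        have hy2 : y = (g⁻¹ * x * g) ^ k := by
          have : (g⁻¹ * x * g) ^ k = g⁻¹ * x ^ k * g := by
            have h1 : g⁻¹ * x * g = (MulAut.conj g⁻¹) x := by simp
            have h2 : g⁻¹ * x ^ k * g = (MulAut.conj g⁻¹) (x ^ k) := by simp
            rw [h1, h2, map_zpow]
          rw [this, hk]
          group
        rw [hy2]
        exact H.zpow_mem hgx k
      obtain ⟨h, hh⟩ := MulAction.exists_smul_eq ↥H (P.subtype hPH)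
        ((g⁻¹ • P : Sylow 7 G).subtype hQH)
      rw [Sylow.smul_subtype] at hh
      have hh' : h • P = g⁻¹ • P := Sylow.subtype_injective hh
      have hnP : (g * (h : G)) • P = P := by
        rw [mul_smul]
        have : (h : G) • P = g⁻¹ • P := hh'
        rw [this, smul_smul, mul_inv_cancel, one_smul]
      set n := g * (h : G) with hn
      have hnN : n ∈ Subgroup.normalizer ((P : Subgroup G) : Set G) :=
        Sylow.smul_eq_iff_mem_normalizer.mp hnP
      have hgn : ((g : G) : G ⧸ H) = ((n : G) : G ⧸ H) := by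
        rw [QuotientGroup.eq, hn, ← mul_assoc, inv_mul_cancel, one_mul]
        exact h.2
      rw [hgn] at hqu ⊢
      have hnu : n⁻¹ * u * n ∈ H := (Cfsg.Agent.Helper17.smul_mk_eq_iff H u n).1 hqu
      have htK : n⁻¹ * u * n ∈ K := by
        refine ⟨?_, hnu⟩
        exact Subgroup.mul_mem _ (Subgroup.mul_mem _ (Subgroup.inv_mem _ hnN)
          (Subgroup.centralizer_le_normalizer _ huP)) hnN
      have ht2 : (n⁻¹ * u * n) ^ 2 = 1 := by
        have : (n⁻¹ * u * n) ^ 2 = n⁻¹ * u ^ 2 * n := by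
          rw [pow_two, pow_two]; simp [mul_assoc]
        rw [this, hu2]; simp
      have ht1 : n⁻¹ * u * n ≠ 1 := by
        intro h1
        apply hu1
        have : u = n * (n⁻¹ * u * n) * n⁻¹ := by group
        rw [this, h1]; group
      have heq := h46_invol_unique (K := ↥K) ⟨n⁻¹ * u * n, htK⟩ ⟨u, huK⟩
        (Subtype.ext ht2) (Subtype.ext hu2) (fun h1 => ht1 (congrArg Subtype.val h1))
        (fun h1 => hu1 (congrArg Subtype.val h1))
      have heq' : n⁻¹ * u * n = u := congrArg Subtype.val heq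
      have hnH : n ∈ H := by
        rw [hmemH]
        have : u * n = n * (n⁻¹ * u * n) := by group
        rw [this, heq']
      rw [Set.mem_singleton_iff, QuotientGroup.eq]
      simpa using H.inv_mem hnH
    · intro hq
      rw [Set.mem_singleton_iff] at hq
      rw [hq]
      exact ⟨Cfsg.Agent.S1017.coset_fixed H u huH, Cfsg.Agent.S1017.coset_fixed H x hxH⟩
  have hinter1 : Nat.card ↥(MulAction.fixedBy (G ⧸ H) u ∩ MulAction.fixedBy (G ⧸ H) x) = 1 := by
    rw [hinter]
    simp
  -- |Fix u| = 1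
  have hf1 : Nat.card (MulAction.fixedBy (G ⧸ H) u) = 1 := by
    rw [hinter1] at h7
    rw [hα] at h4
    unfold Nat.ModEq at h4 h7
    omega
  have hfix : ∀ q ∈ MulAction.fixedBy (G ⧸ H) u, q = ((1 : G) : G ⧸ H) := by
    intro q hq
    have hsub : Subsingleton ↥(MulAction.fixedBy (G ⧸ H) u) :=
      (Nat.card_eq_one_iff_unique.mp hf1).1
    have := Subsingleton.elim (⟨q, hq⟩ : ↥(MulAction.fixedBy (G ⧸ H) u))
      ⟨_, Cfsg.Agent.S1017.coset_fixed H u huH⟩
    exact congrArg Subtype.val this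
  -- a Sylow 2-subgroup of G inside H containing u
  have hpg : IsPGroup 2 (Subgroup.zpowers (⟨u, huH⟩ : ↥H)) := by
    apply IsPGroup.of_card (n := 1)
    rw [Nat.card_zpowers, Subgroup.orderOf_mk, hu, pow_one]
  obtain ⟨T, hT⟩ := hpg.exists_le_sylow
  have hTcard : Nat.card (T : Subgroup ↥H) = 2 ^ 4 :=
    Cfsg.Agent.S1017.sylow_card_eq T 4 7 (by rw [hC]; norm_num) (by norm_num)
  obtain ⟨S₀⟩ : Nonempty (Sylow 2 G) := inferInstance
  have hS₀ : Nat.card (S₀ : Subgroup G) = 2 ^ 4 :=
    Cfsg.Agent.S1017.sylow_card_eq S₀ 4 315 (by rw [hG]; norm_num) (by norm_num)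
  have hT'card : Nat.card ((T : Subgroup ↥H).map H.subtype) = 2 ^ 4 := by
    rw [Subgroup.card_map_of_injective H.subtype_injective, hTcard]
  set S : Sylow 2 G := Sylow.ofCard ((T : Subgroup ↥H).map H.subtype)
    (by rw [hT'card, ← hS₀, S₀.card_eq_multiplicity]) with hS
  have hSH : ∀ y ∈ S, y ∈ H := by
    intro y hy
    have hy' : y ∈ (T : Subgroup ↥H).map H.subtype := hy
    obtain ⟨z, _, rfl⟩ := Subgroup.mem_map.mp hy'
    exact z.2
  have huS : u ∈ S := by
    show u ∈ (T : Subgroup ↥H).map H.subtype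
    exact Subgroup.mem_map.mpr ⟨⟨u, huH⟩, hT (Subgroup.mem_zpowers _), rfl⟩
  refine hiso S u hu huS ?_
  intro g hg
  have hgH : g * u * g⁻¹ ∈ H := hSH _ hg
  have hfixq : ((g⁻¹ : G) : G ⧸ H) ∈ MulAction.fixedBy (G ⧸ H) u := by
    rw [MulAction.mem_fixedBy, Cfsg.Agent.Helper17.smul_mk_eq_iff, inv_inv]
    exact hgH
  have hq := hfix _ hfixq
  rw [QuotientGroup.eq, inv_inv, mul_one] at hq
  have : u * g = g * u := (hmemH g).1 hq
  rw [← this]; group

end Cfsg.Agent.Helper46.O5040
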