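import Mathlib

set_option autoImplicit false

/-!
O5760 lemma server (helper7, S0980), piece (B2) `card_M`, by helper46.
-/

namespace Cfsg.Agent.Helper46.O5760

universe u v

/-- arithmetic: `a % 5 = 1`, `a * 60 ∣ 5760` leaves `a ∈ {1, 6, 16, 96}` -/
theorem h46b2_arith (a : ℕ) (h5 : a % 5 = 1) (hd : a * 60 ∣ 5760) :
    a = 1 ∨ a = 6 ∨ a = 16 ∨ a = 96 := by
  have h1 : a ∣ 96 := by
    have : a * 60 ∣ 96 * 60 := by simpa using hd
    exact Nat.dvd_of_mul_dvd_mul_right (by norm_num) this
  have h2 : a ≤ 96 := Nat.le_of_dvd (by norm_num) h1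
  interval_cases a <;> simp_all

/-- (B2) -/
theorem card_M {G : Type u} [Group G] [Finite G] [IsSimpleGroup G] (hG : Nat.card G = 5760)
    (R : Sylow 5 G) (hR : Nat.card (R : Subgroup G) = 5)
    (hN : Nat.card (Subgroup.normalizer ((R : Subgroup G) : Set G)) = 60)
    (hidx : ∀ H : Subgroup G, H ≠ ⊤ → 10 ≤ H.index)
    (hover : ∀ Y : Subgroup G, Subgroup.normalizer ((R : Subgroup G) : Set G) ≤ Y →
      ∃ a : ℕ, a % 5 = 1 ∧ Nat.card Y = a * Nat.card (Subgroup.normalizer ((R : Subgroup G) : Set G)))
    (x : G) (hx : orderOf x = 3)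
    (hxN : ∀ n ∈ Subgroup.normalizer ((R : Subgroup G) : Set G), n * x * n⁻¹ ∈ Subgroup.zpowers x) :
    Nat.card (Subgroup.normalizer ((Subgroup.zpowers x : Subgroup G) : Set G)) = 360 := by
  classical
  set M : Subgroup G := Subgroup.normalizer ((Subgroup.zpowers x : Subgroup G) : Set G) with hMdef
  -- conjugation by elements of `N(R)` preserves `zpowers x`
  have hconj : ∀ n ∈ Subgroup.normalizer ((R : Subgroup G) : Set G), ∀ h ∈ Subgroup.zpowers x,
      n * h * n⁻¹ ∈ Subgroup.zpowers x := by
    intro n hn h hh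
    obtain ⟨k, rfl⟩ := Subgroup.mem_zpowers_iff.mp hh
    have : n * x ^ k * n⁻¹ = (n * x * n⁻¹) ^ k := by
      rw [conj_zpow]
    rw [this]
    exact Subgroup.zpow_mem _ (hxN n hn) k
  have hNM : Subgroup.normalizer ((R : Subgroup G) : Set G) ≤ M := by
    intro n hn
    rw [hMdef, Subgroup.mem_normalizer_iff]
    intro h
    constructor
    · intro hh
      exact hconj n hn h hh
    · intro hh
      have := hconj n⁻¹ (Subgroup.inv_mem _ hn) _ hh
      have h2 : n⁻¹ * (n * h * n⁻¹) * n⁻¹⁻¹ = h := by group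
      rwa [h2] at this
  obtain ⟨a, ha5, haM⟩ := hover M hNM
  rw [hN] at haM
  have hMdvd : Nat.card M ∣ 5760 := by
    rw [← hG]; exact Subgroup.card_subgroup_dvd_card M
  rw [haM] at hMdvd
  have hcardx : Nat.card (Subgroup.zpowers x) = 3 := by
    rw [Nat.card_zpowers, hx]
  rcases h46b2_arith a ha5 hMdvd with rfl | rfl | rfl | rfl
  · -- `|M| = 60`: a subgroup of order 9 containing `x` is abelian and lies in `M`
    exfalso
    haveI : Fact (Nat.Prime 3) := ⟨Nat.prime_three⟩
    have hdvd : 3 ^ 2 ∣ Nat.card G := by rw [hG]; norm_num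
    obtain ⟨K, hK, hxK⟩ := Sylow.exists_subgroup_card_pow_prime_le 3 hdvd (Subgroup.zpowers x)
      (by rw [hcardx]; norm_num) (by norm_num : 1 ≤ 2)
    have hcomm : ∀ g h : K, g * h = h * g := IsPGroup.commutative_of_card_eq_prime_sq hK
    have hxmem : x ∈ K := hxK (Subgroup.mem_zpowers x)
    have hKM : K ≤ M := by
      intro g hg
      have hgx : g * x = x * g := by
        have := hcomm ⟨g, hg⟩ ⟨x, hxmem⟩
        exact congrArg Subtype.val this
      have hgh : ∀ h ∈ Subgroup.zpowers x, g * h * g⁻¹ = h := by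
        intro h hh
        obtain ⟨k, rfl⟩ := Subgroup.mem_zpowers_iff.mp hh
        have hc : Commute g (x ^ k) := Commute.zpow_right (show Commute g x from hgx) k
        rw [hc.eq]; group
      rw [hMdef, Subgroup.mem_normalizer_iff]
      intro h
      constructor
      · intro hh
        rw [hgh h hh]; exact hh
      · intro hh
        have h3 := hgh _ hh
        -- g * (g h g⁻¹) * g⁻¹ = g h g⁻¹  ⇒  h = g⁻¹ (g h g⁻¹) g
        have h4 : h = g * h * g⁻¹ := by
          have := congrArg (fun t => g⁻¹ * t * g) h3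
          beta_reduce at this
          have e1 : g⁻¹ * (g * (g * h * g⁻¹) * g⁻¹) * g = g * h * g⁻¹ := by group
          have e2 : g⁻¹ * (g * h * g⁻¹) * g = h := by group
          rw [e1, e2] at this
          exact this.symm
        rw [h4]; exact hh
    have h9 : Nat.card K ∣ Nat.card M := Subgroup.card_dvd_of_le hKM
    rw [hK, haM] at h9
    norm_num at h9
  · -- `|M| = 360`
    rw [haM]
  · -- `|M| = 960`: index 6
    exfalso
    have hMne : M ≠ ⊤ := by
      intro h
      have : Nat.card M = Nat.card G := by rw [h]; exact Subgroup.card_top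
      rw [haM, hG] at this
      norm_num at this
    have h10 := hidx M hMne
    have hmul := Subgroup.card_mul_index M
    rw [haM, hG] at hmul
    have : M.index = 6 := by omega
    omega
  · -- `|M| = 5760`: `zpowers x` is normal
    exfalso
    have hMtop : M = ⊤ := by
      apply Subgroup.eq_top_of_card_eq
      rw [haM, hG]
    haveI : (Subgroup.zpowers x).Normal := Subgroup.normalizer_eq_top_iff.mp hMtop
    rcases (Subgroup.Normal.eq_bot_or_eq_top (H := Subgroup.zpowers x) inferInstance) with h | h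
    · rw [h] at hcardx
      simp at hcardx
    · rw [h, Subgroup.card_top, hG] at hcardx
      norm_num at hcardx

end Cfsg.Agent.Helper46.O5760
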