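import Mathlib
import Cfsg.Prelude.Def_FusionSystem
import Cfsg.Agent.Lib.Helper87.Om7Defs
import Cfsg.Agent.Lib.Helper46.Om7API2b

set_option autoImplicit false
set_option linter.unusedSectionVars false
set_option linter.unusedVariables false

/-!
# OM7 (C4) for helper87's server (S2647): fusion, with (C4a) `refl_pair_eq` as a hypothesis
-/

namespace Cfsg.Agent.Helper46.Om7

open Matrix QuadraticMap Cfsg.Agent.Helper36.QuadInv Cfsg.Agent.Helper36.OmegaTrans
  Cfsg.Agent.Helper43 Cfsg.Agent.Helper87.Om7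

variable {F : Type*} [Field F] [Fintype F] [DecidableEq F] {ι : Type} [Fintype ι] [DecidableEq ι]
variable {Q : QuadraticForm F (ι → F)} {c : F} {f : Fin 7 → ι → F}

theorem h46_polar_act (g : OG F ⇑Q) (u v : ι → F) :
    polar Q (actHom (⇑Q) g u) (actHom (⇑Q) g v) = polar Q u v := by
  unfold polar
  rw [← map_add, Q_act (Q := ⇑Q) g (u + v), Q_act (Q := ⇑Q) g u, Q_act (Q := ⇑Q) g v]

theorem h46_act_reflIso' {v : ι → F} (hv : Q v ≠ 0) (x : ι → F) :
    actHom (⇑Q) (reflIso' Q v) x = x - ((Q v)⁻¹ * polar Q v x) • v := by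
  rw [reflIso'_of_ne Q hv, act_reflIso]

theorem h46_act_inv (g : OG F ⇑Q) (v : ι → F) :
    actHom (⇑Q) g (actHom (⇑Q) g⁻¹ v) = v := by
  rw [← act_mul, mul_inv_cancel, act_one]

/-- conjugating a reflection -/
theorem h46_conj_refl (g : OG F ⇑Q) {v : ι → F} (hv : Q v ≠ 0) :
    g * reflIso' Q v * g⁻¹ = reflIso' Q (actHom (⇑Q) g v) := by
  have hgv : Q (actHom (⇑Q) g v) ≠ 0 := by rw [Q_act (Q := ⇑Q) g v]; exact hv
  apply act_ext
  intro x
  rw [act_mul, act_mul, h46_act_reflIso' hv, h46_act_reflIso' hgv, map_sub, map_smul, h46_act_inv,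
    Q_act (Q := ⇑Q) g v]
  congr 2
  have : polar Q (actHom (⇑Q) g v) x =
      polar Q (actHom (⇑Q) g v) (actHom (⇑Q) g (actHom (⇑Q) g⁻¹ x)) := by rw [h46_act_inv]
  rw [this, h46_polar_act]

theorem h46_Q_comb (x y : ι → F) (α β : F) :
    Q (α • x + β • y) = α * α * Q x + β * β * Q y + α * β * polar Q x y := by
  rw [QuadraticMap.map_add Q, QuadraticMap.map_smul, QuadraticMap.map_smul, polar_smul_left,
    polar_smul_right]
  simp only [smul_eq_mul]
  ring

theorem h46_li (h2 : (2 : F) ≠ 0) {x y : ι → F} (hx : Q x ≠ 0) (hy : Q y ≠ 0)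
    (hxy : polar Q x y = 0) : LinearIndependent F ![x, y] := by
  rw [LinearIndependent.pair_iff]
  intro α β h
  have h1 : polar Q x (α • x + β • y) = 0 := by
    rw [h]; simp [polar]
  have h3 : polar Q y (α • x + β • y) = 0 := by
    rw [h]; simp [polar]
  rw [polar_add_right, polar_smul_right, polar_smul_right, hxy, polar_self] at h1
  rw [polar_add_right, polar_smul_right, polar_smul_right, polar_comm, hxy, polar_self] at h3
  simp only [smul_eq_mul, mul_zero, add_zero, zero_add, nsmul_eq_mul, Nat.cast_ofNat] at h1 h3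
  constructor
  · rcases mul_eq_zero.mp h1 with h | h
    · exact h
    · exact absurd h (mul_ne_zero h2 hx)
  · rcases mul_eq_zero.mp h3 with h | h
    · exact h
    · exact absurd h (mul_ne_zero h2 hy)

/-- an isometry between the spans of two orthogonal pairs with the same norms -/
theorem h46_exists_plane_iso (h2 : (2 : F) ≠ 0) (hQ : (polarBilin Q).Nondegenerate)
    {x y x' y' : ι → F} (hx : Q x ≠ 0)
    (hy : Q y ≠ 0) (hxy : polar Q x y = 0) (hx' : Q x' = Q x) (hy' : Q y' = Q y)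
    (hxy' : polar Q x' y' = 0) :
    ∃ g₀ : OG F ⇑Q, (Submodule.span F (Set.range ![x, y])).map
      (Matrix.mulVecLin ((g₀ : GL ι F) : Matrix ι ι F)) = Submodule.span F (Set.range ![x', y']) := by
  have l1 := h46_li h2 hx hy hxy
  have l2 := h46_li h2 (hx' ▸ hx) (hy' ▸ hy) hxy'
  set b1 := Module.Basis.span l1 with hb1
  set b2 := Module.Basis.span l2 with hb2
  refine exists_iso_map_eq Q hQ _ _ (b1.equiv b2 (Equiv.refl _)) ?_
  intro u
  have hu : u = b1.repr u 0 • b1 0 + b1.repr u 1 • b1 1 := by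
    conv_lhs => rw [← b1.sum_repr u]
    rw [Fin.sum_univ_two]
  have heu : b1.equiv b2 (Equiv.refl _) u = b1.repr u 0 • b2 0 + b1.repr u 1 • b2 1 := by
    conv_lhs => rw [hu]
    rw [map_add, map_smul, map_smul, Module.Basis.equiv_apply, Module.Basis.equiv_apply]
    rfl
  have c1 : ((b1.equiv b2 (Equiv.refl _) u : Submodule.span F (Set.range ![x', y'])) : ι → F) =
      b1.repr u 0 • x' + b1.repr u 1 • y' := by
    rw [heu, Submodule.coe_add, Submodule.coe_smul, Submodule.coe_smul, hb2,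
      Module.Basis.coe_span_apply, Module.Basis.coe_span_apply]
    rfl
  have c2 : (u : ι → F) = b1.repr u 0 • x + b1.repr u 1 • y := by
    conv_lhs => rw [hu]
    rw [Submodule.coe_add, Submodule.coe_smul, Submodule.coe_smul, hb1,
      Module.Basis.coe_span_apply, Module.Basis.coe_span_apply]
    rfl
  rw [c1, c2, h46_Q_comb, h46_Q_comb, hx', hy', hxy, hxy']

theorem h46_polar_comb (x y : ι → F) (α β γ δ : F) :
    polar Q (α • x + β • y) (γ • x + δ • y) =
      α * γ * (2 * Q x) + β * δ * (2 * Q y) + (α * δ + β * γ) * polar Q x y := by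
  rw [polar_add_left, polar_add_right, polar_add_right, polar_smul_left, polar_smul_left,
    polar_smul_left, polar_smul_left, polar_smul_right, polar_smul_right, polar_smul_right,
    polar_smul_right, polar_self, polar_self, polar_comm Q y x]
  simp only [smul_eq_mul, nsmul_eq_mul, Nat.cast_ofNat]
  ring

theorem h46_not_sq (h2 : ¬ IsSquare (2 : F)) {c : F} (hc : c ≠ 0) : ¬ IsSquare (2 * c * c) := by
  rintro ⟨r, hr⟩
  apply h2
  refine ⟨r / c, ?_⟩
  field_simp
  linear_combination hr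

/-- (C4) FUSION with (C4a) as a hypothesis -/
theorem fusion_of
    (hC4a : ∀ {u v u' v' : ι → F}, Q u ≠ 0 → Q v ≠ 0 → Q u' ≠ 0 → Q v' ≠ 0 → polar Q u v = 0 →
      polar Q u' v' = 0 → Submodule.span F {u, v} = Submodule.span F {u', v'} →
      reflIso' Q u * reflIso' Q v = reflIso' Q u' * reflIso' Q v')
    (hF : Frame Q c f) (h2 : ¬ IsSquare (2 : F)) {a b p q : Fin 7} (hab : a ≠ b)
    (hpq : p ≠ q) (hap : a ≠ p) (haq : a ≠ q) (hbp : b ≠ p) (hbq : b ≠ q) :
    ∃ g, g ∈ Cfsg.Omega F ⇑Q ∧ g * D Q f 0 1 * g⁻¹ = W Q f a b p q := by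
  have h20 := hF.two
  have hc0 := hF.c0
  have ht2 : (2 : F)⁻¹ + (2 : F)⁻¹ = 1 := by field_simp; norm_num
  have hQs : Q (f a - f b) = 2 * c := h46_Q_sub hF hab
  have hQt : Q (f p - f q) = 2 * c := h46_Q_sub hF hpq
  have hst : polar Q (f a - f b) (f p - f q) = 0 := by
    rw [polar_sub_left, polar_sub_right, polar_sub_right, hF.orth a p hap, hF.orth a q haq,
      hF.orth b p hbp, hF.orth b q hbq]
    ring
  set s := f a - f b with hs
  set t := f p - f q with ht
  set u' := (2 : F)⁻¹ • s + (2 : F)⁻¹ • t with hu'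
  set v' := (-(2 : F)⁻¹) • s + (2 : F)⁻¹ • t with hv'
  have hQu' : Q u' = c := by
    rw [hu', h46_Q_comb, hQs, hQt, hst]
    field_simp
    ring
  have hQv' : Q v' = c := by
    rw [hv', h46_Q_comb, hQs, hQt, hst]
    field_simp
    ring
  have hu'v' : polar Q u' v' = 0 := by
    rw [hu', hv', h46_polar_comb, hQs, hQt, hst]
    ring
  have h01 : (0 : Fin 7) ≠ 1 := by decide
  obtain ⟨g₀, hg₀⟩ := h46_exists_plane_iso h20 hF.nd (h46_Q_ne hF 0) (h46_Q_ne hF 1)
    (hF.orth 0 1 h01) (hQu'.trans (hF.norm 0).symm) (hQv'.trans (hF.norm 1).symm) hu'v'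
  set U := Submodule.span F (Set.range ![f 0, f 1]) with hU
  set W' := Submodule.span F (Set.range ![u', v']) with hW'
  -- two indices outside
  obtain ⟨k, l, hkl, hk, hl⟩ : ∃ k l : Fin 7, k ≠ l ∧ (k ≠ a ∧ k ≠ b ∧ k ≠ p ∧ k ≠ q) ∧
      (l ≠ a ∧ l ≠ b ∧ l ≠ p ∧ l ≠ q) := by
    have hcard : 1 < (({a, b, p, q} : Finset (Fin 7))ᶜ).card := by
      rw [Finset.card_compl, Fintype.card_fin]
      have := Finset.card_le_four (a := a) (b := b) (c := p) (d := q)
      omega
    obtain ⟨k, hk, l, hl, hkl⟩ := Finset.one_lt_card.mp hcard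
    simp only [Finset.mem_compl, Finset.mem_insert, Finset.mem_singleton, not_or] at hk hl
    exact ⟨k, l, hkl, ⟨hk.1, hk.2.1, hk.2.2.1, hk.2.2.2⟩, ⟨hl.1, hl.2.1, hl.2.2.1, hl.2.2.2⟩⟩
  have hperp : ∀ z : ι → F, polar Q z (f a) = 0 → polar Q z (f b) = 0 → polar Q z (f p) = 0 →
      polar Q z (f q) = 0 → ∀ x ∈ W', polar Q z x = 0 := by
    intro z za zb zp zq x hx
    have hzs : polar Q z s = 0 := by rw [hs, polar_sub_right, za, zb, sub_zero]
    have hzt : polar Q z t = 0 := by rw [ht, polar_sub_right, zp, zq, sub_zero]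
    have hle : W' ≤ LinearMap.ker (polarBilin Q z) := by
      apply Submodule.span_le.mpr
      rintro _ ⟨i, rfl⟩
      rw [SetLike.mem_coe, LinearMap.mem_ker, polarBilin_apply_apply]
      fin_cases i
      · show polar Q z u' = 0
        rw [hu', polar_add_right, polar_smul_right, polar_smul_right, hzs, hzt]
        simp
      · show polar Q z v' = 0
        rw [hv', polar_add_right, polar_smul_right, polar_smul_right, hzs, hzt]
        simp
    have := hle hx
    rwa [LinearMap.mem_ker, polarBilin_apply_apply] at this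
  have hpk : ∀ x ∈ W', polar Q (f k) x = 0 :=
    hperp (f k) (hF.orth k a hk.1) (hF.orth k b hk.2.1) (hF.orth k p hk.2.2.1)
      (hF.orth k q hk.2.2.2)
  have hpkl : ∀ x ∈ W', polar Q (f k - f l) x = 0 := by
    apply hperp
    · rw [polar_sub_left, hF.orth k a hk.1, hF.orth l a hl.1, sub_zero]
    · rw [polar_sub_left, hF.orth k b hk.2.1, hF.orth l b hl.2.1, sub_zero]
    · rw [polar_sub_left, hF.orth k p hk.2.2.1, hF.orth l p hl.2.2.1, sub_zero]
    · rw [polar_sub_left, hF.orth k q hk.2.2.2, hF.orth l q hl.2.2.2, sub_zero]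
  have hak : Q (f k) ≠ 0 := h46_Q_ne hF k
  have hbkl : Q (f k - f l) ≠ 0 := h46_Q_sub_ne hF hkl
  have hns : ¬ IsSquare (Q (f k - f l) * Q (f k)) := by
    rw [h46_Q_sub hF hkl, hF.norm]
    exact h46_not_sq h2 hc0
  obtain ⟨s₀, hs₀, hmem⟩ := adjust_odd Q h20 hF.nd (Stab Q W') (stab_one Q W')
    (fun g h hg hh => stab_mul Q W' g h hg hh) hak hbkl hak
    (stab_refl_of_perp Q W' hak hpk)
    (stab_mul Q W' _ _ (stab_refl_of_perp Q W' hbkl hpkl) (stab_refl_of_perp Q W' hak hpk))
    hns g₀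
  refine ⟨s₀ * g₀, hmem, ?_⟩
  set g := s₀ * g₀ with hg
  have hgU : U.map (Matrix.mulVecLin ((g : GL ι F) : Matrix ι ι F)) = W' := by
    rw [hg, map_mul_eq, hg₀]
    exact hs₀
  -- the span of the images
  have e1 : Submodule.span F {actHom (⇑Q) g (f 0), actHom (⇑Q) g (f 1)} = W' := by
    rw [← hgU, hU, Submodule.map_span, Matrix.range_cons_cons_empty, Set.image_pair,
      mulVecLin_eq]
    rfl
  have e2 : W' = Submodule.span F {s, t} := by
    rw [hW', Matrix.range_cons_cons_empty]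
    apply le_antisymm
    · apply Submodule.span_le.mpr
      intro x hx
      have hsm : s ∈ Submodule.span F {s, t} := Submodule.subset_span (by simp)
      have htm : t ∈ Submodule.span F {s, t} := Submodule.subset_span (by simp)
      rcases hx with rfl | rfl
      · exact Submodule.add_mem _ (Submodule.smul_mem _ _ hsm) (Submodule.smul_mem _ _ htm)
      · exact Submodule.add_mem _ (Submodule.smul_mem _ _ hsm) (Submodule.smul_mem _ _ htm)
    · apply Submodule.span_le.mpr
      intro x hx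
      have hum : u' ∈ Submodule.span F {u', v'} := Submodule.subset_span (by simp)
      have hvm : v' ∈ Submodule.span F {u', v'} := Submodule.subset_span (by simp)
      rcases hx with hx | hx
      · have : s = u' - v' := by
          rw [hu', hv']
          have h3 : (2 : F)⁻¹ • s + (2 : F)⁻¹ • t - (-(2 : F)⁻¹ • s + (2 : F)⁻¹ • t) =
              ((2 : F)⁻¹ + (2 : F)⁻¹) • s := by module
          rw [h3, ht2, one_smul]
        rw [hx, this]
        exact Submodule.sub_mem _ hum hvm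
      · have hx' : x = t := hx
        have : t = u' + v' := by
          rw [hu', hv']
          have h3 : (2 : F)⁻¹ • s + (2 : F)⁻¹ • t + (-(2 : F)⁻¹ • s + (2 : F)⁻¹ • t) =
              ((2 : F)⁻¹ + (2 : F)⁻¹) • t := by module
          rw [h3, ht2, one_smul]
        rw [hx', this]
        exact Submodule.add_mem _ hum hvm
  have hgf0 : Q (actHom (⇑Q) g (f 0)) ≠ 0 := by
    rw [Q_act (Q := ⇑Q) g (f 0)]; exact h46_Q_ne hF 0
  have hgf1 : Q (actHom (⇑Q) g (f 1)) ≠ 0 := by
    rw [Q_act (Q := ⇑Q) g (f 1)]; exact h46_Q_ne hF 1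
  have hQs0 : Q s ≠ 0 := h46_Q_sub_ne hF hab
  have hQt0 : Q t ≠ 0 := h46_Q_sub_ne hF hpq
  have key := hC4a hgf0 hgf1 hQs0 hQt0
    (by rw [h46_polar_act]; exact hF.orth 0 1 h01) hst (e1.trans e2)
  have hconj : g * D Q f 0 1 * g⁻¹ =
      (g * reflIso' Q (f 0) * g⁻¹) * (g * reflIso' Q (f 1) * g⁻¹) := by
    unfold D
    group
  rw [hconj, h46_conj_refl g (h46_Q_ne hF 0), h46_conj_refl g (h46_Q_ne hF 1), key]
  rfl

end Cfsg.Agent.Helper46.Om7
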