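import Mathlib
import Cfsg.Prelude.Def_FusionSystem
import Cfsg.Agent.Lib.Helper87.Om7Defs
import Cfsg.Agent.Lib.Helper19.Om7C4a
import Cfsg.Agent.Lib.Helper46.Om7C4Core

set_option autoImplicit false
set_option linter.unusedSectionVars false
set_option linter.unusedVariables false

/-!
# OM7 (C4) for helper87's server (S2647): fusion of `D 0 1` with `W a b p q` in `Ω`
-/

namespace Cfsg.Agent.Helper46.Om7

open Matrix QuadraticMap Cfsg.Agent.Helper36.QuadInv Cfsg.Agent.Helper36.OmegaTrans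
  Cfsg.Agent.Helper43 Cfsg.Agent.Helper87.Om7

variable {F : Type*} [Field F] [Fintype F] [DecidableEq F] {ι : Type} [Fintype ι] [DecidableEq ι]
variable {Q : QuadraticForm F (ι → F)} {c : F} {f : Fin 7 → ι → F}

/-- (C4) FUSION: Witt (`exists_iso_map_eq`) for `U = span {f 0, f 1}`,
`W = span {f a - f b, f p - f q}`, isometry `f 0 ↦ ((f a - f b) + (f p - f q)) / 2`,
`f 1 ↦ ((f p - f q) - (f a - f b)) / 2`; `adjust_odd` with `P = Stab Q W`, reflections in `f k`
(`k` outside `a b p q`) and `f k - f l`; then `refl_pair_eq`. -/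
theorem fusion (hF : Frame Q c f) (h2 : ¬ IsSquare (2 : F)) {a b p q : Fin 7} (hab : a ≠ b)
    (hpq : p ≠ q) (hap : a ≠ p) (haq : a ≠ q) (hbp : b ≠ p) (hbq : b ≠ q) :
    ∃ g, g ∈ Cfsg.Omega F ⇑Q ∧ g * D Q f 0 1 * g⁻¹ = W Q f a b p q :=
  fusion_of (fun hu hv hu' hv' huv huv' hspan =>
    Cfsg.Agent.Helper19.Om7.refl_pair_eq hF.two hF.nd hu hv hu' hv' huv huv' hspan)
    hF h2 hab hpq hap haq hbp hbq

end Cfsg.Agent.Helper46.Om7
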