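import Mathlib
import Cfsg.Agent.Lib.Helper46.OrbitProd
import Cfsg.Agent.Lib.Helper46.Kieler

set_option autoImplicit false

namespace Cfsg.Agent.Helper46

open MulAction

variable {G : Type*} [Group G]

/-- Conjugation action of a subgroup `X` normalizing the commutative subgroup `V`. -/
@[reducible] def conjMDMAOf (V X : Subgroup G) (hXV : X ≤ Subgroup.normalizer (V : Set G))
    (hV : ∀ a ∈ V, ∀ b ∈ V, a * b = b * a) :
    @MulDistribMulAction ↥X ↥V _ (commGroupOfComm V hV).toMonoid :=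
  letI := commGroupOfComm V hV
  { smul := fun x v => ⟨x * v * x⁻¹, (Subgroup.mem_normalizer_iff.mp (hXV x.2) v).mp v.2⟩
    one_smul := fun a => Subtype.ext (by change ((1 : ↥X) : G) * a * ((1 : ↥X) : G)⁻¹ = a; simp)
    mul_smul := fun g h a => Subtype.ext (by
      change ((g * h : ↥X) : G) * a * ((g * h : ↥X) : G)⁻¹ = g * (h * a * (h : G)⁻¹) * (g : G)⁻¹
      rw [Subgroup.coe_mul]; group)
    smul_mul := fun g a b => Subtype.ext (by
      change (g : G) * (a * b) * (g : G)⁻¹ = (g * a * (g : G)⁻¹) * (g * b * (g : G)⁻¹); group)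
    smul_one := fun g => Subtype.ext (by change (g : G) * 1 * (g : G)⁻¹ = 1; simp) }

/-- Relative trace decomposition, in elementary terms: if `X` normalizes the commutative subgroup
`V`, and `S ≤ X` centralizes `v ∈ V`, then there is an `X`-fixed `N ∈ V` and `w ∈ V` lying in
every subgroup containing the "commutators" `v⁻¹ (x v x⁻¹)`, with `N = v ^ m * w` and
`m ∣ |X : S|`. -/
theorem exists_orbProd_decomp (V X S : Subgroup G) [Finite X]
    (hVc : ∀ a ∈ V, ∀ b ∈ V, a * b = b * a) (hXV : X ≤ Subgroup.normalizer (V : Set G))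
    (hSX : S ≤ X) {v : G} (hv : v ∈ V) (hS : ∀ s ∈ S, s * v = v * s) :
    ∃ N ∈ V, ∃ w ∈ V, ∃ m : ℕ, m ∣ S.relIndex X ∧ (∀ x ∈ X, x * N = N * x) ∧ N = v ^ m * w ∧
      ∀ W : Subgroup G, (∀ x ∈ X, v⁻¹ * (x * v * x⁻¹) ∈ W) → w ∈ W := by
  letI := commGroupOfComm V hVc
  letI := conjMDMAOf V X hXV hVc
  have hsm : ∀ (x : ↥X) (a : ↥V), ((x • a : ↥V) : G) = x * a * (x : G)⁻¹ := fun _ _ => rfl
  set vV : ↥V := ⟨v, hv⟩ with hvV
  refine ⟨(orbProd (⊤ : Subgroup ↥X) vV : ↥V), Subtype.property _,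
    ((∏ᶠ y ∈ orbit (⊤ : Subgroup ↥X) vV, vV⁻¹ * y : ↥V) : G), Subtype.property _,
    (orbit (⊤ : Subgroup ↥X) vV).ncard, ?_, ?_, ?_, ?_⟩
  · have := ncard_orbit_dvd_relIndex (⊤ : Subgroup ↥X) (S.subgroupOf X) vV (fun s hs => by
      apply Subtype.ext
      rw [hsm]
      change (s : G) * v * (s : G)⁻¹ = v
      rw [hS s hs, mul_inv_cancel_right])
    rw [Subgroup.relIndex_top_right] at this
    exact this
  · intro x hx
    have := smul_orbProd (⊤ : Subgroup ↥X) vV (x := (⟨x, hx⟩ : ↥X)) (Subgroup.mem_top _)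
    have h2 := congrArg Subtype.val this
    rw [hsm] at h2
    change x * _ * x⁻¹ = _ at h2
    calc x * ((orbProd (⊤ : Subgroup ↥X) vV : ↥V) : G)
        = (x * ((orbProd (⊤ : Subgroup ↥X) vV : ↥V) : G) * x⁻¹) * x := by group
      _ = ((orbProd (⊤ : Subgroup ↥X) vV : ↥V) : G) * x := by rw [h2]
  · have := orbProd_eq (⊤ : Subgroup ↥X) vV
    have h2 := congrArg Subtype.val this
    rw [h2]
    rfl
  · intro W hW
    apply finprod_mem_induction (fun a : ↥V => (a : G) ∈ W)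
    · exact W.one_mem
    · intro a b ha hb
      exact W.mul_mem ha hb
    · rintro _ ⟨x, rfl⟩
      change v⁻¹ * (((x : ↥X) : G) * v * ((x : ↥X) : G)⁻¹) ∈ W
      exact hW _ (x : ↥X).2

end Cfsg.Agent.Helper46
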