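import Mathlib
import Cfsg.Agent.Lib.Helper93.RU0

set_option autoImplicit false

/-!
RU lemma server (helper93, S2280), piece (C2) `comm_rule`, by helper46.  Self-contained
(own copies of the small facts (A1) and (B2) under `h46_` names).
-/

namespace Cfsg.Agent.Helper46.RU

open Matrix Cfsg.Agent.Helper93.RU

variable {F : Type*} [Field F] {m : ℕ}

/-- determinant of `1 + v φᵀ` -/
theorem h46_det_tvM (v φ : Fin (m + 3) → F) : (tvM v φ).det = 1 + φ ⬝ᵥ v := by
  unfold tvM
  rw [Matrix.vecMulVec_eq Unit, Matrix.det_one_add_replicateCol_mul_replicateRow]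

/-- (A1) -/
theorem h46_tvS_val (v φ : Fin (m + 3) → F) (h : φ ⬝ᵥ v = 0) : (tvS v φ).1 = tvM v φ := by
  have hd : (tvM v φ).det = 1 := by rw [h46_det_tvM, h, add_zero]
  have h1 : tvS v φ = ⟨tvM v φ, hd⟩ := by
    unfold tvS
    exact dif_pos hd
  rw [h1]

/-- `det (1 + L_ε) = 1` -/
theorem h46_det_lower (ε : F) : (1 + Lmat (m := m) ε).det = 1 := by
  have htri : (1 + Lmat (m := m) ε).BlockTriangular ⇑OrderDual.toDual := by
    intro i j hij
    have hlt : i < j := hij
    have hne : i ≠ j := ne_of_lt hlt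
    have hv : ¬ (j.val + 1 = i.val) := by
      have : i.val < j.val := hlt
      omega
    simp [Lmat, Matrix.add_apply, Matrix.one_apply, hne, hv]
  rw [Matrix.det_of_isLowerTriangular _ htri]
  apply Finset.prod_eq_one
  intro i _
  have hv : ¬ (i.val + 1 = i.val) := by omega
  simp [Lmat, Matrix.add_apply, hv]

/-- (B2) -/
theorem h46_lEl_val (ε : F) : (lEl (m := m) ε).1 = 1 + Lmat ε := by
  have h1 : lEl (m := m) ε = ⟨1 + Lmat ε, h46_det_lower ε⟩ := by
    unfold lEl
    exact dif_pos (h46_det_lower ε)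
  rw [h1]

/-- the action of `L_ε` on a column -/
theorem h46_Lmat_mulVec (ε : F) (w : Fin (m + 3) → F) (i : Fin (m + 3)) :
    (Lmat ε *ᵥ w) i =
      if h : i.val = 0 then 0
      else (if i.val - 1 = 0 then ε else 1) * w ⟨i.val - 1, by have := i.isLt; omega⟩ := by
  unfold Matrix.mulVec dotProduct
  by_cases h : i.val = 0
  · rw [dif_pos h]
    apply Finset.sum_eq_zero
    intro j _
    have : ¬ (j.val + 1 = i.val) := by omega
    simp [Lmat, this]
  · rw [dif_neg h]
    rw [Finset.sum_eq_single (⟨i.val - 1, by have := i.isLt; omega⟩ : Fin (m + 3))]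
    · have : (i.val - 1) + 1 = i.val := by omega
      simp [Lmat, this]
    · intro j _ hj
      have : ¬ (j.val + 1 = i.val) := by
        intro hji
        apply hj
        apply Fin.ext
        simp only
        omega
      simp [Lmat, this]
    · intro h'
      exact absurd (Finset.mem_univ _) h'

/-- the basic commutation identity for transvection matrices -/
theorem h46_comm_mat (a w β ψ : Fin (m + 3) → F) (h1 : ψ ⬝ᵥ a = 0) (h2 : ψ ⬝ᵥ w = 0) :
    tvM a β * tvM w ψ = tvM a ((β ⬝ᵥ w) • ψ) * tvM w ψ * tvM a β := by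
  unfold tvM
  simp only [add_mul, mul_add, one_mul, mul_one, vecMulVec_mul_vecMulVec, smul_dotProduct, h1, h2,
    smul_eq_mul, mul_zero, zero_smul, vecMulVec_zero, add_zero]
  abel

/-- (C2) -/
theorem comm_rule (H : Subgroup (SLm m F)) (ε lam μ : F) (hl : lEl ε ∈ H)
    (hlam : t13 lam ∈ H) (hμ : t13 μ ∈ H) :
    tvS (eV 0) ((μ * lam * ε) • (eV 1 + eV 2)) ∈ H := by
  classical
  -- the matrices of `l` and `l⁻¹`
  set l : SLm m F := lEl ε with hldef
  have hLm : l.1 = 1 + Lmat ε := h46_lEl_val ε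
  have hLiLm : (l⁻¹).1 * l.1 = 1 := by
    have : (l⁻¹ * l).1 = 1 := by rw [inv_mul_cancel]; rfl
    rw [Matrix.SpecialLinearGroup.coe_mul] at this
    exact this
  have hLmLi : l.1 * (l⁻¹).1 = 1 := by
    have : (l * l⁻¹).1 = 1 := by rw [mul_inv_cancel]; rfl
    rw [Matrix.SpecialLinearGroup.coe_mul] at this
    exact this
  -- basis vector facts
  have h1v : ((1 : Fin (m + 3)).val) = 1 := Fin.val_one (m + 1)
  have h2v : ((2 : Fin (m + 3)).val) = 2 := Fin.val_two
  have h10 : (1 : Fin (m + 3)) ≠ 0 := by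
    intro h; have := congrArg Fin.val h; rw [Fin.val_one (m + 1), Fin.val_zero] at this; omega
  have h20 : (2 : Fin (m + 3)) ≠ 0 := by
    intro h; have := congrArg Fin.val h; rw [Fin.val_two, Fin.val_zero] at this; omega
  have he2e0 : ∀ c : F, (c • eV (F := F) (m := m) 2) ⬝ᵥ eV 0 = 0 := by
    intro c
    simp [eV, h20]
  -- `w` and `ψ'`
  set w : Fin (m + 3) → F := (l⁻¹).1 *ᵥ eV 0 with hw
  have hlw : l.1 *ᵥ w = eV 0 := by
    rw [hw, Matrix.mulVec_mulVec, hLmLi, Matrix.one_mulVec]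
  have hrow : eV (F := F) (m := m) 2 ᵥ* l.1 = eV 1 + eV 2 := by
    rw [hLm, Matrix.vecMul_add, Matrix.vecMul_one, add_comm (eV (F := F) (m := m) 1) (eV 2)]
    congr 1
    unfold eV
    rw [Matrix.single_one_vecMul]
    funext j
    change (if j.val + 1 = (2 : Fin (m + 3)).val then (if j.val = 0 then ε else 1) else 0) =
      (Pi.single (M := fun _ : Fin (m + 3) => F) (1 : Fin (m + 3)) (1 : F)) j
    rw [h2v, Pi.single_apply]
    by_cases hj : j = 1
    · subst hj
      rw [if_pos (by rw [h1v]), if_neg (by rw [h1v]; omega), if_pos rfl]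
    · rw [if_neg hj, if_neg]
      intro h
      apply hj
      apply Fin.ext
      rw [h1v]
      omega
  set ψ' : Fin (m + 3) → F := lam • (eV 1 + eV 2) with hψ'
  have hψrow : (lam • eV (F := F) (m := m) 2) ᵥ* l.1 = ψ' := by
    rw [Matrix.smul_vecMul, hrow]
  have hψe0 : ψ' ⬝ᵥ eV 0 = 0 := by
    simp [hψ', eV, h10, h20]
  have hψw : ψ' ⬝ᵥ w = 0 := by
    rw [← hψrow, ← Matrix.dotProduct_mulVec, hlw]
    exact he2e0 lam
  -- coordinates of `w`
  have hw0 : w 0 = 1 := by
    have := congrFun hlw 0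
    rw [hLm, Matrix.add_mulVec, Matrix.one_mulVec, Pi.add_apply, h46_Lmat_mulVec] at this
    simpa [eV] using this
  have hw1 : w 1 = -ε := by
    have := congrFun hlw 1
    rw [hLm, Matrix.add_mulVec, Matrix.one_mulVec, Pi.add_apply, h46_Lmat_mulVec] at this
    have h1v : ((1 : Fin (m + 3)).val) = 1 := by simp
    simp only [h1v] at this
    have hidx : (⟨1 - 1, by omega⟩ : Fin (m + 3)) = 0 := by apply Fin.ext; simp
    simp [eV, h10, hidx, hw0] at this
    linear_combination this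
  have hw2 : w 2 = ε := by
    have := congrFun hlw 2
    rw [hLm, Matrix.add_mulVec, Matrix.one_mulVec, Pi.add_apply, h46_Lmat_mulVec] at this
    have h2v : ((2 : Fin (m + 3)).val) = 2 := by simp
    simp only [h2v] at this
    have hidx : (⟨2 - 1, by omega⟩ : Fin (m + 3)) = 1 := by apply Fin.ext; simp
    simp [eV, h20, hidx, hw1] at this
    linear_combination this
  -- the elements
  set t : SLm m F := t13 μ with ht
  set s : SLm m F := l⁻¹ * t13 lam * l with hs
  have hsH : s ∈ H := H.mul_mem (H.mul_mem (H.inv_mem hl) hlam) hl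
  have htval : t.1 = tvM (eV 0) (μ • eV 2) := h46_tvS_val _ _ (he2e0 μ)
  have hsval : s.1 = tvM w ψ' := by
    have h1 : s.1 = (l⁻¹).1 * (t13 lam).1 * l.1 := rfl
    rw [h1]
    have h2 : (t13 (m := m) lam).1 = tvM (eV 0) (lam • eV 2) := h46_tvS_val _ _ (he2e0 lam)
    rw [h2]
    unfold tvM
    rw [mul_add, add_mul, mul_one, hLiLm, Matrix.mul_vecMulVec, Matrix.vecMulVec_mul, hψrow]
  have hc : ((μ • eV (F := F) (m := m) 2) ⬝ᵥ w) • ψ' = (μ * lam * ε) • (eV 1 + eV 2) := by
    have : (μ • eV (F := F) (m := m) 2) ⬝ᵥ w = μ * ε := by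
      simp [eV, hw2]
    rw [this, hψ', smul_smul]
    congr 1
    ring
  have horth : ((μ * lam * ε) • (eV (F := F) (m := m) 1 + eV 2)) ⬝ᵥ eV 0 = 0 := by
    simp [eV, h10, h20]
  set tgt : SLm m F := tvS (eV 0) ((μ * lam * ε) • (eV 1 + eV 2)) with htgt
  have htgtval : tgt.1 = tvM (eV 0) ((μ * lam * ε) • (eV 1 + eV 2)) := h46_tvS_val _ _ horth
  have hkey : t * s = tgt * s * t := by
    apply Subtype.ext
    change t.1 * s.1 = tgt.1 * s.1 * t.1
    rw [htval, hsval, htgtval, ← hc]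
    exact h46_comm_mat (eV 0) w (μ • eV 2) ψ' hψe0 hψw
  have hfin : tgt = t * s * t⁻¹ * s⁻¹ := by
    rw [hkey]
    group
  rw [hfin]
  exact H.mul_mem (H.mul_mem (H.mul_mem hμ hsH) (H.inv_mem hμ)) (H.inv_mem hsH)

end Cfsg.Agent.Helper46.RU
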