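import Mathlib
import Cfsg.Agent.Lib.Helper93.RU0
import Cfsg.Agent.Lib.Helper46.RUC2

set_option autoImplicit false

/-!
RU lemma server (helper93, S2280), pieces (C1) `shift_mem` and (C3) `step`, by helper46.
Self-contained on top of `RUC2.lean` (own copies of (B1), (B6) under `h46_` names).
-/

namespace Cfsg.Agent.Helper46.RU

open Matrix Cfsg.Agent.Helper93.RU

variable {F : Type*} [Field F] {m : ℕ}

/-- `det (1 + N) = 1` -/
theorem h46_det_upper : (1 + Nmat m F).det = 1 := by
  have htri : (1 + Nmat m F).BlockTriangular id := by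
    intro i j hij
    have hlt : j < i := hij
    have hne : i ≠ j := (ne_of_lt hlt).symm
    have hv : ¬ (i.val + 1 = j.val) := by
      have : j.val < i.val := hlt
      omega
    simp [Nmat, Matrix.add_apply, hne, hv]
  rw [Matrix.det_of_isUpperTriangular htri]
  apply Finset.prod_eq_one
  intro i _
  simp [Nmat, Matrix.add_apply]

/-- (B1) -/
theorem h46_uEl_val : (uEl m F).1 = 1 + Nmat m F := by
  have h1 : uEl m F = ⟨1 + Nmat m F, h46_det_upper⟩ := by
    unfold uEl
    exact dif_pos h46_det_upper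
  rw [h1]

/-- `u e₀ = e₀` -/
theorem h46_upper_mulVec_e0 : (1 + Nmat m F) *ᵥ eV 0 = eV 0 := by
  rw [Matrix.add_mulVec, Matrix.one_mulVec]
  have : Nmat m F *ᵥ eV 0 = 0 := by
    funext i
    unfold eV
    rw [Matrix.mulVec_single_one]
    simp [Nmat]
  rw [this, add_zero]

/-- `φ u = φ + shR φ` -/
theorem h46_vecMul_upper (φ : Fin (m + 3) → F) : φ ᵥ* (1 + Nmat m F) = φ + shR φ := by
  rw [Matrix.vecMul_add, Matrix.vecMul_one]
  congr 1
  funext j
  unfold Matrix.vecMul dotProduct shR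
  by_cases h : j.val = 0
  · rw [dif_pos h]
    apply Finset.sum_eq_zero
    intro i _
    have : ¬ (i.val + 1 = j.val) := by omega
    simp [Nmat, this]
  · rw [dif_neg h]
    rw [Finset.sum_eq_single (⟨j.val - 1, by have := j.isLt; omega⟩ : Fin (m + 3))]
    · have : (j.val - 1) + 1 = j.val := by omega
      simp [Nmat, this]
    · intro i _ hi
      have : ¬ (i.val + 1 = j.val) := by
        intro hij
        apply hi
        apply Fin.ext
        simp only
        omega
      simp [Nmat, this]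
    · intro h'
      exact absurd (Finset.mem_univ _) h'

/-- product of two transvection matrices with the same centre -/
theorem h46_tvM_mul_same (e α β : Fin (m + 3) → F) (h : α ⬝ᵥ e = 0) :
    tvM e α * tvM e β = tvM e (α + β) := by
  unfold tvM
  simp only [add_mul, mul_add, one_mul, mul_one, vecMulVec_mul_vecMulVec, h, zero_smul,
    vecMulVec_zero, add_zero, vecMulVec_add]
  abel

/-- `φ ⬝ e₀ = φ 0` -/
theorem h46_dot_e0 (φ : Fin (m + 3) → F) : φ ⬝ᵥ eV 0 = φ 0 := by
  unfold eV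
  simp

/-- (C1) -/
theorem shift_mem (H : Subgroup (SLm m F)) (hu : uEl m F ∈ H) (φ : Fin (m + 3) → F) (h0 : φ 0 = 0)
    (hφ : tvS (eV 0) φ ∈ H) : tvS (eV 0) (shR φ) ∈ H := by
  classical
  set u : SLm m F := uEl m F with hudef
  have hU : u.1 = 1 + Nmat m F := h46_uEl_val
  have hUiU : (u⁻¹).1 * u.1 = 1 := by
    have : (u⁻¹ * u).1 = 1 := by rw [inv_mul_cancel]; rfl
    rw [Matrix.SpecialLinearGroup.coe_mul] at this
    exact this
  have hUie0 : (u⁻¹).1 *ᵥ eV 0 = eV 0 := by
    have h1 : u.1 *ᵥ eV (F := F) (m := m) 0 = eV 0 := by rw [hU]; exact h46_upper_mulVec_e0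
    calc (u⁻¹).1 *ᵥ eV 0 = (u⁻¹).1 *ᵥ (u.1 *ᵥ eV 0) := by rw [h1]
      _ = eV 0 := by rw [Matrix.mulVec_mulVec, hUiU, Matrix.one_mulVec]
  have hsh0 : (shR φ) 0 = 0 := by
    unfold shR
    simp
  have ho1 : φ ⬝ᵥ eV 0 = 0 := by rw [h46_dot_e0, h0]
  have ho2 : shR φ ⬝ᵥ eV 0 = 0 := by rw [h46_dot_e0, hsh0]
  have ho3 : (φ + shR φ) ⬝ᵥ eV 0 = 0 := by rw [add_dotProduct, ho1, ho2, add_zero]
  set g : SLm m F := tvS (eV 0) φ with hg
  have hconj : u⁻¹ * g * u = tvS (eV 0) (φ + shR φ) := by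
    apply Subtype.ext
    change (u⁻¹).1 * g.1 * u.1 = (tvS (eV 0) (φ + shR φ)).1
    rw [h46_tvS_val _ _ ho3, hg, h46_tvS_val _ _ ho1]
    unfold tvM
    rw [mul_add, add_mul, mul_one, hUiU, Matrix.mul_vecMulVec, Matrix.vecMulVec_mul, hUie0, hU,
      h46_vecMul_upper]
  have hprod : g * tvS (eV 0) (shR φ) = tvS (eV 0) (φ + shR φ) := by
    apply Subtype.ext
    change g.1 * (tvS (eV 0) (shR φ)).1 = (tvS (eV 0) (φ + shR φ)).1
    rw [h46_tvS_val _ _ ho3, hg, h46_tvS_val _ _ ho1, h46_tvS_val _ _ ho2]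
    exact h46_tvM_mul_same _ _ _ ho1
  have hfin : tvS (eV 0) (shR φ) = g⁻¹ * (u⁻¹ * g * u) := by
    rw [hconj, ← hprod]
    group
  rw [hfin]
  exact H.mul_mem (H.inv_mem hφ) (H.mul_mem (H.mul_mem (H.inv_mem hu) hφ) hu)

/-- additivity of the shift -/
theorem h46_shR_add (φ ψ : Fin (m + 3) → F) : shR (φ + ψ) = shR φ + shR ψ := by
  funext j
  show shR (φ + ψ) j = shR φ j + shR ψ j
  unfold shR
  by_cases h : j.val = 0
  · rw [dif_pos h, dif_pos h, dif_pos h, add_zero]
  · rw [dif_neg h, dif_neg h, dif_neg h]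
    rfl

/-- (C3) -/
theorem step (H : Subgroup (SLm m F)) (hu : uEl m F ∈ H) (ε lam μ : F) (hε : ε = 1 ∨ ε = -1)
    (hl : lEl ε ∈ H) (hlam : t13 lam ∈ H) (hμ : t13 μ ∈ H) : t12 (μ * lam) ∈ H := by
  classical
  have h1v : ((1 : Fin (m + 3)).val) = 1 := Fin.val_one (m + 1)
  have h2v : ((2 : Fin (m + 3)).val) = 2 := Fin.val_two
  -- the set `A`
  let A : (Fin (m + 3) → F) → Prop := fun φ => φ 0 = 0 ∧ tvS (eV 0) φ ∈ H
  have hA_add : ∀ φ ψ, A φ → A ψ → A (φ + ψ) := by
    intro φ ψ hφ hψ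
    refine ⟨by rw [Pi.add_apply, hφ.1, hψ.1, add_zero], ?_⟩
    have ho1 : φ ⬝ᵥ eV 0 = 0 := by rw [h46_dot_e0, hφ.1]
    have ho2 : ψ ⬝ᵥ eV 0 = 0 := by rw [h46_dot_e0, hψ.1]
    have ho3 : (φ + ψ) ⬝ᵥ eV 0 = 0 := by rw [add_dotProduct, ho1, ho2, add_zero]
    have : tvS (eV 0) (φ + ψ) = tvS (eV 0) φ * tvS (eV 0) ψ := by
      apply Subtype.ext
      change (tvS (eV 0) (φ + ψ)).1 = (tvS (eV 0) φ).1 * (tvS (eV 0) ψ).1
      rw [h46_tvS_val _ _ ho3, h46_tvS_val _ _ ho1, h46_tvS_val _ _ ho2]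
      exact (h46_tvM_mul_same _ _ _ ho1).symm
    rw [this]
    exact H.mul_mem hφ.2 hψ.2
  have hA_zero : A 0 := by
    refine ⟨rfl, ?_⟩
    have : tvS (eV (F := F) (m := m) 0) 0 = 1 := by
      apply Subtype.ext
      rw [h46_tvS_val _ _ (zero_dotProduct _)]
      unfold tvM
      rw [vecMulVec_zero, add_zero]
      rfl
    rw [this]
    exact H.one_mem
  have hA_neg : ∀ φ, A φ → A (-φ) := by
    intro φ hφ
    refine ⟨by rw [Pi.neg_apply, hφ.1, neg_zero], ?_⟩
    have ho1 : φ ⬝ᵥ eV 0 = 0 := by rw [h46_dot_e0, hφ.1]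
    have ho2 : (-φ) ⬝ᵥ eV 0 = 0 := by rw [neg_dotProduct, ho1, neg_zero]
    have : tvS (eV 0) (-φ) = (tvS (eV 0) φ)⁻¹ := by
      apply eq_inv_of_mul_eq_one_right
      apply Subtype.ext
      change (tvS (eV 0) φ).1 * (tvS (eV 0) (-φ)).1 = 1
      rw [h46_tvS_val _ _ ho1, h46_tvS_val _ _ ho2, h46_tvM_mul_same _ _ _ ho1, add_neg_cancel]
      unfold tvM
      rw [vecMulVec_zero, add_zero]
    rw [this]
    exact H.inv_mem hφ.2
  have hA_shift : ∀ φ, A φ → A (shR φ) := by
    intro φ hφ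
    refine ⟨?_, shift_mem H hu φ hφ.1 hφ.2⟩
    unfold shR
    simp
  -- the sequence `x k = shR^k (κ e₁)`
  set κ : F := μ * lam * ε with hκ
  let x : ℕ → (Fin (m + 3) → F) := fun k => shR^[k] (κ • eV 1)
  have hx0 : x 0 = κ • eV 1 := rfl
  have hxs : ∀ k, x (k + 1) = shR (x k) := fun k => Function.iterate_succ_apply' shR k _
  have hI : ∀ k (j : Fin (m + 3)), j.val ≤ k → x k j = 0 := by
    intro k
    induction k with
    | zero =>
      intro j hj
      have hj0 : j = 0 := Fin.ext (by simp only [Fin.val_zero]; omega)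
      have h10 : (0 : Fin (m + 3)) ≠ 1 := by
        intro h; have := congrArg Fin.val h; rw [h1v, Fin.val_zero] at this; omega
      rw [hx0, hj0]
      simp [eV, h10]
    | succ k ih =>
      intro j hj
      rw [hxs]
      unfold shR
      by_cases h : j.val = 0
      · simp [h]
      · rw [dif_neg h]
        apply ih
        simp only
        omega
  -- `θ = x 0 + x 1`
  have hx1 : x 1 = κ • eV 2 := by
    rw [hxs, hx0]
    funext j
    unfold shR
    by_cases h : j.val = 0
    · rw [dif_pos h]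
      have hj2 : j ≠ 2 := by
        intro h2; rw [h2, h2v] at h; omega
      simp [eV, hj2]
    · rw [dif_neg h]
      simp only [Pi.smul_apply, eV, smul_eq_mul, Pi.single_apply]
      congr 1
      by_cases hj2 : j = 2
      · rw [if_pos hj2, if_pos]
        apply Fin.ext
        simp only
        rw [hj2, h2v, h1v]
      · rw [if_neg hj2, if_neg]
        intro h'
        apply hj2
        apply Fin.ext
        have := congrArg Fin.val h'
        simp only at this
        rw [h1v] at this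
        rw [h2v]
        omega
  have hθ : A (x 0 + x 1) := by
    have h10 : (1 : Fin (m + 3)) ≠ 0 := by
      intro h; have := congrArg Fin.val h; rw [h1v, Fin.val_zero] at this; omega
    have h20 : (2 : Fin (m + 3)) ≠ 0 := by
      intro h; have := congrArg Fin.val h; rw [h2v, Fin.val_zero] at this; omega
    refine ⟨?_, ?_⟩
    · rw [hx0, hx1]
      simp [eV, h10.symm, h20.symm]
    · rw [hx0, hx1, ← smul_add]
      exact comm_rule H ε lam μ hl hlam hμ
  have hpair : ∀ k, A (x k + x (k + 1)) := by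
    intro k
    induction k with
    | zero => exact hθ
    | succ k ih =>
      rw [hxs k, hxs (k + 1), ← h46_shR_add]
      exact hA_shift _ ih
  have hlast : x (m + 2) = 0 := by
    funext j
    exact hI (m + 2) j (by have := j.isLt; omega)
  have hdown : ∀ d i, i + d = m + 2 → A (x i) := by
    intro d
    induction d with
    | zero =>
      intro i hi
      have : i = m + 2 := by omega
      rw [this, hlast]
      exact hA_zero
    | succ d ih =>
      intro i hi
      have h1 : A (x (i + 1)) := ih (i + 1) (by omega)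
      have h2 := hA_add _ _ (hpair i) (hA_neg _ h1)
      have : x i + x (i + 1) + -x (i + 1) = x i := by abel
      rw [this] at h2
      exact h2
  have hκ1 : tvS (eV 0) (κ • eV 1) ∈ H := (hdown (m + 2) 0 (by omega)).2
  -- the sign
  rcases hε with hε | hε
  · have : κ = μ * lam := by rw [hκ, hε, mul_one]
    rw [this] at hκ1
    exact hκ1
  · have hk : κ = -(μ * lam) := by rw [hκ, hε]; ring
    have hA1 : A (κ • eV 1) := (hdown (m + 2) 0 (by omega))
    have hA2 := hA_neg _ hA1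
    have : -(κ • eV (F := F) (m := m) 1) = (μ * lam) • eV 1 := by
      rw [hk, neg_smul, neg_neg]
    rw [this] at hA2
    exact hA2.2

end Cfsg.Agent.Helper46.RU
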