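import Mathlib
import Cfsg.Prelude.Def_LocalEven
import Cfsg.Agent.Lib.Helper46.Involves
import Cfsg.Agent.S0206

set_option autoImplicit false

namespace Cfsg.Agent.Helper46

open Cfsg

/-- index of the pair partition of `Fin 4` containing the pair `{a, b}` -/
def s4third (a b : Fin 4) : Fin 3 :=
  if a = 3 then ⟨b.val % 3, Nat.mod_lt _ (by norm_num)⟩
  else if b = 3 then ⟨a.val % 3, Nat.mod_lt _ (by norm_num)⟩
  else ⟨(6 - a.val - b.val) % 3, Nat.mod_lt _ (by norm_num)⟩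

/-- the action of `S₄` on the three pair partitions -/
def s4fun (σ : Equiv.Perm (Fin 4)) (i : Fin 3) : Fin 3 := s4third (σ 3) (σ (Fin.castSucc i))

set_option maxRecDepth 100000 in
theorem s4fun_mul : ∀ σ τ : Equiv.Perm (Fin 4), ∀ i, s4fun (σ * τ) i = s4fun σ (s4fun τ i) := by
  decide

theorem s4fun_one : ∀ i, s4fun 1 i = i := by
  decide

/-- the homomorphism `S₄ → S₃` -/
def s4ψ : Equiv.Perm (Fin 4) →* Equiv.Perm (Fin 3) where
  toFun σ :=
    { toFun := s4fun σ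
      invFun := s4fun σ⁻¹
      left_inv := fun i => by rw [← s4fun_mul, inv_mul_cancel, s4fun_one]
      right_inv := fun i => by rw [← s4fun_mul, mul_inv_cancel, s4fun_one] }
  map_one' := by
    apply Equiv.ext
    intro i
    exact s4fun_one i
  map_mul' σ τ := by
    apply Equiv.ext
    intro i
    exact s4fun_mul σ τ i

theorem s4ψ_apply (σ : Equiv.Perm (Fin 4)) (i : Fin 3) : s4ψ σ i = s4fun σ i := rfl

set_option maxRecDepth 100000 in
theorem s4ψ_surjective : Function.Surjective s4ψ := by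
  have h : ∀ τ : Equiv.Perm (Fin 3), ∃ σ : Equiv.Perm (Fin 4), ∀ i, s4fun σ i = τ i := by
    decide
  intro τ
  obtain ⟨σ, hσ⟩ := h τ
  exact ⟨σ, Equiv.ext hσ⟩

set_option maxRecDepth 100000 in
theorem s4ψ_ker_sq : ∀ σ : Equiv.Perm (Fin 4), s4ψ σ = 1 → σ * σ = 1 := by
  have h : ∀ σ : Equiv.Perm (Fin 4), (∀ i, s4fun σ i = i) → σ * σ = 1 := by
    decide
  intro σ hσ
  apply h
  intro i
  rw [← s4ψ_apply, hσ]
  rfl

set_option maxRecDepth 100000 in
theorem s4ψ_ker_cent : ∀ σ : Equiv.Perm (Fin 4),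
    (∀ τ : Equiv.Perm (Fin 4), s4ψ τ = 1 → τ * σ = σ * τ) → s4ψ σ = 1 := by
  have h : ∀ σ : Equiv.Perm (Fin 4),
      (∀ τ : Equiv.Perm (Fin 4), (∀ i, s4fun τ i = i) → τ * σ = σ * τ) → ∀ i, s4fun σ i = i := by
    decide
  intro σ hσ
  apply Equiv.ext
  intro i
  apply h
  intro τ hτ
  apply hσ
  apply Equiv.ext
  intro i
  exact hτ i

theorem s4ψ_ker_isPGroup : IsPGroup 2 ↥(s4ψ.ker) := by
  intro g
  refine ⟨1, ?_⟩
  apply Subtype.ext
  have := s4ψ_ker_sq g.1 g.2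
  rw [pow_one, pow_two]
  exact this

theorem s4_eq_top_of_mem (H : Subgroup (Equiv.Perm (Fin 4))) (a b c : Equiv.Perm (Fin 4))
    (ha : a ∈ H) (hb : b ∈ H) (hc : c ∈ H)
    (ha0 : a 0 = 0) (ha1 : a 1 = 2) (ha2 : a 2 = 3) (ha3 : a 3 = 1)
    (hb0 : b 0 = 0) (hb1 : b 1 = 1) (hb2 : b 2 = 3) (hb3 : b 3 = 2)
    (hc0 : c 0 = 1) (hc1 : c 1 = 0) (hc2 : c 2 = 3) (hc3 : c 3 = 2) : H = ⊤ := by
  have h1 : c * b = Equiv.swap 0 1 := by
    apply Equiv.ext
    intro i
    fin_cases i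
    · change c (b 0) = Equiv.swap (0 : Fin 4) 1 0
      rw [hb0, hc0]; decide
    · change c (b 1) = Equiv.swap (0 : Fin 4) 1 1
      rw [hb1, hc1]; decide
    · change c (b 2) = Equiv.swap (0 : Fin 4) 1 2
      rw [hb2, hc3]; decide
    · change c (b 3) = Equiv.swap (0 : Fin 4) 1 3
      rw [hb3, hc2]; decide
  have h2 : c * b * a = finRotate 4 := by
    apply Equiv.ext
    intro i
    fin_cases i
    · change c (b (a 0)) = finRotate 4 0
      rw [ha0, hb0, hc0]; decide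
    · change c (b (a 1)) = finRotate 4 1
      rw [ha1, hb2, hc3]; decide
    · change c (b (a 2)) = finRotate 4 2
      rw [ha2, hb3, hc2]; decide
    · change c (b (a 3)) = finRotate 4 3
      rw [ha3, hb1, hc1]; decide
  have h3 : Subgroup.closure ({finRotate 4, Equiv.swap (0 : Fin 4) (finRotate 4 0)} : Set (Equiv.Perm (Fin 4))) = ⊤ :=
    Equiv.Perm.closure_cycle_adjacent_swap (isCycle_finRotate (n := 2)) (support_finRotate (n := 2)) 0
  rw [eq_top_iff, ← h3, Subgroup.closure_le]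
  intro σ hσ
  rcases hσ with rfl | hσ
  · rw [← h2]
    exact H.mul_mem (H.mul_mem hc hb) ha
  · rw [Set.mem_singleton_iff] at hσ
    have h4 : finRotate 4 (0 : Fin 4) = 1 := by decide
    rw [hσ, h4, ← h1]
    exact H.mul_mem hc hb

/-- `S₃` is dihedral of order 6 -/
theorem nonempty_s3_equiv_dihedral : Nonempty (Equiv.Perm (Fin 3) ≃* DihedralGroup 3) := by
  have hx : orderOf (Equiv.swap (0 : Fin 3) 1) = 2 :=
    Equiv.Perm.IsSwap.orderOf ⟨0, 1, by decide, rfl⟩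
  have hy : orderOf (Equiv.swap (0 : Fin 3) 2) = 2 :=
    Equiv.Perm.IsSwap.orderOf ⟨0, 2, by decide, rfl⟩
  have hxy : Equiv.swap (0 : Fin 3) 1 ≠ Equiv.swap (0 : Fin 3) 2 := by decide
  have h3 : orderOf (Equiv.swap (0 : Fin 3) 1 * Equiv.swap (0 : Fin 3) 2) = 3 :=
    (Equiv.Perm.isThreeCycle_swap_mul_swap_same (by decide) (by decide) (by decide)).orderOf
  obtain ⟨e⟩ := Cfsg.Agent.S0206.result _ _ hx hy hxy
  rw [h3] at e
  have hcard : Nat.card ↥(Subgroup.closure ({Equiv.swap (0 : Fin 3) 1, Equiv.swap (0 : Fin 3) 2} : Set (Equiv.Perm (Fin 3)))) = Nat.card (Equiv.Perm (Fin 3)) := by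
    rw [Nat.card_congr e.toEquiv, DihedralGroup.nat_card, Nat.card_eq_fintype_card, Fintype.card_perm]
    rfl
  have htop := Subgroup.eq_top_of_card_eq _ hcard
  exact ⟨(Subgroup.topEquiv.symm.trans (MulEquiv.subgroupCongr htop.symm)).trans e⟩

end Cfsg.Agent.Helper46
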