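import Mathlib
import Cfsg.Prelude.Def_LocalEven
import Cfsg.Agent.Lib.Helper46.Involves
import Cfsg.Agent.Lib.Helper46.Involves2
import Cfsg.Agent.Lib.Helper46.S4Facts

set_option autoImplicit false

namespace Cfsg.Agent.Helper46

open Cfsg

/-- In an elementary abelian 2-group `A` with an endomorphism `a` of order three and an endomorphism
`b` of 2-power order with `a b a = b`, there is a nontrivial `b`-fixed element in the kernel of the
norm map `1 + a + a²`. -/
theorem exists_fixed_normker {A : Type*} [CommGroup A] (hA2 : ∀ e : A, e * e = 1)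
    (a b : A →* A) (ha3 : ∀ e, a (a (a e)) = e) (ha1 : ∃ e, a e ≠ e)
    (hab : ∀ e, a (b (a e)) = b e) (k : ℕ) (hb : ∀ e, b^[2 ^ k] e = e) :
    ∃ w : A, w ≠ 1 ∧ b w = w ∧ w * a w * a (a w) = 1 ∧ b (a w) = a (a w) := by
  have hinv : ∀ e : A, e⁻¹ = e := fun e => inv_eq_of_mul_eq_one_right (hA2 e)
  have hab1 : ∀ e, a (b e) = b (a (a e)) := by
    intro e
    have h := hab (a (a e))
    rw [ha3] at h
    exact h
  have hab2 : ∀ e, a (a (b e)) = b (a e) := by
    intro e
    rw [hab1, hab1, ha3]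
  have hNmul : ∀ e f : A, (e * f) * a (e * f) * a (a (e * f)) =
      (e * a e * a (a e)) * (f * a f * a (a f)) := by
    intro e f
    simp only [map_mul]
    ac_rfl
  have hNb : ∀ e : A, b e * a (b e) * a (a (b e)) = b (e * a e * a (a e)) := by
    intro e
    rw [hab2, hab1]
    simp only [map_mul]
    ac_rfl
  have hNbm : ∀ (m : ℕ) (e : A), e * a e * a (a e) = 1 →
      b^[m] e * a (b^[m] e) * a (a (b^[m] e)) = 1 := by
    intro m
    induction m with
    | zero => intro e he; exact he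
    | succ m ih =>
      intro e he
      rw [Function.iterate_succ_apply', hNb, ih e he, map_one]
  have hiter : ∀ (n : ℕ) (e f : A), b^[n] (e * f) = b^[n] e * b^[n] f := by
    intro n
    induction n with
    | zero => intro e f; rfl
    | succ n ih =>
      intro e f
      rw [Function.iterate_succ_apply', Function.iterate_succ_apply', Function.iterate_succ_apply',
        ih, map_mul]
  obtain ⟨e₀, he₀⟩ := ha1
  have hu1 : e₀ * a e₀ ≠ 1 := by
    intro h
    apply he₀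
    have h2 : a e₀ = e₀⁻¹ := (inv_eq_of_mul_eq_one_right h).symm
    rw [h2, hinv]
  have hNu : (e₀ * a e₀) * a (e₀ * a e₀) * a (a (e₀ * a e₀)) = 1 := by
    simp only [map_mul, ha3]
    have h : e₀ * a e₀ * (a e₀ * a (a e₀)) * (a (a e₀) * e₀) =
        (e₀ * e₀) * (a e₀ * a e₀) * (a (a e₀) * a (a e₀)) := by ac_rfl
    rw [h, hA2 e₀, hA2 (a e₀), hA2 (a (a e₀)), mul_one, mul_one]
  have key : ∀ d, d ≤ k → ∃ v : A, v * a v * a (a v) = 1 ∧ v ≠ 1 ∧ b^[2 ^ (k - d)] v = v := by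
    intro d
    induction d with
    | zero => intro _; exact ⟨_, hNu, hu1, hb _⟩
    | succ d ih =>
      intro hd
      obtain ⟨v, hv1, hv2, hv3⟩ := ih (by omega)
      have hpow : 2 ^ (k - d) = 2 ^ (k - (d + 1)) + 2 ^ (k - (d + 1)) := by
        have h : k - d = (k - (d + 1)) + 1 := by omega
        rw [h, pow_succ]
        ring
      by_cases hv' : v * b^[2 ^ (k - (d + 1))] v = 1
      · refine ⟨v, hv1, hv2, ?_⟩
        have h2 : b^[2 ^ (k - (d + 1))] v = v⁻¹ := (inv_eq_of_mul_eq_one_right hv').symm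
        rw [h2, hinv]
      · refine ⟨v * b^[2 ^ (k - (d + 1))] v, ?_, hv', ?_⟩
        · rw [hNmul, hv1, hNbm _ v hv1, one_mul]
        · rw [hiter, ← Function.iterate_add_apply, ← hpow, hv3, mul_comm]
  obtain ⟨w, hw1, hw2, hw3⟩ := key k le_rfl
  rw [Nat.sub_self, pow_zero] at hw3
  have hbw : b w = w := hw3
  refine ⟨w, hw2, hbw, hw1, ?_⟩
  have h := hab w
  rw [hbw] at h
  calc b (a w) = a (a (a (b (a w)))) := (ha3 _).symm
    _ = a (a w) := by rw [h]


section four

variable {G : Type*} [Group G]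

/-- A four-group `U = {1, w, w₁, w₂}` on which `y` acts as a 3-cycle and `x` as a transposition,
where `y` lies in a 3-group `P` normalized by `x` and normalizing `U`: then `S₄` is involved. -/
theorem involves_S4_of_four [Finite G] (w w₁ w₂ x y : G) (P : Subgroup G)
    (hw : w ≠ 1) (hsq : w * w = 1) (m01 : w * w₁ = w₂) (m10 : w₁ * w = w₂)
    (hy0 : y * w * y⁻¹ = w₁) (hy1 : y * w₁ * y⁻¹ = w₂) (hy2 : y * w₂ * y⁻¹ = w)
    (hx0 : x * w * x⁻¹ = w) (hx1 : x * w₁ * x⁻¹ = w₂)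
    (hP : IsPGroup 3 ↥P) (hyP : y ∈ P) (hxP : x ∈ Subgroup.normalizer (P : Set G))
    (hPU : ∀ z ∈ P, ∀ u : G, (u = w ∨ u = w₁ ∨ u = w₂) →
      (z * u * z⁻¹ = w ∨ z * u * z⁻¹ = w₁ ∨ z * u * z⁻¹ = w₂)) :
    Cfsg.Involves (Equiv.Perm (Fin 4)) G := by
  have sq1 : w₁ * w₁ = 1 := by
    rw [← hy0]
    calc y * w * y⁻¹ * (y * w * y⁻¹) = y * (w * w) * y⁻¹ := by group
      _ = 1 := by rw [hsq]; group
  have sq2 : w₂ * w₂ = 1 := by
    rw [← hy1]
    calc y * w₁ * y⁻¹ * (y * w₁ * y⁻¹) = y * (w₁ * w₁) * y⁻¹ := by group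
      _ = 1 := by rw [sq1]; group
  have m02 : w * w₂ = w₁ := by rw [← m01, ← mul_assoc, hsq, one_mul]
  have m20 : w₂ * w = w₁ := by rw [← m10, mul_assoc, hsq, mul_one]
  have m12 : w₁ * w₂ = w := by rw [← m10, ← mul_assoc, sq1, one_mul]
  have m21 : w₂ * w₁ = w := by rw [← m01, mul_assoc, sq1, mul_one]
  have hx2 : x * w₂ * x⁻¹ = w₁ := by
    rw [← m01]
    calc x * (w * w₁) * x⁻¹ = (x * w * x⁻¹) * (x * w₁ * x⁻¹) := by group
      _ = w * w₂ := by rw [hx0, hx1]
      _ = w₁ := m02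
  have hw1 : w₁ ≠ 1 := fun h => hw (conj_eq_one_iff.mp (hy0.trans h))
  have hw2 : w₂ ≠ 1 := fun h => hw1 (conj_eq_one_iff.mp (hy1.trans h))
  have h01 : w ≠ w₁ := by
    intro h; apply hw2; rw [← m01, ← h, hsq]
  have h02 : w ≠ w₂ := by
    intro h; apply hw1; rw [← m02, ← h, hsq]
  have h12 : w₁ ≠ w₂ := by
    intro h; apply hw; rw [← m12, ← h, sq1]
  have i0 : w⁻¹ = w := inv_eq_of_mul_eq_one_right hsq
  have i1 : w₁⁻¹ = w₁ := inv_eq_of_mul_eq_one_right sq1
  have i2 : w₂⁻¹ = w₂ := inv_eq_of_mul_eq_one_right sq2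
  -- the four-group
  let U : Subgroup G :=
    { carrier := {u | u = 1 ∨ u = w ∨ u = w₁ ∨ u = w₂}
      one_mem' := Or.inl rfl
      mul_mem' := by
        intro a b ha hb
        rcases ha with h | h | h | h <;> rcases hb with h' | h' | h' | h' <;> rw [h, h'] <;>
          simp [hsq, sq1, sq2, m01, m10, m02, m20, m12, m21]
      inv_mem' := by
        intro a ha
        rcases ha with h | h | h | h <;> rw [h] <;> simp [i0, i1, i2] }
  have hU : ∀ u, u ∈ U ↔ (u = 1 ∨ u = w ∨ u = w₁ ∨ u = w₂) := fun u => Iff.rfl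
  have hUsq : ∀ u ∈ U, u * u = 1 := by
    intro u hu
    rcases (hU u).mp hu with h | h | h | h <;> rw [h]
    · exact one_mul 1
    · exact hsq
    · exact sq1
    · exact sq2
  have hyU : y ∈ Subgroup.normalizer ((U : Subgroup G) : Set G) := by
    apply Subgroup.mem_normalizer_fintype
    intro u hu
    rcases (hU u).mp hu with h | h | h | h <;> rw [h]
    · exact (hU _).mpr (Or.inl (by group))
    · exact (hU _).mpr (Or.inr (Or.inr (Or.inl hy0)))
    · exact (hU _).mpr (Or.inr (Or.inr (Or.inr hy1)))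
    · exact (hU _).mpr (Or.inr (Or.inl hy2))
  have hxU : x ∈ Subgroup.normalizer ((U : Subgroup G) : Set G) := by
    apply Subgroup.mem_normalizer_fintype
    intro u hu
    rcases (hU u).mp hu with h | h | h | h <;> rw [h]
    · exact (hU _).mpr (Or.inl (by group))
    · exact (hU _).mpr (Or.inr (Or.inl hx0))
    · exact (hU _).mpr (Or.inr (Or.inr (Or.inr hx1)))
    · exact (hU _).mpr (Or.inr (Or.inr (Or.inl hx2)))
  have hPU' : P ≤ Subgroup.normalizer ((U : Subgroup G) : Set G) := by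
    intro z hz
    apply Subgroup.mem_normalizer_fintype
    intro u hu
    rcases (hU u).mp hu with h | h | h | h
    · rw [h]; exact (hU _).mpr (Or.inl (by group))
    · exact (hU _).mpr (Or.inr (hPU z hz u (Or.inl h)))
    · exact (hU _).mpr (Or.inr (hPU z hz u (Or.inr (Or.inl h))))
    · exact (hU _).mpr (Or.inr (hPU z hz u (Or.inr (Or.inr h))))
  have hxP' : Subgroup.zpowers x ≤ Subgroup.normalizer (P : Set G) := Subgroup.zpowers_le.mpr hxP
  let L : Subgroup G := P ⊔ Subgroup.zpowers x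
  have hLU : L ≤ Subgroup.normalizer ((U : Subgroup G) : Set G) :=
    sup_le hPU' (Subgroup.zpowers_le.mpr hxU)
  have hPL : P ≤ L := le_sup_left
  have hyL : y ∈ L := hPL hyP
  have hxL : x ∈ L := (le_sup_right : Subgroup.zpowers x ≤ L) (Subgroup.mem_zpowers x)
  -- `U ∩ L = 1`
  have hUL : ∀ u, u ∈ U → u ∈ L → u = 1 := by
    intro u huU huL
    have hmem : u ∈ ((P ⊔ Subgroup.zpowers x : Subgroup G) : Set G) := huL
    rw [Subgroup.coe_mul_of_right_le_normalizer_left P (Subgroup.zpowers x) hxP'] at hmem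
    obtain ⟨z, hz, g, hg, hzg⟩ := Set.mem_mul.mp hmem
    have hgN : g ∈ Subgroup.normalizer (P : Set G) := hxP' hg
    have hc1 : y * u * y⁻¹ * u⁻¹ ∈ P := by
      have e : y * u * y⁻¹ * u⁻¹ = y * z * (g * y⁻¹ * g⁻¹) * z⁻¹ := by
        rw [← hzg]; group
      rw [e]
      exact P.mul_mem (P.mul_mem (P.mul_mem hyP hz)
        ((Subgroup.mem_normalizer_iff.mp hgN y⁻¹).mp (P.inv_mem hyP))) (P.inv_mem hz)
    have hc2 : y * u * y⁻¹ * u⁻¹ ∈ U :=
      U.mul_mem ((Subgroup.mem_normalizer_iff.mp hyU u).mp huU) (U.inv_mem huU)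
    have hc : y * u * y⁻¹ * u⁻¹ = 1 := by
      obtain ⟨j, hj⟩ := hP ⟨_, hc1⟩
      have hj' : (y * u * y⁻¹ * u⁻¹) ^ 3 ^ j = 1 := by
        have := congrArg Subtype.val hj
        simpa using this
      have h2 : (y * u * y⁻¹ * u⁻¹) ^ 2 = 1 := by rw [pow_two]; exact hUsq _ hc2
      have hd1 : orderOf (y * u * y⁻¹ * u⁻¹) ∣ 3 ^ j := orderOf_dvd_of_pow_eq_one hj'
      have hd2 : orderOf (y * u * y⁻¹ * u⁻¹) ∣ 2 := orderOf_dvd_of_pow_eq_one h2
      have hcop : Nat.Coprime (3 ^ j) 2 := Nat.Coprime.pow_left j (by norm_num)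
      have := Nat.eq_one_of_dvd_coprimes hcop hd1 hd2
      exact orderOf_eq_one_iff.mp this
    have hfix : y * u * y⁻¹ = u := by
      calc y * u * y⁻¹ = (y * u * y⁻¹ * u⁻¹) * u := by group
        _ = u := by rw [hc, one_mul]
    rcases (hU u).mp huU with h | h | h | h
    · exact h
    · exfalso; rw [h, hy0] at hfix; exact h01 hfix.symm
    · exfalso; rw [h, hy1] at hfix; exact h12 hfix.symm
    · exfalso; rw [h, hy2] at hfix; exact h02 hfix
  -- the group `H₄ = U L` and its action on the cosets of `L`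
  let H₄ : Subgroup G := U ⊔ L
  have hUH : U ≤ H₄ := le_sup_left
  have hLH : L ≤ H₄ := le_sup_right
  let uu : Fin 4 → G := ![1, w, w₁, w₂]
  have huuU : ∀ i, uu i ∈ U := by
    intro i
    fin_cases i
    · exact (hU _).mpr (Or.inl rfl)
    · exact (hU _).mpr (Or.inr (Or.inl rfl))
    · exact (hU _).mpr (Or.inr (Or.inr (Or.inl rfl)))
    · exact (hU _).mpr (Or.inr (Or.inr (Or.inr rfl)))
  have huu_surj : ∀ u ∈ U, ∃ i, uu i = u := by
    intro u hu
    rcases (hU u).mp hu with h | h | h | h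
    · exact ⟨0, h.symm⟩
    · exact ⟨1, h.symm⟩
    · exact ⟨2, h.symm⟩
    · exact ⟨3, h.symm⟩
  have huu_inj : Function.Injective uu := by
    intro i j h
    fin_cases i <;> fin_cases j <;>
      first
      | rfl
      | (exfalso
         simp [uu] at h
         first
         | exact hw h | exact hw h.symm | exact hw1 h | exact hw1 h.symm | exact hw2 h
         | exact hw2 h.symm | exact h01 h | exact h01 h.symm | exact h02 h | exact h02 h.symm
         | exact h12 h | exact h12 h.symm)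
  let uH : Fin 4 → ↥H₄ := fun i => ⟨uu i, hUH (huuU i)⟩
  let L' : Subgroup ↥H₄ := L.subgroupOf H₄
  let pts : Fin 4 → ↥H₄ ⧸ L' := fun i => QuotientGroup.mk (uH i)
  have hpts_eq : ∀ (h : ↥H₄) (i : Fin 4), (uu i)⁻¹ * (h : G) ∈ L → pts i = QuotientGroup.mk h := by
    intro h i hmem
    rw [QuotientGroup.eq, Subgroup.mem_subgroupOf]
    exact hmem
  have hpts_inj : Function.Injective pts := by
    intro i j hij
    have h1 : (uu i)⁻¹ * uu j ∈ L := by
      have := QuotientGroup.eq.mp hij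
      rw [Subgroup.mem_subgroupOf] at this
      exact this
    have h2 : (uu i)⁻¹ * uu j ∈ U := U.mul_mem (U.inv_mem (huuU i)) (huuU j)
    have h3 := hUL _ h2 h1
    exact huu_inj (inv_mul_eq_one.mp h3)
  have hpts_surj : Function.Surjective pts := by
    intro q
    induction q using QuotientGroup.induction_on with
    | H h =>
      have hmem : (h : G) ∈ ((U ⊔ L : Subgroup G) : Set G) := h.2
      rw [Subgroup.coe_mul_of_right_le_normalizer_left U L hLU] at hmem
      obtain ⟨u, hu, l, hl, hul⟩ := Set.mem_mul.mp hmem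
      obtain ⟨i, hi⟩ := huu_surj u hu
      refine ⟨i, hpts_eq h i ?_⟩
      rw [hi, ← hul, inv_mul_cancel_left]
      exact hl
  let ε : Fin 4 ≃ (↥H₄ ⧸ L') := Equiv.ofBijective pts ⟨hpts_inj, hpts_surj⟩
  let Φ : ↥H₄ →* Equiv.Perm (↥H₄ ⧸ L') := MulAction.toPermHom ↥H₄ (↥H₄ ⧸ L')
  let Φ' : ↥H₄ →* Equiv.Perm (Fin 4) := (ε.symm.permCongrHom).toMonoidHom.comp Φ
  have hΦ' : ∀ (h : ↥H₄) (i j : Fin 4), (uu j)⁻¹ * ((h : G) * uu i) ∈ L → Φ' h i = j := by
    intro h i j hmem
    change ε.symm (h • ε i) = j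
    rw [Equiv.symm_apply_eq]
    change h • (QuotientGroup.mk (uH i) : ↥H₄ ⧸ L') = pts j
    rw [MulAction.Quotient.smul_mk]
    exact (hpts_eq (h * uH i) j hmem).symm
  have hyH : y ∈ H₄ := hLH hyL
  have hxH : x ∈ H₄ := hLH hxL
  have hwH : w ∈ H₄ := hUH ((hU _).mpr (Or.inr (Or.inl rfl)))
  have hu0 : uu 0 = 1 := rfl
  have hu1 : uu 1 = w := rfl
  have hu2 : uu 2 = w₁ := rfl
  have hu3 : uu 3 = w₂ := rfl
  have htop : Φ'.range = ⊤ := by
    apply s4_eq_top_of_mem Φ'.range (Φ' ⟨y, hyH⟩) (Φ' ⟨x, hxH⟩) (Φ' ⟨w, hwH⟩) ⟨_, rfl⟩ ⟨_, rfl⟩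
      ⟨_, rfl⟩
    · apply hΦ'
      rw [hu0]
      have e : (1 : G)⁻¹ * (y * 1) = y := by group
      change (1 : G)⁻¹ * (y * 1) ∈ L
      rw [e]; exact hyL
    · apply hΦ'
      rw [hu1, hu2]
      have e : w₁⁻¹ * (y * w) = y := by rw [← hy0]; group
      change w₁⁻¹ * (y * w) ∈ L
      rw [e]; exact hyL
    · apply hΦ'
      rw [hu2, hu3]
      have e : w₂⁻¹ * (y * w₁) = y := by rw [← hy1]; group
      change w₂⁻¹ * (y * w₁) ∈ L
      rw [e]; exact hyL
    · apply hΦ'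
      rw [hu3, hu1]
      have e : w⁻¹ * (y * w₂) = y := by rw [← hy2]; group
      change w⁻¹ * (y * w₂) ∈ L
      rw [e]; exact hyL
    · apply hΦ'
      rw [hu0]
      have e : (1 : G)⁻¹ * (x * 1) = x := by group
      change (1 : G)⁻¹ * (x * 1) ∈ L
      rw [e]; exact hxL
    · apply hΦ'
      rw [hu1]
      have e : w⁻¹ * (x * w) = x := by
        nth_rewrite 1 [← hx0]; group
      change w⁻¹ * (x * w) ∈ L
      rw [e]; exact hxL
    · apply hΦ'
      rw [hu2, hu3]
      have e : w₂⁻¹ * (x * w₁) = x := by rw [← hx1]; group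
      change w₂⁻¹ * (x * w₁) ∈ L
      rw [e]; exact hxL
    · apply hΦ'
      rw [hu3, hu2]
      have e : w₁⁻¹ * (x * w₂) = x := by rw [← hx2]; group
      change w₁⁻¹ * (x * w₂) ∈ L
      rw [e]; exact hxL
    · apply hΦ'
      rw [hu0, hu1]
      have e : w⁻¹ * (w * 1) = 1 := by group
      change w⁻¹ * (w * 1) ∈ L
      rw [e]; exact L.one_mem
    · apply hΦ'
      rw [hu1, hu0]
      have e : (1 : G)⁻¹ * (w * w) = 1 := by rw [hsq]; group
      change (1 : G)⁻¹ * (w * w) ∈ L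
      rw [e]; exact L.one_mem
    · apply hΦ'
      rw [hu2, hu3]
      have e : w₂⁻¹ * (w * w₁) = 1 := by rw [m01]; group
      change w₂⁻¹ * (w * w₁) ∈ L
      rw [e]; exact L.one_mem
    · apply hΦ'
      rw [hu3, hu2]
      have e : w₁⁻¹ * (w * w₂) = 1 := by rw [m02]; group
      change w₁⁻¹ * (w * w₂) ∈ L
      rw [e]; exact L.one_mem
  exact involves_of_surjective H₄ Φ' (MonoidHom.range_eq_top.mp htop)

end four

end Cfsg.Agent.Helper46
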