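import Mathlib
import Cfsg.Prelude.Def_LocalEven
import Cfsg.Agent.Lib.Helper46.Involves
import Cfsg.Agent.Lib.Helper46.Involves2
import Cfsg.Agent.Lib.Helper46.S4Facts
import Cfsg.Agent.Lib.Helper46.S4Section

set_option autoImplicit false

namespace Cfsg.Agent.Helper46

open Cfsg

open scoped IsMulCommutative

/-- The data from which an `S₄`-section is built: a 2-element `x` normalizing a 3-group `P`, both
normalizing `T`, where `P` acts on `T` through the powers of `y ∈ P`, `y` acts nontrivially with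
`y³` trivial, and `x` inverts `y` modulo the centralizer of `T`. -/
structure S4Pkg {G : Type*} [Group G] (T : Subgroup G) (x : G) (P : Subgroup G) (y : G) : Prop where
  hx : ∃ k : ℕ, orderOf x = 2 ^ k
  hP : IsPGroup 3 ↥P
  hxP : x ∈ Subgroup.normalizer (P : Set G)
  hxT : x ∈ Subgroup.normalizer (T : Set G)
  hPT : P ≤ Subgroup.normalizer (T : Set G)
  hyP : y ∈ P
  hy1 : ∃ t ∈ T, y * t * y⁻¹ ≠ t
  hP3 : ∀ z ∈ P, ∃ i : ℕ, ∀ t ∈ T, z * t * z⁻¹ = y ^ i * t * (y ^ i)⁻¹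
  hy3 : ∀ t ∈ T, y ^ 3 * t * (y ^ 3)⁻¹ = t
  hinv : ∀ t ∈ T, (x * y * x⁻¹ * y) * t * (x * y * x⁻¹ * y)⁻¹ = t

section

variable {G : Type*} [Group G]

/-- restriction of conjugation to a subgroup -/
def conjRestrict (E : Subgroup G) (g : G) (hg : ∀ e ∈ E, g * e * g⁻¹ ∈ E) : ↥E →* ↥E where
  toFun e := ⟨g * e * g⁻¹, hg e e.2⟩
  map_one' := Subtype.ext (by simp)
  map_mul' e f := Subtype.ext (by simp)

theorem conjRestrict_coe (E : Subgroup G) (g : G) (hg : ∀ e ∈ E, g * e * g⁻¹ ∈ E) (e : ↥E) :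
    ((conjRestrict E g hg e : ↥E) : G) = g * e * g⁻¹ := rfl

theorem inv_conj_mem_of_mem_normalizer {E : Subgroup G} {g : G}
    (hg : g ∈ Subgroup.normalizer (E : Set G)) {e : G} (he : e ∈ E) : g⁻¹ * e * g ∈ E := by
  have h := (Subgroup.mem_normalizer_iff.mp (Subgroup.inv_mem _ hg) e).mp he
  rwa [inv_inv] at h

theorem conj_mem_of_mem_normalizer {E : Subgroup G} {g : G}
    (hg : g ∈ Subgroup.normalizer (E : Set G)) {e : G} (he : e ∈ E) : g * e * g⁻¹ ∈ E :=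
  (Subgroup.mem_normalizer_iff.mp hg e).mp he

/-- the elementary abelian case -/
theorem involves_S4_of_elemAb [Finite G] {E : Subgroup G} {x y : G} {P : Subgroup G}
    (h : S4Pkg E x P y) (hEc : ∀ a ∈ E, ∀ b ∈ E, a * b = b * a) (hE2 : ∀ a ∈ E, a * a = 1) :
    Cfsg.Involves (Equiv.Perm (Fin 4)) G := by
  have : IsMulCommutative ↥E := ⟨⟨fun a b => Subtype.ext (hEc a a.2 b b.2)⟩⟩
  have hyN : y ∈ Subgroup.normalizer (E : Set G) := h.hPT h.hyP
  have hyE : ∀ e ∈ E, y * e * y⁻¹ ∈ E := fun e he => conj_mem_of_mem_normalizer hyN he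
  have hyE' : ∀ e ∈ E, y⁻¹ * e * y ∈ E := fun e he => inv_conj_mem_of_mem_normalizer hyN he
  have hxE : ∀ e ∈ E, x * e * x⁻¹ ∈ E := fun e he => conj_mem_of_mem_normalizer h.hxT he
  obtain ⟨k, hk⟩ := h.hx
  have ha3 : ∀ e : ↥E, conjRestrict E y hyE (conjRestrict E y hyE (conjRestrict E y hyE e)) = e := by
    intro e
    apply Subtype.ext
    change y * (y * (y * (e : G) * y⁻¹) * y⁻¹) * y⁻¹ = e
    have e3 : y ^ 3 = y * y * y := by rw [pow_succ, pow_succ, pow_one]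
    calc y * (y * (y * (e : G) * y⁻¹) * y⁻¹) * y⁻¹ = y ^ 3 * e * (y ^ 3)⁻¹ := by rw [e3]; group
      _ = e := h.hy3 e e.2
  have ha1 : ∃ e : ↥E, conjRestrict E y hyE e ≠ e := by
    obtain ⟨t, ht, hne⟩ := h.hy1
    exact ⟨⟨t, ht⟩, fun hh => hne (congrArg Subtype.val hh)⟩
  have hab : ∀ e : ↥E, conjRestrict E y hyE (conjRestrict E x hxE (conjRestrict E y hyE e)) =
      conjRestrict E x hxE e := by
    intro e
    apply Subtype.ext
    change y * (x * (y * (e : G) * y⁻¹) * x⁻¹) * y⁻¹ = x * (e : G) * x⁻¹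
    have h1 := h.hinv (y⁻¹ * (x * (e : G) * x⁻¹) * y) (hyE' _ (hxE _ e.2))
    calc y * (x * (y * (e : G) * y⁻¹) * x⁻¹) * y⁻¹
        = y * ((x * y * x⁻¹ * y) * (y⁻¹ * (x * (e : G) * x⁻¹) * y) * (x * y * x⁻¹ * y)⁻¹) * y⁻¹ := by
          group
      _ = y * (y⁻¹ * (x * (e : G) * x⁻¹) * y) * y⁻¹ := by rw [h1]
      _ = x * (e : G) * x⁻¹ := by group
  have hiter : ∀ (n : ℕ) (e : ↥E), (((conjRestrict E x hxE)^[n] e : ↥E) : G) =
      x ^ n * e * (x ^ n)⁻¹ := by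
    intro n
    induction n with
    | zero => intro e; simp
    | succ n ih =>
      intro e
      rw [Function.iterate_succ_apply', conjRestrict_coe, ih]
      group
  have hb : ∀ e : ↥E, (conjRestrict E x hxE)^[2 ^ k] e = e := by
    intro e
    apply Subtype.ext
    rw [hiter, ← hk, pow_orderOf_eq_one]
    simp
  obtain ⟨w, hw1, hbw, hN, hbaw⟩ := exists_fixed_normker (A := ↥E)
    (fun e => Subtype.ext (hE2 e e.2)) (conjRestrict E y hyE) (conjRestrict E x hxE) ha3 ha1 hab k hb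
  have hw1' : (w : G) ≠ 1 := fun hh => hw1 (Subtype.ext hh)
  have hw₁E : y * (w : G) * y⁻¹ ∈ E := hyE _ w.2
  have hw₂E : y * (y * (w : G) * y⁻¹) * y⁻¹ ∈ E := hyE _ hw₁E
  have hN' : (w : G) * (y * (w : G) * y⁻¹) * (y * (y * (w : G) * y⁻¹) * y⁻¹) = 1 :=
    congrArg Subtype.val hN
  have m01 : (w : G) * (y * (w : G) * y⁻¹) = y * (y * (w : G) * y⁻¹) * y⁻¹ := by
    have h1 := eq_inv_of_mul_eq_one_left hN'
    rw [h1]
    exact inv_eq_of_mul_eq_one_right (hE2 _ hw₂E)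
  have m10 : (y * (w : G) * y⁻¹) * (w : G) = y * (y * (w : G) * y⁻¹) * y⁻¹ := by
    rw [← m01]
    exact hEc _ hw₁E _ w.2
  have hy2 : y * (y * (y * (w : G) * y⁻¹) * y⁻¹) * y⁻¹ = w := congrArg Subtype.val (ha3 w)
  have hx0 : x * (w : G) * x⁻¹ = w := congrArg Subtype.val hbw
  have hx1 : x * (y * (w : G) * y⁻¹) * x⁻¹ = y * (y * (w : G) * y⁻¹) * y⁻¹ :=
    congrArg Subtype.val hbaw
  have hcyc : ∀ (i : ℕ) (u : G),
      (u = (w : G) ∨ u = y * (w : G) * y⁻¹ ∨ u = y * (y * (w : G) * y⁻¹) * y⁻¹) →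
      (y ^ i * u * (y ^ i)⁻¹ = (w : G) ∨ y ^ i * u * (y ^ i)⁻¹ = y * (w : G) * y⁻¹ ∨
        y ^ i * u * (y ^ i)⁻¹ = y * (y * (w : G) * y⁻¹) * y⁻¹) := by
    intro i
    induction i with
    | zero => intro u hu; simpa using hu
    | succ i ih =>
      intro u hu
      have e : y ^ (i + 1) * u * (y ^ (i + 1))⁻¹ = y * (y ^ i * u * (y ^ i)⁻¹) * y⁻¹ := by group
      rw [e]
      rcases ih u hu with h1 | h1 | h1 <;> rw [h1]
      · exact Or.inr (Or.inl rfl)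
      · exact Or.inr (Or.inr rfl)
      · exact Or.inl hy2
  apply involves_S4_of_four (w : G) (y * (w : G) * y⁻¹) (y * (y * (w : G) * y⁻¹) * y⁻¹) x y P
    hw1' (hE2 _ w.2) m01 m10 rfl rfl hy2 hx0 hx1 h.hP h.hyP h.hxP
  intro z hz u hu
  obtain ⟨i, hi⟩ := h.hP3 z hz
  have huE : u ∈ E := by
    rcases hu with h1 | h1 | h1 <;> rw [h1]
    · exact w.2
    · exact hw₁E
    · exact hw₂E
  rw [hi u huE]
  exact hcyc i u hu

end


section omega

variable {G : Type*} [Group G]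

/-- the central elements of `T` of order at most two: `Ω₁(Z(T))` for a 2-group `T` -/
def omega1Z (T : Subgroup G) : Subgroup G where
  carrier := {z | z ∈ T ∧ (∀ t ∈ T, t * z = z * t) ∧ z * z = 1}
  one_mem' := ⟨T.one_mem, fun t _ => by simp, by simp⟩
  mul_mem' := by
    rintro a b ⟨ha1, ha2, ha3⟩ ⟨hb1, hb2, hb3⟩
    refine ⟨T.mul_mem ha1 hb1, ?_, ?_⟩
    · intro t ht
      rw [← mul_assoc, ha2 t ht, mul_assoc, hb2 t ht, mul_assoc]
    · calc a * b * (a * b) = a * (b * a) * b := by group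
        _ = a * (a * b) * b := by rw [ha2 b hb1]
        _ = (a * a) * (b * b) := by group
        _ = 1 := by rw [ha3, hb3, one_mul]
  inv_mem' := by
    rintro a ⟨ha1, ha2, ha3⟩
    have e : a⁻¹ = a := inv_eq_of_mul_eq_one_right ha3
    rw [e]
    exact ⟨ha1, ha2, ha3⟩

theorem omega1Z_le (T : Subgroup G) : omega1Z T ≤ T := fun _ hz => hz.1

theorem omega1Z_comm (T : Subgroup G) : ∀ a ∈ omega1Z T, ∀ b ∈ omega1Z T, a * b = b * a :=
  fun _ ha _ hb => (hb.2.1 _ ha.1)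

theorem omega1Z_sq (T : Subgroup G) : ∀ a ∈ omega1Z T, a * a = 1 := fun _ ha => ha.2.2

theorem conj_mem_omega1Z {T : Subgroup G} {g : G} (hg : g ∈ Subgroup.normalizer (T : Set G)) {z : G}
    (hz : z ∈ omega1Z T) : g * z * g⁻¹ ∈ omega1Z T := by
  obtain ⟨hz1, hz2, hz3⟩ := hz
  refine ⟨conj_mem_of_mem_normalizer hg hz1, ?_, ?_⟩
  · intro t ht
    have h1 := hz2 (g⁻¹ * t * g) (inv_conj_mem_of_mem_normalizer hg ht)
    calc t * (g * z * g⁻¹) = g * ((g⁻¹ * t * g) * z) * g⁻¹ := by group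
      _ = g * (z * (g⁻¹ * t * g)) * g⁻¹ := by rw [h1]
      _ = g * z * g⁻¹ * t := by group
  · calc g * z * g⁻¹ * (g * z * g⁻¹) = g * (z * z) * g⁻¹ := by group
      _ = 1 := by rw [hz3]; group

theorem normalizer_le_normalizer_omega1Z (T : Subgroup G) :
    Subgroup.normalizer (T : Set G) ≤ Subgroup.normalizer ((omega1Z T : Subgroup G) : Set G) := by
  intro g hg
  rw [Subgroup.mem_normalizer_iff]
  intro z
  constructor
  · exact fun hz => conj_mem_omega1Z hg hz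
  · intro hz
    have h1 := conj_mem_omega1Z (Subgroup.inv_mem _ hg) hz
    have e : g⁻¹ * (g * z * g⁻¹) * g⁻¹⁻¹ = z := by group
    rwa [e] at h1

theorem omega1Z_ne_bot [Finite G] {T : Subgroup G} (hT : IsPGroup 2 ↥T) (hne : T ≠ ⊥) :
    omega1Z T ≠ ⊥ := by
  have : Nontrivial ↥T := (Subgroup.nontrivial_iff_ne_bot T).mpr hne
  have : Fact (Nat.Prime 2) := ⟨Nat.prime_two⟩
  have := hT.center_nontrivial
  have hZ : IsPGroup 2 ↥(Subgroup.center ↥T) := hT.to_subgroup _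
  have hdvd : 2 ∣ Nat.card ↥(Subgroup.center ↥T) := by
    rcases hZ.card_eq_or_dvd with h1 | h1
    · exfalso
      have := Finite.one_lt_card (α := ↥(Subgroup.center ↥T))
      omega
    · exact h1
  obtain ⟨c, hc⟩ := exists_prime_orderOf_dvd_card' 2 hdvd
  intro hbot
  have hmem : ((c : ↥T) : G) ∈ omega1Z T := by
    refine ⟨(c : ↥T).2, ?_, ?_⟩
    · intro t ht
      have h1 := Subgroup.mem_center_iff.mp c.2 ⟨t, ht⟩
      exact congrArg Subtype.val h1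
    · have h2 : c ^ 2 = 1 := by rw [← hc]; exact pow_orderOf_eq_one c
      have h3 := congrArg (fun z : ↥(Subgroup.center ↥T) => ((z : ↥T) : G)) h2
      simpa [pow_two] using h3
  rw [hbot, Subgroup.mem_bot] at hmem
  have h1 : c = 1 := Subtype.ext (Subtype.ext hmem)
  rw [h1, orderOf_one] at hc
  omega

end omega

/-- transport of the data along a homomorphism defined on a subgroup -/
theorem S4Pkg.map {G : Type*} [Group G] {G' : Type*} [Group G'] [Finite G'] {T : Subgroup G} {x : G}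
    {P : Subgroup G} {y : G} (h : S4Pkg T x P y) (N : Subgroup G) (f : ↥N →* G')
    (hxN : x ∈ N) (hPN : P ≤ N)
    (hne : ∃ t' ∈ (T.subgroupOf N).map f,
      f ⟨y, hPN h.hyP⟩ * t' * (f ⟨y, hPN h.hyP⟩)⁻¹ ≠ t') :
    S4Pkg ((T.subgroupOf N).map f) (f ⟨x, hxN⟩) ((P.subgroupOf N).map f) (f ⟨y, hPN h.hyP⟩) := by
  have key : ∀ (g : G) (hg : g ∈ N) (S : Subgroup G), g ∈ Subgroup.normalizer (S : Set G) →
      f ⟨g, hg⟩ ∈ Subgroup.normalizer (((S.subgroupOf N).map f : Subgroup G') : Set G') := by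
    intro g hg S hgS
    apply Subgroup.mem_normalizer_fintype
    intro s' hs'
    obtain ⟨n, hn, rfl⟩ := Subgroup.mem_map.mp (SetLike.mem_coe.mp hs')
    rw [Subgroup.mem_subgroupOf] at hn
    refine SetLike.mem_coe.mpr (Subgroup.mem_map.mpr ⟨⟨g, hg⟩ * n * ⟨g, hg⟩⁻¹, ?_, by simp⟩)
    rw [Subgroup.mem_subgroupOf]
    exact conj_mem_of_mem_normalizer hgS hn
  refine ⟨?_, ?_, key x hxN P h.hxP, key x hxN T h.hxT, ?_, ?_, hne, ?_, ?_, ?_⟩
  · obtain ⟨k, hk⟩ := h.hx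
    have hd : orderOf (f ⟨x, hxN⟩) ∣ 2 ^ k := by
      rw [← hk, ← Subgroup.orderOf_mk x hxN]
      exact orderOf_map_dvd f _
    obtain ⟨j, -, hj⟩ := (Nat.dvd_prime_pow Nat.prime_two).mp hd
    exact ⟨j, hj⟩
  · exact (h.hP.comap_subtype (K := N)).map f
  · intro z' hz'
    obtain ⟨n, hn, rfl⟩ := Subgroup.mem_map.mp hz'
    rw [Subgroup.mem_subgroupOf] at hn
    exact key (n : G) n.2 T (h.hPT hn)
  · exact Subgroup.mem_map.mpr ⟨⟨y, hPN h.hyP⟩, Subgroup.mem_subgroupOf.mpr h.hyP, rfl⟩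
  · intro z' hz'
    obtain ⟨nz, hnz, rfl⟩ := Subgroup.mem_map.mp hz'
    obtain ⟨i, hi⟩ := h.hP3 nz (Subgroup.mem_subgroupOf.mp hnz)
    refine ⟨i, ?_⟩
    intro t' ht'
    obtain ⟨nt, hnt, rfl⟩ := Subgroup.mem_map.mp ht'
    have e : nz * nt * nz⁻¹ = (⟨y, hPN h.hyP⟩ : ↥N) ^ i * nt * ((⟨y, hPN h.hyP⟩ : ↥N) ^ i)⁻¹ :=
      Subtype.ext (by simpa using hi nt (Subgroup.mem_subgroupOf.mp hnt))
    have e2 := congrArg f e
    simp only [map_mul, map_inv, map_pow] at e2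
    exact e2
  · intro t' ht'
    obtain ⟨nt, hnt, rfl⟩ := Subgroup.mem_map.mp ht'
    have e : (⟨y, hPN h.hyP⟩ : ↥N) ^ 3 * nt * ((⟨y, hPN h.hyP⟩ : ↥N) ^ 3)⁻¹ = nt :=
      Subtype.ext (by simpa using h.hy3 nt (Subgroup.mem_subgroupOf.mp hnt))
    have e2 := congrArg f e
    simp only [map_mul, map_inv, map_pow] at e2
    exact e2
  · intro t' ht'
    obtain ⟨nt, hnt, rfl⟩ := Subgroup.mem_map.mp ht'
    have e : ((⟨x, hxN⟩ : ↥N) * ⟨y, hPN h.hyP⟩ * (⟨x, hxN⟩ : ↥N)⁻¹ * ⟨y, hPN h.hyP⟩) * nt *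
        ((⟨x, hxN⟩ : ↥N) * ⟨y, hPN h.hyP⟩ * (⟨x, hxN⟩ : ↥N)⁻¹ * ⟨y, hPN h.hyP⟩)⁻¹ = nt :=
      Subtype.ext (by simpa using h.hinv nt (Subgroup.mem_subgroupOf.mp hnt))
    have e2 := congrArg f e
    simp only [map_mul, map_inv] at e2
    exact e2

end Cfsg.Agent.Helper46
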