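import Mathlib
import Cfsg.Prelude.Def_LocalEven
import Cfsg.Agent.Lib.Helper46.Involves
import Cfsg.Agent.Lib.Helper46.Involves2
import Cfsg.Agent.Lib.Helper46.S4Facts
import Cfsg.Agent.Lib.Helper46.S4Section
import Cfsg.Agent.Lib.Helper46.S4Section2

set_option autoImplicit false

namespace Cfsg.Agent.Helper46

open Cfsg

universe u

/-- if `y` (of 3-power order) centralizes `Z` and `T / Z`, with `Z` of exponent 2, then `y`
centralizes `T` -/
theorem conj_eq_of_stable {G : Type*} [Group G] {y t : G} {j : ℕ} (hy : y ^ 3 ^ j = 1)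
    (hz2 : (t⁻¹ * (y * t * y⁻¹)) * (t⁻¹ * (y * t * y⁻¹)) = 1)
    (hzy : y * (t⁻¹ * (y * t * y⁻¹)) * y⁻¹ = t⁻¹ * (y * t * y⁻¹)) : y * t * y⁻¹ = t := by
  set z := t⁻¹ * (y * t * y⁻¹) with hz
  have h1 : y * t * y⁻¹ = t * z := by rw [hz]; group
  have hzn : ∀ n : ℕ, y * z ^ n * y⁻¹ = z ^ n := by
    intro n
    rw [← conj_pow, hzy]
  have h2 : ∀ n : ℕ, y ^ n * t * (y ^ n)⁻¹ = t * z ^ n := by
    intro n
    induction n with
    | zero => simp
    | succ n ih =>
      calc y ^ (n + 1) * t * (y ^ (n + 1))⁻¹ = y * (y ^ n * t * (y ^ n)⁻¹) * y⁻¹ := by group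
        _ = y * (t * z ^ n) * y⁻¹ := by rw [ih]
        _ = (y * t * y⁻¹) * (y * z ^ n * y⁻¹) := by group
        _ = t * z * z ^ n := by rw [h1, hzn]
        _ = t * z ^ (n + 1) := by rw [pow_succ', mul_assoc]
  have h3 := h2 (3 ^ j)
  rw [hy] at h3
  have h4 : z ^ 3 ^ j = 1 := by
    have : t = t * z ^ 3 ^ j := by simpa using h3
    exact (mul_eq_left).mp this.symm
  have h5 : z ^ 2 = 1 := by rw [pow_two]; exact hz2
  have hd1 : orderOf z ∣ 3 ^ j := orderOf_dvd_of_pow_eq_one h4
  have hd2 : orderOf z ∣ 2 := orderOf_dvd_of_pow_eq_one h5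
  have hcop : Nat.Coprime (3 ^ j) 2 := Nat.Coprime.pow_left j (by norm_num)
  have h6 : z = 1 := orderOf_eq_one_iff.mp (Nat.eq_one_of_dvd_coprimes hcop hd1 hd2)
  rw [h1, h6, mul_one]

theorem involves_S4_of_pkg_aux (n : ℕ) : ∀ (G : Type u) [Group G] [Finite G] (T : Subgroup G) (x : G)
    (P : Subgroup G) (y : G), Nat.card ↥T = n → IsPGroup 2 ↥T → S4Pkg T x P y →
    Cfsg.Involves (Equiv.Perm (Fin 4)) G := by
  induction n using Nat.strong_induction_on with
  | _ n ih =>
    intro G _ _ T x P y hn hT h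
    by_cases hyZ : ∀ z ∈ omega1Z T, y * z * y⁻¹ = z
    · -- pass to `N_G(Z) / Z`
      have hNT := normalizer_le_normalizer_omega1Z T
      have hTN : T ≤ Subgroup.normalizer ((omega1Z T : Subgroup G) : Set G) :=
        Subgroup.le_normalizer.trans hNT
      have hxN : x ∈ Subgroup.normalizer ((omega1Z T : Subgroup G) : Set G) := hNT h.hxT
      have hPN : P ≤ Subgroup.normalizer ((omega1Z T : Subgroup G) : Set G) := h.hPT.trans hNT
      have hTne : T ≠ ⊥ := by
        intro hbot
        obtain ⟨t, ht, hne⟩ := h.hy1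
        rw [hbot, Subgroup.mem_bot] at ht
        apply hne
        rw [ht]; group
      have hZne := omega1Z_ne_bot hT hTne
      let f := QuotientGroup.mk' ((omega1Z T).subgroupOf
        (Subgroup.normalizer ((omega1Z T : Subgroup G) : Set G)))
      have hf : ∀ a b, f a = f b ↔ (a : G)⁻¹ * (b : G) ∈ omega1Z T := by
        intro a b
        change (QuotientGroup.mk a : _ ⧸ _) = QuotientGroup.mk b ↔ _
        rw [QuotientGroup.eq, Subgroup.mem_subgroupOf]
        rfl
      obtain ⟨j, hj⟩ := h.hP ⟨y, h.hyP⟩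
      have hyj : y ^ 3 ^ j = 1 := by
        have := congrArg Subtype.val hj
        simpa using this
      have hne : ∃ t' ∈ (T.subgroupOf _).map f,
          f ⟨y, hPN h.hyP⟩ * t' * (f ⟨y, hPN h.hyP⟩)⁻¹ ≠ t' := by
        by_contra hall
        push Not at hall
        obtain ⟨t, ht, hne⟩ := h.hy1
        apply hne
        have h1 := hall (f ⟨t, hTN ht⟩)
          (Subgroup.mem_map.mpr ⟨⟨t, hTN ht⟩, Subgroup.mem_subgroupOf.mpr ht, rfl⟩)
        rw [← map_inv, ← map_mul, ← map_mul] at h1
        have h2 := (hf _ _).mp h1.symm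
        have h2' : t⁻¹ * (y * t * y⁻¹) ∈ omega1Z T := h2
        exact conj_eq_of_stable hyj (omega1Z_sq T _ h2') (hyZ _ h2')
      have h' := h.map _ f hxN hPN hne
      have hlt : Nat.card ↥((T.subgroupOf (Subgroup.normalizer ((omega1Z T : Subgroup G) : Set G))).map f)
          < n := by
        rw [← hn]
        classical
        have : Fintype ↥T := Fintype.ofFinite _
        have : Fintype ↥((T.subgroupOf
          (Subgroup.normalizer ((omega1Z T : Subgroup G) : Set G))).map f) := Fintype.ofFinite _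
        rw [Nat.card_eq_fintype_card, Nat.card_eq_fintype_card]
        let φ : ↥T → ↥((T.subgroupOf
            (Subgroup.normalizer ((omega1Z T : Subgroup G) : Set G))).map f) :=
          fun t => ⟨f ⟨t, hTN t.2⟩,
            Subgroup.mem_map.mpr ⟨⟨t, hTN t.2⟩, Subgroup.mem_subgroupOf.mpr t.2, rfl⟩⟩
        apply Fintype.card_lt_of_surjective_not_injective φ
        · rintro ⟨t', ht'⟩
          obtain ⟨nt, hnt, rfl⟩ := Subgroup.mem_map.mp ht'
          exact ⟨⟨nt, Subgroup.mem_subgroupOf.mp hnt⟩, rfl⟩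
        · intro hinj
          obtain ⟨⟨z, hz⟩, hz1⟩ := (Subgroup.ne_bot_iff_exists_ne_one.mp hZne)
          have hzT : z ∈ T := omega1Z_le T hz
          have h1 : φ ⟨z, hzT⟩ = φ 1 := by
            apply Subtype.ext
            change f ⟨z, hTN hzT⟩ = f ⟨((1 : ↥T) : G), hTN (1 : ↥T).2⟩
            rw [hf]
            change z⁻¹ * 1 ∈ omega1Z T
            rw [mul_one]
            exact Subgroup.inv_mem _ hz
          have h2 := hinj h1
          apply hz1
          apply Subtype.ext
          exact congrArg (Subtype.val : ↥T → G) h2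
      have hT' : IsPGroup 2 ↥((T.subgroupOf
          (Subgroup.normalizer ((omega1Z T : Subgroup G) : Set G))).map f) :=
        (hT.comap_subtype).map f
      have h1 := ih _ hlt _ _ _ _ _ rfl hT' h'
      exact involves_of_involves_subgroup _
        (involves_of_involves_quotient f (QuotientGroup.mk'_surjective _) h1)
    · -- the elementary abelian case
      push Not at hyZ
      obtain ⟨z, hz, hzne⟩ := hyZ
      have hNT := normalizer_le_normalizer_omega1Z T
      have hZT := omega1Z_le T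
      have h' : S4Pkg (omega1Z T) x P y :=
        ⟨h.hx, h.hP, h.hxP, hNT h.hxT, h.hPT.trans hNT, h.hyP, ⟨z, hz, hzne⟩,
          fun z' hz' => by
            obtain ⟨i, hi⟩ := h.hP3 z' hz'
            exact ⟨i, fun t ht => hi t (hZT ht)⟩,
          fun t ht => h.hy3 t (hZT ht), fun t ht => h.hinv t (hZT ht)⟩
      exact involves_S4_of_elemAb h' (omega1Z_comm T) (omega1Z_sq T)

end Cfsg.Agent.Helper46
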