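import Mathlib
import Cfsg.Prelude.Def_LocalEven
import Cfsg.Agent.Lib.Helper46.Involves
import Cfsg.Agent.Lib.Helper46.Involves2
import Cfsg.Agent.Lib.Helper46.S4Facts
import Cfsg.Agent.Lib.Helper46.S4Section
import Cfsg.Agent.Lib.Helper46.S4Section2
import Cfsg.Agent.Lib.Helper46.S4Section3
import Cfsg.Agent.Lib.Helper33.Syl
import Cfsg.Agent.S2758

set_option autoImplicit false

open Pointwise

namespace Cfsg.Agent.Helper46

open Cfsg

universe u

/-- an odd power of an inverting element inverts -/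
theorem conj_pow_odd_of_inverts {A : Type*} [Group A] {a b : A} (h : a * b * a⁻¹ = b⁻¹) {m : ℕ}
    (hm : Odd m) : a ^ m * b * (a ^ m)⁻¹ = b⁻¹ := by
  have h2 : a * b⁻¹ * a⁻¹ = b := by
    have e : a * b⁻¹ * a⁻¹ = (a * b * a⁻¹)⁻¹ := by group
    rw [e, h, inv_inv]
  have hsq : ∀ l : ℕ, a ^ (2 * l) * b * (a ^ (2 * l))⁻¹ = b := by
    intro l
    induction l with
    | zero => simp
    | succ l ih =>
      calc a ^ (2 * (l + 1)) * b * (a ^ (2 * (l + 1)))⁻¹
          = a * (a * (a ^ (2 * l) * b * (a ^ (2 * l))⁻¹) * a⁻¹) * a⁻¹ := by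
            rw [show 2 * (l + 1) = 2 * l + 1 + 1 by ring, pow_succ', pow_succ']; group
        _ = a * (a * b * a⁻¹) * a⁻¹ := by rw [ih]
        _ = b := by rw [h, h2]
  obtain ⟨l, rfl⟩ := hm
  calc a ^ (2 * l + 1) * b * (a ^ (2 * l + 1))⁻¹
      = a * (a ^ (2 * l) * b * (a ^ (2 * l))⁻¹) * a⁻¹ := by rw [pow_succ']; group
    _ = a * b * a⁻¹ := by rw [hsq]
    _ = b⁻¹ := h

/-- lifting an inverted element of order three of `M / C_M(T)` to the data `S4Pkg` -/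
theorem exists_pkg_of_inverts {M : Type*} [Group M] [Finite M] {A : Type*} [Group A]
    (T : Subgroup M) [hTn : T.Normal] (π : M →* A) (hπ : Function.Surjective π)
    (hker : ∀ m : M, π m = 1 ↔ ∀ t ∈ T, m * t * m⁻¹ = t)
    (xb yb : A) (hyb : orderOf yb = 3) (hinv : xb * yb * xb⁻¹ = yb⁻¹) :
    ∃ (x : M) (P : Subgroup M) (y : M), S4Pkg T x P y := by
  classical
  have : Fact (Nat.Prime 3) := ⟨Nat.prime_three⟩
  obtain ⟨x₀, hx₀⟩ := hπ xb
  obtain ⟨y₀, hy₀⟩ := hπ yb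
  obtain ⟨j, m, hm3, hjm⟩ := Nat.exists_eq_pow_mul_and_not_dvd (orderOf_pos y₀).ne' 3 (by norm_num)
  have hyj : (y₀ ^ m) ^ 3 ^ j = 1 := by
    rw [← pow_mul, mul_comm, ← hjm, pow_orderOf_eq_one]
  have hπy : π (y₀ ^ m) = yb ^ m := by rw [map_pow, hy₀]
  have hy₁3 : (yb ^ m) ^ 3 = 1 := by
    rw [← pow_mul, mul_comm, pow_mul, ← hyb, pow_orderOf_eq_one, one_pow]
  have hy₁ne : yb ^ m ≠ 1 := by
    intro h1
    have h2 := orderOf_dvd_of_pow_eq_one h1
    rw [hyb] at h2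
    exact hm3 h2
  have hinv₁ : xb * yb ^ m * xb⁻¹ = (yb ^ m)⁻¹ := by rw [← conj_pow, hinv, inv_pow]
  generalize hy : y₀ ^ m = y at hyj hπy
  generalize hy₁ : yb ^ m = y₁ at hπy hy₁3 hy₁ne hinv₁
  -- the preimage of `⟨y₁⟩`
  have hyD : y ∈ (Subgroup.zpowers y₁).comap π := by
    rw [Subgroup.mem_comap, hπy]
    exact Subgroup.mem_zpowers y₁
  have hQ : IsPGroup 3 ↥(Subgroup.zpowers y) := by
    rintro ⟨g, hg⟩
    obtain ⟨i, rfl⟩ := Subgroup.mem_zpowers_iff.mp hg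
    refine ⟨j, Subtype.ext ?_⟩
    change (y ^ i) ^ 3 ^ j = 1
    rw [← zpow_natCast, ← zpow_mul, mul_comm, zpow_mul, zpow_natCast, hyj, one_zpow]
  have hQD : Subgroup.zpowers y ≤ (Subgroup.zpowers y₁).comap π := Subgroup.zpowers_le.mpr hyD
  obtain ⟨P, hPsyl, hQP⟩ := Cfsg.Agent.Helper33.exists_isSylIn_ge (p := 3) hQ hQD
  have hyP : y ∈ P := hQP (Subgroup.mem_zpowers y)
  have hx₀D : ∀ g ∈ (Subgroup.zpowers y₁).comap π, x₀ * g * x₀⁻¹ ∈ (Subgroup.zpowers y₁).comap π := by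
    intro g hg
    rw [Subgroup.mem_comap] at hg ⊢
    rw [map_mul, map_mul, map_inv, hx₀]
    obtain ⟨i, hi⟩ := Subgroup.mem_zpowers_iff.mp hg
    rw [← hi, ← conj_zpow, hinv₁]
    exact Subgroup.zpow_mem _ (Subgroup.inv_mem _ (Subgroup.mem_zpowers _)) i
  have hx₀N : x₀ ∈ Subgroup.normalizer ((((Subgroup.zpowers y₁).comap π : Subgroup M)) : Set M) :=
    Subgroup.mem_normalizer_fintype hx₀D
  have hsm : MulAut.conj x₀ • (Subgroup.zpowers y₁).comap π = (Subgroup.zpowers y₁).comap π :=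
    Cfsg.Agent.Helper33.smul_eq_of_mem_normalizer hx₀N
  have hP2 : Cfsg.Agent.Helper33.IsSylIn 3 (MulAut.conj x₀ • P) ((Subgroup.zpowers y₁).comap π) := by
    have h1 := hPsyl.conj x₀
    rwa [hsm] at h1
  obtain ⟨d, hdD, hd⟩ := hPsyl.exists_conj_eq hP2
  have hx₁P : d * x₀ ∈ Subgroup.normalizer (P : Set M) := by
    rw [Cfsg.Agent.Helper33.mem_normalizer_iff_smul_eq, Cfsg.Agent.Helper33.conj_mul_smul]
    exact hd
  obtain ⟨i, hi⟩ := Subgroup.mem_zpowers_iff.mp (Subgroup.mem_comap.mp hdD)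
  have hinv₂ : π (d * x₀) * y₁ * (π (d * x₀))⁻¹ = y₁⁻¹ := by
    rw [map_mul, hx₀, ← hi]
    calc y₁ ^ i * xb * y₁ * (y₁ ^ i * xb)⁻¹ = y₁ ^ i * (xb * y₁ * xb⁻¹) * (y₁ ^ i)⁻¹ := by group
      _ = y₁ ^ i * y₁⁻¹ * (y₁ ^ i)⁻¹ := by rw [hinv₁]
      _ = y₁⁻¹ := by group
  obtain ⟨k, m', hm2, hkm⟩ :=
    Nat.exists_eq_pow_mul_and_not_dvd (orderOf_pos (d * x₀)).ne' 2 (by norm_num)
  have hxk : ((d * x₀) ^ m') ^ 2 ^ k = 1 := by
    rw [← pow_mul, mul_comm, ← hkm, pow_orderOf_eq_one]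
  have hxord : ∃ k' : ℕ, orderOf ((d * x₀) ^ m') = 2 ^ k' := by
    obtain ⟨k', -, h⟩ := (Nat.dvd_prime_pow Nat.prime_two).mp (orderOf_dvd_of_pow_eq_one hxk)
    exact ⟨k', h⟩
  have hm'odd : Odd m' := Nat.odd_iff.mpr (Nat.two_dvd_ne_zero.mp hm2)
  have hinv₃ : π ((d * x₀) ^ m') * y₁ * (π ((d * x₀) ^ m'))⁻¹ = y₁⁻¹ := by
    rw [map_pow]
    exact conj_pow_odd_of_inverts hinv₂ hm'odd
  have hxP : (d * x₀) ^ m' ∈ Subgroup.normalizer (P : Set M) := Subgroup.pow_mem _ hx₁P m'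
  have hC : ∀ c : M, π c = 1 → ∀ t ∈ T, c * t * c⁻¹ = t := fun c hc => (hker c).mp hc
  have hfin : IsOfFinOrder y₁ := isOfFinOrder_iff_pow_eq_one.mpr ⟨3, by norm_num, hy₁3⟩
  refine ⟨(d * x₀) ^ m', P, y, hxord, hPsyl.isPGroup, hxP, ?_, ?_, hyP, ?_, ?_, ?_, ?_⟩
  · rw [Subgroup.normalizer_eq_top]
    exact Subgroup.mem_top _
  · rw [Subgroup.normalizer_eq_top]
    exact le_top
  · by_contra hall
    push Not at hall
    apply hy₁ne
    rw [← hπy]
    exact (hker y).mpr hall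
  · intro z hz
    have hzD : π z ∈ Subgroup.zpowers y₁ := Subgroup.mem_comap.mp (hPsyl.le hz)
    obtain ⟨n, hn⟩ := (Submonoid.mem_powers_iff _ _).mp ((hfin.mem_powers_iff_mem_zpowers).mpr hzD)
    refine ⟨n, ?_⟩
    intro t ht
    have hc : π ((y ^ n)⁻¹ * z) = 1 := by
      rw [map_mul, map_inv, map_pow, hπy, hn, inv_mul_cancel]
    have h1 := hC _ hc t ht
    calc z * t * z⁻¹ = y ^ n * (((y ^ n)⁻¹ * z) * t * ((y ^ n)⁻¹ * z)⁻¹) * (y ^ n)⁻¹ := by group
      _ = y ^ n * t * (y ^ n)⁻¹ := by rw [h1]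
  · have h1 : π (y ^ 3) = 1 := by rw [map_pow, hπy, hy₁3]
    exact hC _ h1
  · have h1 : π ((d * x₀) ^ m' * y * ((d * x₀) ^ m')⁻¹ * y) = 1 := by
      rw [map_mul, map_mul, map_mul, map_inv, hπy, hinv₃, inv_mul_cancel]
    exact hC _ h1


/-- quotient form: an element of order three of `N_G(T)/C_G(T)` inverted by some element gives an
`S₄`-section of `G`, for a 2-subgroup `T` -/
theorem involves_S4_of_inverts_quot {G : Type u} [Group G] [Finite G] (T : Subgroup G)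
    (hT : IsPGroup 2 ↥T)
    (xb yb : ↥(Subgroup.normalizer (T : Set G)) ⧸
      (Subgroup.centralizer (T : Set G)).subgroupOf (Subgroup.normalizer (T : Set G)))
    (hyb : orderOf yb = 3) (hinv : xb * yb * xb⁻¹ = yb⁻¹) :
    Cfsg.Involves (Equiv.Perm (Fin 4)) G := by
  have hTN : T ≤ Subgroup.normalizer (T : Set G) := Subgroup.le_normalizer
  have hker : ∀ m : ↥(Subgroup.normalizer (T : Set G)),
      QuotientGroup.mk' ((Subgroup.centralizer (T : Set G)).subgroupOf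
        (Subgroup.normalizer (T : Set G))) m = 1 ↔
      ∀ t ∈ T.subgroupOf (Subgroup.normalizer (T : Set G)), m * t * m⁻¹ = t := by
    intro m
    rw [QuotientGroup.mk'_apply, QuotientGroup.eq_one_iff, Subgroup.mem_subgroupOf,
      Subgroup.mem_centralizer_iff]
    constructor
    · intro h t ht
      apply Subtype.ext
      have h1 := h (t : G) (Subgroup.mem_subgroupOf.mp ht)
      change (m : G) * (t : G) * (m : G)⁻¹ = t
      rw [← h1, mul_inv_cancel_right]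
    · intro h t ht
      have h1 := congrArg Subtype.val (h ⟨t, hTN ht⟩ (Subgroup.mem_subgroupOf.mpr ht))
      change (m : G) * t * (m : G)⁻¹ = t at h1
      calc t * (m : G) = ((m : G) * t * (m : G)⁻¹) * m := by rw [h1]
        _ = m * t := by group
  obtain ⟨x, P, y, hpkg⟩ := exists_pkg_of_inverts (T.subgroupOf (Subgroup.normalizer (T : Set G)))
    (QuotientGroup.mk' ((Subgroup.centralizer (T : Set G)).subgroupOf
      (Subgroup.normalizer (T : Set G)))) (QuotientGroup.mk'_surjective _) hker xb yb hyb hinv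
  have h1 := involves_S4_of_pkg_aux _ _ _ x P y rfl (hT.comap_subtype) hpkg
  exact involves_of_involves_subgroup _ h1

/-- element form: `T` a 2-subgroup, `x`, `y` in `N_G(T)`, `y ∉ C_G(T)`, `y³ ∈ C_G(T)` and
`x y x⁻¹ y ∈ C_G(T)`: then `S₄` is involved in `G` -/
theorem involves_S4_of_elements {G : Type u} [Group G] [Finite G] (T : Subgroup G)
    (hT : IsPGroup 2 ↥T) (x y : G) (hxN : x ∈ Subgroup.normalizer (T : Set G))
    (hyN : y ∈ Subgroup.normalizer (T : Set G)) (hyC : y ∉ Subgroup.centralizer (T : Set G))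
    (hy3 : y ^ 3 ∈ Subgroup.centralizer (T : Set G))
    (hinv : x * y * x⁻¹ * y ∈ Subgroup.centralizer (T : Set G)) :
    Cfsg.Involves (Equiv.Perm (Fin 4)) G := by
  have hone : ∀ m : ↥(Subgroup.normalizer (T : Set G)),
      (QuotientGroup.mk m : ↥(Subgroup.normalizer (T : Set G)) ⧸
        (Subgroup.centralizer (T : Set G)).subgroupOf (Subgroup.normalizer (T : Set G))) = 1 ↔
      (m : G) ∈ Subgroup.centralizer (T : Set G) := by
    intro m
    rw [QuotientGroup.eq_one_iff, Subgroup.mem_subgroupOf]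
  have hyb3 : (QuotientGroup.mk (⟨y, hyN⟩ : ↥(Subgroup.normalizer (T : Set G))) :
      ↥(Subgroup.normalizer (T : Set G)) ⧸
        (Subgroup.centralizer (T : Set G)).subgroupOf (Subgroup.normalizer (T : Set G))) ^ 3 = 1 := by
    rw [← QuotientGroup.mk_pow, hone]
    exact hy3
  have hyb1 : (QuotientGroup.mk (⟨y, hyN⟩ : ↥(Subgroup.normalizer (T : Set G))) :
      ↥(Subgroup.normalizer (T : Set G)) ⧸
        (Subgroup.centralizer (T : Set G)).subgroupOf (Subgroup.normalizer (T : Set G))) ≠ 1 := by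
    rw [Ne, hone]
    exact hyC
  have hord : orderOf (QuotientGroup.mk (⟨y, hyN⟩ : ↥(Subgroup.normalizer (T : Set G))) :
      ↥(Subgroup.normalizer (T : Set G)) ⧸
        (Subgroup.centralizer (T : Set G)).subgroupOf (Subgroup.normalizer (T : Set G))) = 3 :=
    orderOf_eq_prime hyb3 hyb1
  apply involves_S4_of_inverts_quot T hT
    (QuotientGroup.mk (⟨x, hxN⟩ : ↥(Subgroup.normalizer (T : Set G)))) _ hord
  rw [eq_inv_iff_mul_eq_one, ← QuotientGroup.mk_inv, ← QuotientGroup.mk_mul, ← QuotientGroup.mk_mul,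
    ← QuotientGroup.mk_mul, hone]
  exact hinv

/-- `S₃` involved in `N_G(T)/C_G(T)` for a 2-subgroup `T` implies `S₄` involved in `G` -/
theorem involves_S4_of_involves_S3 {G : Type u} [Group G] [Finite G] (T : Subgroup G)
    (hT : IsPGroup 2 ↥T)
    (h : Cfsg.Involves (Equiv.Perm (Fin 3)) (↥(Subgroup.normalizer (T : Set G)) ⧸
      (Subgroup.centralizer (T : Set G)).subgroupOf (Subgroup.normalizer (T : Set G)))) :
    Cfsg.Involves (Equiv.Perm (Fin 4)) G := by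
  have : Fact (Nat.Prime 3) := ⟨Nat.prime_three⟩
  obtain ⟨e⟩ := nonempty_s3_equiv_dihedral
  have h1 := involves_of_mulEquiv e h
  obtain ⟨x, P, hx, hP, hxN, hxC⟩ := Cfsg.Agent.S2758.normalizes_of_involves (p := 3) (by norm_num) h1
  obtain ⟨x', y, -, ⟨k, hk⟩, hy1, hxy⟩ := Cfsg.Agent.S2758.inverts_of_normalizes hx hP hxN hxC
  have hk0 : k ≠ 0 := by
    intro h0
    rw [h0, pow_zero, orderOf_eq_one_iff] at hk
    exact hy1 hk
  obtain ⟨k', rfl⟩ := Nat.exists_eq_succ_of_ne_zero hk0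
  have hord : orderOf (y ^ 3 ^ k') = 3 := by
    rw [orderOf_pow_of_dvd (by positivity) (by rw [hk]; exact pow_dvd_pow 3 (Nat.le_succ k')), hk,
      pow_succ, Nat.mul_div_cancel_left _ (by positivity)]
  apply involves_S4_of_inverts_quot T hT x' (y ^ 3 ^ k') hord
  rw [← conj_pow, hxy, inv_pow]

end Cfsg.Agent.Helper46
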