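import Mathlib
import Cfsg.Agent.Lib.Helper14.SPIDefs

set_option autoImplicit false

/-!
SPI lemma server (helper14, S5961), pieces (MASCHKE) `exists_inv_compl` and (MINPRIME)
`prime_of_min`, by helper46 (written as dependencies of (PAIR); spares if others land first).
-/

namespace Cfsg.Agent.Helper46.SPI

open Module Polynomial Cfsg.Agent.Helper14.SPI

/-- (MASCHKE) invariant complement inside `R`: `x` is semisimple as `X^r - 1` is squarefree. -/
theorem exists_inv_compl {F V : Type*} [Field F] [AddCommGroup V] [Module F V]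
    [FiniteDimensional F V] (x : V →ₗ[F] V) (r : ℕ) (hr0 : (r : F) ≠ 0) (hxr : x ^ r = 1)
    (R U : Submodule F V) (hRx : R.map x ≤ R) (hUx : U.map x ≤ U) (hUR : U ≤ R) :
    ∃ C : Submodule F V, C ≤ R ∧ C.map x ≤ C ∧ U ⊓ C = ⊥ ∧ U ⊔ C = R := by
  have hsq : Squarefree (X ^ r - 1 : F[X]) := by
    have := (separable_X_pow_sub_C (1 : F) hr0 one_ne_zero).squarefree
    simpa using this
  have hss : Module.End.IsSemisimple x :=
    Module.End.isSemisimple_of_squarefree_aeval_eq_zero hsq (by simp [hxr])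
  obtain ⟨C', hC'inv, hcompl⟩ :=
    Module.End.isSemisimple_iff.1 hss U ((Module.End.mem_invtSubmodule_iff_map_le x).2 hUx)
  refine ⟨R ⊓ C', inf_le_left, ?_, ?_, ?_⟩
  · rintro _ ⟨v, ⟨hvR, hvC⟩, rfl⟩
    exact ⟨hRx ⟨v, hvR, rfl⟩, hC'inv hvC⟩
  · rw [eq_bot_iff]
    calc U ⊓ (R ⊓ C') ≤ U ⊓ C' := inf_le_inf_left _ inf_le_right
      _ = ⊥ := hcompl.inf_eq_bot
  · apply le_antisymm (sup_le hUR inf_le_left)
    intro v hv
    have hvtop : v ∈ U ⊔ C' := by rw [hcompl.sup_eq_top]; trivial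
    obtain ⟨a, ha, b, hb, rfl⟩ := Submodule.mem_sup.1 hvtop
    refine Submodule.mem_sup.2 ⟨a, ha, b, ⟨?_, hb⟩, rfl⟩
    have := R.sub_mem hv (hUR ha)
    simpa using this

/-- `g(x)` commutes with `x` -/
theorem h46_aeval_comm {F V : Type*} [Field F] [AddCommGroup V] [Module F V]
    (x : V →ₗ[F] V) (g : F[X]) (v : V) : aeval x g (x v) = x (aeval x g v) := by
  have h1 : aeval x (g * X) = aeval x (X * g) := by rw [mul_comm]
  rw [map_mul, map_mul, aeval_X] at h1
  have := congrArg (fun f => f v) h1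
  simpa [Module.End.mul_apply] using this

/-- (MINPRIME) on a minimal invariant subspace every `g(x)` is zero or injective. -/
theorem prime_of_min {F V : Type*} [Field F] [AddCommGroup V] [Module F V]
    (x : V →ₗ[F] V) (Y : Submodule F V) (hYx : Y.map x ≤ Y)
    (hmin : ∀ Z : Submodule F V, Z ≤ Y → Z.map x ≤ Z → Z = ⊥ ∨ Z = Y) :
    ∀ g : F[X], (∀ z ∈ Y, aeval x g z = 0) ∨ (∀ z ∈ Y, aeval x g z = 0 → z = 0) := by
  intro g
  have hZx : (Y ⊓ LinearMap.ker (aeval x g)).map x ≤ Y ⊓ LinearMap.ker (aeval x g) := by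
    rintro _ ⟨v, ⟨hvY, hvk⟩, rfl⟩
    refine ⟨hYx ⟨v, hvY, rfl⟩, ?_⟩
    rw [SetLike.mem_coe, LinearMap.mem_ker] at hvk ⊢
    rw [h46_aeval_comm, hvk, map_zero]
  rcases hmin _ inf_le_left hZx with h | h
  · right
    intro z hz hz0
    have : z ∈ Y ⊓ LinearMap.ker (aeval x g) := ⟨hz, LinearMap.mem_ker.2 hz0⟩
    rw [h] at this
    exact (Submodule.mem_bot F).1 this
  · left
    intro z hz
    have : z ∈ Y ⊓ LinearMap.ker (aeval x g) := by rw [h]; exact hz
    exact LinearMap.mem_ker.1 this.2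

end Cfsg.Agent.Helper46.SPI
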