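import Mathlib
import Cfsg.Agent.Lib.Helper14.SPIDefs
import Cfsg.Agent.Lib.Helper46.SPIIRR
import Cfsg.Agent.Lib.Helper46.SPIADJ
import Cfsg.Agent.Lib.Helper46.SPIMASCHKE

set_option autoImplicit false

/-!
SPI lemma server (helper14, S5961), piece (PAIR) `pair_block`, by helper46.
-/

namespace Cfsg.Agent.Helper46.SPI

open Module Polynomial Cfsg.Agent.Helper14.SPI

/-- a pairing between two subspaces which is nondegenerate on both sides forces equal dimensions -/
theorem h46_finrank_eq_of_perfect {F V : Type*} [Field F] [AddCommGroup V] [Module F V]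
    [FiniteDimensional F V] (B : LinearMap.BilinForm F V) (Y C : Submodule F V)
    (hl : ∀ y ∈ Y, (∀ c ∈ C, B y c = 0) → y = 0)
    (hr : ∀ c ∈ C, (∀ y ∈ Y, B y c = 0) → c = 0) :
    finrank F C = finrank F Y := by
  apply le_antisymm
  · have hinj : Function.Injective (B.flip.domRestrict₁₂ C Y) := by
      rw [injective_iff_map_eq_zero]
      intro c hc
      have : (c : V) = 0 := by
        apply hr c c.2
        intro y hy
        have := LinearMap.congr_fun hc ⟨y, hy⟩
        rw [LinearMap.domRestrict₁₂_apply, LinearMap.zero_apply] at this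
        simpa using this
      exact Subtype.ext this
    have := LinearMap.finrank_le_finrank_of_injective hinj
    rwa [show finrank F (↥Y →ₗ[F] F) = finrank F Y from Subspace.dual_finrank_eq] at this
  · have hinj : Function.Injective (B.domRestrict₁₂ Y C) := by
      rw [injective_iff_map_eq_zero]
      intro y hy
      have : (y : V) = 0 := by
        apply hl y y.2
        intro c hc
        have := LinearMap.congr_fun hy ⟨c, hc⟩
        rw [LinearMap.domRestrict₁₂_apply, LinearMap.zero_apply] at this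
        exact this
      exact Subtype.ext this
    have := LinearMap.finrank_le_finrank_of_injective hinj
    rwa [show finrank F (↥C →ₗ[F] F) = finrank F C from Subspace.dual_finrank_eq] at this

/-- on an invariant subspace where `g(x)` is injective, so are its powers -/
theorem h46_pow_inj {F V : Type*} [Field F] [AddCommGroup V] [Module F V]
    (x : V →ₗ[F] V) (Y : Submodule F V) (hYx : Y.map x ≤ Y) (g : F[X])
    (hinj : ∀ z ∈ Y, aeval x g z = 0 → z = 0) (n : ℕ) :
    ∀ z ∈ Y, ((aeval x g) ^ n) z = 0 → z = 0 := by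
  induction n with
  | zero => intro z _ hz; simpa using hz
  | succ n ih =>
    intro z hz h
    rw [pow_succ', Module.End.mul_apply] at h
    have hmem : ((aeval x g) ^ n) z ∈ Y := by
      rw [← map_pow]; exact h46_aeval_mem x Y hYx _ hz
    exact ih z hz (hinj _ hmem h)

/-- (PAIR) -/
theorem pair_block {F V : Type*} [Field F] [Fintype F] [AddCommGroup V] [Module F V]
    [FiniteDimensional F V] (B : LinearMap.BilinForm F V) (hB : B.IsAlt)
    (x : V →ₗ[F] V) (hx : IsIsom B x) (r : ℕ) [Fact r.Prime] (hr0 : (r : F) ≠ 0)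
    (hrq : ¬ r ∣ Fintype.card F) (hxr : x ^ r = 1)
    (R : Submodule F V) (hRx : R.map x ≤ R) (hRnd : NondegOn B R)
    (Y : Submodule F V) (hYR : Y ≤ R) (hYx : Y.map x ≤ Y)
    (hmin : ∀ Z : Submodule F V, Z ≤ Y → Z.map x ≤ Z → Z = ⊥ ∨ Z = Y)
    (hiso : ∀ u ∈ Y, ∀ v ∈ Y, B u v = 0) :
    ∃ W : Submodule F V, W ≤ R ∧ Y ≤ W ∧ W.map x ≤ W ∧ NondegOn B W ∧
      finrank F W = 2 * finrank F Y ∧
      (Even (orderOf ((Fintype.card F : ℕ) : ZMod r)) →
        ∀ g : F[X], (∀ z ∈ W, aeval x g z = 0) ∨ (∀ z ∈ W, aeval x g z = 0 → z = 0)) := by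
  classical
  have hrp : r.Prime := Fact.out
  -- `x` maps `Y` onto `Y`
  have hYsurj : ∀ y ∈ Y, ∃ y' ∈ Y, x y' = y := by
    intro y hy
    refine ⟨(x ^ (r - 1)) y, h46_pow_mem x Y hYx _ hy, ?_⟩
    rw [← Module.End.mul_apply, ← pow_succ', Nat.sub_add_cancel hrp.one_le, hxr,
      Module.End.one_apply]
  -- the perp of `Y` inside `R`
  set P : Submodule F V := R ⊓ B.orthogonal Y with hPdef
  have hPmem : ∀ v, v ∈ P ↔ v ∈ R ∧ ∀ y ∈ Y, B y v = 0 := by
    intro v
    rw [hPdef, Submodule.mem_inf, LinearMap.BilinForm.mem_orthogonal_iff]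
  have hPx : P.map x ≤ P := by
    rintro _ ⟨v, hv, rfl⟩
    rw [SetLike.mem_coe, hPmem] at hv
    rw [hPmem]
    refine ⟨hRx ⟨v, hv.1, rfl⟩, ?_⟩
    intro y hy
    obtain ⟨y', hy', rfl⟩ := hYsurj y hy
    rw [hx]
    exact hv.2 y' hy'
  have hYP : Y ≤ P := fun y hy => (hPmem y).2 ⟨hYR hy, fun y' hy' => hiso y' hy' y hy⟩
  obtain ⟨C, hCR, hCx, hPC, hPCsup⟩ := exists_inv_compl x r hr0 hxr R P hRx hPx inf_le_left
  have hCperp : ∀ c ∈ C, (∀ y ∈ Y, B y c = 0) → c = 0 := by
    intro c hc h
    have : c ∈ P ⊓ C := ⟨(hPmem c).2 ⟨hCR hc, h⟩, hc⟩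
    rw [hPC] at this
    exact (Submodule.mem_bot F).1 this
  have hYC : Y ⊓ C = ⊥ := by
    rw [eq_bot_iff, ← hPC]
    exact inf_le_inf_right _ hYP
  -- key: the perp of `Y` inside `W = Y ⊔ C` is `Y`
  have hkey : ∀ w ∈ Y ⊔ C, (∀ y ∈ Y, B y w = 0) → w ∈ Y := by
    intro w hw h
    obtain ⟨y0, hy0, c, hc, rfl⟩ := Submodule.mem_sup.1 hw
    have hc0 : c = 0 := by
      apply hCperp c hc
      intro y hy
      have := h y hy
      rw [map_add, hiso y hy y0 hy0, zero_add] at this
      exact this
    rw [hc0, add_zero]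
    exact hy0
  have hYleft : ∀ y ∈ Y, (∀ c ∈ C, B y c = 0) → y = 0 := by
    intro y hy h
    by_contra hne
    obtain ⟨v, hv, hBv⟩ := hRnd y (hYR hy) hne
    rw [← hPCsup] at hv
    obtain ⟨p, hp, c, hc, rfl⟩ := Submodule.mem_sup.1 hv
    apply hBv
    rw [map_add, ((hPmem p).1 hp).2 y hy, h c hc, add_zero]
  refine ⟨Y ⊔ C, sup_le hYR hCR, le_sup_left, ?_, ?_, ?_, ?_⟩
  · rw [Submodule.map_sup]
    exact sup_le_sup hYx hCx
  · -- nondegenerate
    intro w hw hw0
    by_contra hcon0
    have hcon : ∀ v ∈ Y ⊔ C, B w v = 0 := by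
      intro v hv
      by_contra h
      exact hcon0 ⟨v, hv, h⟩
    have hwY : w ∈ Y := by
      apply hkey w hw
      intro y hy
      rw [← hB.neg_eq, hcon y (le_sup_left (a := Y) (b := C) hy), neg_zero]
    exact hw0 (hYleft w hwY (fun c hc => hcon c (le_sup_right (a := Y) (b := C) hc)))
  · -- dimension
    have h1 := Submodule.finrank_sup_add_finrank_inf_eq Y C
    rw [hYC, finrank_bot, add_zero, h46_finrank_eq_of_perfect B Y C hYleft hCperp] at h1
    rw [h1]; ring
  · -- prime property when `i` is even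
    intro hev g
    obtain ⟨s, hs, hadj⟩ := adjoint_frob B x hx r hrq hxr hev
    rcases prime_of_min x Y hYx hmin g with h0 | hinj
    · left
      intro z hz
      obtain ⟨y0, hy0, c, hc, rfl⟩ := Submodule.mem_sup.1 hz
      have hgc : aeval x g c ∈ C := h46_aeval_mem x C hCx g hc
      have hgcY : aeval x g c ∈ Y := by
        apply hkey _ (le_sup_right (a := Y) (b := C) hgc)
        intro y hy
        rw [← hadj g y c]
        have : ((aeval x g) ^ s) y = 0 := by
          obtain ⟨s', rfl⟩ := Nat.exists_eq_succ_of_ne_zero hs.ne'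
          rw [pow_succ, Module.End.mul_apply, h0 y hy, map_zero]
        rw [this, map_zero, LinearMap.zero_apply]
      have : aeval x g c ∈ Y ⊓ C := ⟨hgcY, hgc⟩
      rw [hYC] at this
      rw [map_add, h0 y0 hy0, (Submodule.mem_bot F).1 this, add_zero]
    · right
      intro z hz hgz
      have hpowY : ∀ y ∈ Y, ((aeval x g) ^ s) y ∈ Y := by
        intro y hy
        rw [← map_pow]; exact h46_aeval_mem x Y hYx _ hy
      have hTinj : Function.Injective (((aeval x g) ^ s).restrict hpowY) := by
        rw [injective_iff_map_eq_zero]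
        intro y hy
        have h1 : ((aeval x g) ^ s) (y : V) = 0 := by
          have := congrArg Subtype.val hy
          simpa using this
        exact Subtype.ext (h46_pow_inj x Y hYx g hinj s y y.2 h1)
      have hTsurj : Function.Surjective (((aeval x g) ^ s).restrict hpowY) :=
        LinearMap.injective_iff_surjective.1 hTinj
      have hzY : z ∈ Y := by
        apply hkey z hz
        intro y hy
        obtain ⟨y', hy'⟩ := hTsurj ⟨y, hy⟩
        have h2 : ((aeval x g) ^ s) (y' : V) = y := by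
          have := congrArg Subtype.val hy'
          simpa using this
        rw [← h2, hadj g y' z, hgz, map_zero]
      exact hinj z hzY hgz

end Cfsg.Agent.Helper46.SPI
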