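import Mathlib
import Cfsg.Agent.Lib.Helper75.FixKill
import Cfsg.Agent.Lib.Helper17.PrimeTIApp

/-!
# S0983 exercise order 5600 = 2^5 * 5^2 * 7 (helper46)

Only the Sylow 7-subgroups are needed: `n_7 ∈ {1, 8, 50, 400}`; `1`, `8` are `Bad`.
`n_7 = 50`: `|N(P)| = 112`, `|C(P)| = 56`: an involution `u ∈ C(P)`, and the fixed-point data of
`u` on `Syl_7(G)` (`f = 22`) force `11 ∣ 5600`.
`n_7 = 400`: `|N(P)| = 14`, `C(P) = P`: the degree equation for a dihedral normalizer has no solution.
-/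

set_option autoImplicit false

namespace Cfsg.Agent.Helper46.SV

open Cfsg.Agent.Helper17 Cfsg.Agent.Helper17.Sieve Cfsg.Agent.Helper75.FixKill

set_option maxRecDepth 100000 in
theorem h46_5600_d : ∀ d ∈ List.range 801, d ∣ 800 → d % 7 = 1 →
    ¬ Bad (7 ^ 1 * 800) 7 1 800 d → d = 50 ∨ d = 400 := by decide +kernel

set_option maxRecDepth 100000 in
theorem h46_5600_e50 : ∀ e ∈ List.range 7, e ∣ 6 → e ≠ 1 →
    ∀ c ∈ List.range 113, c * e = 112 → 2 ∣ c := by decide +kernel

set_option maxRecDepth 100000 in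
theorem h46_5600_e400 : ∀ e ∈ List.range 7, e ∣ 6 → e ≠ 1 →
    ∀ c ∈ List.range 15, c * e = 14 → c = 7 := by decide +kernel

set_option maxRecDepth 100000 in
theorem h46_5600_fix : ∀ f ∈ List.range 50, ∀ m' ∈ List.range 113,
    ¬ FixOK 5600 7 50 112 2 f m' := by decide +kernel

set_option maxRecDepth 100000 in
theorem h46_5600_deg : ∀ x ∈ List.range 5601, 1 < x → x ∣ 5600 →
    ¬ ((7 ∣ x - 1 ∧ x + 1 ∣ 5600) ∨ (7 ∣ x + 1 ∧ x - 1 ∣ 5600)) := by decide +kernel

/-- no nonabelian simple group of order 5600 -/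
theorem no_5600.{u} : NoSimple.{u} 5600 := by
  intro G _ _ _ hna hn0
  classical
  haveI : Fact (Nat.Prime 7) := ⟨by norm_num⟩
  haveI : Fact (Nat.Prime 2) := ⟨Nat.prime_two⟩
  have hn : Nat.card G = 7 ^ 1 * 800 := by rw [hn0]; norm_num
  have hpm : ¬ 7 ∣ 800 := by norm_num
  obtain ⟨P⟩ : Nonempty (Sylow 7 G) := inferInstance
  have hPc : Nat.card (P : Subgroup G) = 7 := by
    have h0 := sylow_card_eq P hn hpm
    rwa [pow_one] at h0
  obtain ⟨hdm, hdp⟩ := sylow_count (G := G) hn hpm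
  have hnb := not_bad hna 7 1 800 one_ne_zero (by norm_num) hn hpm
  have hne := sylow_count_ne_one (G := G) hn hpm one_ne_zero (by norm_num)
  have hdpos : 0 < Nat.card (Sylow 7 G) := Nat.card_pos
  have hd1 : 1 < Nat.card (Sylow 7 G) := by omega
  have hNd := card_normalizer_mul_sylow_count P
  have hGp : Nat.card G ≠ 7 := by rw [hn0]; norm_num
  obtain ⟨e, he1, he2, he3⟩ := exists_e P hPc hGp
  have hdle : Nat.card (Sylow 7 G) ≤ 800 := Nat.le_of_dvd (by norm_num) hdm
  have hele : e < 7 := by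
    have h0 : e ≤ 6 := Nat.le_of_dvd (by norm_num) he1
    omega
  have h2 : 2 < Nat.card G := by rw [hn0]; norm_num
  rcases h46_5600_d _ (List.mem_range.2 (by omega)) hdm hdp hnb with hd | hd
  · -- `n_7 = 50`
    rw [hd, hn0] at hNd
    have hN : Nat.card ↥(Subgroup.normalizer ((P : Subgroup G) : Set G)) = 112 := by omega
    rw [hN] at he3
    have hcle : Nat.card ↥(Subgroup.centralizer ((P : Subgroup G) : Set G)) < 113 := by
      have : Nat.card ↥(Subgroup.centralizer ((P : Subgroup G) : Set G)) ≤ 112 := by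
        rw [← hN]; exact Subgroup.card_le_of_le (Subgroup.centralizer_le_normalizer _)
      omega
    have hrC := h46_5600_e50 e (List.mem_range.2 hele) he1 he2 _ (List.mem_range.2 hcle) he3
    obtain ⟨f, m', hfix⟩ := exists_fix h2 (p := 7) (r := 2) (by norm_num) P hPc hd1 hrC
    rw [hn0, hd, hN] at hfix
    have hfd : f < 50 := hfix.2.2.2.2.1
    have hm'N : m' ≤ 112 := hfix.1
    exact h46_5600_fix f (List.mem_range.2 hfd) m' (List.mem_range.2 (by omega)) hfix
  · -- `n_7 = 400`
    rw [hd, hn0] at hNd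
    have hN : Nat.card ↥(Subgroup.normalizer ((P : Subgroup G) : Set G)) = 14 := by omega
    rw [hN] at he3
    have hcle : Nat.card ↥(Subgroup.centralizer ((P : Subgroup G) : Set G)) < 15 := by
      have : Nat.card ↥(Subgroup.centralizer ((P : Subgroup G) : Set G)) ≤ 14 := by
        rw [← hN]; exact Subgroup.card_le_of_le (Subgroup.centralizer_le_normalizer _)
      omega
    have hc7 := h46_5600_e400 e (List.mem_range.2 hele) he1 he2 _ (List.mem_range.2 hcle) he3
    have hcyc : IsCyclic ↥(P : Subgroup G) := isCyclic_of_prime_card hPc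
    have hcomm : IsMulCommutative ↥(P : Subgroup G) := ⟨⟨IsCyclic.commGroup.mul_comm⟩⟩
    have hPC : (P : Subgroup G) ≤ Subgroup.centralizer ((P : Subgroup G) : Set G) :=
      Subgroup.le_centralizer_iff_isMulCommutative.2 hcomm
    have hCP : Subgroup.centralizer ((P : Subgroup G) : Set G) = (P : Subgroup G) :=
      (Subgroup.eq_of_le_of_card_ge hPC (by rw [hc7, hPc])).symm
    haveI : Fintype G := Fintype.ofFinite G
    have hperf : commutator G = ⊤ :=
      Cfsg.Agent.Helper17.PrimeTI.perfect_of_simple (by rw [hn0]; norm_num)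
    obtain ⟨x, hx1, hxd, hx⟩ := Cfsg.Agent.Helper17.PrimeTI.dihedral_normalizer_degrees hperf
      (P : Subgroup G) 7 3 hPc hCP (by rw [hN]) (by norm_num) (by norm_num)
    rw [hn0] at hxd hx
    have hxle : x ≤ 5600 := Nat.le_of_dvd (by norm_num) hxd
    exact h46_5600_deg x (List.mem_range.2 (by omega)) hx1 hxd hx

end Cfsg.Agent.Helper46.SV
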