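import Mathlib
import Cfsg.Agent.Lib.Helper84.Sp4Defs

set_option autoImplicit false

/-!
# PSP4F (CTT) for helper84's server (S5320): the centralizer of `tt` is the range of `emb`
-/

namespace Cfsg.Agent.Helper46.Sp4

open Matrix Cfsg.Agent.Helper84.Sp4

variable {F : Type*} [Field F]

/-- the diagonal of `tt` -/
def h46_dv (F : Type*) [Field F] : Fin 2 ⊕ Fin 2 → F := Sum.elim ![-1, 1] ![-1, 1]

theorem h46_tt_diag : ((tt : Sp4 F) : Matrix (Fin 2 ⊕ Fin 2) (Fin 2 ⊕ Fin 2) F) =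
    Matrix.diagonal (h46_dv F) := by
  ext i j
  rcases i with i | i <;> rcases j with j | j <;> fin_cases i <;> fin_cases j <;>
    simp [tt, embM, h46_dv]

theorem h46_ttzc_diag : ((tt * zc : Sp4 F) : Matrix (Fin 2 ⊕ Fin 2) (Fin 2 ⊕ Fin 2) F) =
    Matrix.diagonal (fun i => -h46_dv F i) := by
  have h : (tt * zc : Sp4 F) = emb ((-1, 1) * (-1, -1)) := by
    rw [map_mul]; rfl
  rw [h]
  ext i j
  rcases i with i | i <;> rcases j with j | j <;> fin_cases i <;> fin_cases j <;>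
    simp [embM, h46_dv]

/-- extraction of the symplectic condition -/
theorem h46_symp (g : Sp4 F) (i k : Fin 2 ⊕ Fin 2) :
    (-(g.1 i (Sum.inl 0) * g.1 k (Sum.inr 0)) + g.1 i (Sum.inr 0) * g.1 k (Sum.inl 0)) +
      (-(g.1 i (Sum.inl 1) * g.1 k (Sum.inr 1)) + g.1 i (Sum.inr 1) * g.1 k (Sum.inl 1)) =
      (Matrix.J (Fin 2) F) i k := by
  have hs := SymplecticGroup.mem_iff.mp g.2
  have e := congrFun (congrFun hs i) k
  rw [← e]
  simp [Matrix.mul_apply, Matrix.J, Fintype.sum_sum_type, Fin.sum_univ_two, Matrix.one_apply]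
  ring

theorem mem_range_emb_of_comm (h2 : (2 : F) ≠ 0) (g : Sp4 F) (h : g * tt = tt * g) :
    ∃ X : SL2 F × SL2 F, g = emb X := by
  have hm : g.1 * (tt : Sp4 F).1 = (tt : Sp4 F).1 * g.1 := congrArg Subtype.val h
  have key : ∀ i j, g.1 i j * h46_dv F j = h46_dv F i * g.1 i j := fun i j => by
    have := congrFun (congrFun hm i) j
    rwa [h46_tt_diag, Matrix.mul_diagonal, Matrix.diagonal_mul] at this
  have hz : ∀ i j, h46_dv F i = -h46_dv F j → h46_dv F j * h46_dv F j = (1 : F) → g.1 i j = 0 := by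
    intro i j hij hj
    have h1 := key i j
    rw [hij] at h1
    have h3 : (2 : F) * g.1 i j = 0 := by
      linear_combination (h46_dv F j) * h1 - (2 * g.1 i j) * hj
    exact (mul_eq_zero.mp h3).resolve_left h2
  have z1 : ∀ s s' : Fin 2 → Fin 2 ⊕ Fin 2, (s = Sum.inl ∨ s = Sum.inr) →
      (s' = Sum.inl ∨ s' = Sum.inr) → g.1 (s 0) (s' 1) = 0 ∧ g.1 (s 1) (s' 0) = 0 := by
    intro s s' hs hs'
    rcases hs with rfl | rfl <;> rcases hs' with rfl | rfl <;>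
      exact ⟨hz _ _ (by simp [h46_dv]) (by simp [h46_dv]), hz _ _ (by simp [h46_dv]) (by simp [h46_dv])⟩
  have a1 := z1 Sum.inl Sum.inl (Or.inl rfl) (Or.inl rfl)
  have a2 := z1 Sum.inl Sum.inr (Or.inl rfl) (Or.inr rfl)
  have a3 := z1 Sum.inr Sum.inl (Or.inr rfl) (Or.inl rfl)
  have a4 := z1 Sum.inr Sum.inr (Or.inr rfl) (Or.inr rfl)
  have hA : (!![g.1 (Sum.inl 0) (Sum.inl 0), g.1 (Sum.inl 0) (Sum.inr 0);
      g.1 (Sum.inr 0) (Sum.inl 0), g.1 (Sum.inr 0) (Sum.inr 0)] : Matrix (Fin 2) (Fin 2) F).det = 1 := by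
    have e := h46_symp g (Sum.inl 0) (Sum.inr 0)
    rw [a1.1, a2.1, a3.1, a4.1] at e
    simp [Matrix.J] at e
    rw [Matrix.det_fin_two_of]
    linear_combination -e
  have hB : (!![g.1 (Sum.inl 1) (Sum.inl 1), g.1 (Sum.inl 1) (Sum.inr 1);
      g.1 (Sum.inr 1) (Sum.inl 1), g.1 (Sum.inr 1) (Sum.inr 1)] : Matrix (Fin 2) (Fin 2) F).det = 1 := by
    have e := h46_symp g (Sum.inl 1) (Sum.inr 1)
    rw [a1.2, a2.2, a3.2, a4.2] at e
    simp [Matrix.J] at e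
    rw [Matrix.det_fin_two_of]
    linear_combination -e
  refine ⟨(⟨_, hA⟩, ⟨_, hB⟩), ?_⟩
  apply Subtype.ext
  rw [emb_val]
  ext i j
  rcases i with i | i <;> rcases j with j | j <;> fin_cases i <;> fin_cases j <;>
    simp [embM, a1.1, a1.2, a2.1, a2.2, a3.1, a3.2, a4.1, a4.2]

theorem mem_range_emb_sw_of_conj (h2 : (2 : F) ≠ 0) (g : Sp4 F) (h : g * tt * g⁻¹ = tt * zc) :
    ∃ X : SL2 F × SL2 F, g = emb X * sw := by
  have h' : g * tt = tt * zc * g := mul_inv_eq_iff_eq_mul.mp h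
  have hm : g.1 * (tt : Sp4 F).1 = (tt * zc : Sp4 F).1 * g.1 := congrArg Subtype.val h'
  have key : ∀ i j, g.1 i j * h46_dv F j = -h46_dv F i * g.1 i j := fun i j => by
    have := congrFun (congrFun hm i) j
    rwa [h46_tt_diag, h46_ttzc_diag, Matrix.mul_diagonal, Matrix.diagonal_mul] at this
  have hz : ∀ i j, h46_dv F i = h46_dv F j → h46_dv F j * h46_dv F j = (1 : F) → g.1 i j = 0 := by
    intro i j hij hj
    have h1 := key i j
    rw [hij] at h1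
    have h3 : (2 : F) * g.1 i j = 0 := by
      linear_combination (h46_dv F j) * h1 - (2 * g.1 i j) * hj
    exact (mul_eq_zero.mp h3).resolve_left h2
  have z1 : ∀ s s' : Fin 2 → Fin 2 ⊕ Fin 2, (s = Sum.inl ∨ s = Sum.inr) →
      (s' = Sum.inl ∨ s' = Sum.inr) → g.1 (s 0) (s' 0) = 0 ∧ g.1 (s 1) (s' 1) = 0 := by
    intro s s' hs hs'
    rcases hs with rfl | rfl <;> rcases hs' with rfl | rfl <;>
      exact ⟨hz _ _ (by simp [h46_dv]) (by simp [h46_dv]), hz _ _ (by simp [h46_dv]) (by simp [h46_dv])⟩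
  have a1 := z1 Sum.inl Sum.inl (Or.inl rfl) (Or.inl rfl)
  have a2 := z1 Sum.inl Sum.inr (Or.inl rfl) (Or.inr rfl)
  have a3 := z1 Sum.inr Sum.inl (Or.inr rfl) (Or.inl rfl)
  have a4 := z1 Sum.inr Sum.inr (Or.inr rfl) (Or.inr rfl)
  have hA : (!![g.1 (Sum.inl 0) (Sum.inl 1), g.1 (Sum.inl 0) (Sum.inr 1);
      g.1 (Sum.inr 0) (Sum.inl 1), g.1 (Sum.inr 0) (Sum.inr 1)] : Matrix (Fin 2) (Fin 2) F).det = 1 := by
    have e := h46_symp g (Sum.inl 0) (Sum.inr 0)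
    rw [a1.1, a2.1, a3.1, a4.1] at e
    simp [Matrix.J] at e
    rw [Matrix.det_fin_two_of]
    linear_combination -e
  have hB : (!![g.1 (Sum.inl 1) (Sum.inl 0), g.1 (Sum.inl 1) (Sum.inr 0);
      g.1 (Sum.inr 1) (Sum.inl 0), g.1 (Sum.inr 1) (Sum.inr 0)] : Matrix (Fin 2) (Fin 2) F).det = 1 := by
    have e := h46_symp g (Sum.inl 1) (Sum.inr 1)
    rw [a1.2, a2.2, a3.2, a4.2] at e
    simp [Matrix.J] at e
    rw [Matrix.det_fin_two_of]
    linear_combination -e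
  refine ⟨(⟨_, hA⟩, ⟨_, hB⟩), ?_⟩
  apply Subtype.ext
  show g.1 = (emb _ : Sp4 F).1 * swM
  rw [emb_val]
  ext i j
  rcases i with i | i <;> rcases j with j | j <;> fin_cases i <;> fin_cases j <;>
    simp [embM, swM, Matrix.mul_apply, Fintype.sum_sum_type, Fin.sum_univ_two,
      a1.1, a1.2, a2.1, a2.2, a3.1, a3.2, a4.1, a4.2]

end Cfsg.Agent.Helper46.Sp4
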