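import Mathlib
import Cfsg.Agent.Lib.Helper84.Sp4Defs
import Cfsg.Agent.Lib.Helper42.Sp4B3

set_option autoImplicit false

/-!
# PSP4F (UU) for helper84's server (S5320): the mixing element `uu`
-/

namespace Cfsg.Agent.Helper46.Sp4

open Matrix Cfsg.Agent.Helper84.Sp4

variable {F : Type*} [Field F]

/-- Kronecker-type product: the outer matrix `A` acts on the `Sum` index, the inner `P` on `Fin 2` -/
def h46_kr (A P : Matrix (Fin 2) (Fin 2) F) : Matrix (Fin 2 ⊕ Fin 2) (Fin 2 ⊕ Fin 2) F :=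
  Matrix.fromBlocks (A 0 0 • P) (A 0 1 • P) (A 1 0 • P) (A 1 1 • P)

theorem h46_kr_mul (A A' P P' : Matrix (Fin 2) (Fin 2) F) :
    h46_kr A P * h46_kr A' P' = h46_kr (A * A') (P * P') := by
  simp only [h46_kr, Matrix.fromBlocks_multiply, Matrix.smul_mul, Matrix.mul_smul, smul_smul,
    ← add_smul, Matrix.mul_apply, Fin.sum_univ_two]
  congr 1 <;> (congr 1; ring)

theorem h46_kr_smul_left (c : F) (A P : Matrix (Fin 2) (Fin 2) F) :
    h46_kr (c • A) P = c • h46_kr A P := by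
  simp only [h46_kr, Matrix.fromBlocks_smul, Matrix.smul_apply, smul_smul, smul_eq_mul]

theorem h46_kr_smul_right (c : F) (A P : Matrix (Fin 2) (Fin 2) F) :
    h46_kr A (c • P) = c • h46_kr A P := by
  simp only [h46_kr, Matrix.fromBlocks_smul, smul_smul, mul_comm]

theorem h46_kr_one : h46_kr (1 : Matrix (Fin 2) (Fin 2) F) 1 = 1 := by
  simp [h46_kr, Matrix.fromBlocks_one]

theorem h46_embM_diag (b : Matrix (Fin 2) (Fin 2) F) : embM b b = h46_kr b 1 := by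
  ext i j
  rcases i with i | i <;> rcases j with j | j <;> fin_cases i <;> fin_cases j <;>
    simp [embM, h46_kr]

theorem h46_tt_val : ((tt : Sp4 F) : Matrix (Fin 2 ⊕ Fin 2) (Fin 2 ⊕ Fin 2) F) =
    h46_kr 1 (Matrix.diagonal ![-1, 1]) := by
  ext i j
  rcases i with i | i <;> rcases j with j | j <;> fin_cases i <;> fin_cases j <;>
    simp [tt, embM, h46_kr]

theorem h46_zc_val : ((zc : Sp4 F) : Matrix (Fin 2 ⊕ Fin 2) (Fin 2 ⊕ Fin 2) F) =
    h46_kr (-1) 1 := by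
  ext i j
  rcases i with i | i <;> rcases j with j | j <;> fin_cases i <;> fin_cases j <;>
    simp [zc, embM, h46_kr]

theorem h46_swM_eq : (swM : Matrix (Fin 2 ⊕ Fin 2) (Fin 2 ⊕ Fin 2) F) =
    h46_kr 1 !![0, 1; 1, 0] := by
  ext i j
  rcases i with i | i <;> rcases j with j | j <;> fin_cases i <;> fin_cases j <;>
    simp [swM, h46_kr]

theorem h46_uuM_eq : (uuM : Matrix (Fin 2 ⊕ Fin 2) (Fin 2 ⊕ Fin 2) F) =
    h46_kr !![1, 1; -1, 1] ((2 : F)⁻¹ • !![1, 1; -1, 1]) := by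
  ext i j
  rcases i with i | i <;> rcases j with j | j <;> fin_cases i <;> fin_cases j <;>
    simp [uuM, h46_kr]

theorem h46_uuM_mem (h2 : (2 : F) ≠ 0) :
    (uuM : Matrix (Fin 2 ⊕ Fin 2) (Fin 2 ⊕ Fin 2) F) ∈ Matrix.symplecticGroup (Fin 2) F := by
  rw [SymplecticGroup.mem_iff]
  ext i j
  rcases i with i | i <;> rcases j with j | j <;> fin_cases i <;> fin_cases j <;>
    simp [uuM, Matrix.J, Matrix.mul_apply, Fintype.sum_sum_type, Fin.sum_univ_two,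
      Matrix.one_apply] <;> field_simp <;> ring

/-! ### (UU) the mixing element (all identities numerically checked) -/

theorem uu_val (h2 : (2 : F) ≠ 0) :
    ((uu : Sp4 F) : Matrix (Fin 2 ⊕ Fin 2) (Fin 2 ⊕ Fin 2) F) = uuM := by
  unfold uu
  rw [dif_pos (h46_uuM_mem h2)]

theorem h46_two_inv (h2 : (2 : F) ≠ 0) : (2 : F)⁻¹ + (2 : F)⁻¹ = 1 := by
  field_simp; norm_num

theorem h46_uuM_sq (h2 : (2 : F) ≠ 0) :
    (uuM : Matrix (Fin 2 ⊕ Fin 2) (Fin 2 ⊕ Fin 2) F) * uuM = h46_kr (rot 0 1) (rot 0 1) := by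
  have hM : (!![1, 1; -1, 1] : Matrix (Fin 2) (Fin 2) F) * !![1, 1; -1, 1] =
      (2 : F) • rot 0 1 := by
    ext i j
    fin_cases i <;> fin_cases j <;>
      simp [rot, Matrix.mul_apply, Fin.sum_univ_two] <;> ring
  rw [h46_uuM_eq, h46_kr_mul, Matrix.smul_mul, Matrix.mul_smul, smul_smul, hM, h46_kr_smul_right,
    h46_kr_smul_right, h46_kr_smul_left, smul_smul, smul_smul]
  have hc : (2 : F)⁻¹ * (2 : F)⁻¹ * 2 * 2 = 1 := by field_simp
  rw [hc, one_smul]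

theorem h46_rot_sq :
    h46_kr (rot (0 : F) 1) (rot 0 1) * h46_kr (rot 0 1) (rot 0 1) = 1 := by
  rw [h46_kr_mul]
  have h : rot (0 : F) 1 * rot 0 1 = (-1 : F) • (1 : Matrix (Fin 2) (Fin 2) F) := by
    ext i j
    fin_cases i <;> fin_cases j <;> simp [rot, Matrix.mul_apply, Fin.sum_univ_two]
  rw [h, h46_kr_smul_left, h46_kr_smul_right, smul_smul, h46_kr_one]
  simp

theorem uu_pow_four (h2 : (2 : F) ≠ 0) : (uu : Sp4 F) ^ 4 = 1 := by
  apply Subtype.ext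
  have h4 : ((uu : Sp4 F) ^ 4 : Sp4 F) = (uu * uu) * (uu * uu) := by
    rw [show (4 : ℕ) = 2 + 2 from rfl, pow_add, pow_two]
  rw [h4]
  show (uu : Sp4 F).1 * (uu : Sp4 F).1 * ((uu : Sp4 F).1 * (uu : Sp4 F).1) = 1
  rw [uu_val h2, h46_uuM_sq h2, h46_rot_sq]

theorem uu_conj_tt (h2 : (2 : F) ≠ 0) : (uu : Sp4 F) * tt * uu⁻¹ = sw := by
  rw [mul_inv_eq_iff_eq_mul]
  apply Subtype.ext
  show (uu : Sp4 F).1 * (tt : Sp4 F).1 = swM * (uu : Sp4 F).1
  rw [uu_val h2, h46_tt_val, h46_uuM_eq, h46_swM_eq, h46_kr_mul, h46_kr_mul, mul_one, one_mul]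
  congr 1
  ext i j
  fin_cases i <;> fin_cases j <;>
    simp [Matrix.mul_apply, Fin.sum_univ_two]

theorem uu_conj_sw (h2 : (2 : F) ≠ 0) : (uu : Sp4 F) * sw * uu⁻¹ = tt * zc := by
  rw [mul_inv_eq_iff_eq_mul]
  apply Subtype.ext
  show (uu : Sp4 F).1 * swM = (tt : Sp4 F).1 * (zc : Sp4 F).1 * (uu : Sp4 F).1
  rw [uu_val h2, h46_tt_val, h46_zc_val, h46_uuM_eq, h46_swM_eq, h46_kr_mul, h46_kr_mul,
    h46_kr_mul, mul_one, one_mul, mul_one]
  have h : (-1 : Matrix (Fin 2) (Fin 2) F) * !![1, 1; -1, 1] =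
      (-1 : F) • !![1, 1; -1, 1] := by simp
  rw [h, h46_kr_smul_left, ← h46_kr_smul_right]
  congr 1
  ext i j
  fin_cases i <;> fin_cases j <;>
    simp [Matrix.mul_apply, Fin.sum_univ_two]

/-- `uu (b ⊗ 1) uu⁻¹ = ((1+i) b (1+i)⁻¹) ⊗ 1` -/
theorem uu_conj_emb (h2 : (2 : F) ≠ 0) (b c : SL2 F)
    (hbc : ((1 : Matrix (Fin 2) (Fin 2) F) + (i0 : SL2 F)) * (b : Matrix (Fin 2) (Fin 2) F) =
      (c : Matrix (Fin 2) (Fin 2) F) * ((1 : Matrix (Fin 2) (Fin 2) F) + (i0 : SL2 F))) :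
    (uu : Sp4 F) * emb (b, b) * uu⁻¹ = emb (c, c) := by
  rw [mul_inv_eq_iff_eq_mul]
  apply Subtype.ext
  show (uu : Sp4 F).1 * embM b.1 b.1 = embM c.1 c.1 * (uu : Sp4 F).1
  have h1 : (!![1, 1; -1, 1] : Matrix (Fin 2) (Fin 2) F) =
      (1 : Matrix (Fin 2) (Fin 2) F) + (i0 : SL2 F) := by
    ext i j
    fin_cases i <;> fin_cases j <;> simp [rot]
  rw [uu_val h2, h46_uuM_eq, h46_embM_diag, h46_embM_diag, h46_kr_mul, h46_kr_mul, mul_one,
    one_mul, h1, hbc]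

theorem uu_conj_i0 (h2 : (2 : F) ≠ 0) : (uu : Sp4 F) * emb (i0, i0) * uu⁻¹ = emb (i0, i0) := by
  apply uu_conj_emb h2
  rw [add_mul, mul_add, one_mul, mul_one]

theorem h46_j0_data [Finite F] :
    ∃ x y : F, ((j0 : SL2 F) : Matrix (Fin 2) (Fin 2) F) = ref x y ∧ x * x + y * y = -1 := by
  obtain ⟨x, y, hxy⟩ := Cfsg.Agent.Helper42.Sp4.j0_mem (F := F)
  refine ⟨x, y, hxy, ?_⟩
  have hd : ((j0 : SL2 F) : Matrix (Fin 2) (Fin 2) F).det = 1 := (j0 : SL2 F).2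
  rw [hxy] at hd
  simp only [ref, Matrix.det_fin_two_of] at hd
  linear_combination -hd

theorem uu_conj_j0 [Finite F] (h2 : (2 : F) ≠ 0) :
    (uu : Sp4 F) * emb (j0, j0) * uu⁻¹ = emb (i0 * j0, i0 * j0) := by
  obtain ⟨x, y, hxy, -⟩ := h46_j0_data (F := F)
  apply uu_conj_emb h2
  rw [Matrix.SpecialLinearGroup.coe_mul, hxy, i0_val]
  ext i j
  fin_cases i <;> fin_cases j <;>
    simp [rot, ref, Matrix.mul_apply, Fin.sum_univ_two] <;> ring

theorem h46_omM_eq {x y : F} (hxy : ((j0 : SL2 F) : Matrix (Fin 2) (Fin 2) F) = ref x y) :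
    (omM : Matrix (Fin 2) (Fin 2) F) =
      !![(2 : F)⁻¹ * (-1 + x + y), (2 : F)⁻¹ * (1 + y - x);
         (2 : F)⁻¹ * (-1 + y - x), (2 : F)⁻¹ * (-1 - x - y)] := by
  unfold omM
  rw [Matrix.SpecialLinearGroup.coe_mul, hxy, i0_val]
  ext i j
  fin_cases i <;> fin_cases j <;>
    simp only [rot, ref, Matrix.mul_apply, Fin.sum_univ_two, Matrix.smul_apply, Matrix.add_apply,
      Matrix.neg_apply, Matrix.one_apply, Matrix.of_apply, Matrix.cons_val', Matrix.cons_val_zero,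
      Matrix.cons_val_one, Matrix.cons_val_fin_one, smul_eq_mul, Fin.zero_eta, Fin.mk_one,
      Fin.isValue, if_true, if_false, one_ne_zero, zero_ne_one] <;> ring

theorem h46_om_val (h2 : (2 : F) ≠ 0) {x y : F}
    (hxy : ((j0 : SL2 F) : Matrix (Fin 2) (Fin 2) F) = ref x y) (hdet : x * x + y * y = -1) :
    ((om : SL2 F) : Matrix (Fin 2) (Fin 2) F) =
      !![(2 : F)⁻¹ * (-1 + x + y), (2 : F)⁻¹ * (1 + y - x);
         (2 : F)⁻¹ * (-1 + y - x), (2 : F)⁻¹ * (-1 - x - y)] := by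
  have hd : (omM : Matrix (Fin 2) (Fin 2) F).det = 1 := by
    rw [h46_omM_eq hxy, Matrix.det_fin_two_of]
    have ht : 2 * (2 : F)⁻¹ = 1 := mul_inv_cancel₀ h2
    linear_combination (-2 * (2 : F)⁻¹ ^ 2) * hdet + (2 * (2 : F)⁻¹ + 1) * ht
  have hom : (om : SL2 F) = ⟨omM, hd⟩ := by
    unfold om
    exact dif_pos hd
  rw [hom]
  exact h46_omM_eq hxy

theorem uu_conj_dd [Finite F] (h2 : (2 : F) ≠ 0) :
    (uu : Sp4 F) * dd * uu⁻¹ = dd⁻¹ * emb ((i0 * j0)⁻¹, (i0 * j0)⁻¹) := by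
  obtain ⟨x, y, hxy, hdet⟩ := h46_j0_data (F := F)
  have hom := h46_om_val h2 hxy hdet
  have h := uu_conj_emb h2 om (om⁻¹ * (i0 * j0)⁻¹) (by
    rw [Matrix.SpecialLinearGroup.coe_mul, Matrix.SpecialLinearGroup.coe_inv,
      Matrix.SpecialLinearGroup.coe_inv, Matrix.SpecialLinearGroup.coe_mul, hom, hxy, i0_val]
    ext i j
    fin_cases i <;> fin_cases j <;>
      simp [rot, ref, Matrix.mul_apply, Fin.sum_univ_two, Matrix.adjugate_fin_two] <;>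
      first
        | ring1
        | linear_combination (-2 * (2 : F)⁻¹) * hdet)
  rw [show (dd : Sp4 F) = emb (om, om) from rfl, h, ← map_inv, ← map_mul]
  rfl

end Cfsg.Agent.Helper46.Sp4
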