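import Mathlib
import Cfsg.Agent.Lib.Helper84.Sp4Defs
import Cfsg.Agent.Lib.Helper46.Sp4UU

set_option autoImplicit false

/-!
# PSP4F (TW) for helper84's server (S5320): `tt` and `sw` are conjugate in `Sp₄(F)`
-/

namespace Cfsg.Agent.Helper46.Sp4

open Matrix Cfsg.Agent.Helper84.Sp4

variable {F : Type*} [Field F]

/-! ### (TW) `tt` and `sw` are conjugate in `Sp₄(F)` (explicit matrix) -/

theorem exists_conj_tt_sw (h2 : (2 : F) ≠ 0) : ∃ g : Sp4 F, g * tt * g⁻¹ = sw :=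
  ⟨uu, uu_conj_tt h2⟩

end Cfsg.Agent.Helper46.Sp4
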