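import Mathlib
import Cfsg.Prelude.Def_LocalEven
import Cfsg.Agent.Lib.Helper33.WellPlaced
import Cfsg.Agent.Lib.Helper33.Good
import Cfsg.Agent.Lib.Helper46.SylowLemmas
import Cfsg.Agent.Lib.Helper46.Coprime

set_option autoImplicit false

namespace Cfsg.Agent.Helper46

open Cfsg Pointwise
open Cfsg.Agent.Helper33

section stab

variable {G : Type*} [Group G]

/-- Elements of `N(U)` acting trivially on the cosets of `A₀` in `U` (`A₀` normalized by `N(U)`). -/
def stabMod (U A₀ : Subgroup G)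
    (hA₀ : Subgroup.normalizer (U : Set G) ≤ Subgroup.normalizer (A₀ : Set G)) : Subgroup G where
  carrier := {k | k ∈ Subgroup.normalizer (U : Set G) ∧ ∀ u ∈ U, u⁻¹ * (k * u * k⁻¹) ∈ A₀}
  one_mem' := ⟨one_mem _, fun u _ => by simp⟩
  mul_mem' := by
    rintro k₁ k₂ ⟨h₁, h₁'⟩ ⟨h₂, h₂'⟩
    refine ⟨mul_mem h₁ h₂, fun u hu => ?_⟩
    have e : u⁻¹ * (k₁ * k₂ * u * (k₁ * k₂)⁻¹) =
        (u⁻¹ * (k₁ * u * k₁⁻¹)) * (k₁ * (u⁻¹ * (k₂ * u * k₂⁻¹)) * k₁⁻¹) := by group
    rw [e]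
    exact A₀.mul_mem (h₁' u hu) ((Subgroup.mem_normalizer_iff.mp (hA₀ h₁) _).mp (h₂' u hu))
  inv_mem' := by
    rintro k ⟨h, h'⟩
    have hk' : k⁻¹ ∈ Subgroup.normalizer (U : Set G) := inv_mem h
    refine ⟨hk', fun u hu => ?_⟩
    have hu'' : k⁻¹ * u * k⁻¹⁻¹ ∈ U := (Subgroup.mem_normalizer_iff.mp hk' u).mp hu
    have h1 := h' _ hu''
    have e : (k⁻¹ * u * k⁻¹⁻¹)⁻¹ * (k * (k⁻¹ * u * k⁻¹⁻¹) * k⁻¹) = (u⁻¹ * (k⁻¹ * u * k⁻¹⁻¹))⁻¹ := by
      group
    rw [e] at h1
    exact (A₀.inv_mem_iff).mp h1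

theorem mem_stabMod {U A₀ : Subgroup G}
    {hA₀ : Subgroup.normalizer (U : Set G) ≤ Subgroup.normalizer (A₀ : Set G)} {k : G} :
    k ∈ stabMod U A₀ hA₀ ↔
      k ∈ Subgroup.normalizer (U : Set G) ∧ ∀ u ∈ U, u⁻¹ * (k * u * k⁻¹) ∈ A₀ := Iff.rfl

/-- The stability group of the chain `U ≥ A₀ ≥ 1` inside `N(U)`. -/
def stabChain (U A₀ : Subgroup G)
    (hA₀ : Subgroup.normalizer (U : Set G) ≤ Subgroup.normalizer (A₀ : Set G)) : Subgroup G :=
  stabMod U A₀ hA₀ ⊓ Subgroup.centralizer (A₀ : Set G)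

theorem stabChain_le_normalizer (U A₀ : Subgroup G)
    (hA₀ : Subgroup.normalizer (U : Set G) ≤ Subgroup.normalizer (A₀ : Set G)) :
    stabChain U A₀ hA₀ ≤ Subgroup.normalizer (U : Set G) :=
  fun _ hk => (Subgroup.mem_inf.mp hk).1.1

theorem normalizer_le_normalizer_stabChain (U A₀ : Subgroup G)
    (hA₀ : Subgroup.normalizer (U : Set G) ≤ Subgroup.normalizer (A₀ : Set G)) :
    Subgroup.normalizer (U : Set G) ≤ Subgroup.normalizer (stabChain U A₀ hA₀ : Set G) := by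
  rw [Subgroup.le_normalizer_iff]
  intro h hh k hk
  obtain ⟨⟨hkN, hk1⟩, hk2⟩ := Subgroup.mem_inf.mp hk
  have hh' : h⁻¹ ∈ Subgroup.normalizer (U : Set G) := inv_mem hh
  refine Subgroup.mem_inf.mpr ⟨⟨mul_mem (mul_mem hh hkN) hh', fun u hu => ?_⟩, ?_⟩
  · have hu' : h⁻¹ * u * h⁻¹⁻¹ ∈ U := (Subgroup.mem_normalizer_iff.mp hh' u).mp hu
    have h1 := hk1 _ hu'
    have h2 := (Subgroup.mem_normalizer_iff.mp (hA₀ hh) _).mp h1
    have e : h * ((h⁻¹ * u * h⁻¹⁻¹)⁻¹ * (k * (h⁻¹ * u * h⁻¹⁻¹) * k⁻¹)) * h⁻¹ =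
        u⁻¹ * (h * k * h⁻¹ * u * (h * k * h⁻¹)⁻¹) := by group
    rw [e] at h2
    exact h2
  · rw [Subgroup.mem_centralizer_iff]
    intro a ha
    have ha' : h⁻¹ * a * h⁻¹⁻¹ ∈ A₀ := (Subgroup.mem_normalizer_iff.mp (hA₀ hh') a).mp ha
    have h1 := Subgroup.mem_centralizer_iff.mp hk2 _ ha'
    calc a * (h * k * h⁻¹) = h * ((h⁻¹ * a * h⁻¹⁻¹) * k) * h⁻¹ := by group
      _ = h * (k * (h⁻¹ * a * h⁻¹⁻¹)) * h⁻¹ := by rw [h1]
      _ = h * k * h⁻¹ * a := by group

/-- Elements of the stability group of order prime to `p` centralize `U`, if `A₀` is a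
`p`-group. -/
theorem stabChain_coprime_centralizes {p : ℕ} [Fact p.Prime] (U A₀ : Subgroup G)
    (hA₀ : Subgroup.normalizer (U : Set G) ≤ Subgroup.normalizer (A₀ : Set G))
    (hA₀p : IsPGroup p A₀) {c : G} (hc : c ∈ stabChain U A₀ hA₀) (hco : (orderOf c).Coprime p) :
    c ∈ Subgroup.centralizer (U : Set G) := by
  obtain ⟨⟨_, hc1⟩, hc2⟩ := Subgroup.mem_inf.mp hc
  rw [Subgroup.mem_centralizer_iff]
  intro u hu
  set r := u⁻¹ * (c * u * c⁻¹) with hr
  have hrA : r ∈ A₀ := hc1 u hu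
  have h1 : c * u * c⁻¹ = u * r := by rw [hr, mul_inv_cancel_left]
  have h2 : c * r = r * c := (Subgroup.mem_centralizer_iff.mp hc2 r hrA).symm
  have h3 := pow_eq_one_of_conj_eq_mul h1 h2 (pow_orderOf_eq_one c)
  obtain ⟨j, hj⟩ := (IsPGroup.iff_orderOf.mp hA₀p) ⟨r, hrA⟩
  have hj' : r ^ p ^ j = 1 := by
    have h := pow_orderOf_eq_one (⟨r, hrA⟩ : ↥A₀)
    rw [hj] at h
    simpa using congrArg Subtype.val h
  have hr1 : r = 1 := eq_one_of_pow_eq_one_of_coprime h3 hj' hco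
  rw [hr1, mul_one] at h1
  calc u * c = (c * u * c⁻¹) * c := by rw [h1]
    _ = c * u := by group

theorem stabChain_decomp [Finite G] {p : ℕ} [Fact p.Prime] (U A₀ : Subgroup G)
    (hA₀ : Subgroup.normalizer (U : Set G) ≤ Subgroup.normalizer (A₀ : Set G))
    (hA₀p : IsPGroup p A₀) (P : Subgroup G) (hP : IsSylIn p P (stabChain U A₀ hA₀)) :
    ∀ d ∈ stabChain U A₀ hA₀, ∃ c ∈ Subgroup.centralizer (U : Set G),
      c ∈ stabChain U A₀ hA₀ ∧ ∃ t ∈ P, d = c * t := by
  set C := stabChain U A₀ hA₀ with hC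
  set N' : Subgroup ↥C := (Subgroup.centralizer (U : Set G)).subgroupOf C with hN'
  haveI hN'n : N'.Normal := by
    constructor
    intro n hn g
    rw [hN', Subgroup.mem_subgroupOf] at hn ⊢
    rw [Subgroup.mem_centralizer_iff]
    intro u hu
    have hgN : (g : G) ∈ Subgroup.normalizer (U : Set G) := stabChain_le_normalizer U A₀ hA₀ g.2
    have hgN' : (g : G)⁻¹ ∈ Subgroup.normalizer (U : Set G) := inv_mem hgN
    have hu' : (g : G)⁻¹ * u * (g : G)⁻¹⁻¹ ∈ U := (Subgroup.mem_normalizer_iff.mp hgN' u).mp hu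
    have h1 := Subgroup.mem_centralizer_iff.mp hn _ hu'
    change u * ((g : G) * (n : G) * (g : G)⁻¹) = (g : G) * (n : G) * (g : G)⁻¹ * u
    calc u * ((g : G) * (n : G) * (g : G)⁻¹)
        = (g : G) * (((g : G)⁻¹ * u * (g : G)⁻¹⁻¹) * (n : G)) * (g : G)⁻¹ := by group
      _ = (g : G) * ((n : G) * ((g : G)⁻¹ * u * (g : G)⁻¹⁻¹)) * (g : G)⁻¹ := by rw [h1]
      _ = (g : G) * (n : G) * (g : G)⁻¹ * u := by group
  have hpow : ∀ d ∈ (⊤ : Subgroup ↥C), ∃ k : ℕ, d ^ p ^ k ∈ N' := by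
    intro d _
    have hd0 : orderOf d ≠ 0 := (orderOf_pos d).ne'
    obtain ⟨e, n', hn', hen⟩ :=
      Nat.exists_eq_pow_mul_and_not_dvd hd0 p (Fact.out : p.Prime).ne_one
    refine ⟨e, ?_⟩
    rw [hN', Subgroup.mem_subgroupOf]
    have h1 : (d ^ p ^ e) ^ n' = 1 := by
      rw [← pow_mul, ← hen, pow_orderOf_eq_one]
    have h2 : orderOf (d ^ p ^ e) ∣ n' := orderOf_dvd_of_pow_eq_one h1
    have h3 : (orderOf (((d ^ p ^ e : ↥C)) : G)).Coprime p := by
      rw [Subgroup.orderOf_coe]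
      apply Nat.Coprime.coprime_dvd_left h2
      rw [Nat.coprime_comm, Nat.Prime.coprime_iff_not_dvd Fact.out]
      exact hn'
    exact stabChain_coprime_centralizes U A₀ hA₀ hA₀p (d ^ p ^ e : ↥C).2 h3
  have hD : (⊤ : Subgroup ↥C).Normal := inferInstance
  have key := exists_mul_of_pow_mem (N := N') (D := ⊤) hD hpow hP.toSylow
  intro d hd
  obtain ⟨c, hc, t, ht, hdt⟩ := key ⟨d, hd⟩ (Subgroup.mem_top _)
  rw [hP.coe_toSylow, Subgroup.mem_subgroupOf] at ht
  rw [hN', Subgroup.mem_subgroupOf] at hc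
  exact ⟨c, hc, c.2, t, ht, congrArg Subtype.val hdt⟩

end stab

section strong

variable {G : Type*} [Group G] [Finite G] {p : ℕ} [Fact p.Prime]

theorem conj_mem_of_stronglyClosed {S A : Subgroup G} (hsc : IsStronglyClosed A S) :
    ∀ s ∈ S, ∀ a ∈ A, s * a * s⁻¹ ∈ A :=
  fun s hs a ha => hsc.2 a ha s (S.mul_mem (S.mul_mem hs (hsc.1 ha)) (S.inv_mem hs))

theorem le_normalizer_of_stronglyClosed {S A : Subgroup G} (hsc : IsStronglyClosed A S) :
    S ≤ Subgroup.normalizer (A : Set G) :=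
  Subgroup.le_normalizer_iff.mpr (conj_mem_of_stronglyClosed hsc)

theorem normalizer_le_normalizer_inf_of_stronglyClosed {S A U : Subgroup G}
    (hsc : IsStronglyClosed A S) (hUS : U ≤ S) :
    Subgroup.normalizer (U : Set G) ≤ Subgroup.normalizer ((A ⊓ U : Subgroup G) : Set G) := by
  rw [Subgroup.le_normalizer_iff]
  intro k hk a ha
  obtain ⟨haA, haU⟩ := Subgroup.mem_inf.mp ha
  have h1 : k * a * k⁻¹ ∈ U := (Subgroup.mem_normalizer_iff.mp hk a).mp haU
  exact Subgroup.mem_inf.mpr ⟨hsc.2 a haA k (hUS h1), h1⟩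

theorem exists_mem_normalizer_not_mem {S A U : Subgroup G} (hS : IsPGroup p S)
    (hsc : IsStronglyClosed A S) (hUS : U ≤ S) (hAU : ¬ A ≤ U) :
    ∃ a ∈ A, a ∈ Subgroup.normalizer (U : Set G) ∧ a ∉ U := by
  set V : Subgroup G := U ⊔ A with hV
  have hVS : V ≤ S := sup_le hUS hsc.1
  have hVp : IsPGroup p V := hS.to_le hVS
  have hne : U ≠ V := by
    intro h
    apply hAU
    rw [h]
    exact le_sup_right
  have hlt := IsSylIn.normalizer_growth hVp (le_sup_left : U ≤ V) hne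
  obtain ⟨v, hv, hvU⟩ := SetLike.exists_of_lt hlt
  obtain ⟨hvV, hvN⟩ := Subgroup.mem_inf.mp hv
  have hUA : U ≤ Subgroup.normalizer (A : Set G) := hUS.trans (le_normalizer_of_stronglyClosed hsc)
  have hcoe := Subgroup.coe_mul_of_left_le_normalizer_right U A hUA
  have hv' : v ∈ ((U ⊔ A : Subgroup G) : Set G) := hvV
  rw [hcoe] at hv'
  obtain ⟨u, hu, a, ha, rfl⟩ := Set.mem_mul.mp hv'
  refine ⟨a, ha, ?_, ?_⟩
  · have : a = u⁻¹ * (u * a) := by group
    rw [this]
    exact mul_mem (inv_mem (Subgroup.le_normalizer hu)) hvN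
  · intro haU
    exact hvU (U.mul_mem hu haU)

theorem chain_prod_mem (K : Subgroup G) (S' : Set G) :
    ∀ (l : List G) (B : Set G), IsStepChain (fun x => x ∈ K) S' B l → l.prod ∈ K := by
  intro l
  induction l with
  | nil => intro B _; simp
  | cons x tl ih =>
    intro B h
    rw [List.prod_cons]
    exact K.mul_mem h.1 (ih _ h.2.2)

/-- the fully normalized subgroups of `S` -/
def fullyNorm (S : Sylow p G) : Set (Subgroup G) :=
  {T | T ≤ (S : Subgroup G) ∧ IsSylIn p ((S : Subgroup G) ⊓ Subgroup.normalizer (T : Set G))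
    (Subgroup.normalizer (T : Set G))}

theorem reach_fullyNorm (S : Sylow p G) (P : Subgroup G) (hP : P ≤ (S : Subgroup G)) (g : G)
    (hg : MulAut.conj g⁻¹ • P ≤ (S : Subgroup G)) : Reach (fullyNorm S) (P : Set G) g := by
  apply reach_of_criterion S _ (fun U hU => hU.1) _ P hP g hg
  intro T hT
  obtain ⟨h, -, hh2, hh3⟩ := exists_conj_fully_normalized S hT
  exact ⟨_, ⟨hh2, hh3⟩, ⟨h, rfl⟩, hh3⟩

theorem card_le_of_rc_subset' {M T : Subgroup G} {y : G} (h : rc y (M : Set G) ⊆ T) :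
    Nat.card M ≤ Nat.card T := by
  rw [rc_coe] at h
  have := Subgroup.card_le_of_le (show MulAut.conj y⁻¹ • M ≤ T from h)
  rwa [card_conj_smul] at this

/-- From agreement of normalizer elements of large fully normalized subgroups with elements of
`N(A)` to the same for all fusion of large subgroups of `S`. -/
theorem reach_to_normalizer (S : Sylow p G) (A : Subgroup G) (c : ℕ)
    (hΨ : ∀ T ∈ fullyNorm S, c ≤ Nat.card T → ∀ x ∈ Subgroup.normalizer (T : Set G),
      ∃ m ∈ Subgroup.normalizer (A : Set G), ∀ t ∈ T, x⁻¹ * t * x = m⁻¹ * t * m)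
    (P : Subgroup G) (hP : P ≤ (S : Subgroup G)) (hc : c ≤ Nat.card P) (g : G)
    (hg : MulAut.conj g⁻¹ • P ≤ (S : Subgroup G)) :
    ∃ m ∈ Subgroup.normalizer (A : Set G), ∀ b ∈ P, g⁻¹ * b * g = m⁻¹ * b * m := by
  have hreach := reach_fullyNorm S P hP g hg
  have hgood : Good (fun x => x ∈ Subgroup.normalizer (A : Set G)) Set.univ (P : Set G) g := by
    apply Reach.bind _ hreach
    intro T hT x hx y hy
    have hcard : c ≤ Nat.card T := hc.trans (card_le_of_rc_subset' hy)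
    obtain ⟨m, hm, hagree⟩ := hΨ T hT hcard x hx
    have h1 : Good (fun x => x ∈ Subgroup.normalizer (A : Set G)) Set.univ (rc y (P : Set G)) m :=
      Good.single hm (Set.subset_univ _)
    exact h1.of_agree (fun a ha => hagree a (hy ha))
  obtain ⟨l, hl, hla⟩ := hgood
  exact ⟨l.prod, chain_prod_mem _ _ l _ hl, fun b hb => (hla b hb).symm⟩

/-- Key step: normalizer elements of fully normalized subgroups agree with elements of `N(A)`. -/
theorem psi_stronglyClosed (S : Sylow p G) (A : Subgroup G)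
    (hAc : ∀ a ∈ A, ∀ b ∈ A, a * b = b * a) (hsc : IsStronglyClosed A (S : Subgroup G)) :
    ∀ d : ℕ, ∀ U ∈ fullyNorm S, Nat.card (S : Subgroup G) - Nat.card U = d →
      ∀ x ∈ Subgroup.normalizer (U : Set G),
        ∃ m ∈ Subgroup.normalizer (A : Set G), ∀ u ∈ U, x⁻¹ * u * x = m⁻¹ * u * m := by
  intro d
  induction d using Nat.strong_induction_on with
  | _ d ih =>
    intro U hU hd x hx
    obtain ⟨hUS, hsyl⟩ := hU
    by_cases hAU : A ≤ U
    · refine ⟨x, ?_, fun u _ => rfl⟩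
      apply Subgroup.mem_normalizer_fintype
      intro a ha
      have h1 : x * a * x⁻¹ ∈ U := (Subgroup.mem_normalizer_iff.mp hx a).mp (hAU ha)
      exact hsc.2 a ha x (hUS h1)
    · obtain ⟨a, haA, haN, haU⟩ := exists_mem_normalizer_not_mem S.isPGroup' hsc hUS hAU
      set K : Subgroup G := Subgroup.normalizer (U : Set G) with hK
      set T : Subgroup G := (S : Subgroup G) ⊓ K with hT
      set A₀ : Subgroup G := A ⊓ U with hA₀def
      have hA₀ : Subgroup.normalizer (U : Set G) ≤ Subgroup.normalizer (A₀ : Set G) :=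
        normalizer_le_normalizer_inf_of_stronglyClosed hsc hUS
      have hA₀p : IsPGroup p A₀ := S.isPGroup'.to_le (inf_le_right.trans hUS)
      set C : Subgroup G := stabChain U A₀ hA₀ with hC
      have hCK : C ≤ K := stabChain_le_normalizer U A₀ hA₀
      have hKC : K ≤ Subgroup.normalizer (C : Set G) := normalizer_le_normalizer_stabChain U A₀ hA₀
      have hP : IsSylIn p (T ⊓ C) C := hsyl.inf_normal hCK hKC
      -- a lies in T ⊓ C
      have haT : a ∈ T := Subgroup.mem_inf.mpr ⟨hsc.1 haA, haN⟩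
      have haC : a ∈ C := by
        refine Subgroup.mem_inf.mpr ⟨⟨haN, fun u hu => ?_⟩, ?_⟩
        · refine Subgroup.mem_inf.mpr ⟨?_, ?_⟩
          · have h1 : u⁻¹ * a * u⁻¹⁻¹ ∈ A :=
              conj_mem_of_stronglyClosed hsc u⁻¹ (inv_mem (hUS hu)) a haA
            have e : u⁻¹ * (a * u * a⁻¹) = (u⁻¹ * a * u⁻¹⁻¹) * a⁻¹ := by group
            rw [e]
            exact A.mul_mem h1 (A.inv_mem haA)
          · exact U.mul_mem (U.inv_mem hu) ((Subgroup.mem_normalizer_iff.mp haN u).mp hu)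
        · rw [Subgroup.mem_centralizer_iff]
          intro b hb
          exact hAc b (Subgroup.mem_inf.mp hb).1 a haA
      -- Frattini
      have h1 : IsSylIn p (MulAut.conj x • (T ⊓ C)) C := by
        have := hP.conj x
        rwa [smul_eq_of_mem_normalizer (hKC hx)] at this
      obtain ⟨c, hcC, hc⟩ := hP.exists_conj_eq h1
      rw [← conj_mul_smul] at hc
      have hcx : c * x ∈ Subgroup.normalizer ((T ⊓ C : Subgroup G) : Set G) :=
        mem_normalizer_iff_smul_eq.mpr hc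
      obtain ⟨c₀, hc₀U, hc₀C, t, ht, hct⟩ :=
        stabChain_decomp U A₀ hA₀ hA₀p (T ⊓ C) hP c⁻¹ (C.inv_mem hcC)
      set y' : G := c₀⁻¹ * x with hy'
      have hy'P : y' ∈ Subgroup.normalizer ((T ⊓ C : Subgroup G) : Set G) := by
        have e : y' = t * (c * x) := by
          have hc' : c = t⁻¹ * c₀⁻¹ := by
            have := congrArg (fun z => z⁻¹) hct
            simpa using this
          rw [hy', hc']; group
        rw [e]
        exact mul_mem (Subgroup.le_normalizer ht) hcx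
      have hy'U : y' ∈ Subgroup.normalizer (U : Set G) :=
        mul_mem (inv_mem (hCK hc₀C)) hx
      set Q'' : Subgroup G := U ⊔ (T ⊓ C) with hQ''
      have hy'Q : y' ∈ Subgroup.normalizer (Q'' : Set G) :=
        Subgroup.normalizer_inf_normalizer_le_normalizer_sup U (T ⊓ C)
          (Subgroup.mem_inf.mpr ⟨hy'U, hy'P⟩)
      have hQS : Q'' ≤ (S : Subgroup G) := sup_le hUS (inf_le_left.trans inf_le_left)
      have hUQ : U < Q'' := by
        refine lt_of_le_of_ne le_sup_left ?_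
        intro h
        apply haU
        rw [h]
        exact Subgroup.mem_sup_right (Subgroup.mem_inf.mpr ⟨haT, haC⟩)
      have hcard : Nat.card U < Nat.card Q'' := card_lt_of_lt hUQ
      have hQcard : Nat.card Q'' ≤ Nat.card (S : Subgroup G) := Subgroup.card_le_of_le hQS
      have hg : MulAut.conj y'⁻¹ • Q'' ≤ (S : Subgroup G) := by
        rw [smul_eq_of_mem_normalizer (inv_mem hy'Q)]
        exact hQS
      obtain ⟨m', hm', hagree⟩ := reach_to_normalizer S A (Nat.card U + 1)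
        (fun T' hT' hcT' x' hx' => by
          have hT'S : Nat.card T' ≤ Nat.card (S : Subgroup G) := Subgroup.card_le_of_le hT'.1
          exact ih (Nat.card (S : Subgroup G) - Nat.card T') (by omega) T' hT' rfl x' hx')
        Q'' hQS (by omega) y' hg
      refine ⟨m', hm', fun u hu => ?_⟩
      have hcu : c₀⁻¹ * u * c₀ = u := by
        have := Subgroup.mem_centralizer_iff.mp hc₀U u hu
        calc c₀⁻¹ * u * c₀ = c₀⁻¹ * (u * c₀) := by group
          _ = c₀⁻¹ * (c₀ * u) := by rw [this]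
          _ = u := by group
      have hxy : x = c₀ * y' := by rw [hy']; group
      rw [← hagree u (Subgroup.mem_sup_left hu), hxy]
      calc (c₀ * y')⁻¹ * u * (c₀ * y') = y'⁻¹ * (c₀⁻¹ * u * c₀) * y' := by group
        _ = y'⁻¹ * u * y' := by rw [hcu]

/-- An abelian strongly closed subgroup controls strong fusion. -/
theorem controlsStrongFusion_of_stronglyClosed (S : Sylow p G) (A : Subgroup G)
    (hAc : ∀ a ∈ A, ∀ b ∈ A, a * b = b * a) (hsc : IsStronglyClosed A (S : Subgroup G)) :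
    ControlsStrongFusion p A := by
  refine ⟨S, hsc.1, fun B hB => ⟨hB, fun g hg => ?_⟩⟩
  set P : Subgroup G := Subgroup.closure B with hP
  have hPS : P ≤ (S : Subgroup G) := (Subgroup.closure_le _).mpr hB
  have hgP : MulAut.conj (g⁻¹)⁻¹ • P ≤ (S : Subgroup G) := by
    rw [inv_inv, conj_smul_le_iff]
    intro y hy
    have hle : P ≤ ((S : Subgroup G)).comap (MulAut.conj g).toMonoidHom := by
      rw [hP, Subgroup.closure_le]
      intro b hb
      exact hg ⟨b, hb, rfl⟩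
    exact hle hy
  obtain ⟨m, hm, hagree⟩ := reach_to_normalizer S A 0
    (fun T hT _ x hx => psi_stronglyClosed S A hAc hsc _ T hT rfl x hx) P hPS (Nat.zero_le _)
    g⁻¹ hgP
  refine ⟨m⁻¹, inv_mem hm, fun b hb => ?_⟩
  have := hagree b (Subgroup.subset_closure hb)
  rw [inv_inv] at this
  rw [inv_inv]
  exact this

end strong

end Cfsg.Agent.Helper46
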