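import Mathlib
import Cfsg.Prelude.Def_OddOrderLocal
import Cfsg.Agent.Lib.Helper98.TIHDefs

set_option autoImplicit false

/-!
# TIH (P8f) for helper98's server (S4118): the induction for "`MulAut H` is solvable"
-/

namespace Cfsg.Agent.Helper46.TIH

open Cfsg.Agent.Helper98.TIH

universe u

/-- the automorphism of `G ⧸ A` induced by an automorphism of `G`, `A` characteristic -/
noncomputable def h46_quotAut {G : Type u} [Group G] (A : Subgroup G) [A.Characteristic] :
    MulAut G →* MulAut (G ⧸ A) where
  toFun φ := QuotientGroup.congr A A φ (Subgroup.characteristic_iff_map_eq.mp inferInstance φ)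
  map_one' := by
    ext x
    induction x using QuotientGroup.induction_on with
    | H x => rfl
  map_mul' φ ψ := by
    ext x
    induction x using QuotientGroup.induction_on with
    | H x => rfl

theorem h46_quotAut_mk {G : Type u} [Group G] (A : Subgroup G) [A.Characteristic]
    (φ : MulAut G) (x : G) :
    h46_quotAut A φ (x : G ⧸ A) = ((φ x : G) : G ⧸ A) := rfl

theorem h46_mulAut_comm_of_cyclic {A : Type u} [Group A] [IsCyclic A] (a b : MulAut A) :
    a * b = b * a := by
  apply (IsCyclic.mulAutMulEquiv A).injective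
  rw [map_mul, map_mul, mul_comm]

theorem h46_card_quot_lt {G : Type u} [Group G] [Finite G] (A : Subgroup G) [A.Normal]
    (hA : A ≠ ⊥) : Nat.card (G ⧸ A) < Nat.card G := by
  have h1 : Nat.card G = Nat.card (G ⧸ A) * Nat.card A := Subgroup.card_eq_card_quotient_mul_card_subgroup A
  have h2 : 1 < Nat.card A := by
    have : Nontrivial A := (Subgroup.nontrivial_iff_ne_bot A).mpr hA
    exact Finite.one_lt_card
  have h3 : 0 < Nat.card (G ⧸ A) := Nat.card_pos
  rw [h1]
  nlinarith

/-- (P8f) THE INDUCTION (take the other P8 pieces as hypotheses).  Strong induction on `Nat.card G`.  `G` trivial: `MulAut G`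
is trivial.  Else `A, p` from `hchar`; `r : MulAut G →* MulAut A` (restriction, `A` characteristic) and
`s : MulAut G →* MulAut (G ⧸ A)` (`QuotientGroup.congr`); `MulAut A` is solvable (`helem`: cyclic ⟹ `MulAut A` commutative
[`IsCyclic.mulAutMulEquiv` or directly] / `hfour`), `MulAut (G ⧸ A)` is solvable by induction (`hquot`, quotient of solvable,
smaller card), `ker (r.prod s)` is commutative by `hker`; conclude with `solvable_of_ker_le_range`. -/
theorem mulAut_solvable_aux
    (hquot : ∀ {G : Type u} [Group G] [Finite G], AlmostCyc G → ∀ (N : Subgroup G) [N.Normal],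
      AlmostCyc (G ⧸ N))
    (helem : ∀ {G : Type u} [Group G] [Finite G], AlmostCyc G → ∀ (A : Subgroup G) (p : ℕ),
      p.Prime → (∀ a ∈ A, ∀ b ∈ A, a * b = b * a) → (∀ a ∈ A, a ^ p = 1) →
      IsCyclic A ∨ Nat.card A = 4)
    (hfour : ∀ {A : Type u} [Group A] [Finite A], Nat.card A = 4 → Group.IsSolvable (MulAut A))
    (hchar : ∀ {G : Type u} [Group G] [Finite G] [Nontrivial G], Group.IsSolvable G →
      ∃ (A : Subgroup G) (p : ℕ), p.Prime ∧ A.Characteristic ∧ A ≠ ⊥ ∧
        (∀ a ∈ A, ∀ b ∈ A, a * b = b * a) ∧ ∀ a ∈ A, a ^ p = 1)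
    (hker : ∀ {G : Type u} [Group G] (A : Subgroup G), (∀ a ∈ A, ∀ b ∈ A, a * b = b * a) →
      ∀ α β : MulAut G, (∀ a ∈ A, α a = a) → (∀ g, g⁻¹ * α g ∈ A) → (∀ a ∈ A, β a = a) →
        (∀ g, g⁻¹ * β g ∈ A) → α * β = β * α)
    {G : Type u} [Group G] [Finite G] (hs : Group.IsSolvable G) (h : AlmostCyc G) :
    Group.IsSolvable (MulAut G) := by
  have key : ∀ n : ℕ, ∀ (G : Type u) [Group G] [Finite G], Nat.card G = n →
      Group.IsSolvable G → AlmostCyc G → Group.IsSolvable (MulAut G) := by
    intro n
    induction n using Nat.strong_induction_on with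
    | _ n ih =>
      intro G _ _ hn hs h
      by_cases htriv : Subsingleton G
      · have : Subsingleton (MulAut G) :=
          ⟨fun a b => by ext x; exact Subsingleton.elim _ _⟩
        infer_instance
      · have hnt : Nontrivial G := not_subsingleton_iff_nontrivial.mp htriv
        obtain ⟨A, p, hp, hAchar, hAne, hAcomm, hAexp⟩ := hchar hs
        have hAnormal : A.Normal := inferInstance
        -- `MulAut A` is solvable
        have hsA : Group.IsSolvable (MulAut A) := by
          rcases helem h A p hp hAcomm hAexp with hc | h4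
          · exact Group.isSolvable_of_comm (fun a b => h46_mulAut_comm_of_cyclic a b)
          · exact hfour h4
        -- `MulAut (G ⧸ A)` is solvable
        have hsQ : Group.IsSolvable (MulAut (G ⧸ A)) := by
          have hlt : Nat.card (G ⧸ A) < n := hn ▸ h46_card_quot_lt A hAne
          exact ih _ hlt (G ⧸ A) rfl inferInstance (hquot h A)
        set r : MulAut G →* MulAut A := MulAut.characteristic A with hr
        set s : MulAut G →* MulAut (G ⧸ A) := h46_quotAut A with hs'
        set f : MulAut G →* MulAut A × MulAut (G ⧸ A) := r.prod s with hf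
        -- the kernel is commutative
        have hkprop : ∀ α : MulAut G, α ∈ f.ker → (∀ a ∈ A, α a = a) ∧ (∀ g, g⁻¹ * α g ∈ A) := by
          intro α hα
          rw [MonoidHom.mem_ker, hf, MonoidHom.prod_apply, Prod.mk_eq_one] at hα
          obtain ⟨h1, h2⟩ := hα
          refine ⟨?_, ?_⟩
          · intro a ha
            have := congrArg (fun ψ : MulAut A => ((ψ ⟨a, ha⟩ : A) : G)) h1
            simpa [hr] using this
          · intro g
            have h3 : s α (g : G ⧸ A) = (g : G ⧸ A) := by rw [h2]; rfl
            rw [hs', h46_quotAut_mk] at h3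
            exact QuotientGroup.eq.mp h3.symm
        have hkcomm : ∀ a b : f.ker, a * b = b * a := by
          intro a b
          obtain ⟨a1, a2⟩ := hkprop a.1 a.2
          obtain ⟨b1, b2⟩ := hkprop b.1 b.2
          exact Subtype.ext (hker A hAcomm a.1 b.1 a1 a2 b1 b2)
        have hsK : Group.IsSolvable f.ker := Group.isSolvable_of_comm hkcomm
        exact Group.isSolvable_of_ker_le_range f.ker.subtype f (by simp)
  exact key (Nat.card G) G rfl hs h

end Cfsg.Agent.Helper46.TIH
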