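import Mathlib
import Cfsg.Prelude.Def_OddOrderLocal
import Cfsg.Agent.Lib.Helper98.TIHDefs

set_option autoImplicit false

/-!
# TIH (P8g) for helper98's server (S4118): a characteristic elementary abelian subgroup
-/

namespace Cfsg.Agent.Helper46.TIH

open Cfsg.Agent.Helper98.TIH

universe u

/-- the elements of order dividing `p` in a commutative subgroup `D` -/
def h46_omega {G : Type u} [Group G] (D : Subgroup G)
    (hD : ∀ a ∈ D, ∀ b ∈ D, a * b = b * a) (p : ℕ) : Subgroup G where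
  carrier := {x | x ∈ D ∧ x ^ p = 1}
  one_mem' := ⟨D.one_mem, one_pow p⟩
  mul_mem' := by
    rintro a b ⟨ha, ha'⟩ ⟨hb, hb'⟩
    refine ⟨D.mul_mem ha hb, ?_⟩
    have hc : Commute a b := hD a ha b hb
    rw [hc.mul_pow, ha', hb', one_mul]
  inv_mem' := by
    rintro a ⟨ha, ha'⟩
    exact ⟨D.inv_mem ha, by rw [inv_pow, ha', inv_one]⟩

theorem h46_mem_omega {G : Type u} [Group G] (D : Subgroup G)
    (hD : ∀ a ∈ D, ∀ b ∈ D, a * b = b * a) (p : ℕ) (x : G) :
    x ∈ h46_omega D hD p ↔ x ∈ D ∧ x ^ p = 1 := Iff.rfl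

/-- (P8g) `D` := the last non-trivial term of the derived series (characteristic, abelian), `p` a prime dividing `|D|`,
`A := {x ∈ D | x ^ p = 1}` (a characteristic subgroup of `G`, `≠ ⊥` by Cauchy). -/
theorem exists_char_elementary {G : Type u} [Group G] [Finite G] [Nontrivial G]
    (hs : Group.IsSolvable G) :
    ∃ (A : Subgroup G) (p : ℕ), p.Prime ∧ A.Characteristic ∧ A ≠ ⊥ ∧
      (∀ a ∈ A, ∀ b ∈ A, a * b = b * a) ∧ ∀ a ∈ A, a ^ p = 1 := by
  classical
  obtain ⟨n0, hn0⟩ := hs.solvable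
  have hex : ∃ n, derivedSeries G n = ⊥ := ⟨n0, hn0⟩
  set n := Nat.find hex with hn
  have hnbot : derivedSeries G n = ⊥ := Nat.find_spec hex
  have hn0' : n ≠ 0 := by
    intro h0
    rw [h0, derivedSeries_zero] at hnbot
    exact top_ne_bot hnbot
  obtain ⟨m, hm⟩ := Nat.exists_eq_succ_of_ne_zero hn0'
  have hDne : derivedSeries G m ≠ ⊥ := by
    intro hb
    have : n ≤ m := Nat.find_min' hex hb
    omega
  set D := derivedSeries G m with hDdef
  have hDchar : D.Characteristic := derivedSeries_characteristic G m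
  have hDcomm : ∀ a ∈ D, ∀ b ∈ D, a * b = b * a := by
    intro a ha b hb
    have h1 : ⁅D, D⁆ = ⊥ := by
      have : derivedSeries G (m + 1) = ⁅D, D⁆ := derivedSeries_succ G m
      rw [← this, ← Nat.succ_eq_add_one, ← hm]; exact hnbot
    have h2 : D ≤ Subgroup.centralizer (D : Set G) :=
      Subgroup.commutator_eq_bot_iff_le_centralizer.mp h1
    exact ((Subgroup.mem_centralizer_iff.mp (h2 hb)) a ha)
  -- a prime dividing |D|
  have hDnt : Nontrivial D := (Subgroup.nontrivial_iff_ne_bot D).mpr hDne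
  have hcard : Nat.card D ≠ 1 := by
    intro h1
    have := (Nat.card_eq_one_iff_unique.mp h1).1
    exact not_subsingleton D this
  obtain ⟨p, hp, hpd⟩ := Nat.exists_prime_and_dvd hcard
  have : Fact p.Prime := ⟨hp⟩
  obtain ⟨x, hx⟩ := exists_prime_orderOf_dvd_card' p hpd
  refine ⟨h46_omega D hDcomm p, p, hp, ?_, ?_, ?_, ?_⟩
  · -- characteristic
    rw [Subgroup.characteristic_iff_map_le]
    intro φ y hy
    obtain ⟨z, hz, rfl⟩ := Subgroup.mem_map.mp hy
    obtain ⟨hzD, hzp⟩ := hz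
    refine ⟨?_, ?_⟩
    · have : D.map φ.toMonoidHom ≤ D := (Subgroup.characteristic_iff_map_le.mp hDchar) φ
      exact this (Subgroup.mem_map_of_mem _ hzD)
    · rw [← map_pow, hzp, map_one]
  · -- nontrivial
    intro hb
    have hxm : (x : G) ∈ h46_omega D hDcomm p := by
      refine ⟨x.2, ?_⟩
      have : x ^ p = 1 := by rw [← hx]; exact pow_orderOf_eq_one x
      have h2 := congrArg (Subtype.val) this
      simpa using h2
    rw [hb, Subgroup.mem_bot] at hxm
    have hx1 : x = 1 := Subtype.ext hxm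
    rw [hx1, orderOf_one] at hx
    exact hp.one_lt.ne hx
  · intro a ha b hb
    exact hDcomm a ha.1 b hb.1
  · intro a ha
    exact ha.2

end Cfsg.Agent.Helper46.TIH
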