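import Mathlib
import Cfsg.Agent.Lib.Helper96.SympInvol

/-!
# TSP project (S5980), piece IND: peeling hyperbolic planes
-/

set_option autoImplicit false

namespace Cfsg.Agent.Helper46.TSP

open Matrix Module

universe u

section general

variable {F : Type u} [Field F]

variable {V : Type*} [AddCommGroup V] [Module F V]

open Cfsg.Agent.Helper96.SympInvol in
/-- the form on two combinations of a pair -/
theorem h46_form_comb (f : V → V → F) (hf : AltForm f) (u v : V) (a c b e : F) :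
    f (a • u + c • v) (b • u + e • v) = (a * e - c * b) * f u v := by
  simp only [hf.add_left, hf.add_right, hf.smul_left, hf.smul_right, hf.self]
  rw [hf.swap v u]
  ring

open Cfsg.Agent.Helper96.SympInvol in
/-- the inductive core of (IND), over invariant non-degenerate subspaces -/
theorem h46_ind_core [FiniteDimensional F V] (f : V → V → F)
    (hf : AltForm f) (x : V →ₗ[F] V)
    (hxf : ∀ u w, f (x u) (x w) = f u w) (A₀ : Matrix (Fin 2) (Fin 2) F)
    (pick : ∀ C : Submodule F V, (∀ u ∈ C, x u ∈ C) → (∀ u ∈ C, u ≠ 0 → ∃ w ∈ C, f u w ≠ 0) →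
      C ≠ ⊥ → ∀ κ : F, κ ≠ 0 → ∃ u ∈ C, ∃ v ∈ C, ∃ ε : F, ε ≠ 0 ∧ f u v = κ ∧
        x u = ε • (A₀ 0 0 • u + A₀ 1 0 • v) ∧ x v = ε • (A₀ 0 1 • u + A₀ 1 1 • v)) :
    ∀ (d : ℕ) (C : Submodule F V), finrank F C = 2 * d → (∀ u ∈ C, x u ∈ C) →
      (∀ u ∈ C, u ≠ 0 → ∃ w ∈ C, f u w ≠ 0) → ∀ κ : Fin d → F, (∀ k, κ k ≠ 0) →
      ∃ (u v : Fin d → V) (ε : Fin d → F), (∀ k, u k ∈ C) ∧ (∀ k, v k ∈ C) ∧ (∀ k, ε k ≠ 0) ∧
        (∀ k k', f (u k) (u k') = 0) ∧ (∀ k k', f (v k) (v k') = 0) ∧
        (∀ k k', f (u k) (v k') = if k = k' then κ k else 0) ∧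
        ∀ k, x (u k) = ε k • (A₀ 0 0 • u k + A₀ 1 0 • v k) ∧
          x (v k) = ε k • (A₀ 0 1 • u k + A₀ 1 1 • v k) := by
  intro d
  induction d with
  | zero =>
    intro C _ _ _ κ _
    exact ⟨Fin.elim0, Fin.elim0, Fin.elim0, fun k => k.elim0, fun k => k.elim0,
      fun k => k.elim0, fun k => k.elim0, fun k => k.elim0, fun k => k.elim0, fun k => k.elim0⟩
  | succ d ih =>
    intro C hCn hCx hCnd κ hκ
    have hC0 : C ≠ ⊥ := by
      intro h
      rw [h, finrank_bot] at hCn
      omega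
    obtain ⟨u₀, hu₀C, v₀, hv₀C, ε₀, hε₀, huv, hxu, hxv⟩ := pick C hCx hCnd hC0 (κ 0) (hκ 0)
    have hκ0 : κ 0 ≠ 0 := hκ 0
    have hvu : f v₀ u₀ = -κ 0 := by rw [hf.swap, huv]
    -- the determinant condition
    have hD : ε₀ * ε₀ * (A₀ 0 0 * A₀ 1 1 - A₀ 1 0 * A₀ 0 1) = 1 := by
      have h := hxf u₀ v₀
      rw [hxu, hxv, hf.smul_left, hf.smul_right, h46_form_comb f hf, huv] at h
      have h2 : (ε₀ * ε₀ * (A₀ 0 0 * A₀ 1 1 - A₀ 1 0 * A₀ 0 1) - 1) * κ 0 = 0 := by
        linear_combination h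
      rcases mul_eq_zero.mp h2 with h3 | h3
      · linear_combination h3
      · exact absurd h3 hκ0
    let C' : Submodule F V :=
      { carrier := {w | w ∈ C ∧ f w u₀ = 0 ∧ f w v₀ = 0}
        add_mem' := by
          rintro a b ⟨ha, ha1, ha2⟩ ⟨hb, hb1, hb2⟩
          exact ⟨C.add_mem ha hb, by rw [hf.add_left, ha1, hb1, add_zero],
            by rw [hf.add_left, ha2, hb2, add_zero]⟩
        zero_mem' := ⟨C.zero_mem, hf.zero_left _, hf.zero_left _⟩
        smul_mem' := by
          rintro c a ⟨ha, ha1, ha2⟩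
          exact ⟨C.smul_mem c ha, by rw [hf.smul_left, ha1, mul_zero],
            by rw [hf.smul_left, ha2, mul_zero]⟩ }
    have memC' : ∀ w, w ∈ C' ↔ w ∈ C ∧ f w u₀ = 0 ∧ f w v₀ = 0 := fun w => Iff.rfl
    have hC'le : C' ≤ C := fun w hw => ((memC' w).mp hw).1
    -- invariance
    have hC'x : ∀ w ∈ C', x w ∈ C' := by
      intro w hw
      obtain ⟨hwC, h1, h2⟩ := (memC' w).mp hw
      have e1 : ε₀ * (A₀ 0 0 * f (x w) u₀ + A₀ 1 0 * f (x w) v₀) = 0 := by
        have h := hxf w u₀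
        rw [hxu, hf.smul_right, hf.add_right, hf.smul_right, hf.smul_right, h1] at h
        exact h
      have e2 : ε₀ * (A₀ 0 1 * f (x w) u₀ + A₀ 1 1 * f (x w) v₀) = 0 := by
        have h := hxf w v₀
        rw [hxv, hf.smul_right, hf.add_right, hf.smul_right, hf.smul_right, h2] at h
        exact h
      refine (memC' _).mpr ⟨hCx w hwC, ?_, ?_⟩
      · linear_combination (-(f (x w) u₀)) * hD + ε₀ * A₀ 1 1 * e1 - ε₀ * A₀ 1 0 * e2
      · linear_combination (-(f (x w) v₀)) * hD - ε₀ * A₀ 0 1 * e1 + ε₀ * A₀ 0 0 * e2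
    -- projection to C'
    have hproj : ∀ y ∈ C, y - ((κ 0)⁻¹ * f y v₀) • u₀ + ((κ 0)⁻¹ * f y u₀) • v₀ ∈ C' := by
      intro y hy
      refine (memC' _).mpr
        ⟨C.add_mem (C.sub_mem hy (C.smul_mem _ hu₀C)) (C.smul_mem _ hv₀C), ?_, ?_⟩
      · rw [hf.add_left, hf.sub_left, hf.smul_left, hf.smul_left, hf.self, hvu]
        field_simp
        ring
      · rw [hf.add_left, hf.sub_left, hf.smul_left, hf.smul_left, hf.self, huv]
        field_simp
        ring
    have hC'nd : ∀ w ∈ C', w ≠ 0 → ∃ y ∈ C', f w y ≠ 0 := by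
      intro w hw hw0
      obtain ⟨hwC, h1, h2⟩ := (memC' w).mp hw
      obtain ⟨y, hyC, hy⟩ := hCnd w hwC hw0
      refine ⟨_, hproj y hyC, ?_⟩
      rw [hf.add_right, hf.sub_right, hf.smul_right, hf.smul_right, h1, h2]
      simpa using hy
    -- the dimension of C'
    have hP2 : finrank F (Submodule.span F (Set.range ![u₀, v₀])) = 2 := by
      have hli : LinearIndependent F ![u₀, v₀] := by
        rw [LinearIndependent.pair_iff]
        intro s t hst
        have h1 : f (s • u₀ + t • v₀) v₀ = 0 := by rw [hst, hf.zero_left]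
        have h2 : f (s • u₀ + t • v₀) u₀ = 0 := by rw [hst, hf.zero_left]
        rw [hf.add_left, hf.smul_left, hf.smul_left, hf.self, huv, mul_zero, add_zero] at h1
        rw [hf.add_left, hf.smul_left, hf.smul_left, hf.self, hvu, mul_zero, zero_add] at h2
        refine ⟨?_, ?_⟩
        · rcases mul_eq_zero.mp h1 with h | h
          · exact h
          · exact absurd h hκ0
        · rcases mul_eq_zero.mp h2 with h | h
          · exact h
          · exact absurd (neg_eq_zero.mp h) hκ0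
      rw [finrank_span_eq_card hli, Fintype.card_fin]
    have hrange : Set.range ![u₀, v₀] = {u₀, v₀} := by
      ext y
      simp only [Set.mem_range, Fin.exists_fin_two, Matrix.cons_val_zero, Matrix.cons_val_one,
        Set.mem_insert_iff, Set.mem_singleton_iff]
      constructor
      · rintro (h | h)
        · exact Or.inl h.symm
        · exact Or.inr h.symm
      · rintro (h | h)
        · exact Or.inl h.symm
        · exact Or.inr h.symm
    have hinf : C' ⊓ Submodule.span F (Set.range ![u₀, v₀]) = ⊥ := by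
      rw [Submodule.eq_bot_iff]
      intro y hy
      rw [Submodule.mem_inf, hrange, Submodule.mem_span_pair] at hy
      obtain ⟨hyC', a, b, rfl⟩ := hy
      obtain ⟨_, g1, g2⟩ := (memC' _).mp hyC'
      rw [hf.add_left, hf.smul_left, hf.smul_left, hf.self, hvu, mul_zero, zero_add] at g1
      rw [hf.add_left, hf.smul_left, hf.smul_left, hf.self, huv, mul_zero, add_zero] at g2
      have hb : b = 0 := by
        rcases mul_eq_zero.mp g1 with h | h
        · exact h
        · exact absurd (neg_eq_zero.mp h) hκ0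
      have ha : a = 0 := by
        rcases mul_eq_zero.mp g2 with h | h
        · exact h
        · exact absurd h hκ0
      rw [ha, hb, zero_smul, zero_smul, add_zero]
    have hsup : C' ⊔ Submodule.span F (Set.range ![u₀, v₀]) = C := by
      apply le_antisymm
      · apply sup_le hC'le
        rw [hrange, Submodule.span_le]
        intro y hy
        rcases hy with rfl | rfl
        · exact hu₀C
        · exact hv₀C
      · intro y hy
        have h1 := hproj y hy
        have h2 : ((κ 0)⁻¹ * f y v₀) • u₀ - ((κ 0)⁻¹ * f y u₀) • v₀ ∈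
            Submodule.span F (Set.range ![u₀, v₀]) := by
          rw [hrange]
          exact Submodule.sub_mem _
            (Submodule.smul_mem _ _ (Submodule.subset_span (by simp)))
            (Submodule.smul_mem _ _ (Submodule.subset_span (by simp)))
        have h3 : y = (y - ((κ 0)⁻¹ * f y v₀) • u₀ + ((κ 0)⁻¹ * f y u₀) • v₀) +
            (((κ 0)⁻¹ * f y v₀) • u₀ - ((κ 0)⁻¹ * f y u₀) • v₀) := by abel
        rw [h3]
        exact Submodule.add_mem_sup h1 h2
    have hC'n : finrank F C' = 2 * d := by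
      have h := Submodule.finrank_sup_add_finrank_inf_eq C'
        (Submodule.span F (Set.range ![u₀, v₀]))
      rw [hsup, hinf, finrank_bot, hP2, hCn] at h
      omega
    obtain ⟨u', v', ε', hu'C, hv'C, hε', huu', hvv', huv', hmode'⟩ :=
      ih C' hC'n hC'x hC'nd (fun k => κ k.succ) (fun k => hκ k.succ)
    have hu'0 : ∀ k, f (u' k) u₀ = 0 := fun k => ((memC' _).mp (hu'C k)).2.1
    have hu'1 : ∀ k, f (u' k) v₀ = 0 := fun k => ((memC' _).mp (hu'C k)).2.2
    have hv'0 : ∀ k, f (v' k) u₀ = 0 := fun k => ((memC' _).mp (hv'C k)).2.1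
    have hv'1 : ∀ k, f (v' k) v₀ = 0 := fun k => ((memC' _).mp (hv'C k)).2.2
    refine ⟨Fin.cons u₀ u', Fin.cons v₀ v', Fin.cons ε₀ ε', ?_, ?_, ?_, ?_, ?_, ?_, ?_⟩
    · intro k
      refine Fin.cases ?_ (fun j => ?_) k
      · simpa using hu₀C
      · simpa using hC'le (hu'C j)
    · intro k
      refine Fin.cases ?_ (fun j => ?_) k
      · simpa using hv₀C
      · simpa using hC'le (hv'C j)
    · intro k
      refine Fin.cases ?_ (fun j => ?_) k
      · simpa using hε₀
      · simpa using hε' j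
    · intro k k'
      refine Fin.cases ?_ (fun j => ?_) k <;> refine Fin.cases ?_ (fun j' => ?_) k'
      · simp only [Fin.cons_zero]; exact hf.self _
      · simp only [Fin.cons_zero, Fin.cons_succ]; rw [hf.swap, hu'0, neg_zero]
      · simp only [Fin.cons_zero, Fin.cons_succ]; exact hu'0 j
      · simp only [Fin.cons_succ]; exact huu' j j'
    · intro k k'
      refine Fin.cases ?_ (fun j => ?_) k <;> refine Fin.cases ?_ (fun j' => ?_) k'
      · simp only [Fin.cons_zero]; exact hf.self _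
      · simp only [Fin.cons_zero, Fin.cons_succ]; rw [hf.swap, hv'1, neg_zero]
      · simp only [Fin.cons_zero, Fin.cons_succ]; exact hv'1 j
      · simp only [Fin.cons_succ]; exact hvv' j j'
    · intro k k'
      refine Fin.cases ?_ (fun j => ?_) k <;> refine Fin.cases ?_ (fun j' => ?_) k'
      · simp only [Fin.cons_zero]; rw [if_pos trivial]; exact huv
      · simp only [Fin.cons_zero, Fin.cons_succ]
        rw [if_neg (Fin.succ_ne_zero j').symm, hf.swap, hv'0, neg_zero]
      · simp only [Fin.cons_zero, Fin.cons_succ]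
        rw [if_neg (Fin.succ_ne_zero j), hu'1]
      · simp only [Fin.cons_succ]
        rw [huv' j j']
        simp only [Fin.succ_inj]
    · intro k
      refine Fin.cases ?_ (fun j => ?_) k
      · simp only [Fin.cons_zero]; exact ⟨hxu, hxv⟩
      · simp only [Fin.cons_succ]; exact hmode' j

/-- (IND) peeling hyperbolic planes -/
theorem exists_adapted_of_pick [FiniteDimensional F V] (f : V → V → F)
    (hf : Cfsg.Agent.Helper96.SympInvol.AltForm f) (x : V →ₗ[F] V)
    (hxf : ∀ u w, f (x u) (x w) = f u w) (A₀ : Matrix (Fin 2) (Fin 2) F)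
    (pick : ∀ C : Submodule F V, (∀ u ∈ C, x u ∈ C) → (∀ u ∈ C, u ≠ 0 → ∃ w ∈ C, f u w ≠ 0) →
      C ≠ ⊥ → ∀ κ : F, κ ≠ 0 → ∃ u ∈ C, ∃ v ∈ C, ∃ ε : F, ε ≠ 0 ∧ f u v = κ ∧
        x u = ε • (A₀ 0 0 • u + A₀ 1 0 • v) ∧ x v = ε • (A₀ 0 1 • u + A₀ 1 1 • v))
    (hnd : ∀ u, u ≠ 0 → ∃ w, f u w ≠ 0) (d : ℕ) (hd : finrank F V = 2 * d)
    (κ : Fin d → F) (hκ : ∀ k, κ k ≠ 0) :
    ∃ (u v : Fin d → V) (ε : Fin d → F), (∀ k, ε k ≠ 0) ∧ (∀ k k', f (u k) (u k') = 0) ∧
      (∀ k k', f (v k) (v k') = 0) ∧ (∀ k k', f (u k) (v k') = if k = k' then κ k else 0) ∧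
      ∀ k, x (u k) = ε k • (A₀ 0 0 • u k + A₀ 1 0 • v k) ∧
        x (v k) = ε k • (A₀ 0 1 • u k + A₀ 1 1 • v k) := by
  obtain ⟨u, v, ε, _, _, h3, h4, h5, h6, h7⟩ :=
    h46_ind_core f hf x hxf A₀ pick d ⊤ (by rw [finrank_top, hd])
      (fun _ _ => Submodule.mem_top)
      (fun w _ hw0 => by
        obtain ⟨y, hy⟩ := hnd w hw0
        exact ⟨y, Submodule.mem_top, hy⟩) κ hκ
  exact ⟨u, v, ε, h3, h4, h5, h6, h7⟩

end general

end Cfsg.Agent.Helper46.TSP
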