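import Mathlib
import Cfsg.Agent.Lib.Helper93.U20
import Cfsg.Agent.Lib.Helper46.U2G6Core
import Cfsg.Agent.Lib.Helper78.U2B2
import Cfsg.Agent.Lib.Helper58.U2G1b
import Cfsg.Agent.Lib.Helper58.U2G1c
import Cfsg.Agent.Lib.Helper58.U2G2a
import Cfsg.Agent.Lib.Helper58.U2G4
import Cfsg.Agent.Lib.Helper10.U2G2b
import Cfsg.Agent.Lib.Helper40.U2G1a
import Cfsg.Agent.Lib.Helper40.U2G3

/-!
# U2 project (S2335), pieces G6a-e (group level statements about `aEl`, `lEl`)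
-/

set_option autoImplicit false

namespace Cfsg.Agent.Helper46.U2

open Matrix Cfsg.Agent.Helper13 Cfsg.Agent.Helper93.U2

section GRP

variable {F : Type*} [Field F] [Fintype F] {q : ℕ} (hF : Fintype.card F = q ^ 2)

/-- piece G6a -/
theorem aEl_val {n m : ℕ} (fr : Frame hF n m) (ε : F) (hε : ε ^ q = -ε) (a : ↥(hermSub hF m)) :
    (((aEl hF fr ε a : ↥(Cfsg.SU n F q)) : Matrix.SpecialLinearGroup (Fin n) F) :
      Matrix (Fin n) (Fin n) F) = aMat hF fr ε a.1 :=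
  h46_aEl_val_of hF fr ε a (Cfsg.Agent.Helper58.U2.aMat_det hF fr ε a.1)
    (Cfsg.Agent.Helper78.U2.unitary_preserves hF _
      (Cfsg.Agent.Helper58.U2.aMat_unitary hF fr ε hε a.1 a.2))

/-- piece G6b -/
theorem lEl_val {n m : ℕ} (fr : Frame hF n m) (E : Matrix (Fin m) (Fin m) F) (hE : E * E = 0) :
    (((lEl hF fr E : ↥(Cfsg.SU n F q)) : Matrix.SpecialLinearGroup (Fin n) F) :
      Matrix (Fin n) (Fin n) F) = lMat hF fr E :=
  h46_lEl_val_of hF fr E (Cfsg.Agent.Helper10.U2.lMat_det hF fr E hE)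
    (Cfsg.Agent.Helper78.U2.unitary_preserves hF _
      (Cfsg.Agent.Helper58.U2.lMat_unitary hF fr E hE))

/-- piece G6c -/
theorem aEl_add {n m : ℕ} (fr : Frame hF n m) (ε : F) (hε : ε ^ q = -ε)
    (a b : ↥(hermSub hF m)) :
    aEl hF fr ε (a + b) = (aEl hF fr ε a * aEl hF fr ε b : ↥(Cfsg.SU n F q)) :=
  h46_aEl_add_of hF fr ε (aEl_val hF fr ε hε)
    (Cfsg.Agent.Helper40.U2.aMat_add hF fr ε) a b

/-- piece G6d -/
theorem aEl_injective {n m : ℕ} (fr : Frame hF n m) (ε : F) (hε : ε ^ q = -ε) (hε0 : ε ≠ 0) :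
    Function.Injective (aEl hF fr ε : ↥(hermSub hF m) → ↥(Cfsg.SU n F q)) :=
  h46_aEl_injective_of hF fr ε (aEl_val hF fr ε hε)
    (Cfsg.Agent.Helper58.U2.aMat_injective hF fr ε hε0)

/-- piece G6e -/
theorem lEl_conj {n m : ℕ} (fr : Frame hF n m) (ε : F) (hε : ε ^ q = -ε)
    (E : Matrix (Fin m) (Fin m) F) (hE : E * E = 0) (a : ↥(hermSub hF m)) :
    (lEl hF fr E * aEl hF fr ε a * (lEl hF fr E)⁻¹ : ↥(Cfsg.SU n F q)) =
      aEl hF fr ε (congH hF (1 + E) a) :=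
  h46_lEl_conj_of hF fr ε E (aEl_val hF fr ε hε) (lEl_val hF fr E hE)
    (fun H => Cfsg.Agent.Helper40.U2.lMat_mul_aMat hF fr ε E H hE) a

end GRP

end Cfsg.Agent.Helper46.U2
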