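import Mathlib
import Cfsg.Agent.Lib.Helper93.U30
import Cfsg.Agent.Lib.Helper19.U3UG4
import Cfsg.Agent.Lib.Helper20.U3HB
import Cfsg.Agent.Lib.Helper20.U3UG3
import Cfsg.Agent.Lib.Helper20.U3UG3b
import Cfsg.Agent.Lib.Helper25.U2C3
import Cfsg.Agent.Lib.Helper34.U2C2

/-!
# U3 project (S2334), piece HC, core: the Heisenberg bound on a nonzero weight space,
with the two group-level commutation facts (pieces O6h, O6i) as hypotheses
-/

set_option autoImplicit false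

namespace Cfsg.Agent.Helper46.U3

open Matrix Cfsg.Agent.Helper13 Cfsg.Agent.Helper93.U2 Cfsg.Agent.Helper93.U3

section REP

variable {F : Type*} [Field F] [Fintype F] {q : ℕ} (hF : Fintype.card F = q ^ 2)

omit [Fintype F] in
/-- values of an additive character are nonzero -/
theorem h46_addChar_ne_zero (ψ : AddChar F ℂ) (z : F) : ψ z ≠ 0 := by
  have h : ψ z * ψ (-z) = 1 := by
    rw [← AddChar.map_add_eq_mul, add_neg_cancel, AddChar.map_zero_eq_one]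
  exact left_ne_zero_of_mul_eq_one h

/-- piece HC, with O6h and O6i as hypotheses -/
theorem h46_heis_wsp_of {n m : ℕ} (fr : FrameO hF n m) (ε : F) (hε : ε ^ q = -ε) (hε0 : ε ≠ 0)
    (c₀ : F)
    (hO6h : ∀ (y : Fin m → F) (b : ↥(hermSub hF m)),
      (uEl hF fr c₀ y * aElO hF fr ε b : ↥(Cfsg.SU n F q)) = aElO hF fr ε b * uEl hF fr c₀ y)
    (hO6i : ∀ y y' : Fin m → F,
      (uEl hF fr c₀ y * uEl hF fr c₀ y' : ↥(Cfsg.SU n F q)) =
        aElO hF fr ε (kH hF ε hε y y') * (uEl hF fr c₀ y' * uEl hF fr c₀ y))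
    (ψ : AddChar F ℂ) (hψ : ψ 1 ≠ 1)
    (pr : Pairing ↥(hermSub hF m))
    (hpr : ∀ a b : ↥(hermSub hF m), pr.β a b = ψ (Matrix.trace (a.1 * b.1)))
    {k : ℕ} (ρ : Representation ℂ (Cfsg.SU n F q) (Fin k → ℂ)) (a : ↥(hermSub hF m))
    (ha : a ≠ 0) (hw : wsp pr (aElO hF fr ε) ρ a ≠ ⊥) :
    q ≤ Module.finrank ℂ (wsp pr (aElO hF fr ε) ρ a) := by
  have ha1 : a.1 ≠ 0 := fun h => ha (Subtype.ext h)
  obtain ⟨x, hx⟩ : ∃ x, hq q a.1 x ≠ 0 := by
    by_contra hcon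
    exact ha1 (Cfsg.Agent.Helper25.U2.herm_eq_zero_of_hq hF a.1 a.2
      (fun y => by_contra (fun h => hcon ⟨y, h⟩)))
  have hcq : (hq q a.1 x) ^ q = hq q a.1 x := Cfsg.Agent.Helper34.U2.hb_conj hF a.1 a.2 x x
  have hW : ∀ e : F, ∀ v ∈ wsp pr (aElO hF fr ε) ρ a,
      ρ (uEl hF fr c₀ (e • x)) v ∈ wsp pr (aElO hF fr ε) ρ a := by
    intro e v hv b
    have h1 := hO6h (e • x) b
    calc ρ (aElO hF fr ε b) (ρ (uEl hF fr c₀ (e • x)) v)
        = ρ (aElO hF fr ε b * uEl hF fr c₀ (e • x)) v := by rw [map_mul]; rfl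
      _ = ρ (uEl hF fr c₀ (e • x) * aElO hF fr ε b) v := by rw [h1]
      _ = ρ (uEl hF fr c₀ (e • x)) (ρ (aElO hF fr ε b) v) := by rw [map_mul]; rfl
      _ = pr.β a b • ρ (uEl hF fr c₀ (e • x)) v := by rw [hv b, map_smul]
  have hcomm : ∀ f e : F, ∀ v ∈ wsp pr (aElO hF fr ε) ρ a,
      ρ (uEl hF fr c₀ (f • x)) (ρ (uEl hF fr c₀ (e • x)) v) =
        ψ (ε⁻¹ * ((f ^ q * e - e ^ q * f) * hq q a.1 x)) •
          ρ (uEl hF fr c₀ (e • x)) (ρ (uEl hF fr c₀ (f • x)) v) := by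
    intro f e v hv
    have h1 := hO6i (f • x) (e • x)
    have h2 : ρ (uEl hF fr c₀ (f • x)) (ρ (uEl hF fr c₀ (e • x)) v) =
        ρ (aElO hF fr ε (kH hF ε hε (f • x) (e • x)))
          (ρ (uEl hF fr c₀ (e • x)) (ρ (uEl hF fr c₀ (f • x)) v)) := by
      calc ρ (uEl hF fr c₀ (f • x)) (ρ (uEl hF fr c₀ (e • x)) v)
          = ρ (uEl hF fr c₀ (f • x) * uEl hF fr c₀ (e • x)) v := by rw [map_mul]; rfl
        _ = ρ (aElO hF fr ε (kH hF ε hε (f • x) (e • x)) *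
              (uEl hF fr c₀ (e • x) * uEl hF fr c₀ (f • x))) v := by rw [h1]
        _ = _ := by rw [map_mul, map_mul]; rfl
    rw [h2, hW e _ (hW f v hv) (kH hF ε hε (f • x) (e • x))]
    congr 1
    rw [hpr, Cfsg.Agent.Helper20.U3.trace_mul_kH hF ε hε a.1 (f • x) (e • x),
      Cfsg.Agent.Helper20.U3.hb_smul_smul, Cfsg.Agent.Helper20.U3.hb_smul_smul]
    congr 1
    ring
  have hsep : ∀ e e' : F, e ≠ e' →
      ∃ f : F, ψ (ε⁻¹ * ((f ^ q * e - e ^ q * f) * hq q a.1 x)) ≠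
        ψ (ε⁻¹ * ((f ^ q * e' - e' ^ q * f) * hq q a.1 x)) := by
    intro e e' hee
    obtain ⟨f, hf⟩ := Cfsg.Agent.Helper19.U3.exists_sep hF ψ hψ ε hε hε0 (hq q a.1 x) hx hcq (e - e')
      (sub_ne_zero.mpr hee)
    refine ⟨f, fun heq => hf ?_⟩
    have hd : (e - e') ^ q = e ^ q - e' ^ q := by
      have h := map_sub (frobQ hF) e e'
      rwa [frobQ_apply, frobQ_apply, frobQ_apply] at h
    have h3 : ε⁻¹ * ((f ^ q * e - e ^ q * f) * hq q a.1 x) =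
        ε⁻¹ * ((f ^ q * e' - e' ^ q * f) * hq q a.1 x) +
          ε⁻¹ * ((f ^ q * (e - e') - (e - e') ^ q * f) * hq q a.1 x) := by
      rw [hd]; ring
    rw [h3, AddChar.map_add_eq_mul] at heq
    have h4 := h46_addChar_ne_zero ψ (ε⁻¹ * ((f ^ q * e' - e' ^ q * f) * hq q a.1 x))
    exact mul_left_cancel₀ h4 (by rw [heq, mul_one])
  have hb := Cfsg.Agent.Helper20.U3.heis_abstract ρ (wsp pr (aElO hF fr ε) ρ a) hw
    (fun e : F => uEl hF fr c₀ (e • x))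
    (fun f e : F => ψ (ε⁻¹ * ((f ^ q * e - e ^ q * f) * hq q a.1 x))) hW hcomm hsep
  rw [hF] at hb
  by_contra hlt
  have h5 := Nat.mul_self_lt_mul_self (Nat.lt_of_not_le hlt)
  rw [pow_two] at hb
  omega

end REP

end Cfsg.Agent.Helper46.U3
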