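import Mathlib
import Cfsg.Agent.Lib.Helper93.U30
import Cfsg.Agent.Lib.Helper46.U2G6Core
import Cfsg.Agent.Lib.Helper78.U2B2
import Cfsg.Agent.Lib.Helper40.U3O1b
import Cfsg.Agent.Lib.Helper40.U3O1c
import Cfsg.Agent.Lib.Helper9.U3U1
import Cfsg.Agent.Lib.Helper9.U3U3
import Cfsg.Agent.Lib.Helper10.U3U2
import Cfsg.Agent.Lib.Helper9.U3U4

/-!
# U3 project (S2334), pieces O6a, O6c, O6h, O6i (group level statements about `aElO`, `uEl`)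
-/

set_option autoImplicit false

namespace Cfsg.Agent.Helper46.U3

open Matrix Cfsg.Agent.Helper13 Cfsg.Agent.Helper93.U2 Cfsg.Agent.Helper93.U3

section GRP

variable {F : Type*} [Field F] [Fintype F] {q : ℕ} (hF : Fintype.card F = q ^ 2)

/-- piece O6a -/
theorem aElO_val {n m : ℕ} (fr : FrameO hF n m) (ε : F) (hε : ε ^ q = -ε) (a : ↥(hermSub hF m)) :
    (((aElO hF fr ε a : ↥(Cfsg.SU n F q)) : Matrix.SpecialLinearGroup (Fin n) F) :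
      Matrix (Fin n) (Fin n) F) = aMatO hF fr ε a.1 := by
  unfold aElO
  exact suOf_val _ (Cfsg.Agent.Helper40.U3.aMatO_det hF fr ε a.1)
    (Cfsg.Agent.Helper78.U2.unitary_preserves hF _
      (Cfsg.Agent.Helper40.U3.aMatO_unitary hF fr ε hε a.1 a.2))

/-- piece O6c -/
theorem uEl_val {n m : ℕ} (fr : FrameO hF n m) (c₀ : F) (hc₀ : c₀ + c₀ ^ q = -1) (y : Fin m → F) :
    (((uEl hF fr c₀ y : ↥(Cfsg.SU n F q)) : Matrix.SpecialLinearGroup (Fin n) F) :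
      Matrix (Fin n) (Fin n) F) = uMat hF fr c₀ y := by
  unfold uEl
  exact suOf_val _ (Cfsg.Agent.Helper10.U3.uMat_det hF fr c₀ y)
    (Cfsg.Agent.Helper78.U2.unitary_preserves hF _
      (Cfsg.Agent.Helper9.U3.uMat_unitary hF fr c₀ hc₀ y))

/-- piece O6h -/
theorem uEl_mul_aElO {n m : ℕ} (fr : FrameO hF n m) (c₀ ε : F) (hc₀ : c₀ + c₀ ^ q = -1)
    (hε : ε ^ q = -ε) (y : Fin m → F) (a : ↥(hermSub hF m)) :
    (uEl hF fr c₀ y * aElO hF fr ε a : ↥(Cfsg.SU n F q)) =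
      aElO hF fr ε a * uEl hF fr c₀ y := by
  apply Cfsg.Agent.Helper46.U2.h46_SU_ext
  rw [Cfsg.Agent.Helper46.U2.h46_SU_mul_val, Cfsg.Agent.Helper46.U2.h46_SU_mul_val,
    uEl_val hF fr c₀ hc₀, aElO_val hF fr ε hε,
    Cfsg.Agent.Helper9.U3.uMat_mul_aMatO hF fr c₀ ε y a.1]

/-- piece O6i, with the matrix identity U4 as a hypothesis -/
theorem h46_uEl_mul_uEl_of {n m : ℕ} (fr : FrameO hF n m) (c₀ ε : F) (hc₀ : c₀ + c₀ ^ q = -1)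
    (hε : ε ^ q = -ε) (y y' : Fin m → F)
    (hU4 : uMat hF fr c₀ y * uMat hF fr c₀ y' =
      aMatO hF fr ε (kH hF ε hε y y').1 * (uMat hF fr c₀ y' * uMat hF fr c₀ y)) :
    (uEl hF fr c₀ y * uEl hF fr c₀ y' : ↥(Cfsg.SU n F q)) =
      aElO hF fr ε (kH hF ε hε y y') * (uEl hF fr c₀ y' * uEl hF fr c₀ y) := by
  apply Cfsg.Agent.Helper46.U2.h46_SU_ext
  rw [Cfsg.Agent.Helper46.U2.h46_SU_mul_val, Cfsg.Agent.Helper46.U2.h46_SU_mul_val,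
    Cfsg.Agent.Helper46.U2.h46_SU_mul_val,
    uEl_val hF fr c₀ hc₀, uEl_val hF fr c₀ hc₀, aElO_val hF fr ε hε, hU4]

/-- piece O6i -/
theorem uEl_mul_uEl {n m : ℕ} (fr : FrameO hF n m) (c₀ ε : F) (hc₀ : c₀ + c₀ ^ q = -1)
    (hε : ε ^ q = -ε) (hε0 : ε ≠ 0) (y y' : Fin m → F) :
    (uEl hF fr c₀ y * uEl hF fr c₀ y' : ↥(Cfsg.SU n F q)) =
      aElO hF fr ε (kH hF ε hε y y') * (uEl hF fr c₀ y' * uEl hF fr c₀ y) :=
  h46_uEl_mul_uEl_of hF fr c₀ ε hc₀ hε y y'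
    (Cfsg.Agent.Helper9.U3.uMat_mul_uMat hF fr c₀ ε hε hε0 y y')

end GRP

end Cfsg.Agent.Helper46.U3
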