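import Mathlib
import Cfsg.Agent.Lib.Helper93.U30
import Cfsg.Agent.Lib.Helper46.U3HCCore
import Cfsg.Agent.Lib.Helper46.U3O6

/-!
# U3 project (S2334), piece HC: the Heisenberg bound on a nonzero weight space
-/

set_option autoImplicit false

namespace Cfsg.Agent.Helper46.U3

open Matrix Cfsg.Agent.Helper13 Cfsg.Agent.Helper93.U2 Cfsg.Agent.Helper93.U3

section REP

variable {F : Type*} [Field F] [Fintype F] {q : ℕ} (hF : Fintype.card F = q ^ 2)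

/-- piece HC -/
theorem heis_wsp {n m : ℕ} (fr : FrameO hF n m) (ε : F) (hε : ε ^ q = -ε) (hε0 : ε ≠ 0)
    (c₀ : F) (hc₀ : c₀ + c₀ ^ q = -1) (ψ : AddChar F ℂ) (hψ : ψ 1 ≠ 1)
    (pr : Pairing ↥(hermSub hF m))
    (hpr : ∀ a b : ↥(hermSub hF m), pr.β a b = ψ (Matrix.trace (a.1 * b.1)))
    {k : ℕ} (ρ : Representation ℂ (Cfsg.SU n F q) (Fin k → ℂ)) (a : ↥(hermSub hF m))
    (ha : a ≠ 0) (hw : wsp pr (aElO hF fr ε) ρ a ≠ ⊥) :
    q ≤ Module.finrank ℂ (wsp pr (aElO hF fr ε) ρ a) :=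
  h46_heis_wsp_of hF fr ε hε hε0 c₀
    (fun y b => uEl_mul_aElO hF fr c₀ ε hc₀ hε y b)
    (fun y y' => uEl_mul_uEl hF fr c₀ ε hc₀ hε hε0 y y')
    ψ hψ pr hpr ρ a ha hw

end REP

end Cfsg.Agent.Helper46.U3
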