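import Mathlib
import Cfsg.Agent.Lib.Helper98.WR0

set_option autoImplicit false

/-!
WR lemma server (helper98, S2347), piece (W2) `commutant_scalar`, by helper46:
the commutant of the Weyl operators is the scalars.
-/

namespace Cfsg.Agent.Helper46.WR

open Matrix Cfsg.Agent.Helper98.SPE Cfsg.Agent.Helper98.WR

/-- values of an additive character are nonzero -/
theorem h46_addChar_ne_zero {F : Type*} [Field F] (ψ : AddChar F ℂ) (t : F) : ψ t ≠ 0 := by
  have h : ψ t * ψ (-t) = 1 := by
    rw [← AddChar.map_add_eq_mul, add_neg_cancel, AddChar.map_zero_eq_one]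
  exact left_ne_zero_of_mul_eq_one h

/-- piece W2 -/
theorem commutant_scalar {F : Type*} [Field F] {n : ℕ} (ψ : AddChar F ℂ) [Fintype F]
    (hψ : ψ 1 ≠ 1) (A : Module.End ℂ ((Fin n → F) → ℂ))
    (hA : ∀ v : Fin n ⊕ Fin n → F, A * wOp ψ v = wOp ψ v * A) :
    ∃ c : ℂ, A = c • (1 : Module.End ℂ ((Fin n → F) → ℂ)) := by
  classical
  -- modulations and translations
  have hmod : ∀ (a : Fin n → F) (f : (Fin n → F) → ℂ) (x : Fin n → F),
      wOp ψ (Sum.elim a 0) f x = ψ (a ⬝ᵥ x) * f x := by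
    intro a f x
    rw [wOp_apply]
    have h1 : (Sum.elim a (0 : Fin n → F)) ∘ Sum.inl = a := rfl
    have h2 : (Sum.elim a (0 : Fin n → F)) ∘ Sum.inr = 0 := rfl
    rw [h1, h2]
    simp
  have htr : ∀ (b : Fin n → F) (f : (Fin n → F) → ℂ) (x : Fin n → F),
      wOp ψ (Sum.elim 0 b) f x = f (x + b) := by
    intro b f x
    rw [wOp_apply]
    have h1 : (Sum.elim (0 : Fin n → F) b) ∘ Sum.inl = 0 := rfl
    have h2 : (Sum.elim (0 : Fin n → F) b) ∘ Sum.inr = b := rfl
    rw [h1, h2]
    simp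
  -- step 1: `A δ_y` vanishes off `y`
  have hoff : ∀ y x : Fin n → F, x ≠ y → A (Pi.single y (1 : ℂ)) x = 0 := by
    intro y x hxy
    obtain ⟨i, hi⟩ : ∃ i, x i ≠ y i := by
      by_contra hcon
      apply hxy
      funext i
      by_contra h
      exact hcon ⟨i, h⟩
    have hd : x i - y i ≠ 0 := sub_ne_zero.2 hi
    set a : Fin n → F := Pi.single i ((x i - y i)⁻¹) with ha
    have hax : a ⬝ᵥ x = a ⬝ᵥ y + 1 := by
      rw [ha, single_dotProduct, single_dotProduct]
      field_simp
      ring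
    have hMδ : wOp ψ (Sum.elim a 0) (Pi.single y (1 : ℂ)) = ψ (a ⬝ᵥ y) • Pi.single y (1 : ℂ) := by
      funext z
      rw [hmod, Pi.smul_apply, smul_eq_mul]
      by_cases hz : z = y
      · rw [hz]
      · rw [Pi.single_apply, if_neg hz, mul_zero, mul_zero]
    have h1 := congrArg (fun T : Module.End ℂ ((Fin n → F) → ℂ) => T (Pi.single y (1 : ℂ)) x)
      (hA (Sum.elim a 0))
    simp only [Module.End.mul_apply] at h1
    rw [hMδ, map_smul, Pi.smul_apply, smul_eq_mul, hmod, hax, AddChar.map_add_eq_mul] at h1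
    -- h1 : ψ (a⬝y) * g x = ψ (a⬝y) * ψ 1 * g x
    have h2 : ψ (a ⬝ᵥ y) * (A (Pi.single y (1 : ℂ)) x * (1 - ψ 1)) = 0 := by
      linear_combination h1
    rcases mul_eq_zero.1 h2 with h | h
    · exact absurd h (h46_addChar_ne_zero ψ _)
    · rcases mul_eq_zero.1 h with h | h
      · exact h
      · exact absurd (sub_eq_zero.1 h).symm hψ
  -- step 2: the diagonal coefficient is constant
  have hdiag : ∀ y : Fin n → F, A (Pi.single y (1 : ℂ)) y = A (Pi.single 0 (1 : ℂ)) 0 := by
    intro y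
    have hTδ : wOp ψ (Sum.elim 0 y) (Pi.single y (1 : ℂ)) = Pi.single 0 (1 : ℂ) := by
      funext z
      rw [htr, Pi.single_apply, Pi.single_apply]
      by_cases hz : z = 0
      · simp [hz]
      · rw [if_neg hz, if_neg]
        intro h
        apply hz
        have := congrArg (fun t => t - y) h
        simpa using this
    have h1 := congrArg (fun T : Module.End ℂ ((Fin n → F) → ℂ) => T (Pi.single y (1 : ℂ)) 0)
      (hA (Sum.elim 0 y))
    simp only [Module.End.mul_apply] at h1
    rw [hTδ, htr, zero_add] at h1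
    exact h1.symm
  -- step 3, 4
  refine ⟨A (Pi.single 0 (1 : ℂ)) 0, ?_⟩
  apply LinearMap.pi_ext
  intro y t
  have ht : (Pi.single y t : (Fin n → F) → ℂ) = t • Pi.single y (1 : ℂ) := by
    funext z
    rw [Pi.smul_apply, smul_eq_mul, Pi.single_apply, Pi.single_apply]
    split_ifs <;> simp
  rw [ht, map_smul, map_smul]
  congr 1
  funext x
  rw [LinearMap.smul_apply, Module.End.one_apply, Pi.smul_apply, smul_eq_mul]
  by_cases hx : x = y
  · rw [hx, hdiag y, Pi.single_eq_same, mul_one]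
  · rw [hoff y x hx, Pi.single_apply, if_neg hx, mul_zero]

end Cfsg.Agent.Helper46.WR
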